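import Mathlib.CategoryTheory.Sites.Point.Comap
import Mathlib.CategoryTheory.Sites.Point.Category
import Mathlib.CategoryTheory.Limits.FinallySmall

/-!
# Points with isomorphic fibre functors have isomorphic fibre functors on sheaves
-/

set_option autoImplicit false

namespace Groth.Agent.Lib.Helper23.PointIso

open CategoryTheory Limits Opposite GrothendieckTopology

universe w v v' u u'

variable {C : Type u} [Category.{v} C]

/-- An isomorphism of functors to types induces an equivalence of categories of elements. -/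
@[simps]
def elementsEquiv {F₁ F₂ : C ⥤ Type w} (e : F₁ ≅ F₂) : F₁.Elements ≌ F₂.Elements where
  functor := CategoryOfElements.map e.hom
  inverse := CategoryOfElements.map e.inv
  unitIso := NatIso.ofComponents
    (fun X => CategoryOfElements.isoMk _ _ (Iso.refl _) (by
      change F₁.map (𝟙 X.1) X.2 = e.inv.app X.1 (e.hom.app X.1 X.2)
      rw [FunctorToTypes.map_id_apply, FunctorToTypes.hom_inv_id_app_apply])) (by
      intro X Y g
      ext
      exact (Category.comp_id _).trans (Category.id_comp _).symm)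
  counitIso := NatIso.ofComponents
    (fun X => CategoryOfElements.isoMk _ _ (Iso.refl _) (by
      change F₂.map (𝟙 X.1) (e.hom.app X.1 (e.inv.app X.1 X.2)) = X.2
      rw [FunctorToTypes.map_id_apply, FunctorToTypes.inv_hom_id_app_apply])) (by
      intro X Y g
      ext
      exact (Category.comp_id _).trans (Category.id_comp _).symm)
  functor_unitIso_comp := by
    intro X
    ext
    exact Category.comp_id _

lemma initiallySmall_elements_of_iso {F₁ F₂ : C ⥤ Type w} (e : F₁ ≅ F₂)
    [InitiallySmall.{w} F₂.Elements] : InitiallySmall.{w} F₁.Elements :=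
  initiallySmall_of_initial_of_initiallySmall (elementsEquiv e).inverse

variable {J : GrothendieckTopology C}
  {A : Type u'} [Category.{v'} A] [HasColimitsOfSize.{w, w} A]

/-- Points with isomorphic fibre functors induce isomorphic fibre functors on sheaves. -/
noncomputable def sheafFiberIsoOfFiberIso {Φ₁ Φ₂ : Point.{w} J} (e : Φ₁.fiber ≅ Φ₂.fiber) :
    Φ₁.sheafFiber (A := A) ≅ Φ₂.sheafFiber where
  hom := Point.Hom.sheafFiber (⟨e.hom⟩ : Φ₂ ⟶ Φ₁)
  inv := Point.Hom.sheafFiber (⟨e.inv⟩ : Φ₁ ⟶ Φ₂)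
  hom_inv_id := by
    rw [← Point.Hom.sheafFiber_comp]
    have : (⟨e.inv⟩ : Φ₁ ⟶ Φ₂) ≫ (⟨e.hom⟩ : Φ₂ ⟶ Φ₁) = 𝟙 Φ₁ := by
      ext1
      simp
    rw [this, Point.Hom.sheafFiber_id]
  inv_hom_id := by
    rw [← Point.Hom.sheafFiber_comp]
    have : (⟨e.hom⟩ : Φ₂ ⟶ Φ₁) ≫ (⟨e.inv⟩ : Φ₁ ⟶ Φ₂) = 𝟙 Φ₂ := by
      ext1
      simp
    rw [this, Point.Hom.sheafFiber_id]

end Groth.Agent.Lib.Helper23.PointIso
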