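import Mathlib.CategoryTheory.Sites.Point.Conservative
import Mathlib.CategoryTheory.Sites.LocallySurjective
import Mathlib.CategoryTheory.Sites.LocallyInjective

/-!
# Reflecting local injectivity / surjectivity from fibres at a conservative family of points

Coefficients live in a concrete category whose universe may differ from that of the points.
-/

set_option autoImplicit false

namespace Groth.Agent.Lib.Helper23.PointStalk

open CategoryTheory Opposite Limits GrothendieckTopology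

universe w w' v v' u u'

variable {C : Type u} [Category.{v} C] {J : GrothendieckTopology C}
  {P : ObjectProperty (Point.{w} J)}

/-- Covering criterion through a small conservative family of points. -/
lemma sieve_mem_of_forall [LocallySmall.{w} C] [HasSheafify J (Type w)]
    [J.WEqualsLocallyBijective (Type w)]
    (hP : P.IsConservativeFamilyOfPoints) [ObjectProperty.Small.{w} P]
    {X : C} (R : Sieve X)
    (h : ∀ (Φ : P.FullSubcategory) (x : Φ.obj.fiber.obj X),
      ∃ (Y : C) (g : Y ⟶ X) (_ : R g) (y : Φ.obj.fiber.obj Y), Φ.obj.fiber.map g y = x) :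
    R ∈ J X := by
  obtain ⟨ι, Z, g, rfl⟩ := R.exists_eq_ofArrows
  rw [hP.jointly_reflect_ofArrows_mem_of_small]
  intro Φ x
  obtain ⟨Y, g', hg', y, rfl⟩ := h Φ x
  obtain ⟨_, b, _, ⟨i⟩, hb⟩ := hg'
  refine ⟨i, Φ.obj.fiber.map b y, ?_⟩
  rw [← hb]
  simp

variable {A : Type u'} [Category.{v'} A] [HasColimitsOfSize.{w, w} A]
  {FC : A → A → Type*} {CC : A → Type w'} [∀ X Y, FunLike (FC X Y) (CC X) (CC Y)]
  [ConcreteCategory.{w'} A FC] [PreservesFilteredColimitsOfSize.{w, w} (forget A)]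
  [LocallySmall.{w} C] [HasSheafify J (Type w)] [J.WEqualsLocallyBijective (Type w)]

lemma isLocallyInjective_of_fibers (hP : P.IsConservativeFamilyOfPoints)
    [ObjectProperty.Small.{w} P] {F G : Cᵒᵖ ⥤ A} (f : F ⟶ G)
    (hf : ∀ Φ : P.FullSubcategory, Function.Injective (Φ.obj.presheafFiber.map f)) :
    Presheaf.IsLocallyInjective J f := by
  refine ⟨fun {X} s s' hss' => ?_⟩
  apply sieve_mem_of_forall hP
  intro Φ x
  have h1 : Φ.obj.toPresheafFiber _ x F s = Φ.obj.toPresheafFiber _ x F s' := by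
    apply hf Φ
    rw [Point.toPresheafFiber_naturality_apply, Point.toPresheafFiber_naturality_apply, hss']
  obtain ⟨Y, g, y, hy, hg⟩ := (Φ.obj.toPresheafFiber_eq_iff' _ x s s').1 h1
  exact ⟨Y, g, hg, y, hy⟩

lemma isLocallySurjective_of_fibers (hP : P.IsConservativeFamilyOfPoints)
    [ObjectProperty.Small.{w} P] {F G : Cᵒᵖ ⥤ A} (f : F ⟶ G)
    (hf : ∀ Φ : P.FullSubcategory, Function.Surjective (Φ.obj.presheafFiber.map f)) :
    Presheaf.IsLocallySurjective J f := by
  refine ⟨fun {U} t => ?_⟩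
  apply sieve_mem_of_forall hP
  intro Φ x
  obtain ⟨p, hp⟩ := hf Φ (Φ.obj.toPresheafFiber U x G t)
  obtain ⟨X', x', z, rfl⟩ := Φ.obj.toPresheafFiber_jointly_surjective p
  rw [Point.toPresheafFiber_naturality_apply] at hp
  -- common refinement of (X', x') and (U, x)
  let E₁ : Φ.obj.fiber.Elements := ⟨X', x'⟩
  let E₂ : Φ.obj.fiber.Elements := ⟨U, x⟩
  obtain ⟨W, w, a, b, ha, hb⟩ : ∃ (W : C) (w : Φ.obj.fiber.obj W) (a : W ⟶ X') (b : W ⟶ U),
      Φ.obj.fiber.map a w = x' ∧ Φ.obj.fiber.map b w = x :=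
    ⟨(IsCofiltered.min E₁ E₂).1, (IsCofiltered.min E₁ E₂).2,
      (IsCofiltered.minToLeft E₁ E₂).1, (IsCofiltered.minToRight E₁ E₂).1,
      (IsCofiltered.minToLeft E₁ E₂).2, (IsCofiltered.minToRight E₁ E₂).2⟩
  subst ha hb
  rw [← Point.toPresheafFiber_w_apply _ a w G, ← Point.toPresheafFiber_w_apply _ b w G] at hp
  obtain ⟨Y, g, y, hy, hg⟩ := (Φ.obj.toPresheafFiber_eq_iff' _ w _ _).1 hp
  refine ⟨Y, g ≫ b, ⟨F.map (g ≫ a).op z, ?_⟩, y, ?_⟩
  · rw [NatTrans.naturality_apply, op_comp, op_comp, G.map_comp, G.map_comp,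
      ConcreteCategory.comp_apply, ConcreteCategory.comp_apply]
    exact hg
  · rw [FunctorToTypes.map_comp_apply, hy]

end Groth.Agent.Lib.Helper23.PointStalk
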