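import Groth.Agent.Lib.Helper23.EtGlue

/-!
# Gluing sections of etale sheaves of sets over a family of pairwise disjoint opens
-/

set_option autoImplicit false

namespace Groth.Agent.Lib.Helper23.EtGlue

open CategoryTheory Limits Opposite AlgebraicGeometry GrothendieckTopology

universe u

set_option backward.isDefEq.respectTransparency.types false in
/-- A sieve which, around every point, contains an arrow hitting that point, is covering. -/
lemma sieve_mem_of_forall_point {X : Scheme.{u}} {U : X.Etale} (R : Sieve U)
    (h : ∀ u : U.left, ∃ (T : X.Etale) (g : T ⟶ U), R g ∧ u ∈ Set.range g.left) :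
    R ∈ X.smallEtaleTopology U := by
  choose T g hg hu using h
  have hcov : Sieve.ofArrows T g ∈ X.smallEtaleTopology U := by
    rw [Scheme.ofArrows_mem_smallEtaleTopology_iff]
    ext t
    simp only [Set.mem_iUnion, Set.mem_univ, iff_true]
    exact ⟨t, hu t⟩
  refine X.smallEtaleTopology.superset_covering ?_ hcov
  rintro Z k ⟨_, a, _, ⟨t⟩, rfl⟩
  exact R.downward_closed (hg t) a

set_option backward.isDefEq.respectTransparency.types false in
/-- A covering sieve contains, around every point, an arrow hitting that point. -/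
lemma exists_arrow_of_mem {X : Scheme.{u}} {U : X.Etale} (R : Sieve U)
    (hR : R ∈ X.smallEtaleTopology U) (u : U.left) :
    ∃ (T : X.Etale) (g : T ⟶ U), R g ∧ u ∈ Set.range g.left := by
  obtain ⟨ι, Z, g, rfl⟩ := R.exists_eq_ofArrows
  rw [Scheme.ofArrows_mem_smallEtaleTopology_iff] at hR
  have hu : u ∈ ⋃ i, Set.range (g i).left := by rw [hR]; trivial
  obtain ⟨i, hi⟩ := Set.mem_iUnion.1 hu
  exact ⟨Z i, g i, Sieve.ofArrows_mk _ _ i, hi⟩

set_option backward.isDefEq.respectTransparency.types false in
set_option backward.isDefEq.respectTransparency false in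
/-- Gluing over a decomposition of `T` into pairwise disjoint opens. -/
lemma existsUnique_glue_family {X : Scheme.{u}} (P : EtDesc.Sh X) (T : X.Etale) {μ : Type u}
    (W : μ → T.left.Opens) (hdisj : ∀ a b, a ≠ b → Disjoint (W a) (W b))
    (hcov : (⨆ a, W a) = ⊤) (x : ∀ a, P.obj.obj (op (opn T (W a)))) :
    ∃! s : P.obj.obj (op T), ∀ a, P.obj.map (opnι T (W a)).op s = x a := by
  have hcov' : Sieve.ofArrows (fun a => opn T (W a)) (fun a => opnι T (W a)) ∈
      X.smallEtaleTopology T := by
    rw [Scheme.ofArrows_mem_smallEtaleTopology_iff]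
    ext t
    simp only [Set.mem_iUnion, Set.mem_range, Set.mem_univ, iff_true]
    have ht : t ∈ ((⨆ a, W a : T.left.Opens) : Set T.left) := by rw [hcov]; trivial
    rw [TopologicalSpace.Opens.coe_iSup] at ht
    obtain ⟨a, ha⟩ := Set.mem_iUnion.1 ht
    exact ⟨a, ⟨t, ha⟩, rfl⟩
  have hP := (isSheaf_iff_isSheaf_of_type _ _).1 P.2
  have h1 : Presieve.IsSheafFor P.obj
      (Presieve.ofArrows (fun a => opn T (W a)) (fun a => opnι T (W a))) :=
    (Presieve.isSheafFor_iff_generate _).2 (hP _ hcov')
  have hcompat : Presieve.Arrows.Compatible P.obj (fun a => opnι T (W a)) x := by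
    intro i j Z gi gj hg
    have hl : gi.left ≫ (W i).ι = gj.left ≫ (W j).ι :=
      congrArg (fun φ : Z ⟶ T => φ.left) hg
    by_cases hij : i = j
    · subst hij
      have : gi = gj := by
        apply hom_ext_of_left
        have hm : Mono (W i).ι := inferInstance
        exact (cancel_mono (W i).ι).1 hl
      rw [this]
    · have : IsEmpty Z.left := ⟨fun z => by
        have h2 := congrArg (fun φ : Z.left ⟶ T.left => φ z) hl
        have h3 : ((gi.left z : (W i).toScheme).1 : T.left) ∈ (W i : Set T.left) :=
          (gi.left z).2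
        have h4 : ((gj.left z : (W j).toScheme).1 : T.left) ∈ (W j : Set T.left) :=
          (gj.left z).2
        have h5 : ((gi.left z : (W i).toScheme).1 : T.left) = (gj.left z : (W j).toScheme).1 := h2
        rw [h5] at h3
        exact (Set.disjoint_left.1
          (TopologicalSpace.Opens.coe_disjoint.2 (hdisj i j hij)) h3 h4)⟩
      exact @Subsingleton.elim _ (subsingleton_of_isEmpty P Z) _ _
  exact (Presieve.isSheafFor_arrows_iff P.obj _).1 h1 x hcompat

end Groth.Agent.Lib.Helper23.EtGlue
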