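import Groth.Prelude.Def_EtShriek2

/-!
# `compEtale j` is continuous for every etale morphism `j` (not only monomorphisms)
-/

set_option autoImplicit false

universe u

namespace Groth.Agent.Lib.Helper23.EtJCont

open CategoryTheory Limits Opposite AlgebraicGeometry GrothendieckTopology

variable {U X : Scheme.{u}} (j : U ⟶ X) [hj : Etale j]

set_option backward.isDefEq.respectTransparency.types false in
set_option backward.isDefEq.respectTransparency false in
theorem compatiblePreserving_compEtale :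
    CompatiblePreserving X.smallEtaleTopology (EtShriek.compEtale j) := by
  constructor
  intro ℱ Z T x hx Y₁ Y₂ W f₁ f₂ g₁ g₂ hg₁ hg₂ e
  have eleft : f₁.left ≫ g₁.left = f₂.left ≫ g₂.left :=
    congrArg (fun φ : W ⟶ (EtShriek.compEtale j).obj Z => φ.left) e
  have w1 : g₁.left ≫ Z.hom = Y₁.hom := MorphismProperty.Over.w g₁
  have w2 : g₂.left ≫ Z.hom = Y₂.hom := MorphismProperty.Over.w g₂
  have hU : f₂.left ≫ Y₂.hom = f₁.left ≫ Y₁.hom := by
    rw [← w1, ← w2, ← Category.assoc, ← Category.assoc, eleft]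
  have hW : f₁.left ≫ Y₁.hom ≫ j = W.hom := MorphismProperty.Over.w f₁
  have hprop : EtCoh.etaleMP ((f₁.left ≫ Y₁.hom) ≫ j) := by
    rw [Category.assoc, hW]; exact W.prop
  let W' : U.Etale := MorphismProperty.Over.mk ⊤ (f₁.left ≫ Y₁.hom)
    (EtCoh.etaleMP.of_postcomp (W' := EtCoh.etaleMP) (f₁.left ≫ Y₁.hom) j hj hprop)
  let ι : (EtShriek.compEtale j).obj W' ≅ W :=
    MorphismProperty.Over.isoMk (Iso.refl _)
      ((Category.id_comp W.hom).trans (hW.symm.trans (Category.assoc _ _ _).symm))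
  let f₁' : W' ⟶ Y₁ := MorphismProperty.Over.homMk f₁.left rfl trivial
  let f₂' : W' ⟶ Y₂ := MorphismProperty.Over.homMk f₂.left hU trivial
  have h1 : (EtShriek.compEtale j).map f₁' = ι.hom ≫ f₁ := by
    apply MorphismProperty.Over.Hom.ext
    change f₁.left = 𝟙 _ ≫ f₁.left
    rw [Category.id_comp]
  have h2 : (EtShriek.compEtale j).map f₂' = ι.hom ≫ f₂ := by
    apply MorphismProperty.Over.Hom.ext
    change f₂.left = 𝟙 _ ≫ f₂.left
    rw [Category.id_comp]
  have hc : f₁' ≫ g₁ = f₂' ≫ g₂ := by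
    apply MorphismProperty.Over.Hom.ext
    exact eleft
  have key := hx f₁' f₂' hg₁ hg₂ hc
  apply (ℱ.1.mapIso ι.op).toEquiv.injective
  change ℱ.obj.map ι.hom.op (ℱ.obj.map f₁.op (x g₁ hg₁)) =
    ℱ.obj.map ι.hom.op (ℱ.obj.map f₂.op (x g₂ hg₂))
  rw [← Functor.map_comp_apply, ← Functor.map_comp_apply, ← op_comp, ← op_comp, ← h1, ← h2]
  exact key

instance (priority := 50) jCont : EtShriek.JCont j :=
  Functor.isContinuous_of_coverPreserving (compatiblePreserving_compEtale j)
    (EtShriek.coverPreserving_compEtale j)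

end Groth.Agent.Lib.Helper23.EtJCont
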