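import Mathlib.CategoryTheory.Sites.Point.Comap

/-!
# The comparison `sheafFiberComapIso` on germs
-/

set_option autoImplicit false

namespace Groth.Agent.Lib.Helper23.ComapGerm

open CategoryTheory Limits Opposite GrothendieckTopology

universe w v

section

variable {D : Type*} [Category* D]
  {K : GrothendieckTopology D}
  (A : Type*) [Category.{v} A] [HasProducts.{w} A]
  [HasColimitsOfSize.{w, w} A]

set_option backward.isDefEq.respectTransparency.types false in
set_option backward.isDefEq.respectTransparency false in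
lemma unit_app_hom_app_π (Φ : Point.{w} K) (G : Sheaf K A) (W : D) (w : Φ.fiber.obj W) :
    (Φ.skyscraperSheafAdjunction.unit.app G).hom.app (op W) ≫
      Pi.π (fun (_ : Φ.fiber.obj W) ↦ Φ.sheafFiber.obj G) w = Φ.toPresheafFiber W w G.obj := by
  have h1 : Φ.skyscraperSheafAdjunction.unit.app G =
      Φ.skyscraperSheafAdjunction.homEquiv G _ (𝟙 _) := by
    rw [Adjunction.homEquiv_unit]
    simp
  have h2 := Φ.skyscraperSheafAdjunction_homEquiv_apply_hom (F := G) (𝟙 (Φ.sheafFiber.obj G))
  have h3 := Φ.skyscraperPresheafHomEquiv_app_π (P := G.obj) (𝟙 (Φ.sheafFiber.obj G)) W w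
  rw [← h2] at h3
  rw [h1]
  exact h3.trans (Category.comp_id _)

set_option backward.isDefEq.respectTransparency.types false in
set_option backward.isDefEq.respectTransparency false in
lemma toPresheafFiber_counit (Φ : Point.{w} K) (M : A) (W : D) (w : Φ.fiber.obj W) :
    Φ.toPresheafFiber W w (Φ.skyscraperPresheaf M) ≫ Φ.skyscraperSheafAdjunction.counit.app M =
      Pi.π (fun (_ : Φ.fiber.obj W) ↦ M) w := by
  have h1 : Φ.skyscraperSheafAdjunction.counit.app M =
      (Φ.skyscraperSheafAdjunction.homEquiv _ M).symm (𝟙 _) := by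
    rw [Adjunction.homEquiv_counit]
    simp
  have h2 := Φ.skyscraperSheafAdjunction_homEquiv_symm_apply (M := M) (𝟙 (Φ.skyscraperSheaf M))
  have h3 := Φ.toPresheafFiber_skyscraperPresheafHomEquiv_symm (P := Φ.skyscraperPresheaf M)
    (M := M) (𝟙 _) W w
  rw [h1]
  erw [h2]
  exact h3.trans (Category.id_comp _)

end

variable {C D : Type*} [Category* C] [Category* D]
  {K : GrothendieckTopology D}
  (Φ : Point.{w} K) (F : C ⥤ D) [RepresentablyFlat F] {J : GrothendieckTopology C}
  (hF : CoverPreserving J K F)
  [InitiallySmall (F ⋙ Φ.fiber).Elements]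
  (A : Type*) [Category.{v} A] [HasProducts.{w} A]
  [Functor.IsContinuous F J K]
  [(F.sheafPushforwardContinuous A J K).IsRightAdjoint]
  [HasColimitsOfSize.{w, w} A]

set_option backward.isDefEq.respectTransparency.types false in
set_option backward.isDefEq.respectTransparency false in
lemma toPresheafFiber_sheafFiberComapIso_hom_app (X : Sheaf J A) (V : C)
    (v : Φ.fiber.obj (F.obj V)) :
    (Φ.comap F hF).toPresheafFiber V v X.obj ≫ (Φ.sheafFiberComapIso F hF A).hom.app X =
      ((F.sheafAdjunctionContinuous A J K).unit.app X).hom.app (op V) ≫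
        Φ.toPresheafFiber (F.obj V) v ((F.sheafPullback A J K).obj X).obj := by
  rw [Point.sheafFiberComapIso_hom_app]
  change (Φ.comap F hF).toPresheafFiber V v X.obj ≫
    (Φ.comap F hF).presheafFiber.map ((F.sheafAdjunctionContinuous A J K).unit.app X).hom ≫
    (Φ.comap F hF).presheafFiber.map ((F.sheafPushforwardContinuous A J K).map
      (Φ.skyscraperSheafAdjunction.unit.app ((F.sheafPullback A J K).obj X))).hom ≫
    (Φ.comap F hF).presheafFiber.map
      ((Φ.skyscraperSheafFunctorCompSheafPushforwardContinuous F hF A).hom.app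
        (Φ.sheafFiber.obj ((F.sheafPullback A J K).obj X))).hom ≫ _ = _
  rw [Point.toPresheafFiber_naturality_assoc, Point.toPresheafFiber_naturality_assoc,
    Point.toPresheafFiber_naturality_assoc]
  erw [toPresheafFiber_counit A (Φ.comap F hF)]
  refine congrArg (fun t => ((F.sheafAdjunctionContinuous A J K).unit.app X).hom.app (op V) ≫ t) ?_
  have := unit_app_hom_app_π A Φ ((F.sheafPullback A J K).obj X) (F.obj V) v
  refine Eq.trans ?_ this
  refine congrArg (fun t => (Φ.skyscraperSheafAdjunction.unit.app
    ((F.sheafPullback A J K).obj X)).hom.app (op (F.obj V)) ≫ t) ?_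
  exact Category.id_comp _

end Groth.Agent.Lib.Helper23.ComapGerm
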