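import Groth.Agent.Lib.Helper23.PropAInt

/-!
# Condition (B) for integral morphisms
-/

set_option autoImplicit false
universe u

namespace Groth.Agent.Lib.Helper23.PropBInt

open CategoryTheory CategoryTheory.Limits AlgebraicGeometry Opposite
open FinPushGeom FinPushFiber EtGlue FlcConn

open TensorProduct in
/-- finitely many standard etale algebras over an integral `A`-algebra `B` come by base change
from standard etale algebras over a common finite `A`-subalgebra -/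
theorem exists_descent_family {A B : Type u} [CommRing A] [CommRing B] [Algebra A B]
    [Algebra.IsIntegral A B] {κ : Type*} [Finite κ] (P : κ → StandardEtalePair B) :
    ∃ (B₁ : Subalgebra A B) (_ : Module.Finite A B₁) (P₁ : κ → StandardEtalePair B₁),
      ∀ k, Nonempty ((P k).Ring ≃ₐ[B] B ⊗[B₁] (P₁ k).Ring) := by
  obtain ⟨B₁, hfin, P₁, hP₁⟩ := IntDescent.exists_descent (A := A) P
  refine ⟨B₁, hfin, P₁, fun k => ⟨?_⟩⟩
  have e₂ : ((P₁ k).map (algebraMap B₁ B)).Ring ≃ₐ[B] (P k).Ring := by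
    rw [hP₁ k]
  exact e₂.symm.trans (IntDescent.baseChangeEquiv (T := B) (P₁ k)).symm

set_option backward.isDefEq.respectTransparency.types false in
set_option backward.isDefEq.respectTransparency false in
set_option maxHeartbeats 1600000 in
/-- a standard etale neighbourhood, over an affine open of the base, of a point of an etale
scheme -/
theorem exists_stdNbhd {Z U : Scheme.{u}} (g : U ⟶ Z) [Etale g] {Z₀ : Z.Opens}
    (hZ₀ : IsAffineOpen Z₀) (u : U) (hu : g u ∈ Z₀) :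
    ∃ (P : StandardEtalePair Γ(Z, Z₀)) (mC : Spec (CommRingCat.of P.Ring) ⟶ U),
      mC ≫ g = Spec.map (CommRingCat.ofHom (algebraMap Γ(Z, Z₀) P.Ring)) ≫ hZ₀.fromSpec ∧
      u ∈ Set.range mC := by
  obtain ⟨_, ⟨U₀, hU₀, rfl⟩, huU₀, hU₀Z₀ : U₀ ≤ g ⁻¹ᵁ Z₀⟩ :=
    U.isBasis_affineOpens.exists_subset_of_mem_open (show u ∈ g ⁻¹ᵁ Z₀ from hu) (g ⁻¹ᵁ Z₀).2
  have hψ : (g.appLE Z₀ U₀ hU₀Z₀).hom.Etale := g.etale_appLE hZ₀ hU₀ hU₀Z₀
  algebraize [(g.appLE Z₀ U₀ hU₀Z₀).hom]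
  obtain ⟨c, hcQ, hstd⟩ := Algebra.IsEtaleAt.exists_isStandardEtale (R := Γ(Z, Z₀))
    (hU₀.primeIdealOf ⟨u, huU₀⟩).asIdeal
  let Q : StandardEtalePresentation Γ(Z, Z₀) (Localization.Away c) :=
    Algebra.IsStandardEtale.nonempty_standardEtalePresentation.some
  let e : Localization.Away c ≃ₐ[Γ(Z, Z₀)] Q.P.Ring := Q.equivRing
  let mC : Spec (CommRingCat.of (Localization.Away c)) ⟶ U :=
    Spec.map (CommRingCat.ofHom (algebraMap Γ(U, U₀) (Localization.Away c))) ≫ hU₀.fromSpec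
  let m : Spec (CommRingCat.of Q.P.Ring) ⟶ U :=
    Spec.map (CommRingCat.ofHom (e : Localization.Away c →+* _)) ≫ mC
  have hm : m ≫ g = Spec.map (CommRingCat.ofHom (algebraMap Γ(Z, Z₀) Q.P.Ring)) ≫
      hZ₀.fromSpec := by
    dsimp only [m, mC]
    rw [Category.assoc, Category.assoc, ← IsAffineOpen.SpecMap_appLE_fromSpec g hZ₀ hU₀ hU₀Z₀,
      ← Spec.map_comp_assoc, ← Spec.map_comp_assoc]
    congr 2
    ext b
    change e (algebraMap Γ(U, U₀) (Localization.Away c) (algebraMap Γ(Z, Z₀) Γ(U, U₀) b)) = _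
    rw [← IsScalarTower.algebraMap_apply, e.commutes]
    rfl
  have hmem : hU₀.primeIdealOf ⟨u, huU₀⟩ ∈
      Set.range (PrimeSpectrum.comap (algebraMap Γ(U, U₀) (Localization.Away c))) := by
    rw [PrimeSpectrum.localization_away_comap_range (Localization.Away c) c]
    exact hcQ
  obtain ⟨q', hq'⟩ := hmem
  let q'' : ↥(Spec (CommRingCat.of (Localization.Away c))) := q'
  let eS : Spec (CommRingCat.of (Localization.Away c)) ⟶ Spec (CommRingCat.of Q.P.Ring) :=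
    Spec.map (CommRingCat.ofHom (e.symm : _ →+* Localization.Away c))
  have hid : eS ≫ Spec.map (CommRingCat.ofHom (e : Localization.Away c →+* _)) = 𝟙 _ := by
    dsimp only [eS]
    rw [← Spec.map_comp, ← Spec.map_id]
    congr 1
    ext x
    exact e.symm_apply_apply x
  have hd : m (eS q'') = u := by
    have h1 : m (eS q'') = (eS ≫ m) q'' := (Scheme.Hom.comp_apply _ _ _).symm
    rw [h1]
    dsimp only [m]
    rw [reassoc_of% hid]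
    dsimp only [mC]
    rw [Scheme.Hom.comp_apply]
    have hq'' : Spec.map (CommRingCat.ofHom (algebraMap Γ(U, U₀) (Localization.Away c))) q'' =
        hU₀.primeIdealOf ⟨u, huU₀⟩ := hq'
    rw [hq'']
    exact hU₀.fromSpec_primeIdealOf ⟨u, huU₀⟩
  exact ⟨Q.P, m, hm, ⟨_, hd⟩⟩

section Piece

variable {Z V : Scheme.{u}} (φ : Z ⟶ V) {V₀ Z₀ X₁ : Scheme.{u}} (jV : V₀ ⟶ V) [IsOpenImmersion jV]
  (jZ : Z₀ ⟶ Z) [IsOpenImmersion jZ] (f₀ : Z₀ ⟶ V₀) (hf₀ : f₀ ≫ jV = jZ ≫ φ)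
  (hZ₀ : ∀ z : Z, φ z ∈ Set.range jV → z ∈ Set.range jZ)
  (p : Z₀ ⟶ X₁) (f₁ : X₁ ⟶ V₀) (hp : p ≫ f₁ = f₀) {V' : Scheme.{u}} (e : V' ⟶ V₀)

include hZ₀ in
lemma range_fst : Set.range (pullback.fst φ (e ≫ jV)) ⊆ Set.range jZ := by
  rintro _ ⟨t, rfl⟩
  apply hZ₀
  rw [← Scheme.Hom.comp_apply, pullback.condition, Scheme.Hom.comp_apply, Scheme.Hom.comp_apply]
  exact ⟨_, rfl⟩

/-- the projection `Z ×_V V' ⟶ Z` factored through the open `Z₀` -/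
noncomputable def fstLift : pullback φ (e ≫ jV) ⟶ Z₀ :=
  IsOpenImmersion.lift jZ (pullback.fst φ (e ≫ jV)) (range_fst φ jV jZ hZ₀ e)

lemma fstLift_fac : fstLift φ jV jZ hZ₀ e ≫ jZ = pullback.fst φ (e ≫ jV) :=
  IsOpenImmersion.lift_fac _ _ _

include hf₀ hp in
lemma cmap_cond : pullback.snd φ (e ≫ jV) ≫ e = (fstLift φ jV jZ hZ₀ e ≫ p) ≫ f₁ := by
  rw [← cancel_mono jV, Category.assoc, Category.assoc, Category.assoc, reassoc_of% hp, hf₀,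
    reassoc_of% (fstLift_fac φ jV jZ hZ₀ e), pullback.condition]

/-- the comparison map `Z ×_V V' ⟶ V' ×_{V₀} X₁` -/
noncomputable def cmap : pullback φ (e ≫ jV) ⟶ pullback e f₁ :=
  pullback.lift (pullback.snd φ (e ≫ jV)) (fstLift φ jV jZ hZ₀ e ≫ p)
    (cmap_cond φ jV jZ f₀ hf₀ hZ₀ p f₁ hp e)

set_option backward.isDefEq.respectTransparency.types false in
set_option backward.isDefEq.respectTransparency false in
lemma piece {U U₁ D : Scheme.{u}} (g : U ⟶ Z) (g₁ : U₁ ⟶ X₁) (dX : D ⟶ Z₀) (dU : D ⟶ U₁)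
    (hD : IsPullback dX dU p g₁) (m : D ⟶ U) (hm : m ≫ g = dX ≫ jZ)
    (W₁ : (pullback e f₁).Opens) (h₁ : (W₁ : Scheme.{u}) ⟶ U₁)
    (hh₁ : h₁ ≫ g₁ = W₁.ι ≫ pullback.snd e f₁) :
    ∃ h : ((cmap φ jV jZ f₀ hf₀ hZ₀ p f₁ hp e ⁻¹ᵁ W₁ : (pullback φ (e ≫ jV)).Opens) :
        Scheme.{u}) ⟶ U,
      h ≫ g = (cmap φ jV jZ f₀ hf₀ hZ₀ p f₁ hp e ⁻¹ᵁ W₁).ι ≫ pullback.fst φ (e ≫ jV) := by
  set c := cmap φ jV jZ f₀ hf₀ hZ₀ p f₁ hp e with hc
  have hcs : c ≫ pullback.snd e f₁ = fstLift φ jV jZ hZ₀ e ≫ p := pullback.lift_snd _ _ _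
  have hl : ((c ⁻¹ᵁ W₁).ι ≫ fstLift φ jV jZ hZ₀ e) ≫ p = ((c ∣_ W₁) ≫ h₁) ≫ g₁ := by
    rw [Category.assoc, Category.assoc, hh₁, morphismRestrict_ι_assoc, hcs]
  refine ⟨hD.lift ((c ⁻¹ᵁ W₁).ι ≫ fstLift φ jV jZ hZ₀ e) ((c ∣_ W₁) ≫ h₁) hl ≫ m, ?_⟩
  rw [Category.assoc, hm, IsPullback.lift_fst_assoc, Category.assoc, fstLift_fac]

end Piece

open TensorProduct in
set_option backward.isDefEq.respectTransparency.types false in
set_option backward.isDefEq.respectTransparency false in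
set_option maxHeartbeats 3200000 in
/-- the local form of condition (B) for an integral morphism -/
theorem propB_loc {Z V : Scheme.{u}} (φ : Z ⟶ V) [IsIntegralHom φ] {ι : Type u}
    (U : ι → Scheme.{u}) (g : ∀ i, U i ⟶ Z) (hg : ∀ i, Etale (g i))
    (hcov : ∀ z : Z, ∃ i, z ∈ Set.range (g i).base) (v₀ : V) :
    ∃ (V' : Scheme.{u}) (v' : V' ⟶ V) (_ : Etale v'), v₀ ∈ Set.range v'.base ∧
      ∃ (μ : Type u) (W : μ → (pullback φ v').Opens),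
        (∀ a b, a ≠ b → Disjoint (W a) (W b)) ∧ (⨆ a, W a) = ⊤ ∧
        ∀ a, ∃ (i : ι) (h : ((W a : (pullback φ v').Opens) : Scheme.{u}) ⟶ U i),
          h ≫ g i = (W a).ι ≫ pullback.fst φ v' := by
  haveI := hg
  obtain ⟨_, ⟨V₀, hV₀, rfl⟩, hvV₀, -⟩ := V.isBasis_affineOpens.exists_subset_of_mem_open
    (Set.mem_univ v₀) isOpen_univ
  have hZ₀ : IsAffineOpen (φ ⁻¹ᵁ V₀) := hV₀.preimage φ
  have hφi : (φ.appLE V₀ (φ ⁻¹ᵁ V₀) le_rfl).hom.IsIntegral := by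
    rw [← Scheme.Hom.app_eq_appLE]
    exact φ.isIntegral_app V₀ hV₀
  algebraize [(φ.appLE V₀ (φ ⁻¹ᵁ V₀) le_rfl).hom]
  let jV : Spec Γ(V, V₀) ⟶ V := hV₀.fromSpec
  let jZ : Spec Γ(Z, φ ⁻¹ᵁ V₀) ⟶ Z := hZ₀.fromSpec
  let f₀ : Spec Γ(Z, φ ⁻¹ᵁ V₀) ⟶ Spec Γ(V, V₀) := Spec.map (φ.appLE V₀ (φ ⁻¹ᵁ V₀) le_rfl)
  have hf₀ : f₀ ≫ jV = jZ ≫ φ := IsAffineOpen.SpecMap_appLE_fromSpec φ hV₀ hZ₀ le_rfl
  have hZr : ∀ z : Z, φ z ∈ Set.range jV → z ∈ Set.range jZ := by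
    intro x hx
    rw [IsAffineOpen.range_fromSpec] at hx ⊢
    exact hx
  have key : ∀ b : ↥(Spec Γ(Z, φ ⁻¹ᵁ V₀)), ∃ (i : ι) (P : StandardEtalePair Γ(Z, φ ⁻¹ᵁ V₀))
      (mC : Spec (CommRingCat.of P.Ring) ⟶ U i),
      mC ≫ g i = Spec.map (CommRingCat.ofHom (algebraMap Γ(Z, φ ⁻¹ᵁ V₀) P.Ring)) ≫ jZ ∧
      b ∈ Set.range (Spec.map (CommRingCat.ofHom (algebraMap Γ(Z, φ ⁻¹ᵁ V₀) P.Ring))) := by
    intro b
    obtain ⟨i, u, hu⟩ := hcov (jZ b)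
    have hmem : g i u ∈ φ ⁻¹ᵁ V₀ := by
      have : jZ b ∈ Set.range jZ := ⟨b, rfl⟩
      rw [IsAffineOpen.range_fromSpec] at this
      rw [show g i u = jZ b from hu]
      exact this
    obtain ⟨P, mC, hmC, ⟨d, hd⟩⟩ := exists_stdNbhd (g i) hZ₀ u hmem
    refine ⟨i, P, mC, hmC, ⟨d, ?_⟩⟩
    apply jZ.isOpenEmbedding.injective
    have h2 : (mC ≫ g i) d =
        (Spec.map (CommRingCat.ofHom (algebraMap Γ(Z, φ ⁻¹ᵁ V₀) P.Ring)) ≫ jZ) d := by rw [hmC]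
    refine Eq.trans h2.symm ?_
    change g i (mC d) = jZ b
    rw [hd]
    exact hu
  choose ib Pb mCb hmCb hbr using key
  haveI hetb : ∀ b, Etale (Spec.map (CommRingCat.ofHom
      (algebraMap Γ(Z, φ ⁻¹ᵁ V₀) (Pb b).Ring))) := fun b =>
    HasRingHomProperty.Spec_iff.mpr
      (RingHom.etale_algebraMap.mpr (inferInstance : Algebra.Etale Γ(Z, φ ⁻¹ᵁ V₀) (Pb b).Ring))
  have hopen : ∀ b, IsOpen (Set.range (Spec.map (CommRingCat.ofHom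
      (algebraMap Γ(Z, φ ⁻¹ᵁ V₀) (Pb b).Ring)))) := fun b =>
    (Scheme.Hom.isOpenMap _).isOpen_range
  obtain ⟨t, ht⟩ := isCompact_univ.elim_finite_subcover _ hopen
    (fun b _ => Set.mem_iUnion.mpr ⟨b, hbr b⟩)
  obtain ⟨B₁, hfin, P₁, he⟩ := exists_descent_family (A := Γ(V, V₀)) (fun k : ↥t => Pb k.1)
  have e : ∀ k : ↥t, (Pb k.1).Ring ≃ₐ[Γ(Z, φ ⁻¹ᵁ V₀)] Γ(Z, φ ⁻¹ᵁ V₀) ⊗[B₁] (P₁ k).Ring :=
    fun k => (he k).some
  let p : Spec Γ(Z, φ ⁻¹ᵁ V₀) ⟶ Spec (CommRingCat.of B₁) :=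
    Spec.map (CommRingCat.ofHom (algebraMap B₁ Γ(Z, φ ⁻¹ᵁ V₀)))
  let f₁ : Spec (CommRingCat.of B₁) ⟶ Spec Γ(V, V₀) :=
    Spec.map (CommRingCat.ofHom (algebraMap Γ(V, V₀) B₁))
  have hp : p ≫ f₁ = f₀ := by
    rw [← Spec.map_comp]
    congr 1
  haveI : IsFinite f₁ := (IsFinite.SpecMap_iff _).mpr (RingHom.finite_algebraMap.mpr hfin)
  let g₁ : ∀ k : ↥t, Spec (CommRingCat.of (P₁ k).Ring) ⟶ Spec (CommRingCat.of B₁) := fun k =>
    Spec.map (CommRingCat.ofHom (algebraMap B₁ (P₁ k).Ring))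
  haveI hg₁ : ∀ k, Etale (g₁ k) := fun k => HasRingHomProperty.Spec_iff.mpr
    (RingHom.etale_algebraMap.mpr (inferInstance : Algebra.Etale B₁ (P₁ k).Ring))
  let dX : ∀ k : ↥t, Spec (CommRingCat.of (Γ(Z, φ ⁻¹ᵁ V₀) ⊗[B₁] (P₁ k).Ring)) ⟶
      Spec Γ(Z, φ ⁻¹ᵁ V₀) := fun k =>
    Spec.map (CommRingCat.ofHom Algebra.TensorProduct.includeLeftRingHom)
  let dU : ∀ k : ↥t, Spec (CommRingCat.of (Γ(Z, φ ⁻¹ᵁ V₀) ⊗[B₁] (P₁ k).Ring)) ⟶
      Spec (CommRingCat.of (P₁ k).Ring) := fun k =>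
    Spec.map (CommRingCat.ofHom Algebra.TensorProduct.includeRight.toRingHom)
  have hD : ∀ k, IsPullback (dX k) (dU k) p (g₁ k) := fun k =>
    isPullback_SpecMap_of_isPushout _ _ _ _
      (CommRingCat.isPushout_tensorProduct B₁ Γ(Z, φ ⁻¹ᵁ V₀) (P₁ k).Ring)
  let m : ∀ k : ↥t, Spec (CommRingCat.of (Γ(Z, φ ⁻¹ᵁ V₀) ⊗[B₁] (P₁ k).Ring)) ⟶ U (ib k.1) :=
    fun k => Spec.map (CommRingCat.ofHom ((e k) : (Pb k.1).Ring →+* _)) ≫ mCb k.1
  have hm : ∀ k, m k ≫ g (ib k.1) = dX k ≫ jZ := by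
    intro k
    dsimp only [m, dX]
    rw [Category.assoc, hmCb, ← Spec.map_comp_assoc]
    congr 2
    ext b
    exact (e k).commutes b
  have hpsurj : Function.Surjective p := by
    have hint : (algebraMap B₁ Γ(Z, φ ⁻¹ᵁ V₀)).IsIntegral := by
      haveI : Algebra.IsIntegral B₁ Γ(Z, φ ⁻¹ᵁ V₀) :=
        Algebra.IsIntegral.tower_top (R := Γ(V, V₀))
      exact algebraMap_isIntegral_iff.mpr inferInstance
    exact hint.comap_surjective Subtype.val_injective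
  have hsurj : ∀ x₁ : ↥(Spec (CommRingCat.of B₁)), ∃ k, x₁ ∈ Set.range (g₁ k) := by
    intro x₁
    obtain ⟨b, rfl⟩ := hpsurj x₁
    obtain ⟨b', hb't, d, hd⟩ : ∃ b' ∈ t, b ∈ Set.range (Spec.map (CommRingCat.ofHom
        (algebraMap Γ(Z, φ ⁻¹ᵁ V₀) (Pb b').Ring))) := by
      have := ht (Set.mem_univ b)
      simpa only [Set.mem_iUnion, exists_prop] using this
    let k : ↥t := ⟨b', hb't⟩
    let d' : ↥(Spec (CommRingCat.of (Γ(Z, φ ⁻¹ᵁ V₀) ⊗[B₁] (P₁ k).Ring))) :=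
      Spec.map (CommRingCat.ofHom ((e k).symm : _ →+* (Pb k.1).Ring)) d
    have hd' : dX k d' = b := by
      have h1 : dX k d' = (Spec.map (CommRingCat.ofHom ((e k).symm : _ →+* (Pb k.1).Ring)) ≫
          dX k) d := rfl
      have hcomp : Spec.map (CommRingCat.ofHom ((e k).symm : _ →+* (Pb k.1).Ring)) ≫ dX k =
          Spec.map (CommRingCat.ofHom (algebraMap Γ(Z, φ ⁻¹ᵁ V₀) (Pb k.1).Ring)) := by
        dsimp only [dX]
        rw [← Spec.map_comp]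
        congr 1
        ext x
        exact (e k).symm.commutes x
      rw [h1, ← hd, hcomp]
      rfl
    refine ⟨k, dU k d', ?_⟩
    have h2 : g₁ k (dU k d') = (dU k ≫ g₁ k) d' := rfl
    rw [h2, ← (hD k).w]
    change p (dX k d') = p b
    rw [hd']
  -- the geometric point
  let a₀ : ↥(Spec Γ(V, V₀)) := hV₀.primeIdealOf ⟨v₀, hvV₀⟩
  have ha₀ : jV a₀ = v₀ := hV₀.fromSpec_primeIdealOf ⟨v₀, hvV₀⟩
  let Ω := AlgebraicClosure ((Spec Γ(V, V₀)).residueField a₀)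
  let η : Spec (CommRingCat.of Ω) ⟶ Spec Γ(V, V₀) := geomPt a₀
  have hη : η default = a₀ := geomPt_default a₀
  let V₁ : (Spec Γ(V, V₀)).Etale := Scheme.Etale.mk (𝟙 _)
  let v₁ : (Scheme.pointSmallEtale η).fiber.obj V₁ := Over.homMk η (by simp [V₁])
  have key2 : ∀ ξ : Lifts f₁ η, ∃ (k : ↥t) (l : Spec (CommRingCat.of Ω) ⟶
      Spec (CommRingCat.of (P₁ k).Ring)), l ≫ g₁ k = ξ.1 := by
    intro ξ
    obtain ⟨k, u', hu'⟩ := hsurj (ξ.1 default)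
    obtain ⟨l, hl, -⟩ := Scheme.exists_fac_of_etale_of_isSepClosed (g₁ k) ξ.1 u' hu'
    exact ⟨k, l, hl⟩
  choose kξ lξ hlξ using key2
  let Wξ : Lifts f₁ η → (Spec (CommRingCat.of B₁)).Etale := fun ξ => Scheme.Etale.mk (g₁ (kξ ξ))
  let wξ : ∀ ξ : Lifts f₁ η, (Scheme.pointSmallEtale ξ.1).fiber.obj (Wξ ξ) := fun ξ =>
    Over.homMk (lξ ξ) (hlξ ξ)
  let kkξ : ∀ ξ : Lifts f₁ η, Wξ ξ ⟶ (EtCoh.bc f₁).obj V₁ := fun ξ =>
    MorphismProperty.Over.homMk (pullback.lift (g₁ (kξ ξ) ≫ f₁) (g₁ (kξ ξ))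
      (show (g₁ (kξ ξ) ≫ f₁) ≫ 𝟙 _ = g₁ (kξ ξ) ≫ f₁ from Category.comp_id _))
      (pullback.lift_snd _ _ _) trivial
  have hkk : ∀ ξ : Lifts f₁ η, (Scheme.pointSmallEtale ξ.1).fiber.map (kkξ ξ) (wξ ξ) =
      liftpt ξ.1 ξ.2 V₁ v₁ := by
    intro ξ
    apply Over.OverMorphism.ext
    change lξ ξ ≫ pullback.lift (g₁ (kξ ξ) ≫ f₁) (g₁ (kξ ξ)) _ = pullback.lift _ _ _
    apply pullback.hom_ext
    · rw [Category.assoc, pullback.lift_fst, pullback.lift_fst, reassoc_of% (hlξ ξ), ξ.2]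
      rfl
    · rw [Category.assoc, pullback.lift_snd, pullback.lift_snd, hlξ]
  obtain ⟨-, V', v'pt, gV', -, Uo, hdisj, hcovU, H⟩ := exists_split f₁ η V₁ v₁ Wξ wξ kkξ hkk
  let e' : V'.left ⟶ Spec Γ(V, V₀) := V'.hom
  let c : pullback φ (e' ≫ jV) ⟶ pullback e' f₁ := cmap φ jV jZ f₀ hf₀ hZr p f₁ hp e'
  let Uo' : Lifts f₁ η → (pullback e' f₁).Opens := Uo
  refine ⟨V'.left, e' ≫ jV, inferInstance, ?_, Lifts f₁ η, fun ξ => c ⁻¹ᵁ (Uo' ξ), ?_, ?_, ?_⟩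
  · refine ⟨(v'pt.left : Spec (CommRingCat.of Ω) ⟶ V'.left) (default : ↥(Spec (CommRingCat.of Ω))),
      ?_⟩
    change jV (e' ((v'pt.left : Spec (CommRingCat.of Ω) ⟶ V'.left)
      (default : ↥(Spec (CommRingCat.of Ω))))) = v₀
    have h1 : (v'pt.left : Spec (CommRingCat.of Ω) ⟶ V'.left) ≫ e' = η := Over.w v'pt
    have h2 : e' ((v'pt.left : Spec (CommRingCat.of Ω) ⟶ V'.left)
        (default : ↥(Spec (CommRingCat.of Ω)))) = η default :=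
      congrArg (fun q : Spec (CommRingCat.of Ω) ⟶ Spec Γ(V, V₀) =>
        q (default : ↥(Spec (CommRingCat.of Ω)))) h1
    rw [h2, hη, ha₀]
  · intro a b hab
    rw [disjoint_iff_inf_le]
    intro x hx
    exact (hdisj a b hab).le_bot ⟨hx.1, hx.2⟩
  · rw [← Scheme.Hom.preimage_iSup]
    have : (⨆ a, Uo' a) = ⊤ := hcovU
    rw [this]
    rfl
  · intro ξ
    obtain ⟨mξ, -, -, -, -⟩ := H ξ
    have hh₁ : (mξ.left : ((Uo' ξ : (pullback e' f₁).Opens) : Scheme.{u}) ⟶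
        Spec (CommRingCat.of (P₁ (kξ ξ)).Ring)) ≫ g₁ (kξ ξ) =
        (Uo' ξ).ι ≫ pullback.snd e' f₁ := Over.w mξ.hom
    obtain ⟨h, hh⟩ := piece φ jV jZ f₀ hf₀ hZr p f₁ hp e' (g (ib (kξ ξ).1)) (g₁ (kξ ξ))
      (dX (kξ ξ)) (dU (kξ ξ)) (hD (kξ ξ)) (m (kξ ξ)) (hm (kξ ξ)) (Uo' ξ) mξ.left hh₁
    exact ⟨ib (kξ ξ).1, h, hh⟩

set_option backward.isDefEq.respectTransparency.types false in
set_option backward.isDefEq.respectTransparency false in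
theorem propB_of_integral {X Y : Scheme.{u}} (f : X ⟶ Y) [IsIntegralHom f] : BigSite.PropB f := by
  intro V v _ ι U g hg hcov
  have key := fun v₀ : V => propB_loc (pullback.snd f v) U g hg hcov v₀
  choose V' v' hv' hv₀ μ W hdisj hsup hpiece using key
  refine ⟨V, V', v', hv', fun y => ⟨y, hv₀ y⟩, fun j => ?_⟩
  let θ := pullbackLeftPullbackSndIso f v (v' j)
  have hθ : θ.inv ≫ pullback.fst (pullback.snd f v) (v' j) =
      pullback.map f (v' j ≫ v) f v (𝟙 X) (v' j) (𝟙 Y) (by simp) (by simp) := by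
    apply pullback.hom_ext
    · rw [Category.assoc, pullbackLeftPullbackSndIso_inv_fst, pullback.lift_fst, Category.comp_id]
    · rw [Category.assoc, pullbackLeftPullbackSndIso_inv_fst_snd, pullback.lift_snd]
  refine ⟨μ j, fun a => θ.inv ⁻¹ᵁ (W j a), ?_, ?_, ?_⟩
  · intro a b hab
    rw [disjoint_iff_inf_le]
    intro x hx
    exact (hdisj j a b hab).le_bot ⟨hx.1, hx.2⟩
  · rw [← Scheme.Hom.preimage_iSup, hsup j]
    rfl
  · intro a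
    obtain ⟨i, h, hh⟩ := hpiece j a
    refine ⟨i, (θ.inv ∣_ (W j a)) ≫ h, ?_⟩
    rw [Category.assoc, hh, morphismRestrict_ι_assoc, hθ]

end Groth.Agent.Lib.Helper23.PropBInt
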