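import Groth.Agent.Lib.Helper23.PropBInt

/-!
# Condition (C) for integral morphisms which are closed topological embeddings
-/

set_option autoImplicit false
universe u

namespace Groth.Agent.Lib.Helper23.PropCInt

open CategoryTheory CategoryTheory.Limits AlgebraicGeometry Opposite

/-- gluing morphisms along an open cover with empty overlaps -/
lemma glue_of_disjoint {P T : Scheme.{u}} (𝒰 : P.OpenCover)
    (hdisj : ∀ a b, a ≠ b → IsEmpty ↑(pullback (𝒰.f a) (𝒰.f b))) (m : ∀ a, 𝒰.X a ⟶ T) :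
    ∃ h : P ⟶ T, ∀ a, 𝒰.f a ≫ h = m a := by
  classical
  refine ⟨𝒰.glueMorphisms m ?_, fun a => 𝒰.ι_glueMorphisms _ _ a⟩
  intro a b
  by_cases hab : a = b
  · subst hab
    rw [fst_eq_snd_of_mono_eq]
  · haveI := hdisj a b hab
    exact isInitialOfIsEmpty.hom_ext _ _

/-- gluing morphisms along a disjoint family of opens covering the scheme -/
lemma glue_opens {P T : Scheme.{u}} {μ : Type u} (W : μ → P.Opens)
    (hdisj : ∀ a b, a ≠ b → Disjoint (W a) (W b)) (hsup : ⨆ a, W a = ⊤)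
    (m : ∀ a, ((W a : P.Opens) : Scheme.{u}) ⟶ T) :
    ∃ h : P ⟶ T, ∀ a, (W a).ι ≫ h = m a := by
  refine glue_of_disjoint (P.openCoverOfIsOpenCover W hsup) (fun a b hab => ?_) m
  rw [Scheme.isEmpty_pullback_iff]
  change Disjoint (Set.range (W a).ι) (Set.range (W b).ι)
  rw [Scheme.Opens.range_ι, Scheme.Opens.range_ι]
  rw [Set.disjoint_iff]
  intro x hx
  exact (hdisj a b hab).le_bot ⟨hx.1, hx.2⟩

set_option backward.isDefEq.respectTransparency.types false in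
set_option backward.isDefEq.respectTransparency false in
/-- etale morphisms are locally quasi-finite -/
lemma locallyQuasiFinite_of_etale {X Y : Scheme.{u}} (g : X ⟶ Y) [Etale g] :
    LocallyQuasiFinite g := by
  refine ⟨fun {U} hU {V} hV e => ?_⟩
  have h := g.etale_appLE hU hV e
  algebraize [(g.appLE U V e).hom]
  rw [← RingHom.algebraMap_toAlgebra (g.appLE U V e).hom, RingHom.quasiFinite_algebraMap]
  infer_instance

/-- extensionality of morphisms along a family of opens covering the scheme -/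
lemma hom_ext_opens {P T : Scheme.{u}} {μ : Type u} (W : μ → P.Opens) (hsup : ⨆ a, W a = ⊤)
    (h₁ h₂ : P ⟶ T) (h : ∀ a, (W a).ι ≫ h₁ = (W a).ι ≫ h₂) : h₁ = h₂ :=
  Scheme.Cover.hom_ext (P.openCoverOfIsOpenCover W hsup) h₁ h₂ h

set_option backward.isDefEq.respectTransparency.types false in
set_option backward.isDefEq.respectTransparency false in
set_option maxHeartbeats 1600000 in
theorem propC_loc {X Y : Scheme.{u}} (f : X ⟶ Y) [IsIntegralHom f]
    (hf : Topology.IsClosedEmbedding f.base) {U : Scheme.{u}} (g : U ⟶ X) [Etale g] (u : U) :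
    ∃ (V : Scheme.{u}) (v : V ⟶ Y) (_ : Etale v) (h : pullback f v ⟶ U),
      h ≫ g = pullback.fst f v ∧ u ∈ Set.range h.base := by
  haveI := locallyQuasiFinite_of_etale g
  -- Step 1: an open neighbourhood of `u` meeting the fibre only in `u`
  obtain ⟨U₁, huU₁, hU₁⟩ : ∃ U₁ : U.Opens, u ∈ U₁ ∧ ∀ u' ∈ U₁, g u' = g u → u' = u := by
    have hd := (g.isDiscrete_preimage_singleton (g u)).to_subtype
    have ho : IsOpen ({⟨u, rfl⟩} : Set ↥(g ⁻¹' {g u})) := isOpen_discrete _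
    obtain ⟨O, hO, hOe⟩ := isOpen_induced_iff.mp ho
    refine ⟨⟨O, hO⟩, ?_, ?_⟩
    · have : (⟨u, rfl⟩ : ↥(g ⁻¹' {g u})) ∈ Subtype.val ⁻¹' O := by rw [hOe]; rfl
      exact this
    · intro u' hu' hgu'
      have : (⟨u', hgu'⟩ : ↥(g ⁻¹' {g u})) ∈ Subtype.val ⁻¹' O := hu'
      rw [hOe] at this
      exact congrArg Subtype.val this
  -- Step 2: shrink the base
  let g₁ : (U₁ : Scheme.{u}) ⟶ X := U₁.ι ≫ g
  have hg₁open : IsOpen (Set.range g₁) := (Scheme.Hom.isOpenMap g₁).isOpen_range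
  have hTclosed : IsClosed (f '' (Set.range g₁)ᶜ) := hf.isClosedMap _ hg₁open.isClosed_compl
  let Y' : Y.Opens := ⟨(f '' (Set.range g₁)ᶜ)ᶜ, hTclosed.isOpen_compl⟩
  have hY' : ∀ x' : X, f x' ∈ Y' → x' ∈ Set.range g₁ := by
    intro x' hx'
    by_contra hcon
    exact hx' ⟨x', hcon, rfl⟩
  have hu₁ : g u ∈ Set.range g₁ := by
    obtain ⟨t, ht⟩ : u ∈ Set.range U₁.ι := by rw [Scheme.Opens.range_ι]; exact huU₁
    exact ⟨t, by rw [← ht]; rfl⟩
  have hyY' : f (g u) ∈ Y' := by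
    rintro ⟨x'', hx'', he⟩
    have : x'' = g u := hf.injective he
    exact hx'' (this ▸ hu₁)
  -- Step 3: the restricted morphisms
  let X' : X.Opens := f ⁻¹ᵁ Y'
  let φ' : (X' : Scheme.{u}) ⟶ (Y' : Scheme.{u}) := f ∣_ Y'
  let g' : ((g₁ ⁻¹ᵁ X' : (U₁ : Scheme.{u}).Opens) : Scheme.{u}) ⟶ (X' : Scheme.{u}) := g₁ ∣_ X'
  have hg'surj : ∀ z : (X' : Scheme.{u}), ∃ _ : PUnit.{u + 1}, z ∈ Set.range g'.base := by
    intro z
    refine ⟨PUnit.unit, ?_⟩
    have hz : X'.ι z ∈ X' := by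
      have : X'.ι z ∈ Set.range X'.ι := ⟨z, rfl⟩
      rwa [Scheme.Opens.range_ι] at this
    obtain ⟨t, ht⟩ := hY' (X'.ι z) hz
    have ht' : t ∈ Set.range (g₁ ⁻¹ᵁ X').ι := by
      rw [Scheme.Opens.range_ι]
      change g₁ t ∈ X'
      rw [ht]
      exact hz
    obtain ⟨t', rfl⟩ := ht'
    refine ⟨t', ?_⟩
    apply X'.ι.isOpenEmbedding.injective
    have h1 : X'.ι (g' t') = (g' ≫ X'.ι) t' := rfl
    rw [h1, morphismRestrict_ι]
    exact ht
  -- Step 4: condition (B) locally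
  obtain ⟨v₀, hv₀⟩ : f (g u) ∈ Set.range Y'.ι := by rw [Scheme.Opens.range_ι]; exact hyY'
  obtain ⟨V', v', hv'et, ⟨t₀, ht₀⟩, μ, W, hdisj, hsup, hpiece⟩ :=
    PropBInt.propB_loc φ' (fun _ : PUnit.{u + 1} =>
      ((g₁ ⁻¹ᵁ X' : (U₁ : Scheme.{u}).Opens) : Scheme.{u})) (fun _ => g')
      (fun _ => inferInstance) hg'surj v₀
  haveI := hv'et
  choose _i hW hhW using hpiece
  -- Step 5: glue
  obtain ⟨h', hh'⟩ := glue_opens W hdisj hsup (fun a => hW a ≫ (g₁ ⁻¹ᵁ X').ι ≫ U₁.ι)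
  have hh'g : h' ≫ g = pullback.fst φ' v' ≫ X'.ι := by
    apply hom_ext_opens W hsup
    intro a
    rw [reassoc_of% (hh' a)]
    change hW a ≫ (g₁ ⁻¹ᵁ X').ι ≫ g₁ = _
    rw [← morphismRestrict_ι, reassoc_of% (hhW a)]
  have hh'range : ∀ q : ↥(pullback φ' v'), h' q ∈ U₁ := by
    intro q
    have hq : q ∈ (⨆ a, W a) := by rw [hsup]; trivial
    obtain ⟨a, ha⟩ := TopologicalSpace.Opens.mem_iSup.mp hq
    obtain ⟨q', rfl⟩ : q ∈ Set.range (W a).ι := by rw [Scheme.Opens.range_ι]; exact ha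
    have h1 : h' ((W a).ι q') = ((W a).ι ≫ h') q' := rfl
    rw [h1, hh' a]
    have h2 : (hW a ≫ (g₁ ⁻¹ᵁ X').ι ≫ U₁.ι) q' ∈ Set.range U₁.ι := ⟨_, rfl⟩
    rwa [Scheme.Opens.range_ι] at h2
  -- Step 6: transfer to `f`
  let v'' : V' ⟶ Y := v' ≫ Y'.ι
  have hXr : ∀ z : X, f z ∈ Set.range Y'.ι → z ∈ Set.range X'.ι := by
    intro z hz
    rw [Scheme.Opens.range_ι] at hz ⊢
    exact hz
  let fstL : pullback f v'' ⟶ (X' : Scheme.{u}) := PropBInt.fstLift f Y'.ι X'.ι hXr v'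
  have hfstL : fstL ≫ X'.ι = pullback.fst f v'' := PropBInt.fstLift_fac f Y'.ι X'.ι hXr v'
  have hc : fstL ≫ φ' = pullback.snd f v'' ≫ v' := by
    rw [← cancel_mono Y'.ι, Category.assoc, Category.assoc, morphismRestrict_ι,
      reassoc_of% hfstL, pullback.condition]
  let c : pullback f v'' ⟶ pullback φ' v' := pullback.lift fstL (pullback.snd f v'') hc
  refine ⟨V', v'', inferInstance, c ≫ h', ?_, ?_⟩
  · rw [Category.assoc, hh'g, pullback.lift_fst_assoc, hfstL]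
  · -- Step 7: the point
    have hy : f (g u) = v'' t₀ := by
      change f (g u) = Y'.ι (v' t₀)
      rw [ht₀, hv₀]
    obtain ⟨w, hw1, -⟩ := Scheme.Pullback.exists_preimage_pullback (f := f) (g := v'') (g u) t₀ hy
    refine ⟨w, ?_⟩
    apply hU₁
    · exact hh'range (c w)
    · have h1 : g ((c ≫ h') w) = ((c ≫ h') ≫ g) w := rfl
      rw [h1, Category.assoc, hh'g, pullback.lift_fst_assoc, hfstL, hw1]

set_option backward.isDefEq.respectTransparency.types false in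
set_option backward.isDefEq.respectTransparency false in
set_option maxHeartbeats 1600000 in
theorem propC_of_integral {X Y : Scheme.{u}} (f : X ⟶ Y) [IsIntegralHom f]
    (hf : Topology.IsClosedEmbedding f.base) : BigSite.PropC f := by
  intro U g _
  choose V v hv h hh hu using fun u : U => propC_loc f hf g u
  let vv : (∐ V) ⟶ Y := Sigma.desc v
  haveI : Etale vv := IsZariskiLocalAtSource.sigmaDesc (P := @Etale) hv
  let 𝒰 : (pullback f vv).OpenCover :=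
    Scheme.Pullback.openCoverOfRight (AlgebraicGeometry.sigmaOpenCover V) f vv
  have hιv : ∀ u : U, Sigma.ι V u ≫ vv = v u := fun u => Sigma.ι_desc v u
  let θ : ∀ u : U, pullback f (Sigma.ι V u ≫ vv) ⟶ pullback f (v u) := fun u =>
    pullback.map f (Sigma.ι V u ≫ vv) f (v u) (𝟙 _) (𝟙 _) (𝟙 _) (by simp) (by simp [hιv u])
  let θinv : ∀ u : U, pullback f (v u) ⟶ pullback f (Sigma.ι V u ≫ vv) := fun u =>
    pullback.map f (v u) f (Sigma.ι V u ≫ vv) (𝟙 _) (𝟙 _) (𝟙 _) (by simp) (by simp [hιv u])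
  have hθ : ∀ u, θinv u ≫ θ u = 𝟙 _ := by
    intro u
    apply pullback.hom_ext <;> simp [θ, θinv]
  have hsnd : ∀ u : U, 𝒰.f u ≫ pullback.snd f vv =
      pullback.snd f (Sigma.ι V u ≫ vv) ≫ Sigma.ι V u := by
    intro u
    simp [𝒰]
    rfl
  have hfst : ∀ u : U, 𝒰.f u ≫ pullback.fst f vv = pullback.fst f (Sigma.ι V u ≫ vv) := by
    intro u
    simp [𝒰]
    rfl
  have hmem : ∀ (u : U) (q : ↥(𝒰.X u)),
      pullback.snd f vv (𝒰.f u q) ∈ (Sigma.ι V u).opensRange := by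
    intro u q
    refine ⟨pullback.snd f (Sigma.ι V u ≫ vv) q, ?_⟩
    have h1 := congrArg (fun m : 𝒰.X u ⟶ ∐ V => m q) (hsnd u)
    exact h1.symm
  have hdisj : ∀ a b : U, a ≠ b → IsEmpty ↑(pullback (𝒰.f a) (𝒰.f b)) := by
    intro a b hab
    rw [Scheme.isEmpty_pullback_iff, Set.disjoint_iff]
    rintro p ⟨⟨pa, hpa⟩, ⟨pb, hpb⟩⟩
    have h1 : pullback.snd f vv p ∈ (Sigma.ι V a).opensRange := hpa ▸ hmem a pa
    have h2 : pullback.snd f vv p ∈ (Sigma.ι V b).opensRange := hpb ▸ hmem b pb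
    exact (AlgebraicGeometry.disjoint_opensRange_sigmaι V a b hab).le_bot ⟨h1, h2⟩
  obtain ⟨H, hH⟩ := glue_of_disjoint 𝒰 hdisj (fun u => θ u ≫ h u)
  refine ⟨∐ V, vv, inferInstance, H, ?_, ?_⟩
  · apply Scheme.Cover.hom_ext 𝒰
    intro u
    rw [reassoc_of% (hH u), hh u, hfst u]
    simp [θ]
  · refine ⟨fun u => ?_⟩
    obtain ⟨w, hw⟩ := hu u
    refine ⟨𝒰.f u (θinv u w), ?_⟩
    have h1 : H (𝒰.f u (θinv u w)) = (θinv u ≫ 𝒰.f u ≫ H) w := rfl
    rw [h1, hH u, reassoc_of% (hθ u)]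
    exact hw

end Groth.Agent.Lib.Helper23.PropCInt
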