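import Groth.Agent.Lib.Helper23.EtSite

/-!
# Gluing sections of etale sheaves over a clopen decomposition
-/

set_option autoImplicit false

namespace Groth.Agent.Lib.Helper23.EtGlue

open CategoryTheory Limits Opposite AlgebraicGeometry GrothendieckTopology

universe u

set_option backward.isDefEq.respectTransparency.types false in
lemma bot_mem_of_isEmpty {Z : Scheme.{u}} (T : Z.Etale) [IsEmpty T.left] :
    ⊥ ∈ Z.smallEtaleTopology T := by
  have h : Sieve.ofArrows (fun e : PEmpty.{1} => (PEmpty.elim e : Z.Etale))
      (fun e => (PEmpty.elim e)) ∈ Z.smallEtaleTopology T := by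
    rw [Scheme.ofArrows_mem_smallEtaleTopology_iff]
    ext t
    exact (IsEmpty.false t).elim
  refine Z.smallEtaleTopology.superset_covering ?_ h
  rintro Y f ⟨_, _, _, ⟨e⟩, _⟩
  exact e.elim

lemma subsingleton_of_isEmpty {Z : Scheme.{u}} (P : EtDesc.Sh Z) (T : Z.Etale)
    [IsEmpty T.left] : Subsingleton (P.obj.obj (op T)) := by
  have hterm := Sheaf.isTerminalOfBotCover P T (bot_mem_of_isEmpty T)
  have := Types.isTerminalEquivUnique _ hterm
  infer_instance

/-- The open subscheme `W` of an etale `X`-scheme `T`, as an object of the small etale site. -/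
noncomputable abbrev opn {X : Scheme.{u}} (T : X.Etale) (W : T.left.Opens) : X.Etale :=
  Scheme.Etale.mk (W.ι ≫ T.hom)

/-- The inclusion of an open subscheme, as a morphism of the small etale site. -/
noncomputable abbrev opnι {X : Scheme.{u}} (T : X.Etale) (W : T.left.Opens) : opn T W ⟶ T :=
  MorphismProperty.Over.homMk W.ι rfl trivial

lemma hom_ext_of_left {X : Scheme.{u}} {A B : X.Etale} (g g' : A ⟶ B) (h : g.left = g'.left) :
    g = g' := by
  apply (Scheme.Etale.forget X).map_injective
  exact Over.OverMorphism.ext h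

set_option backward.isDefEq.respectTransparency.types false in
set_option backward.isDefEq.respectTransparency false in
/-- Gluing over a clopen decomposition `T = W ⊔ Wᶜ`. -/
lemma exists_glue {X : Scheme.{u}} (P : EtDesc.Sh X) (T : X.Etale) (W : T.left.Opens)
    (hW : IsClosed (W : Set T.left)) (x₁ : P.obj.obj (op (opn T W)))
    (x₂ : P.obj.obj (op (opn T ⟨(W : Set T.left)ᶜ, hW.isOpen_compl⟩))) :
    ∃ s : P.obj.obj (op T), P.obj.map (opnι T W).op s = x₁ := by
  let Wc : T.left.Opens := ⟨(W : Set T.left)ᶜ, hW.isOpen_compl⟩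
  let Xs : Bool → X.Etale := fun b => cond b (opn T W) (opn T Wc)
  let π : ∀ b, Xs b ⟶ T := fun b => by
    cases b
    · exact opnι T Wc
    · exact opnι T W
  let x : ∀ b, P.obj.obj (op (Xs b)) := fun b => by
    cases b
    · exact x₂
    · exact x₁
  have hcov : Sieve.ofArrows Xs π ∈ X.smallEtaleTopology T := by
    rw [Scheme.ofArrows_mem_smallEtaleTopology_iff]
    ext t
    simp only [Set.mem_iUnion, Set.mem_range, Set.mem_univ, iff_true]
    by_cases ht : t ∈ (W : Set T.left)
    · exact ⟨true, ⟨t, ht⟩, rfl⟩
    · exact ⟨false, ⟨t, ht⟩, rfl⟩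
  have hP := (isSheaf_iff_isSheaf_of_type _ _).1 P.2
  have h1 : Presieve.IsSheafFor P.obj (Presieve.ofArrows Xs π) :=
    (Presieve.isSheafFor_iff_generate _).2 (hP _ hcov)
  have hcompat : Presieve.Arrows.Compatible P.obj π x := by
    intro i j Z gi gj hg
    have hl : gi.left ≫ (π i).left = gj.left ≫ (π j).left :=
      congrArg (fun φ : Z ⟶ T => φ.left) hg
    cases i <;> cases j
    · have : gi = gj := by
        apply hom_ext_of_left
        have hm : Mono Wc.ι := inferInstance
        exact (cancel_mono Wc.ι).1 hl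
      rw [this]
    · have : IsEmpty Z.left := ⟨fun z => by
        have h2 := congrArg (fun φ : Z.left ⟶ T.left => φ z) hl
        have h3 : (gi.left z : Wc.toScheme).1 ∈ (Wc : Set T.left) := (gi.left z).2
        have h4 : (gj.left z : W.toScheme).1 ∈ (W : Set T.left) := (gj.left z).2
        have h5 : ((gi.left z : Wc.toScheme).1 : T.left) = (gj.left z : W.toScheme).1 := h2
        rw [h5] at h3
        exact h3 h4⟩
      exact @Subsingleton.elim _ (subsingleton_of_isEmpty P Z) _ _
    · have : IsEmpty Z.left := ⟨fun z => by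
        have h2 := congrArg (fun φ : Z.left ⟶ T.left => φ z) hl
        have h3 : (gj.left z : Wc.toScheme).1 ∈ (Wc : Set T.left) := (gj.left z).2
        have h4 : (gi.left z : W.toScheme).1 ∈ (W : Set T.left) := (gi.left z).2
        have h5 : ((gi.left z : W.toScheme).1 : T.left) = (gj.left z : Wc.toScheme).1 := h2
        rw [← h5] at h3
        exact h3 h4⟩
      exact @Subsingleton.elim _ (subsingleton_of_isEmpty P Z) _ _
    · have : gi = gj := by
        apply hom_ext_of_left
        have hm : Mono W.ι := inferInstance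
        exact (cancel_mono W.ι).1 hl
      rw [this]
  obtain ⟨s, hs, -⟩ := (Presieve.isSheafFor_arrows_iff P.obj π).1 h1 x hcompat
  exact ⟨s, hs true⟩

end Groth.Agent.Lib.Helper23.EtGlue
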