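import Groth.Agent.Lib.Helper23.FlcLoc2

/-!
# Morphisms between constant sheaves with finite source are locally constant; kernels and cokernels
-/

set_option autoImplicit false
universe u

namespace Groth.Agent.Lib.Helper23.FlcLoc

open CategoryTheory CategoryTheory.Limits AlgebraicGeometry Opposite EtCore
open PullConstComp EtGlue

variable {Y : Scheme.{u}}

/-- `P` is isomorphic to a constant sheaf with finite value group -/
def Triv {Z : Scheme.{u}} (P : EtCoh.Ab Z) : Prop :=
  ∃ G : AddCommGrpCat.{u + 1}, Finite G ∧ Nonempty (P ≅ (C Z).obj G)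

lemma Triv.of_iso {Z : Scheme.{u}} {P P' : EtCoh.Ab Z} (e : P ≅ P') (h : Triv P) : Triv P' := by
  obtain ⟨G, hG, ⟨a⟩⟩ := h
  exact ⟨G, hG, ⟨e.symm ≪≫ a⟩⟩

set_option backward.isDefEq.respectTransparency.types false in
set_option backward.isDefEq.respectTransparency false in
/-- the unit section, after inverse image, in terms of `loc` -/
lemma unit_pullConst_inv (V : Y.Etale) (B : AddCommGrpCat.{u + 1}) :
    (constAdj V.left).unit.app B ≫ (gsec V.left).map ((pullConstIso V.hom).inv.app B) =
      ts B V ≫ loc V ((C Y).obj B) := by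
  have h2 : (gsec V.left).map ((pullConstIso V.hom).hom.app B) ≫
      (gsec V.left).map ((pullConstIso V.hom).inv.app B) = 𝟙 _ := by
    rw [← Functor.map_comp, Iso.hom_inv_id_app]
    exact (gsec V.left).map_id _
  rw [← loc_ts V B, Category.assoc, Category.assoc, h2]
  exact congrArg (fun t => ts B V ≫ t) (Category.comp_id _)

set_option backward.isDefEq.respectTransparency.types false in
set_option backward.isDefEq.respectTransparency false in
/-- a morphism between constant sheaves with finite source is, locally, induced by a homomorphism -/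
theorem exists_const_map {A B : AddCommGrpCat.{u + 1}} [Finite A]
    (ψ : (C Y).obj A ⟶ (C Y).obj B) (y : Y) :
    ∃ (V : Y.Etale) (v : V.left) (h : A ⟶ B), V.hom v = y ∧
      (pullConstIso V.hom).inv.app A ≫ (EtCoh.pull V.hom).map ψ ≫
        (pullConstIso V.hom).hom.app B = (C V.left).map h := by
  obtain ⟨V, g, v, hv, hb⟩ := exists_const_of_sections B (V := EtCoh.top Y) (y : (EtCoh.top Y).left)
    (fun a : A => ψ.hom.app (op (EtCoh.top Y)) (ts A (EtCoh.top Y) a))
  choose b hb using hb
  have key : ∀ a : A, ψ.hom.app (op V) (ts A V a) = ts B V (b a) := by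
    intro a
    rw [hb a, ← ts_map A g]
    exact (NatTrans.naturality_apply ψ.hom g.op (ts A (EtCoh.top Y) a))
  have hinj := ts_injective B V v
  let h : A ⟶ B := AddCommGrpCat.ofHom (AddMonoidHom.mk' b (fun a a' => by
    apply hinj
    rw [← key, map_add, map_add, map_add, key, key]))
  have hh : ts A V ≫ ψ.hom.app (op V) = h ≫ ts B V := by
    ext a
    exact key a
  refine ⟨V, v, h, ?_, ?_⟩
  · have h1 : g.left ≫ 𝟙 Y = V.hom := Over.w g.hom
    have h2 : V.hom v = g.left v := by
      rw [← h1]
      rfl
    rw [h2]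
    exact hv
  · apply ((constAdj V.left).homEquiv _ _).injective
    rw [Adjunction.homEquiv_unit, Adjunction.homEquiv_unit, Functor.map_comp, Functor.map_comp,
      ← Category.assoc, unit_pullConst_inv, Category.assoc, ← Category.assoc (loc V _),
      ← loc_naturality, Category.assoc, ← Category.assoc (ts A V), hh, Category.assoc, loc_ts]
    exact (constAdj V.left).unit.naturality h

instance pull_pfl {X' X : Scheme.{u}} (f : X' ⟶ X) : PreservesFiniteLimits (EtCoh.pull f) :=
  Groth.Agent.S0101.result f

lemma finite_kernel {A B : AddCommGrpCat.{u + 1}} [Finite A] (h : A ⟶ B) :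
    Finite (kernel h : AddCommGrpCat.{u + 1}) :=
  Finite.of_injective _ ((AddCommGrpCat.mono_iff_injective (kernel.ι h)).1 inferInstance)

lemma finite_cokernel {A B : AddCommGrpCat.{u + 1}} [Finite B] (h : A ⟶ B) :
    Finite (cokernel h : AddCommGrpCat.{u + 1}) :=
  Finite.of_surjective _ ((AddCommGrpCat.epi_iff_surjective (cokernel.π h)).1 inferInstance)

/-- kernels and cokernels of morphisms between constant sheaves with finite values are locally
constant with finite values -/
theorem exists_triv_ker_coker {A B : AddCommGrpCat.{u + 1}} [Finite A] [Finite B]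
    (ψ : (C Y).obj A ⟶ (C Y).obj B) (y : Y) :
    ∃ (V : Y.Etale) (v : V.left), V.hom v = y ∧
      Triv ((EtCoh.pull V.hom).obj (kernel ψ)) ∧ Triv ((EtCoh.pull V.hom).obj (cokernel ψ)) := by
  obtain ⟨V, v, h, hv, hh⟩ := exists_const_map ψ y
  have w : (EtCoh.pull V.hom).map ψ ≫ ((pullConstIso V.hom).app B).hom =
      ((pullConstIso V.hom).app A).hom ≫ (C V.left).map h := by
    rw [← hh]
    simp
  refine ⟨V, v, hv, ⟨kernel h, finite_kernel h, ⟨?_⟩⟩, ⟨cokernel h, finite_cokernel h, ⟨?_⟩⟩⟩
  · exact PreservesKernel.iso (EtCoh.pull V.hom) ψ ≪≫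
      kernel.mapIso _ _ ((pullConstIso V.hom).app A) ((pullConstIso V.hom).app B) w ≪≫
      (PreservesKernel.iso (C V.left) h).symm
  · exact PreservesCokernel.iso (EtCoh.pull V.hom) ψ ≪≫
      cokernel.mapIso _ _ ((pullConstIso V.hom).app A) ((pullConstIso V.hom).app B) w ≪≫
      (PreservesCokernel.iso (C V.left) h).symm

end Groth.Agent.Lib.Helper23.FlcLoc
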