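import Groth.Agent.Lib.Helper23.ShriekRep
import Groth.Agent.Lib.Helper23.EtGlue2
import Groth.Agent.Lib.Helper23.FlcKer
import Mathlib.Algebra.Category.Grp.Biproducts

/-!
# Extension by zero of a constant sheaf along a split etale map
-/

set_option autoImplicit false
universe u

namespace Groth.Agent.Lib.Helper23.ShriekSplit

open CategoryTheory CategoryTheory.Limits AlgebraicGeometry Opposite
open Groth.Agent.Lib.Helper23.FlcLoc Groth.Agent.Lib.Helper23.ShriekRep
open Groth.Agent.Lib.Helper23.EtGlue

variable {T : Scheme.{u}}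

set_option backward.isDefEq.respectTransparency.types false in
set_option backward.isDefEq.respectTransparency false in
/-- glue along a covering family of arrows -/
lemma existsUnique_glue_arrows (P : EtDesc.Sh T) (Q : T.Etale) {μ : Type*}
    (A : μ → T.Etale) (g : ∀ a, A a ⟶ Q)
    (hcov : ∀ t : Q.left, ∃ a, t ∈ Set.range (g a).left)
    (x : ∀ a, P.obj.obj (op (A a)))
    (hcompat : Presieve.Arrows.Compatible P.obj g x) :
    ∃! s : P.obj.obj (op Q), ∀ a, P.obj.map (g a).op s = x a := by
  have hcov' : Sieve.ofArrows A g ∈ T.smallEtaleTopology Q := by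
    rw [Scheme.ofArrows_mem_smallEtaleTopology_iff]
    ext t
    simp only [Set.mem_iUnion, Set.mem_univ, iff_true]
    exact hcov t
  have hP := (isSheaf_iff_isSheaf_of_type _ _).1 P.2
  have h1 : Presieve.IsSheafFor P.obj (Presieve.ofArrows A g) :=
    (Presieve.isSheafFor_iff_generate _).2 (hP _ hcov')
  exact (Presieve.isSheafFor_arrows_iff P.obj _).1 h1 x hcompat

/-- the splitting data: sections of an etale `T`-scheme which cover it and are pairwise disjoint -/
structure Split (Q : T.Etale) (ι : Type) where
  s : ι → (EtCoh.top T ⟶ Q)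
  cov : ∀ t : Q.left, ∃ i, t ∈ Set.range (s i).left
  disj : ∀ i j, i ≠ j → ∀ (W : T.Etale) (a b : W ⟶ EtCoh.top T), a ≫ s i = b ≫ s j →
    IsEmpty W.left

variable {Q : T.Etale} {ι : Type} (σ : Split Q ι)

set_option backward.isDefEq.respectTransparency.types false in
set_option backward.isDefEq.respectTransparency false in
lemma existsUnique_glue (G : EtCoh.Ab T) (x : ι → G.obj.obj (op (EtCoh.top T))) :
    ∃! y : G.obj.obj (op Q), ∀ i, (ConcreteCategory.hom (G.obj.map (σ.s i).op)) y = x i := by
  let G' : EtDesc.Sh T := (sheafCompose _ (forget AddCommGrpCat.{u+1})).obj G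
  have hcompat : Presieve.Arrows.Compatible G'.obj σ.s x := by
    intro i j Z gi gj hg
    by_cases hij : i = j
    · subst hij
      have : gi = gj := (EtCore.topIsTerminal T).hom_ext gi gj
      rw [this]
    · haveI : IsEmpty Z.left := σ.disj i j hij Z gi gj hg
      exact @Subsingleton.elim _ (subsingleton_of_isEmpty G' Z) _ _
  exact existsUnique_glue_arrows G' Q (fun _ => EtCoh.top T) σ.s σ.cov x hcompat

/-- the glued section -/
noncomputable def glue (G : EtCoh.Ab T) (x : ι → G.obj.obj (op (EtCoh.top T))) :
    G.obj.obj (op Q) :=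
  (existsUnique_glue σ G x).exists.choose

lemma glue_spec (G : EtCoh.Ab T) (x : ι → G.obj.obj (op (EtCoh.top T))) (i : ι) :
    (ConcreteCategory.hom (G.obj.map (σ.s i).op)) (glue σ G x) = x i :=
  (existsUnique_glue σ G x).exists.choose_spec i

lemma glue_unique (G : EtCoh.Ab T) (x : ι → G.obj.obj (op (EtCoh.top T))) (y : G.obj.obj (op Q))
    (hy : ∀ i, (ConcreteCategory.hom (G.obj.map (σ.s i).op)) y = x i) : y = glue σ G x :=
  (existsUnique_glue σ G x).unique hy (glue_spec σ G x)

variable (B : AddCommGrpCat.{u + 1})

/-- restriction of maps into the sections along the given sections -/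
noncomputable def resMap (G : EtCoh.Ab T) (f : B ⟶ G.obj.obj (op Q)) :
    ι → (B ⟶ G.obj.obj (op (EtCoh.top T))) :=
  fun i => f ≫ G.obj.map (σ.s i).op

lemma resMap_bijective (G : EtCoh.Ab T) : Function.Bijective (resMap σ B G) := by
  constructor
  · intro f f' h
    ext b
    have h1 : ∀ i, (ConcreteCategory.hom (G.obj.map (σ.s i).op)) (f b) =
        (ConcreteCategory.hom (G.obj.map (σ.s i).op)) (f' b) := fun i => by
      have := congrArg (fun k : ι → (B ⟶ G.obj.obj (op (EtCoh.top T))) =>
        (ConcreteCategory.hom (k i)) b) h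
      simpa [resMap] using this
    rw [glue_unique σ G _ (f b) (fun i => rfl), glue_unique σ G _ (f' b) (fun i => (h1 i).symm)]
  · intro h
    refine ⟨AddCommGrpCat.ofHom
      { toFun := fun b => glue σ G (fun i => (ConcreteCategory.hom (h i)) b)
        map_zero' := ?_
        map_add' := ?_ }, ?_⟩
    · symm
      apply glue_unique
      intro i
      simp
    · intro a b
      symm
      apply glue_unique
      intro i
      rw [map_add, glue_spec, glue_spec, map_add]
    · funext i
      ext b
      simp only [resMap]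
      exact glue_spec σ G _ i

/-- maps into the sections over `Q` are families of maps into the global sections -/
noncomputable def resEquiv (G : EtCoh.Ab T) :
    (B ⟶ G.obj.obj (op Q)) ≃ (ι → (B ⟶ G.obj.obj (op (EtCoh.top T)))) :=
  Equiv.ofBijective _ (resMap_bijective σ B G)

variable [Finite ι]

/-- the value group of the extension by zero -/
noncomputable abbrev val (ι : Type) [Finite ι] (B : AddCommGrpCat.{u + 1}) : AddCommGrpCat.{u + 1} :=
  ⨁ fun _ : ι => B

lemma finite_val (hB : Finite B) : Finite (val ι B) := by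
  haveI : Finite (∀ _ : ι, B) := inferInstance
  exact Finite.of_equiv _ (AddCommGrpCat.biproductIsoPi (fun _ : ι => B)).addCommGroupIsoToAddEquiv.symm.toEquiv

/-- families of maps are maps from the biproduct -/
noncomputable def descEquiv (A : AddCommGrpCat.{u + 1}) : (ι → (B ⟶ A)) ≃ (val ι B ⟶ A) where
  toFun f := biproduct.desc f
  invFun h := fun i => biproduct.ι (fun _ : ι => B) i ≫ h
  left_inv f := by
    funext i
    simp
  right_inv h := by
    apply biproduct.hom_ext'
    intro i
    simp

/-- the corepresented functor of the extension by zero along a split etale map -/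
noncomputable def splitEquiv (G : EtCoh.Ab T) :
    (sh1 Q B ⟶ G) ≃ ((C T).obj (val ι B) ⟶ G) :=
  (rep1' Q B G).trans ((resEquiv σ B G).trans ((descEquiv B _).trans
    ((EtCore.constAdj T).homEquiv (val ι B) G).symm))

lemma splitEquiv_naturality {G G' : EtCoh.Ab T} (f : sh1 Q B ⟶ G) (φ : G ⟶ G') :
    splitEquiv σ B G' (f ≫ φ) = splitEquiv σ B G f ≫ φ := by
  unfold splitEquiv
  simp only [Equiv.trans_apply]
  rw [rep1'_naturality, ← Adjunction.homEquiv_naturality_right_symm]
  congr 1
  apply biproduct.hom_ext'
  intro i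
  simp only [descEquiv, resEquiv, Equiv.coe_fn_mk, Equiv.ofBijective_apply, resMap,
    biproduct.ι_desc, biproduct.ι_desc_assoc, Category.assoc]
  congr 1
  exact (φ.hom.naturality (σ.s i).op).symm

/-- extension by zero of a constant sheaf along a split etale map is constant -/
noncomputable def splitIso : sh1 Q B ≅ (C T).obj (val ι B) :=
  (Coyoneda.ext ((C T).obj (val ι B)) (sh1 Q B)
    (fun {Z} f => (splitEquiv σ B Z).symm f) (fun {Z} f => splitEquiv σ B Z f)
    (fun f => by simp) (fun f => by simp)
    (fun {Z Z'} f g => splitEquiv_naturality σ B f g)).symm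

include σ in
lemma triv_sh1 (hB : Finite B) : FlcLoc.Triv (sh1 Q B) :=
  ⟨val ι B, finite_val B hB, ⟨splitIso σ B⟩⟩

end Groth.Agent.Lib.Helper23.ShriekSplit
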