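import Groth.Agent.Lib.Helper23.ShriekGeom
import Groth.Agent.Lib.Helper23.ShriekSplit
import Groth.Agent.Lib.Helper23.EtGlue

/-!
# A split etale scheme is finite over the base
-/

set_option autoImplicit false
universe u

namespace Groth.Agent.Lib.Helper23.SplitFinite

open CategoryTheory CategoryTheory.Limits AlgebraicGeometry Opposite

section Sigma

variable {X : Scheme.{u}}

/-- a finite coproduct of finite `X`-schemes is finite over `X` -/
theorem isFinite_sigmaDesc : ∀ (ι : Type) [Finite ι] (Y : ι → Scheme.{u}) (f : ∀ i, Y i ⟶ X),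
    (∀ i, IsFinite (f i)) → IsFinite (Sigma.desc f) := by
  intro ι _
  induction ι using Finite.induction_empty_option with
  | of_equiv e ih =>
    intro Y f hf
    have h1 := ih (fun a => Y (e a)) (fun a => f (e a)) (fun a => hf _)
    have h2 : (Sigma.reindex e Y).hom ≫ Sigma.desc f = Sigma.desc (fun a => f (e a)) := by
      refine Sigma.hom_ext _ _ fun a => ?_
      rw [← Category.assoc, Sigma.ι_reindex_hom, Sigma.ι_desc, Sigma.ι_desc]
    have h3 : Sigma.desc f = (Sigma.reindex e Y).inv ≫ Sigma.desc (fun a => f (e a)) :=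
      (Iso.eq_inv_comp _).2 h2
    rw [h3]
    exact (MorphismProperty.cancel_left_of_respectsIso @IsFinite _ _).2 h1
  | h_empty =>
    intro Y f _
    haveI : IsEmpty ↥(∐ Y) :=
      Function.isEmpty (Sigma.desc (fun i : PEmpty => i.elim) : ∐ Y ⟶ ⊥_ Scheme.{u})
    infer_instance
  | h_option ih =>
    intro Y f hf
    rename_i α _
    let Y' : α → Scheme.{u} := fun a => Y (some a)
    let c : Y none ⨿ (∐ Y') ⟶ ∐ Y :=
      coprod.desc (Sigma.ι Y none) (Sigma.desc fun a => Sigma.ι Y (some a))
    let d : ∐ Y ⟶ Y none ⨿ (∐ Y') :=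
      Sigma.desc (fun o => match o with
        | none => coprod.inl
        | some a => Sigma.ι Y' a ≫ coprod.inr)
    have hd_none : Sigma.ι Y none ≫ d = coprod.inl := Sigma.ι_desc _ _
    have hd_some : ∀ a, Sigma.ι Y (some a) ≫ d = Sigma.ι Y' a ≫ coprod.inr := fun a =>
      Sigma.ι_desc _ _
    have hc_inl : coprod.inl ≫ c = Sigma.ι Y none := coprod.inl_desc _ _
    have hc_inr : coprod.inr ≫ c = Sigma.desc fun a => Sigma.ι Y (some a) := coprod.inr_desc _ _
    have hdc : d ≫ c = 𝟙 _ := by
      refine Sigma.hom_ext _ _ fun o => ?_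
      cases o with
      | none => rw [← Category.assoc, hd_none, hc_inl, Category.comp_id]
      | some a =>
        rw [← Category.assoc, hd_some, Category.assoc, hc_inr, Category.comp_id]
        exact Sigma.ι_desc _ _
    have hcd : c ≫ d = 𝟙 _ := by
      refine coprod.hom_ext ?_ ?_
      · rw [← Category.assoc, hc_inl, hd_none, Category.comp_id]
      · rw [← Category.assoc, hc_inr, Category.comp_id]
        refine Sigma.hom_ext _ _ fun a => ?_
        rw [← Category.assoc]
        have e1 : Sigma.ι Y' a ≫ (Sigma.desc fun a => Sigma.ι Y (some a)) = Sigma.ι Y (some a) :=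
          Sigma.ι_desc _ _
        rw [e1, hd_some]
    haveI : IsIso d := ⟨c, hdc, hcd⟩
    haveI : ∀ a, IsFinite (f (some a)) := fun a => hf _
    haveI : IsFinite (f none) := hf _
    haveI : IsFinite (Sigma.desc fun a => f (some a)) := ih Y' (fun a => f (some a)) (fun a => hf _)
    have h3 : Sigma.desc f = d ≫ coprod.desc (f none) (Sigma.desc fun a => f (some a)) := by
      refine Sigma.hom_ext _ _ fun o => ?_
      cases o with
      | none =>
        rw [← Category.assoc, hd_none, Sigma.ι_desc]
        exact (coprod.inl_desc _ _).symm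
      | some a =>
        rw [← Category.assoc, hd_some, Sigma.ι_desc, Category.assoc]
        have e1 : coprod.inr ≫ coprod.desc (f none) (Sigma.desc fun a => f (some a)) =
            Sigma.desc fun a => f (some a) := coprod.inr_desc _ _
        rw [e1]
        exact (Sigma.ι_desc (fun a => f (some a)) a).symm
    rw [h3]
    exact (MorphismProperty.cancel_left_of_respectsIso @IsFinite _ _).2 inferInstance

end Sigma

section Split

variable {T : Scheme.{u}} {Q : T.Etale} {n : ℕ} (σ : ShriekSplit.Split Q (Fin n))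

include σ in
set_option backward.isDefEq.respectTransparency.types false in
set_option backward.isDefEq.respectTransparency false in
/-- a split etale scheme is finite over the base -/
theorem isFinite_of_split : IsFinite Q.hom := by
  let Z : Scheme.{u} := Q.left
  let f : Z ⟶ T := Q.hom
  haveI : Etale f := Q.prop
  let s : Fin n → (T ⟶ Z) := fun i => (σ.s i).left
  have hs : ∀ i, s i ≫ f = 𝟙 T := fun i => MorphismProperty.Over.w (σ.s i)
  haveI : ∀ i, IsOpenImmersion (s i) := fun i =>
    ShriekGeom.isOpenImmersion_of_section f (s i) (hs i)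
  have hdisj : Pairwise (Function.onFun Disjoint (fun i => Set.range (s i))) := by
    intro i k hik
    rw [Function.onFun, Set.disjoint_iff_forall_ne]
    rintro _ ⟨t, rfl⟩ _ ⟨t', ht'⟩ heq
    let O : T.Opens := (s i) ⁻¹ᵁ (s k).opensRange
    have htO : t ∈ O := ⟨t', ht'.trans heq.symm⟩
    have hr : Set.range (O.ι ≫ s i) ⊆ Set.range (s k) := by
      rintro _ ⟨o, rfl⟩
      exact o.2
    let l : (O : Scheme.{u}) ⟶ T := IsOpenImmersion.lift (s k) (O.ι ≫ s i) hr
    have hl : l ≫ s k = O.ι ≫ s i := IsOpenImmersion.lift_fac _ _ _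
    have hl' : l = O.ι := by
      have := congrArg (fun m => m ≫ f) hl
      simpa only [Category.assoc, hs, Category.comp_id] using this
    have hO : O.ι ≫ s i = O.ι ≫ s k := by rw [← hl, hl']
    let W : T.Etale := EtGlue.opn (EtCoh.top T) O
    let a : W ⟶ EtCoh.top T := EtGlue.opnι (EtCoh.top T) O
    have ha : a ≫ σ.s i = a ≫ σ.s k := EtGlue.hom_ext_of_left _ _ hO
    have := σ.disj i k hik W a a ha
    exact this.elim ⟨t, htO⟩
  haveI : IsOpenImmersion (Sigma.desc s) := isOpenImmersion_sigmaDesc (fun _ : Fin n => T) s hdisj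
  haveI : Surjective (Sigma.desc s) := Surjective.sigmaDesc_of_union_range_eq_univ (by
    ext z
    simp only [Set.mem_iUnion, Set.mem_univ, iff_true]
    exact σ.cov z)
  haveI : IsIso (Sigma.desc s) :=
    (isIso_iff_isOpenImmersion_and_surjective _).2 ⟨inferInstance, inferInstance⟩
  haveI : IsFinite (Sigma.desc (fun _ : Fin n => 𝟙 T)) :=
    isFinite_sigmaDesc (Fin n) (fun _ => T) (fun _ => 𝟙 T) (fun _ => inferInstance)
  have hfac : f = inv (Sigma.desc s) ≫ Sigma.desc (fun _ : Fin n => 𝟙 T) := by
    rw [IsIso.eq_inv_comp]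
    refine Sigma.hom_ext _ _ fun i => ?_
    rw [← Category.assoc, Sigma.ι_desc, Sigma.ι_desc, hs]
  show IsFinite f
  rw [hfac]
  infer_instance

end Split

end Groth.Agent.Lib.Helper23.SplitFinite
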