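import Groth.Prelude.Def_W4c1tameactTame
import Mathlib.RingTheory.HopfAlgebra.Convolution
import Mathlib.RingTheory.Bialgebra.TensorProduct
import Mathlib.RingTheory.HopfAlgebra.TensorProduct

open TensorProduct Coalgebra HopfAlgebra WithConv

universe u v w w'

set_option linter.unusedSectionVars false

namespace Groth.Agent.Lib.Helper23

section AntiComul
variable {k A : Type*} [CommRing k] [CommRing A] [HopfAlgebra k A]

/-- `x ⊗ y ↦ S y ⊗ S x`. -/
noncomputable def antiSwap : A ⊗[k] A →ₗ[k] A ⊗[k] A :=
  TensorProduct.map (antipode k) (antipode k) ∘ₗ (TensorProduct.comm k A A).toLinearMap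

@[simp] theorem antiSwap_tmul (x y : A) :
    antiSwap (k := k) (x ⊗ₜ[k] y) = antipode k y ⊗ₜ[k] antipode k x := by
  simp [antiSwap]

theorem comul_antipode (a : A) :
    comul (R := k) (antipode k a) = antiSwap (k := k) (comul (R := k) a) := by
  let i₁ : A →ₐ[k] A ⊗[k] A := Algebra.TensorProduct.includeLeft
  let i₂ : A →ₐ[k] A ⊗[k] A := Algebra.TensorProduct.includeRight
  have h1 : toConv (Bialgebra.comulAlgHom k A) = toConv i₁ * toConv i₂ := by
    apply WithConv.ofConv_injective
    ext a
    rw [AlgHom.convMul_apply]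
    simp [i₁, i₂]
  have h2 : (toConv (Bialgebra.comulAlgHom k A))⁻¹ = (toConv i₂)⁻¹ * (toConv i₁)⁻¹ := by
    rw [h1]
    exact mul_inv_rev (G := WithConv (A →ₐ[k] A ⊗[k] A)) _ _
  have h3 := congrArg (fun f => f.ofConv a) h2
  have h4 : ((toConv (Bialgebra.comulAlgHom k A))⁻¹).ofConv a = comul (R := k) (antipode k a) := rfl
  have h5 : ((toConv i₂)⁻¹ * (toConv i₁)⁻¹).ofConv a =
      Algebra.TensorProduct.lift (i₂.comp (antipodeAlgHom k A)) (i₁.comp (antipodeAlgHom k A))
        (fun _ _ => .all ..) (comul (R := k) a) := AlgHom.convMul_apply _ _ a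
  rw [h4, h5] at h3
  rw [h3]
  generalize comul (R := k) a = w
  induction w using TensorProduct.induction_on with
  | zero => simp
  | tmul x y => simp [i₁, i₂]
  | add x y hx hy => rw [map_add, map_add, hx, hy]

end AntiComul

section Basic

variable {k : Type u} [CommRing k] {A : Type v} [CommRing A] [HopfAlgebra k A]
variable {B : Type w} [CommRing B] [Algebra k B]
variable {M : Type w'} [AddCommGroup M] [Module k M] [Module B M] [IsScalarTower k B M]
variable (α : A →ₗ[k] B)

/-- `m ⊗ a ↦ α (S a) • m`. -/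
noncomputable def phi : M ⊗[k] A →ₗ[k] M :=
  TensorProduct.lift
    ((Algebra.lsmul k k M : B →ₐ[k] Module.End k M).toLinearMap ∘ₗ α ∘ₗ antipode k).flip

@[simp] theorem phi_tmul (m : M) (a : A) : phi α (m ⊗ₜ[k] a) = α (antipode k a) • m := by
  simp [phi]

theorem reynolds_eq [HopfRep.Comod k A M] (m : M) :
    TameAct.reynolds k A B M α m = phi α (HopfRep.Comod.coact (k := k) (A := A) m) := rfl

/-- `x ⊗ y ↦ α (S y) ⊗ S x`. -/
noncomputable def Q : A ⊗[k] A →ₗ[k] B ⊗[k] A :=
  TensorProduct.map (α ∘ₗ antipode k) (antipode k) ∘ₗ (TensorProduct.comm k A A).toLinearMap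

@[simp] theorem Q_tmul (x y : A) :
    Q α (x ⊗ₜ[k] y) = α (antipode k y) ⊗ₜ[k] antipode k x := by
  simp [Q]

theorem rTensor_comul_antipode (a : A) :
    α.rTensor A (comul (R := k) (antipode k a)) = Q α (comul (R := k) a) := by
  rw [comul_antipode]
  generalize comul (R := k) a = w
  induction w using TensorProduct.induction_on with
  | zero => simp
  | tmul x y => simp
  | add x y hx hy => rw [map_add, map_add, map_add, hx, hy]

end Basic

section Reynolds

variable {k : Type u} [CommRing k] {A : Type v} [CommRing A] [HopfAlgebra k A]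
variable {B : Type w} [CommRing B] [Algebra k B] [HopfRep.Comod k A B]
variable {M : Type w'} [AddCommGroup M] [Module k M] [Module B M] [IsScalarTower k B M]
  [HopfRep.Comod k A M] [TameAct.IsHopfMod k A B M]
variable (α : A →ₗ[k] B)

local notation "ρ" => HopfRep.Comod.coact (k := k) (A := A)

variable {α}

theorem coact_smul_antipode (hα : Hoch.IsComodHom A α) (m : M) (a : A) :
    ρ (α (antipode k a) • m) = TameAct.hmSMul k A B M (Q α (comul (R := k) a)) (ρ m) := by
  rw [TameAct.IsHopfMod.coact_smul (k := k) (A := A), ← rTensor_comul_antipode]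
  congr 2
  exact LinearMap.congr_fun hα (antipode k a)

variable (α) in
/-- `y ⊗ z ↦ (Q z) · y`. -/
noncomputable def Psi : (M ⊗[k] A) ⊗[k] (A ⊗[k] A) →ₗ[k] M ⊗[k] A :=
  TensorProduct.lift ((TameAct.hmSMul k A B M ∘ₗ Q α).flip)

@[simp] theorem Psi_tmul (y : M ⊗[k] A) (z : A ⊗[k] A) :
    Psi α (y ⊗ₜ[k] z) = TameAct.hmSMul k A B M (Q α z) y := by
  simp [Psi]

theorem coact_phi (hα : Hoch.IsComodHom A α) (y : M ⊗[k] A) :
    ρ (phi α y) = Psi α (TensorProduct.map ρ (comul (R := k) (A := A)) y) := by
  induction y using TensorProduct.induction_on with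
  | zero => simp
  | tmul m a => simp [coact_smul_antipode hα]
  | add x y hx hy => rw [map_add, map_add, map_add, map_add, hx, hy]

variable (α) in
/-- `x ⊗ w ↦ (Q w) · (m ⊗ x)`. -/
noncomputable def Gam (m : M) : A ⊗[k] (A ⊗[k] A) →ₗ[k] M ⊗[k] A :=
  Psi α ∘ₗ (TensorProduct.mk k M A m).rTensor (A ⊗[k] A)

theorem Gam_tmul (m : M) (x : A) (w : A ⊗[k] A) :
    Gam α m (x ⊗ₜ[k] w) = TameAct.hmSMul k A B M (Q α w) (m ⊗ₜ[k] x) := by
  simp [Gam]

theorem Psi_lTensor_assoc_symm (m : M) (z : A ⊗[k] A) :
    Psi α (LinearMap.lTensor (M ⊗[k] A) (comul (R := k) (A := A))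
      ((TensorProduct.assoc k M A A).symm (m ⊗ₜ[k] z))) =
    Gam α m (LinearMap.lTensor A (comul (R := k) (A := A)) z) := by
  induction z using TensorProduct.induction_on with
  | zero => simp
  | tmul x x' => simp [Gam_tmul]
  | add x y hx hy => simp only [TensorProduct.tmul_add, map_add, hx, hy]

theorem Gam_assoc (m : M) (w : A ⊗[k] A) (v : A) :
    Gam α m (TensorProduct.assoc k A A A (w ⊗ₜ[k] v)) =
      (α (antipode k v) • m) ⊗ₜ[k] (LinearMap.mul' k A (LinearMap.lTensor A (antipode k) w)) := by
  induction w using TensorProduct.induction_on with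
  | zero => simp
  | tmul x u => simp [Gam_tmul, mul_comm]
  | add x y hx hy => simp only [TensorProduct.add_tmul, TensorProduct.tmul_add, map_add, hx, hy]

theorem Gam_assoc_rTensor_comul (m : M) (z : A ⊗[k] A) :
    Gam α m (TensorProduct.assoc k A A A (LinearMap.rTensor A (comul (R := k) (A := A)) z)) =
      phi α (m ⊗ₜ[k] (TensorProduct.lid k A (LinearMap.rTensor A (counit (R := k) (A := A)) z)))
        ⊗ₜ[k] (1 : A) := by
  induction z using TensorProduct.induction_on with
  | zero => simp
  | tmul x v =>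
    simp only [LinearMap.rTensor_tmul, Gam_assoc, HopfAlgebra.mul_antipode_lTensor_comul_apply,
      TensorProduct.lid_tmul, phi_tmul, map_smul]
    rw [Algebra.algebraMap_eq_smul_one, TensorProduct.tmul_smul, smul_assoc,
      TensorProduct.smul_tmul']
  | add x y hx hy => simp only [TensorProduct.tmul_add, TensorProduct.add_tmul, map_add, hx, hy]

theorem Psi_comul_comul (y : M ⊗[k] A) :
    Psi α (LinearMap.lTensor (M ⊗[k] A) (comul (R := k) (A := A))
      ((TensorProduct.assoc k M A A).symm
        (LinearMap.lTensor M (comul (R := k) (A := A)) y))) = phi α y ⊗ₜ[k] (1 : A) := by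
  induction y using TensorProduct.induction_on with
  | zero => simp
  | tmul m a =>
    rw [LinearMap.lTensor_tmul, Psi_lTensor_assoc_symm, ← Coalgebra.coassoc_apply,
      Gam_assoc_rTensor_comul, Coalgebra.rTensor_counit_comul, TensorProduct.lid_tmul, one_smul]
  | add x y hx hy => simp only [TensorProduct.add_tmul, map_add, hx, hy]

theorem coact_reynolds (hα : Hoch.IsComodHom A α) (m : M) :
    ρ (TameAct.reynolds k A B M α m) = TameAct.reynolds k A B M α m ⊗ₜ[k] (1 : A) := by
  rw [reynolds_eq, coact_phi hα, ← Psi_comul_comul]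
  congr 1
  have hco := LinearMap.congr_fun (HopfRep.Comod.coassoc (k := k) (A := A) (V := M)) m
  simp only [LinearMap.comp_apply, LinearEquiv.coe_coe] at hco
  rw [← hco, LinearEquiv.symm_apply_apply]
  generalize ρ m = y
  induction y using TensorProduct.induction_on with
  | zero => simp
  | tmul m a => simp
  | add x y hx hy => simp only [map_add, hx, hy]

theorem reynolds_mem_fixedPts (hα : Hoch.IsComodHom A α) (m : M) :
    TameAct.reynolds k A B M α m ∈ HopfRep.fixedPts k A M :=
  coact_reynolds hα m

theorem reynolds_eq_self (hα1 : α 1 = 1) (m : M) (hm : m ∈ HopfRep.fixedPts k A M) :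
    TameAct.reynolds k A B M α m = m := by
  have hm' : ρ m = m ⊗ₜ[k] (1 : A) := hm
  rw [TameAct.reynolds_apply_of_coact_eq k A B M α m m 1 hm', HopfAlgebra.antipode_one, hα1,
    one_smul]

end Reynolds

section Functorial

variable {k : Type u} [CommRing k] {A : Type v} [CommRing A] [HopfAlgebra k A]
variable {B : Type w} [CommRing B] [Algebra k B]
variable {M : Type w'} [AddCommGroup M] [Module k M] [Module B M] [IsScalarTower k B M]
  [HopfRep.Comod k A M]
variable {N : Type*} [AddCommGroup N] [Module k N] [Module B N] [IsScalarTower k B N]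
  [HopfRep.Comod k A N]
variable (α : A →ₗ[k] B)

theorem reynolds_comm (f : M →ₗ[B] N) (hf : Hoch.IsComodHom A (f.restrictScalars k)) (m : M) :
    f (TameAct.reynolds k A B M α m) = TameAct.reynolds k A B N α (f m) := by
  have h1 : HopfRep.Comod.coact (k := k) (A := A) (f m) =
      (f.restrictScalars k).rTensor A (HopfRep.Comod.coact (k := k) (A := A) m) :=
    LinearMap.congr_fun hf m
  rw [reynolds_eq, reynolds_eq, h1]
  generalize HopfRep.Comod.coact (k := k) (A := A) m = y
  induction y using TensorProduct.induction_on with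
  | zero => simp
  | tmul m a => simp
  | add x y hx hy => simp only [map_add, hx, hy]

end Functorial

section Self

variable {k : Type u} [CommRing k] {A : Type v} [CommRing A] [HopfAlgebra k A]
variable {B : Type w} [CommRing B] [Algebra k B] [HopfRep.Comod k A B] [GLin.IsCoactAlg k A B]
variable {α : A →ₗ[k] B}

theorem hmSMul_self (x y : B ⊗[k] A) : TameAct.hmSMul k A B B x y = x * y := by
  induction x using TensorProduct.induction_on with
  | zero => simp
  | add x₁ x₂ h₁ h₂ => simp only [map_add, LinearMap.add_apply, h₁, h₂, add_mul]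
  | tmul b a =>
    induction y using TensorProduct.induction_on with
    | zero => simp
    | add y₁ y₂ h₁ h₂ => simp only [map_add, h₁, h₂, mul_add]
    | tmul b' a' => simp

instance isHopfMod_self : TameAct.IsHopfMod k A B B where
  coact_smul b m := by
    rw [hmSMul_self, smul_eq_mul, GLin.IsCoactAlg.coact_mul]

variable (k A B) in
/-- The inclusion of the invariants. -/
noncomputable abbrev incl : GLin.invariants k A B →+* B := algebraMap (GLin.invariants k A B) B

theorem reynolds_mem_invariants (hα : Hoch.IsComodHom A α) (b : B) :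
    TameAct.reynolds k A B B α b ∈ GLin.invariants k A B :=
  coact_reynolds hα b

theorem reynolds_of_mem_invariants (hα1 : α 1 = 1) (c : B) (hc : c ∈ GLin.invariants k A B) :
    TameAct.reynolds k A B B α c = c :=
  reynolds_eq_self hα1 c hc

theorem reynolds_mul_of_mem_invariants (c : B) (hc : c ∈ GLin.invariants k A B) (b : B) :
    TameAct.reynolds k A B B α (c * b) = c * TameAct.reynolds k A B B α b := by
  have hc' : HopfRep.Comod.coact (k := k) (A := A) c = c ⊗ₜ[k] (1 : A) := hc
  rw [reynolds_eq, reynolds_eq, GLin.IsCoactAlg.coact_mul, hc']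
  generalize HopfRep.Comod.coact (k := k) (A := A) b = y
  induction y using TensorProduct.induction_on with
  | zero => simp
  | tmul b' a => simp [mul_left_comm]
  | add x y hx hy => simp only [mul_add, map_add, hx, hy]

theorem reynolds_mem_of_isSubcomod (b : Ideal B)
    (hb : HopfRep.IsSubcomod (k := k) (A := A) (b.restrictScalars k)) (y : B) (hy : y ∈ b) :
    TameAct.reynolds k A B B α y ∈ b := by
  obtain ⟨z, hz⟩ := hb y hy
  rw [reynolds_eq, ← hz]
  clear hz
  induction z using TensorProduct.induction_on with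
  | zero => simp
  | tmul y' a =>
    simp only [LinearMap.rTensor_tmul, Submodule.subtype_apply, phi_tmul, smul_eq_mul]
    exact b.mul_mem_left _ y'.2
  | add x y hx hy => rw [map_add, map_add]; exact b.add_mem hx hy

theorem exists_reynolds_eq_of_mem_map (hα : Hoch.IsComodHom A α)
    (c : Ideal (GLin.invariants k A B)) (y : B)
    (hy : y ∈ c.map (algebraMap (GLin.invariants k A B) B)) :
    ∃ z ∈ c, TameAct.reynolds k A B B α y = (z : B) := by
  have hy' : y ∈ (c • (⊤ : Submodule (GLin.invariants k A B) B)) := by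
    rw [Ideal.smul_top_eq_map]; exact hy
  refine Submodule.smul_induction_on hy' ?_ ?_
  · intro r hr n _
    refine ⟨r * ⟨_, reynolds_mem_invariants hα n⟩, c.mul_mem_right _ hr, ?_⟩
    rw [Algebra.smul_def]
    exact reynolds_mul_of_mem_invariants _ r.2 n
  · intro x y hx hy
    obtain ⟨z₁, hz₁, e₁⟩ := hx
    obtain ⟨z₂, hz₂, e₂⟩ := hy
    exact ⟨z₁ + z₂, c.add_mem hz₁ hz₂, by rw [map_add, e₁, e₂]; rfl⟩

theorem comap_map_invariants (hα : Hoch.IsComodHom A α) (hα1 : α 1 = 1)
    (c : Ideal (GLin.invariants k A B)) :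
    (c.map (algebraMap (GLin.invariants k A B) B)).comap
      (algebraMap (GLin.invariants k A B) B) = c := by
  refine le_antisymm ?_ Ideal.le_comap_map
  intro x hx
  obtain ⟨z, hz, e⟩ := exists_reynolds_eq_of_mem_map hα c _ (Ideal.mem_comap.mp hx)
  have : (x : B) = z := by
    rw [← e]; exact (reynolds_of_mem_invariants hα1 _ x.2).symm
  rwa [Subtype.ext this]

end Self

end Groth.Agent.Lib.Helper23
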