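import Mathlib
import Groth.Prelude.Def_Fitting

/-!
# Fitting ideals: the flexible generator ideal `G R k x`, reindexing, adding one generator
-/

universe u v
open Matrix

namespace Helper23.Fit

variable {R : Type u} [CommRing R] {M : Type v} [AddCommGroup M] [Module R M]

/-- Relation vectors of a finite tuple. -/
def IsRel {ι : Type*} [Fintype ι] (x : ι → M) (z : ι → R) : Prop := ∑ j, z j • x j = 0

theorem IsRel.zero {ι : Type*} [Fintype ι] (x : ι → M) : IsRel x (0 : ι → R) := by
  simp [IsRel]

theorem IsRel.add {ι : Type*} [Fintype ι] {x : ι → M} {z w : ι → R} (hz : IsRel x z)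
    (hw : IsRel x w) : IsRel x (z + w) := by
  unfold IsRel at *
  simp only [Pi.add_apply, add_smul, Finset.sum_add_distrib, hz, hw, add_zero]

theorem IsRel.smul {ι : Type*} [Fintype ι] {x : ι → M} {z : ι → R} (c : R) (hz : IsRel x z) :
    IsRel x (c • z) := by
  unfold IsRel at *
  simp only [Pi.smul_apply, smul_eq_mul, mul_smul, ← Finset.smul_sum, hz, smul_zero]

variable (R) in
/-- The ideal generated by determinants of square matrices with at least `card ι - k` relation rows. -/
def G {ι : Type*} [Fintype ι] [DecidableEq ι] (k : ℕ) (x : ι → M) : Ideal R :=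
  Ideal.span {d | ∃ (a : Matrix ι ι R) (s : Finset ι), Fintype.card ι ≤ s.card + k ∧
    (∀ i ∈ s, IsRel x (a i)) ∧ d = a.det}

theorem det_mem_G {ι : Type*} [Fintype ι] [DecidableEq ι] {k : ℕ} {x : ι → M}
    (a : Matrix ι ι R) (s : Finset ι) (hs : Fintype.card ι ≤ s.card + k)
    (h : ∀ i ∈ s, IsRel x (a i)) : a.det ∈ G R k x :=
  Ideal.subset_span ⟨a, s, hs, h, rfl⟩

/-- Reindexing does not change `G`. -/
theorem G_reindex_le {ι ι' : Type*} [Fintype ι] [DecidableEq ι] [Fintype ι'] [DecidableEq ι']
    (k : ℕ) (x : ι → M) (e : ι ≃ ι') : G R k x ≤ G R k (x ∘ e.symm) := by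
  apply Ideal.span_le.mpr
  rintro d ⟨a, s, hs, h, rfl⟩
  have hdet : (a.submatrix e.symm e.symm).det = a.det := det_submatrix_equiv_self e.symm a
  rw [← hdet]
  refine det_mem_G _ (s.map e.toEmbedding) ?_ ?_
  · rw [Finset.card_map, ← Fintype.card_congr e]; exact hs
  · intro i' hi'
    obtain ⟨i, hi, rfl⟩ := Finset.mem_map.mp hi'
    have := h i hi
    unfold IsRel at *
    rw [← this]
    simp only [submatrix_apply, Equiv.coe_toEmbedding, Equiv.symm_apply_apply, Function.comp_apply]
    exact Fintype.sum_equiv e.symm _ _ (fun j => rfl)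

theorem G_reindex {ι ι' : Type*} [Fintype ι] [DecidableEq ι] [Fintype ι'] [DecidableEq ι']
    (k : ℕ) (x : ι → M) (e : ι ≃ ι') : G R k (x ∘ e.symm) = G R k x := by
  apply le_antisymm
  · have := G_reindex_le (R := R) k (x ∘ e.symm) e.symm
    simpa [Function.comp_assoc] using this
  · exact G_reindex_le k x e

/-- The bordered matrix `[[1, c], [0, a]]`. -/
def border {n : ℕ} (c : Fin n → R) (a : Matrix (Fin n) (Fin n) R) :
    Matrix (Fin (n + 1)) (Fin (n + 1)) R :=
  Matrix.of (Fin.cons (Fin.cons 1 c) (fun i => Fin.cons 0 (a i)))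

@[simp] theorem border_zero_zero {n : ℕ} (c : Fin n → R) (a : Matrix (Fin n) (Fin n) R) :
    border c a 0 0 = 1 := rfl
@[simp] theorem border_zero_succ {n : ℕ} (c : Fin n → R) (a : Matrix (Fin n) (Fin n) R)
    (j : Fin n) : border c a 0 j.succ = c j := rfl
@[simp] theorem border_succ_zero {n : ℕ} (c : Fin n → R) (a : Matrix (Fin n) (Fin n) R)
    (i : Fin n) : border c a i.succ 0 = 0 := rfl
@[simp] theorem border_succ_succ {n : ℕ} (c : Fin n → R) (a : Matrix (Fin n) (Fin n) R)
    (i j : Fin n) : border c a i.succ j.succ = a i j := rfl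

theorem det_border {n : ℕ} (c : Fin n → R) (a : Matrix (Fin n) (Fin n) R) :
    (border c a).det = a.det := by
  rw [det_succ_column_zero, Fin.sum_univ_succ]
  have h0 : (border c a).submatrix (Fin.succAbove 0) Fin.succ = a := by
    ext i j
    simp [Fin.succAbove_zero]
  rw [h0]
  simp

/-- Adding a generator which is a combination of the others: `⊇`. -/
theorem G_le_G_cons {n : ℕ} (k : ℕ) (x : Fin n → M) (c : Fin n → R) :
    G R k x ≤ G R k (Fin.cons (∑ j, c j • x j) x : Fin (n + 1) → M) := by
  apply Ideal.span_le.mpr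
  rintro d ⟨a, s, hs, h, rfl⟩
  rw [← det_border (fun j => -c j) a]
  refine det_mem_G _ (insert 0 (s.map ⟨Fin.succ, Fin.succ_injective n⟩)) ?_ ?_
  · rw [Finset.card_insert_of_notMem, Finset.card_map]
    · simp only [Fintype.card_fin] at hs ⊢
      omega
    · simp only [Finset.mem_map, Function.Embedding.coeFn_mk, not_exists, not_and]
      intro i _ hi
      exact Fin.succ_ne_zero i hi
  · intro i hi
    rcases Finset.mem_insert.mp hi with rfl | hi
    · unfold IsRel
      rw [Fin.sum_univ_succ]
      simp only [border_zero_zero, Fin.cons_zero, one_smul, border_zero_succ, Fin.cons_succ,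
        neg_smul, Finset.sum_neg_distrib, add_neg_cancel]
    · obtain ⟨i', hi', rfl⟩ := Finset.mem_map.mp hi
      have := h i' hi'
      unfold IsRel at *
      rw [Fin.sum_univ_succ]
      simp only [Function.Embedding.coeFn_mk, border_succ_zero, zero_smul, border_succ_succ, Fin.cons_succ,
        zero_add]
      exact this

/-- Adding a generator which is a combination of the others: `⊆`. -/
theorem G_cons_le_G {n : ℕ} (k : ℕ) (x : Fin n → M) (c : Fin n → R) :
    G R k (Fin.cons (∑ j, c j • x j) x : Fin (n + 1) → M) ≤ G R k x := by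
  apply Ideal.span_le.mpr
  rintro d ⟨b, s', hs', h, rfl⟩
  set y := ∑ j, c j • x j with hy
  -- column operation
  let U : Matrix (Fin (n + 1)) (Fin (n + 1)) R := border c 1
  have hU : U.det = 1 := by rw [det_border, det_one]
  set b' := b * U with hb'
  have hdet : b'.det = b.det := by rw [hb', det_mul, hU, mul_one]
  have hb'0 : ∀ i, b' i 0 = b i 0 := by
    intro i
    rw [hb', mul_apply, Fin.sum_univ_succ]
    simp [U]
  have hb's : ∀ i j, b' i (Fin.succ j) = b i 0 * c j + b i j.succ := by
    intro i j
    rw [hb', mul_apply, Fin.sum_univ_succ]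
    simp only [U, border_zero_succ, border_succ_succ, one_apply]
    simp
  have hrel : ∀ i ∈ s', ∑ l, b' i (Fin.succ l) • x l = 0 := by
    intro i hi
    have := h i hi
    unfold IsRel at this
    rw [Fin.sum_univ_succ] at this
    simp only [Fin.cons_zero, Fin.cons_succ] at this
    simp_rw [hb's, add_smul, Finset.sum_add_distrib, mul_smul, ← Finset.smul_sum]
    rw [← hy]
    exact this
  rw [← hdet, det_succ_column_zero]
  apply Ideal.sum_mem
  intro i _
  apply Ideal.mul_mem_left
  refine det_mem_G _ (Finset.univ.filter fun j => i.succAbove j ∈ s') ?_ ?_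
  · have hsub : s' ⊆ insert i ((Finset.univ.filter fun j => i.succAbove j ∈ s').map
        (Fin.succAboveEmb i)) := by
      intro r hr
      by_cases hri : r = i
      · rw [hri]; exact Finset.mem_insert_self _ _
      · obtain ⟨j, rfl⟩ := Fin.exists_succAbove_eq hri
        apply Finset.mem_insert_of_mem
        exact Finset.mem_map.mpr ⟨j, Finset.mem_filter.mpr ⟨Finset.mem_univ _, hr⟩, rfl⟩
    have hcard := Finset.card_le_card hsub
    have h2 := Finset.card_insert_le i ((Finset.univ.filter fun j => i.succAbove j ∈ s').map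
        (Fin.succAboveEmb i))
    rw [Finset.card_map] at h2
    simp only [Fintype.card_fin] at hs' ⊢
    omega
  · intro j hj
    have hj' : i.succAbove j ∈ s' := (Finset.mem_filter.mp hj).2
    unfold IsRel
    simp only [submatrix_apply]
    exact hrel _ hj'

theorem G_cons {n : ℕ} (k : ℕ) (x : Fin n → M) (c : Fin n → R) :
    G R k (Fin.cons (∑ j, c j • x j) x : Fin (n + 1) → M) = G R k x :=
  le_antisymm (G_cons_le_G k x c) (G_le_G_cons k x c)

end Helper23.Fit
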