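import Mathlib
import Groth.Prelude.Def_Fitting
import Groth.Agent.Lib.Helper23.Fitting1

/-!
# Fitting ideals: independence of the generating tuple, `Fitt.ideal = G`
-/

universe u v
open Matrix

namespace Helper23.Fit

variable {R : Type u} [CommRing R] {M : Type v} [AddCommGroup M] [Module R M]

theorem G_cons_of_mem {n : ℕ} (k : ℕ) (x : Fin n → M) (y : M)
    (hy : y ∈ Submodule.span R (Set.range x)) :
    G R k (Fin.cons y x : Fin (n + 1) → M) = G R k x := by
  obtain ⟨c, rfl⟩ := (Submodule.mem_span_range_iff_exists_fun R).mp hy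
  exact G_cons k x c

theorem G_cast {n n' : ℕ} (h : n = n') (k : ℕ) (x : Fin n' → M) :
    G R k (x ∘ Fin.cast h) = G R k x := by
  subst h
  rfl

theorem G_append {n : ℕ} (k : ℕ) (x : Fin n → M) (hx : Submodule.span R (Set.range x) = ⊤) :
    ∀ (m : ℕ) (x' : Fin m → M), G R k (Fin.append x' x) = G R k x
  | 0, x' => by
    have : x' = Fin.elim0 := Subsingleton.elim _ _
    rw [this, Fin.elim0_append, G_cast]
  | m + 1, x' => by
    rw [← Fin.cons_self_tail x', Fin.append_cons, G_cast, G_cons_of_mem,
      G_append k x hx m (Fin.tail x')]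
    have hle : Submodule.span R (Set.range x) ≤
        Submodule.span R (Set.range (Fin.append (Fin.tail x') x)) := by
      apply Submodule.span_mono
      rintro _ ⟨i, rfl⟩
      exact ⟨Fin.natAdd m i, Fin.append_right _ _ i⟩
    rw [hx] at hle
    exact hle Submodule.mem_top

theorem append_flip {n m : ℕ} (x : Fin n → M) (x' : Fin m → M) :
    Fin.append x x' = Fin.append x' x ∘ (finAddFlip (m := m) (n := n)).symm := by
  funext i
  refine Fin.addCases (fun l => ?_) (fun r => ?_) i
  · have : (finAddFlip (m := m) (n := n)).symm (Fin.castAdd m l) = Fin.natAdd m l := by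
      rw [Equiv.symm_apply_eq, finAddFlip_apply_natAdd]
    rw [Function.comp_apply, this, Fin.append_left, Fin.append_right]
  · have : (finAddFlip (m := m) (n := n)).symm (Fin.natAdd n r) = Fin.castAdd n r := by
      rw [Equiv.symm_apply_eq, finAddFlip_apply_castAdd]
    rw [Function.comp_apply, this, Fin.append_left, Fin.append_right]

/-- `G` does not depend on the generating tuple. -/
theorem G_indep {n m : ℕ} (k : ℕ) (x : Fin n → M) (x' : Fin m → M)
    (hx : Submodule.span R (Set.range x) = ⊤) (hx' : Submodule.span R (Set.range x') = ⊤) :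
    G R k x = G R k x' := by
  rw [← G_append k x hx m x', ← G_append k x' hx' n x, append_flip x x', G_reindex]

theorem ideal_le_G {n : ℕ} (k : ℕ) (x : Fin n → M)
    (hx : Submodule.span R (Set.range x) = ⊤) : Fitt.ideal R M k ≤ G R k x := by
  apply Ideal.span_le.mpr
  rintro d ⟨n', x', a, hx', h, rfl⟩
  rw [G_indep k x x' hx hx']
  refine det_mem_G a (Finset.univ.filter fun i : Fin n' => (i : ℕ) < n' - k) ?_ ?_
  · rw [Fin.card_filter_val_lt, Fintype.card_fin]
    omega
  · intro i hi
    exact h i (Finset.mem_filter.mp hi).2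

theorem G_le_ideal {n : ℕ} (k : ℕ) (x : Fin n → M)
    (hx : Submodule.span R (Set.range x) = ⊤) : G R k x ≤ Fitt.ideal R M k := by
  apply Ideal.span_le.mpr
  rintro d ⟨a, s, hs, h, rfl⟩
  rw [Fintype.card_fin] at hs
  -- choose a permutation moving the first `n - k` indices into `s`
  let t : Finset (Fin n) := Finset.univ.filter fun i : Fin n => (i : ℕ) < n - k
  have ht : t.card = n - k := by
    rw [Fin.card_filter_val_lt]; omega
  obtain ⟨s', hs's, hs'card⟩ := Finset.exists_subset_card_eq (s := s) (n := n - k) (by omega)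
  let e0 : {i // i ∈ t} ≃ {i // i ∈ s'} := Finset.equivOfCardEq (by rw [ht, hs'card])
  let σ : Equiv.Perm (Fin n) := e0.extendSubtype
  have hσ : ∀ i : Fin n, (i : ℕ) < n - k → σ i ∈ s := by
    intro i hi
    have hit : i ∈ t := Finset.mem_filter.mpr ⟨Finset.mem_univ _, hi⟩
    have : σ i = e0 ⟨i, hit⟩ := Equiv.extendSubtype_apply_of_mem e0 i hit
    rw [this]
    exact hs's (e0 ⟨i, hit⟩).2
  apply Ideal.subset_span
  refine ⟨n, x ∘ σ, a.submatrix σ σ, ?_, ?_, ?_⟩
  · rw [EquivLike.range_comp]; exact hx
  · intro i hi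
    have := h (σ i) (hσ i hi)
    unfold IsRel at this
    rw [← this]
    simp only [submatrix_apply, Function.comp_apply]
    exact Fintype.sum_equiv σ _ _ (fun j => rfl)
  · exact (det_submatrix_equiv_self σ a).symm

/-- The prelude's Fitting ideal is `G` of any generating tuple. -/
theorem ideal_eq_G {n : ℕ} (k : ℕ) (x : Fin n → M)
    (hx : Submodule.span R (Set.range x) = ⊤) : Fitt.ideal R M k = G R k x :=
  le_antisymm (ideal_le_G k x hx) (G_le_ideal k x hx)

end Helper23.Fit
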