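import Mathlib
import Groth.Prelude.Def_Fitting
import Groth.Agent.Lib.Helper23.Fitting2

/-!
# Fitting ideals: description by minors of the relation matrix
-/

universe u v
open Matrix

namespace Helper23.Fit

variable {R : Type u} [CommRing R] {M : Type v} [AddCommGroup M] [Module R M]

/-- A multilinear map with values in a submodule on tuples from `W` has values in it on tuples
from the span of `W`. -/
theorem multilinear_span {ι : Type*} [Fintype ι] [DecidableEq ι] {N P : Type*}
    [AddCommGroup N] [Module R N] [AddCommGroup P] [Module R P]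
    (f : MultilinearMap R (fun _ : ι => N) P) (W : Set N) (J : Submodule R P)
    (hW : ∀ v : ι → N, (∀ i, v i ∈ W) → f v ∈ J) :
    ∀ v : ι → N, (∀ i, v i ∈ Submodule.span R W) → f v ∈ J := by
  have key : ∀ T : Finset ι, ∀ v : ι → N, (∀ i ∈ T, v i ∈ Submodule.span R W) →
      (∀ i, i ∉ T → v i ∈ W) → f v ∈ J := by
    intro T
    induction T using Finset.induction_on with
    | empty =>
      intro v _ h
      exact hW v (fun i => h i (Finset.notMem_empty i))
    | insert b T' hb ih =>
      intro v h1 h2
      have hgen : ∀ y ∈ Submodule.span R W, f (Function.update v b y) ∈ J := by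
        intro y hy
        induction hy using Submodule.span_induction with
        | mem y hy =>
          apply ih
          · intro i hi
            have hib : i ≠ b := fun h => hb (h ▸ hi)
            rw [Function.update_of_ne hib]
            exact h1 i (Finset.mem_insert_of_mem hi)
          · intro i hi
            by_cases hib : i = b
            · subst hib; rw [Function.update_self]; exact hy
            · rw [Function.update_of_ne hib]
              exact h2 i (fun h => (Finset.mem_insert.mp h).elim hib hi)
        | zero => rw [f.map_update_zero]; exact J.zero_mem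
        | add y y' _ _ h h' => rw [f.map_update_add]; exact J.add_mem h h'
        | smul c y _ h => rw [f.map_update_smul]; exact J.smul_mem c h
      have := hgen (v b) (h1 b (Finset.mem_insert_self b T'))
      rwa [Function.update_eq_self] at this
  intro v hv
  exact key Finset.univ v (fun i _ => hv i) (fun i hi => (hi (Finset.mem_univ i)).elim)

variable (R) in
/-- The ideal of `m × m` minors of relation matrices of the tuple `x`. -/
def Mn {n : ℕ} (m : ℕ) (x : Fin n → M) : Ideal R :=
  Ideal.span {d | ∃ (z : Fin m → (Fin n → R)) (e : Fin m → Fin n),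
    (∀ j, IsRel x (z j)) ∧ d = (Matrix.of fun a b => z b (e a)).det}

theorem det_extend {n m : ℕ} (z : Fin m → (Fin n → R)) (e : Fin m → Fin n)
    (he : Function.Injective e) :
    ∃ A : Matrix (Fin n) (Fin n) R, (∀ b, A (e b) = z b) ∧
      A.det = (Matrix.of fun a b => z b (e a)).det := by
  classical
  let p : Fin n → Prop := fun i => i ∈ Set.range e
  let A : Matrix (Fin n) (Fin n) R := fun i =>
    if h : p i then z h.choose else Pi.single i 1
  have hA1 : ∀ b, A (e b) = z b := by
    intro b
    have hp : p (e b) := ⟨b, rfl⟩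
    have : hp.choose = b := he hp.choose_spec
    simp only [A, dif_pos hp, this]
  have hA2 : ∀ i, ¬ p i → A i = Pi.single i 1 := by
    intro i hi
    simp only [A, dif_neg hi]
  refine ⟨A, hA1, ?_⟩
  rw [twoBlockTriangular_det A p]
  · have h2 : (toSquareBlockProp A fun i => ¬ p i) = 1 := by
      ext ⟨i, hi⟩ ⟨j, hj⟩
      rw [toSquareBlockProp_def]
      simp only [of_apply, hA2 i hi, one_apply, Pi.single_apply, Subtype.mk_eq_mk]
      simp only [eq_comm]
    rw [h2, det_one, mul_one]
    let E : Fin m ≃ {i // p i} := Equiv.ofInjective e he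
    have h3 : ((toSquareBlockProp A p).submatrix E E).det =
        (Matrix.of fun a b => z b (e a)).det := by
      rw [← det_transpose]
      congr 1
      ext a b
      simp only [transpose_apply, submatrix_apply, toSquareBlockProp_def, of_apply]
      have : ((E b : {i // p i}) : Fin n) = e b := congrArg Subtype.val (Equiv.ofInjective_apply e he b)
      rw [this, hA1 b]
      have : ((E a : {i // p i}) : Fin n) = e a := congrArg Subtype.val (Equiv.ofInjective_apply e he a)
      rw [this]
    rw [← h3]
    convert (det_submatrix_equiv_self E (toSquareBlockProp A p)).symm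
  · intro i hi j hj
    rw [hA2 i hi]
    have : j ≠ i := fun h => hi (h ▸ hj)
    exact Pi.single_eq_of_ne this 1

theorem Mn_le_G {n m k : ℕ} (hn : n ≤ m + k) (x : Fin n → M) : Mn R m x ≤ G R k x := by
  classical
  apply Ideal.span_le.mpr
  rintro d ⟨z, e, hz, rfl⟩
  by_cases he : Function.Injective e
  · obtain ⟨A, hA1, hA2⟩ := det_extend z e he
    rw [← hA2]
    refine det_mem_G A (Finset.univ.image e) ?_ ?_
    · rw [Finset.card_image_of_injective _ he, Finset.card_univ, Fintype.card_fin, Fintype.card_fin]
      exact hn
    · intro i hi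
      obtain ⟨b, _, rfl⟩ := Finset.mem_image.mp hi
      rw [hA1 b]
      exact hz b
  · have : ∃ a a', a ≠ a' ∧ e a = e a' := by
      by_contra hcon
      push Not at hcon
      exact he (fun a a' h => by_contra fun hne => hcon a a' hne h)
    obtain ⟨a, a', hne, haa'⟩ := this
    have : (Matrix.of fun a b => z b (e a)).det = 0 := by
      apply det_zero_of_row_eq hne
      ext b
      simp only [of_apply, haa']
    rw [this]
    exact Ideal.zero_mem _

theorem det_mem_Mn_aux {n m : ℕ} (x : Fin n → M) :
    ∀ (l : ℕ) (b : Matrix (Fin (m + l)) (Fin (m + l)) R) (c : Fin (m + l) → Fin n)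
      (s : Finset (Fin (m + l))), s.card = m →
      (∀ i ∈ s, ∃ w : Fin n → R, IsRel x w ∧ ∀ j, b i j = w (c j)) → b.det ∈ Mn R m x
  | 0, b, c, s, hs, h => by
    have hs' : s = Finset.univ := by
      apply Finset.eq_univ_of_card
      rw [hs, Fintype.card_fin]; rfl
    choose! w hw using h
    have hw' : ∀ i, IsRel x (w i) ∧ ∀ j, b i j = w i (c j) := fun i =>
      hw i (by rw [hs']; exact Finset.mem_univ i)
    have hb : b = (Matrix.of fun a b' => w b' (c a))ᵀ := by
      ext i j
      simp only [transpose_apply, of_apply, (hw' i).2 j]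
    rw [hb, det_transpose]
    exact Ideal.subset_span ⟨w, c, fun j => (hw' j).1, rfl⟩
  | l + 1, b, c, s, hs, h => by
    have hex : ∃ r, r ∉ s := by
      by_contra hcon
      push Not at hcon
      have : s = Finset.univ := Finset.eq_univ_iff_forall.mpr hcon
      rw [this, Finset.card_univ, Fintype.card_fin] at hs
      omega
    obtain ⟨r, hr⟩ := hex
    rw [det_succ_row b r]
    apply Ideal.sum_mem
    intro j _
    apply Ideal.mul_mem_left
    let s' : Finset (Fin (m + l)) := Finset.univ.filter fun i => r.succAbove i ∈ s
    have hs'map : s'.map (Fin.succAboveEmb r) = s := by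
      ext i
      simp only [Finset.mem_map, Finset.mem_filter, Finset.mem_univ, true_and, s',
        Fin.succAboveEmb_apply]
      constructor
      · rintro ⟨i', hi', rfl⟩; exact hi'
      · intro hi
        have hir : i ≠ r := fun h => hr (h ▸ hi)
        obtain ⟨i', rfl⟩ := Fin.exists_succAbove_eq hir
        exact ⟨i', hi, rfl⟩
    refine det_mem_Mn_aux x l (b.submatrix r.succAbove j.succAbove) (c ∘ j.succAbove) s' ?_ ?_
    · calc s'.card = (s'.map (Fin.succAboveEmb r)).card := (Finset.card_map _).symm
        _ = s.card := by rw [hs'map]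
        _ = m := hs
    · intro i hi
      have hi' : r.succAbove i ∈ s := (Finset.mem_filter.mp hi).2
      obtain ⟨w, hw1, hw2⟩ := h _ hi'
      exact ⟨w, hw1, fun j' => hw2 _⟩

theorem G_le_Mn {n m k : ℕ} (hmk : m + k = n) (x : Fin n → M) : G R k x ≤ Mn R m x := by
  subst hmk
  apply Ideal.span_le.mpr
  rintro d ⟨a, s, hs, h, rfl⟩
  rw [Fintype.card_fin] at hs
  obtain ⟨s', hs's, hs'card⟩ := Finset.exists_subset_card_eq (s := s) (n := m) (by omega)
  exact det_mem_Mn_aux x k a id s' hs'card (fun i hi => ⟨a i, h i (hs's hi), fun j => rfl⟩)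

theorem Mn_zero {n : ℕ} (x : Fin n → M) : Mn R 0 x = ⊤ := by
  rw [Ideal.eq_top_iff_one]
  apply Ideal.subset_span
  refine ⟨Fin.elim0, Fin.elim0, fun j => j.elim0, ?_⟩
  rw [det_isEmpty]

theorem G_eq_top {n k : ℕ} (hk : n ≤ k) (x : Fin n → M) : G R k x = ⊤ := by
  rw [Ideal.eq_top_iff_one]
  have := det_mem_G (R := R) (k := k) (x := x) (1 : Matrix (Fin n) (Fin n) R) ∅
    (by simpa using hk) (fun i hi => (Finset.notMem_empty i hi).elim)
  rwa [det_one] at this

theorem G_eq_Mn {n : ℕ} (k : ℕ) (x : Fin n → M) : G R k x = Mn R (n - k) x := by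
  by_cases hk : k ≤ n
  · exact le_antisymm (G_le_Mn (by omega) x) (Mn_le_G (by omega) x)
  · have h0 : n - k = 0 := by omega
    rw [h0, Mn_zero, G_eq_top (by omega)]

/-- The Fitting ideal as the ideal of minors of relation matrices of any generating tuple. -/
theorem ideal_eq_Mn {n : ℕ} (k : ℕ) (x : Fin n → M)
    (hx : Submodule.span R (Set.range x) = ⊤) : Fitt.ideal R M k = Mn R (n - k) x := by
  rw [ideal_eq_G k x hx, G_eq_Mn]

end Helper23.Fit
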