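import Mathlib
import Groth.Prelude.Def_Fitting
import Groth.Agent.Lib.Helper23.Fitting3

/-!
# Fitting ideals: generators of the relation module suffice; finite generation; monotonicity
-/

universe u v
open Matrix

namespace Helper23.Fit

variable {R : Type u} [CommRing R] {M : Type v} [AddCommGroup M] [Module R M]

theorem isRel_iff_mem_ker {ι : Type*} [Fintype ι] (x : ι → M) (z : ι → R) :
    IsRel x z ↔ z ∈ LinearMap.ker (Fintype.linearCombination R x) := by
  rw [LinearMap.mem_ker, Fintype.linearCombination_apply]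
  rfl

/-- The multilinear map `z ↦ det (z b (e a))`. -/
noncomputable def detML {n m : ℕ} (e : Fin m → Fin n) :
    MultilinearMap R (fun _ : Fin m => Fin n → R) R :=
  (Matrix.detRowAlternating (R := R) (n := Fin m)).toMultilinearMap.compLinearMap
    (fun _ => LinearMap.funLeft R R e)

theorem detML_apply {n m : ℕ} (e : Fin m → Fin n) (z : Fin m → (Fin n → R)) :
    detML e z = (Matrix.of fun a b => z b (e a)).det := by
  rw [← det_transpose]
  rfl

/-- To generate the minors ideal it suffices to take rows from a generating set of the relation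
module. -/
theorem Mn_eq_of_span {n m : ℕ} (x : Fin n → M) (W : Set (Fin n → R))
    (hW : Submodule.span R W = LinearMap.ker (Fintype.linearCombination R x)) :
    Mn R m x = Ideal.span {d | ∃ (z : Fin m → (Fin n → R)) (e : Fin m → Fin n),
      (∀ j, z j ∈ W) ∧ d = (Matrix.of fun a b => z b (e a)).det} := by
  apply le_antisymm
  · apply Ideal.span_le.mpr
    rintro d ⟨z, e, hz, rfl⟩
    rw [← detML_apply]
    refine multilinear_span (detML e) W _ ?_ z ?_
    · intro v hv
      rw [detML_apply]
      exact Ideal.subset_span ⟨v, e, hv, rfl⟩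
    · intro i
      rw [hW, ← isRel_iff_mem_ker]
      exact hz i
  · apply Ideal.span_mono
    rintro d ⟨z, e, hz, rfl⟩
    refine ⟨z, e, fun j => ?_, rfl⟩
    rw [isRel_iff_mem_ker, ← hW]
    exact Submodule.subset_span (hz j)

theorem Mn_fg_of_fg {n m : ℕ} (x : Fin n → M)
    (hK : (LinearMap.ker (Fintype.linearCombination R x)).FG) : (Mn R m x).FG := by
  obtain ⟨q, w, hw⟩ := Submodule.fg_iff_exists_fin_generating_family.mp hK
  rw [Mn_eq_of_span x (Set.range w) hw]
  apply Submodule.fg_span
  let F : (Fin m → Fin q) × (Fin m → Fin n) → R := fun te =>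
    (Matrix.of fun a b => w (te.1 b) (te.2 a)).det
  apply Set.Finite.subset (Set.finite_range F)
  rintro d ⟨z, e, hz, rfl⟩
  choose t ht using hz
  refine ⟨(t, e), ?_⟩
  simp only [F, ht]

theorem ideal_fg_of_finitePresentation [Module.FinitePresentation R M] (k : ℕ) :
    (Fitt.ideal R M k).FG := by
  obtain ⟨n, x, hx⟩ := Module.Finite.exists_fin (R := R) (M := M)
  rw [ideal_eq_Mn k x hx]
  apply Mn_fg_of_fg
  apply Module.FinitePresentation.fg_ker
  rw [← LinearMap.range_eq_top, Fintype.range_linearCombination, hx]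

theorem ideal_eq_top_of_le {n k : ℕ} (x : Fin n → M)
    (hx : Submodule.span R (Set.range x) = ⊤) (hk : n ≤ k) : Fitt.ideal R M k = ⊤ := by
  rw [ideal_eq_G k x hx, G_eq_top hk]

theorem ideal_mono_of_surjective {M' : Type*} [AddCommGroup M'] [Module R M']
    (f : M →ₗ[R] M') (hf : Function.Surjective f) (k : ℕ) :
    Fitt.ideal R M k ≤ Fitt.ideal R M' k := by
  apply Ideal.span_le.mpr
  rintro d ⟨n, x, a, hx, h, rfl⟩
  apply Ideal.subset_span
  refine ⟨n, f ∘ x, a, ?_, ?_, rfl⟩
  · rw [Set.range_comp, ← Submodule.map_span, hx, Submodule.map_top,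
      LinearMap.range_eq_top.mpr hf]
  · intro i hi
    have := congrArg f (h i hi)
    simpa [map_sum] using this

end Helper23.Fit
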