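import Mathlib
import Groth.Prelude.Def_Fitting
import Groth.Agent.Lib.Helper23.Fitting4

/-!
# Fitting ideals: `Fit_0` versus the annihilator and the support; `Fit_0 (R/I) = I`
-/

universe u v
open Matrix

namespace Helper23.Fit

variable {R : Type u} [CommRing R] {M : Type v} [AddCommGroup M] [Module R M]

/-- Cramer: if all rows of `a` are relations among the `x j`, then `det a` kills every `x j`. -/
theorem det_smul_eq_zero {n : ℕ} (x : Fin n → M) (a : Matrix (Fin n) (Fin n) R)
    (h : ∀ i, IsRel x (a i)) (j : Fin n) : a.det • x j = 0 := by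
  have h1 : ∑ i, (a.adjugate * a) j i • x i = a.det • x j := by
    rw [adjugate_mul]
    simp [Matrix.smul_apply, Matrix.one_apply, mul_ite, ite_smul]
  rw [← h1]
  simp_rw [Matrix.mul_apply, Finset.sum_smul, mul_smul]
  rw [Finset.sum_comm]
  simp_rw [← Finset.smul_sum]
  apply Finset.sum_eq_zero
  intro l _
  have := h l
  unfold IsRel at this
  rw [this, smul_zero]

theorem ideal_zero_le_annihilator : Fitt.ideal R M 0 ≤ Module.annihilator R M := by
  apply Ideal.span_le.mpr
  rintro d ⟨n, x, a, hx, h, rfl⟩
  have hrel : ∀ i, IsRel x (a i) := fun i => h i (by simp)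
  rw [SetLike.mem_coe, Module.mem_annihilator]
  intro m
  have hm : m ∈ Submodule.span R (Set.range x) := by rw [hx]; trivial
  induction hm using Submodule.span_induction with
  | mem y hy =>
    obtain ⟨j, rfl⟩ := hy
    exact det_smul_eq_zero x a hrel j
  | zero => simp
  | add y y' _ _ h h' => rw [smul_add, h, h', add_zero]
  | smul c y _ h => rw [smul_comm, h, smul_zero]

theorem pow_mem_ideal_zero_of_mem_annihilator {n : ℕ} (x : Fin n → M)
    (hx : Submodule.span R (Set.range x) = ⊤) (r : R) (hr : r ∈ Module.annihilator R M) :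
    r ^ n ∈ Fitt.ideal R M 0 := by
  rw [ideal_eq_G 0 x hx]
  have := det_mem_G (R := R) (k := 0) (x := x) (r • (1 : Matrix (Fin n) (Fin n) R)) Finset.univ
    (by simp) (fun i _ => by
      unfold IsRel
      simp only [Matrix.smul_apply, Matrix.one_apply, smul_eq_mul, mul_ite, mul_one, mul_zero,
        ite_smul, zero_smul, Finset.sum_ite_eq, Finset.mem_univ, if_true]
      exact Module.mem_annihilator.mp hr _)
  simpa [det_smul] using this

theorem zeroLocus_ideal_zero [Module.Finite R M] :
    PrimeSpectrum.zeroLocus (Fitt.ideal R M 0 : Set R) = Module.support R M := by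
  rw [Module.support_eq_zeroLocus]
  apply le_antisymm
  · intro p hp
    rw [PrimeSpectrum.mem_zeroLocus] at hp ⊢
    obtain ⟨n, x, hx⟩ := Module.Finite.exists_fin (R := R) (M := M)
    intro r hr
    have := hp (pow_mem_ideal_zero_of_mem_annihilator x hx r hr)
    exact p.2.mem_of_pow_mem n this
  · exact PrimeSpectrum.zeroLocus_anti_mono ideal_zero_le_annihilator

theorem ideal_zero_quotient (I : Ideal R) : Fitt.ideal R (R ⧸ I) 0 = I := by
  let x : Fin 1 → R ⧸ I := fun _ => 1
  have hx : Submodule.span R (Set.range x) = ⊤ := by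
    rw [Submodule.eq_top_iff']
    intro y
    obtain ⟨r, rfl⟩ := Ideal.Quotient.mk_surjective y
    have : (Ideal.Quotient.mk I r) = r • (1 : R ⧸ I) := by
      rw [Algebra.smul_def, mul_one]; rfl
    rw [this]
    exact Submodule.smul_mem _ _ (Submodule.subset_span ⟨0, rfl⟩)
  rw [ideal_eq_G 0 x hx]
  apply le_antisymm
  · apply Ideal.span_le.mpr
    rintro d ⟨a, s, hs, h, rfl⟩
    have h0 : (0 : Fin 1) ∈ s := by
      have : s.Nonempty := by
        rw [← Finset.card_pos]
        simp only [Fintype.card_fin] at hs
        omega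
      obtain ⟨i, hi⟩ := this
      rwa [Subsingleton.elim 0 i]
    have := h 0 h0
    unfold IsRel at this
    rw [Fin.sum_univ_one] at this
    rw [det_fin_one]
    have h2 : a 0 0 • x 0 = Ideal.Quotient.mk I (a 0 0) := by
      simp only [x, Algebra.smul_def, mul_one]; rfl
    rw [h2, Ideal.Quotient.eq_zero_iff_mem] at this
    exact this
  · intro r hr
    have := det_mem_G (R := R) (k := 0) (x := x) (Matrix.of fun _ _ => r) {0}
      (by simp) (fun i _ => by
        unfold IsRel
        rw [Fin.sum_univ_one]
        have h2 : r • x 0 = Ideal.Quotient.mk I r := by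
          simp only [x, Algebra.smul_def, mul_one]; rfl
        simp only [of_apply, h2]
        exact Ideal.Quotient.eq_zero_iff_mem.mpr hr)
    rwa [det_fin_one] at this

end Helper23.Fit
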