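import Mathlib

/-!
# Kaplansky dévissage: abstract tools

* `iSupIndep_of_rank`: a family of submodules indexed (injectively) into a linear order, each
  disjoint from the span of the earlier ones, is independent.
* `isInternal_of_chain`: a well-ordered chain `N x` with complements `C x` of `⨆ y < x, N y` in
  `N x` gives an internal direct sum decomposition by the `C x`.
-/

namespace Groth.Agent.Lib.Helper23.Kap

variable {R : Type*} [CommRing R] {M : Type*} [AddCommGroup M] [Module R M]

theorem iSupIndep_of_rank {ι : Type*} {S : Type*} [LinearOrder S] (rk : ι → S)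
    (hrk : Function.Injective rk) (C : ι → Submodule R M)
    (h : ∀ i, Disjoint (C i) (⨆ (j : ι) (_ : rk j < rk i), C j)) : iSupIndep C := by
  classical
  rw [iSupIndep_iff_finsetSum_eq_zero_imp_eq_zero]
  intro s
  induction s using Finset.induction_on_max_value rk with
  | empty => intro v _ _ i hi; simp at hi
  | insert a s has hmax ih =>
    intro v hv hsum
    rw [Finset.sum_insert has] at hsum
    have h1 : ∑ i ∈ s, v i ∈ ⨆ (j : ι) (_ : rk j < rk a), C j := by
      refine Submodule.sum_mem _ fun i hi => ?_
      have hlt : rk i < rk a := lt_of_le_of_ne (hmax i hi)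
        (fun e => has (by rw [← hrk e]; exact hi))
      exact Submodule.mem_iSup_of_mem i (Submodule.mem_iSup_of_mem hlt
        (hv i (Finset.mem_insert_of_mem hi)))
    have h2 : v a ∈ ⨆ (j : ι) (_ : rk j < rk a), C j := by
      have : v a = -∑ i ∈ s, v i := eq_neg_of_add_eq_zero_left hsum
      rw [this]
      exact Submodule.neg_mem _ h1
    have h3 : v a = 0 := by
      have := (Submodule.disjoint_def.mp (h a)) (v a) (hv a (Finset.mem_insert_self a s)) h2
      exact this
    rw [h3, zero_add] at hsum
    have h4 := ih v (fun i hi => hv i (Finset.mem_insert_of_mem hi)) hsum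
    intro i hi
    rcases Finset.mem_insert.mp hi with rfl | hi
    · exact h3
    · exact h4 i hi

theorem isInternal_of_chain {X : Type*} [LinearOrder X] [WellFoundedLT X]
    (N C : X → Submodule R M) (htop : ⨆ x, N x = ⊤)
    (hdisj : ∀ x, Disjoint (⨆ (y : X) (_ : y < x), N y) (C x))
    (hsup : ∀ x, (⨆ (y : X) (_ : y < x), N y) ⊔ C x = N x) :
    iSupIndep C ∧ ⨆ x, C x = ⊤ := by
  have hCN : ∀ x, C x ≤ N x := fun x => by rw [← hsup x]; exact le_sup_right
  refine ⟨?_, ?_⟩
  · refine iSupIndep_of_rank (fun x => x) Function.injective_id C fun x => ?_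
    refine (hdisj x).symm.mono_right ?_
    exact iSup₂_mono fun y _ => hCN y
  · rw [eq_top_iff, ← htop]
    refine iSup_le fun x => ?_
    induction x using WellFoundedLT.induction with
    | ind x ih =>
      rw [← hsup x]
      refine sup_le (iSup₂_le fun y hy => ih y hy) (le_iSup C x)

end Groth.Agent.Lib.Helper23.Kap

namespace Groth.Agent.Lib.Helper23.Kap

variable {R : Type*} [CommRing R] {M : Type*} [AddCommGroup M] [Module R M]

/-- variant of `isInternal_of_chain` computing the span of the complements -/
theorem isInternal_of_chain' {X : Type*} [LinearOrder X] [WellFoundedLT X]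
    (N C : X → Submodule R M)
    (hdisj : ∀ x, Disjoint (⨆ (y : X) (_ : y < x), N y) (C x))
    (hsup : ∀ x, (⨆ (y : X) (_ : y < x), N y) ⊔ C x = N x) :
    iSupIndep C ∧ ⨆ x, C x = ⨆ x, N x := by
  have hCN : ∀ x, C x ≤ N x := fun x => by rw [← hsup x]; exact le_sup_right
  refine ⟨?_, le_antisymm (iSup_mono hCN) ?_⟩
  · refine iSupIndep_of_rank (fun x => x) Function.injective_id C fun x => ?_
    refine (hdisj x).symm.mono_right ?_
    exact iSup₂_mono fun y _ => hCN y
  · refine iSup_le fun x => ?_
    induction x using WellFoundedLT.induction with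
    | ind x ih =>
      rw [← hsup x]
      refine sup_le (iSup₂_le fun y hy => ih y hy) (le_iSup C x)

end Groth.Agent.Lib.Helper23.Kap
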