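import Mathlib
import Groth.Agent.Lib.Helper23.Kap1

/-!
# Kaplansky dévissage ⇒ internal direct sum
-/

namespace Groth.Agent.Lib.Helper23.Kap

variable {R : Type*} [CommRing R] {M : Type*} [AddCommGroup M] [Module R M]

/-- a complement `C` of `A` inside `B` is isomorphic to `B/A` -/
noncomputable def complEquivQuot (A B C : Submodule R M) (h1 : A ⊓ C = ⊥) (h2 : A ⊔ C = B) :
    C ≃ₗ[R] (↥B ⧸ Submodule.comap B.subtype A) := by
  have hCB : C ≤ B := h2 ▸ le_sup_right
  refine LinearEquiv.ofBijective ((Submodule.mkQ _) ∘ₗ (Submodule.inclusion hCB)) ⟨?_, ?_⟩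
  · rw [← LinearMap.ker_eq_bot, LinearMap.ker_eq_bot']
    intro c hc
    rw [LinearMap.comp_apply, Submodule.mkQ_apply, Submodule.Quotient.mk_eq_zero] at hc
    have hcA : (c : M) ∈ A := hc
    have : (c : M) ∈ A ⊓ C := ⟨hcA, c.2⟩
    rw [h1] at this
    exact Subtype.ext ((Submodule.mem_bot R).mp this)
  · intro q
    obtain ⟨b, rfl⟩ := Submodule.Quotient.mk_surjective _ q
    have hb : (b : M) ∈ A ⊔ C := h2 ▸ b.2
    obtain ⟨a, ha, c, hc, hac⟩ := Submodule.mem_sup.mp hb
    refine ⟨⟨c, hc⟩, ?_⟩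
    rw [LinearMap.comp_apply, Submodule.mkQ_apply, Submodule.Quotient.eq]
    show ((⟨c, hCB hc⟩ : B) - b : B).1 ∈ A
    have : ((⟨c, hCB hc⟩ : B) - b : B).1 = -a := by
      show c - (b : M) = -a
      rw [← hac]; abel
    rw [this]
    exact A.neg_mem ha

section Devissage
variable {S : Type*} [LinearOrder S] [WellFoundedLT S] (Mf : S → Submodule R M)
  (hmono : Monotone Mf)
  (hlim : ∀ s : S, Order.IsSuccPrelimit s → Mf s = ⨆ t : {t : S // t < s}, Mf t.1)
  (htop : (⨆ s, Mf s) = ⊤)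
  (C : {p : S × S // p.1 ⋖ p.2} → Submodule R M)
  (hC1 : ∀ p, Mf p.1.1 ⊓ C p = ⊥) (hC2 : ∀ p, Mf p.1.1 ⊔ C p = Mf p.1.2)
include hmono hlim htop hC1 hC2

theorem devissage_internal : iSupIndep C ∧ ⨆ p, C p = ⊤ := by
  have hCM : ∀ p, C p ≤ Mf p.1.2 := fun p => by rw [← hC2 p]; exact le_sup_right
  refine ⟨?_, ?_⟩
  · refine iSupIndep_of_rank (fun p => p.1.2) ?_ C fun p => ?_
    · intro p q hpq
      have h1 : p.1.1 = q.1.1 := by
        have hp := p.2
        have hq := q.2
        simp only at hpq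
        rw [hpq] at hp
        exact hp.unique_left hq
      exact Subtype.ext (Prod.ext h1 hpq)
    · have hle : (⨆ (q : {p : S × S // p.1 ⋖ p.2}) (_ : q.1.2 < p.1.2), C q) ≤ Mf p.1.1 := by
        refine iSup₂_le fun q hq => ?_
        exact (hCM q).trans (hmono (p.2.le_of_lt hq))
      rw [disjoint_iff, eq_bot_iff, ← hC1 p]
      exact le_inf (inf_le_right.trans hle) inf_le_left
  · rw [eq_top_iff, ← htop]
    refine iSup_le fun t => ?_
    induction t using WellFoundedLT.induction with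
    | ind t ih =>
      by_cases ht : Order.IsSuccPrelimit t
      · rw [hlim t ht]
        exact iSup_le fun t' => ih t'.1 t'.2
      · rw [Order.IsSuccPrelimit] at ht
        push_neg at ht
        obtain ⟨s, hst⟩ := ht
        rw [← hC2 ⟨(s, t), hst⟩]
        exact sup_le (ih s hst.lt) (le_iSup C _)

end Devissage

end Groth.Agent.Lib.Helper23.Kap
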