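import Mathlib
import Groth.Prelude.Def_Found
import Groth.Agent.Lib.Helper23.Kap2

/-!
# Countably generated modules: basic permanence
-/

namespace Groth.Agent.Lib.Helper23.Kap

universe u
variable {R : Type u} [CommRing R]

theorem cg_of_surjective {A B : Type u} [AddCommGroup A] [Module R A] [AddCommGroup B] [Module R B]
    (f : A →ₗ[R] B) (hf : Function.Surjective f) (hA : CAlg.IsCountablyGenerated R A) :
    CAlg.IsCountablyGenerated R B := by
  obtain ⟨s, hs, hspan⟩ := hA
  refine ⟨f '' s, hs.image f, ?_⟩
  rw [← Submodule.map_span, hspan, Submodule.map_top, LinearMap.range_eq_top.mpr hf]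

theorem cg_of_equiv {A B : Type u} [AddCommGroup A] [Module R A] [AddCommGroup B] [Module R B]
    (e : A ≃ₗ[R] B) (hA : CAlg.IsCountablyGenerated R A) : CAlg.IsCountablyGenerated R B :=
  cg_of_surjective e.toLinearMap e.surjective hA

variable {M : Type u} [AddCommGroup M] [Module R M]

/-- a submodule is countably generated (as a module) iff it is the span of a countable set -/
theorem cg_submodule_iff (N : Submodule R M) :
    CAlg.IsCountablyGenerated R N ↔ ∃ s : Set M, s.Countable ∧ Submodule.span R s = N := by
  constructor
  · rintro ⟨s, hs, hspan⟩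
    refine ⟨N.subtype '' s, hs.image _, ?_⟩
    rw [← Submodule.map_span, hspan, Submodule.map_top, Submodule.range_subtype]
  · rintro ⟨s, hs, rfl⟩
    refine ⟨(Submodule.span R s).subtype ⁻¹' s, ?_, ?_⟩
    · exact hs.preimage_of_injOn (Submodule.injective_subtype _).injOn
    · apply Submodule.map_injective_of_injective (Submodule.injective_subtype (Submodule.span R s))
      rw [Submodule.map_span, Submodule.map_top, Submodule.range_subtype,
        Set.image_preimage_eq_of_subset]
      rw [Submodule.coe_subtype, Subtype.range_coe]
      exact Submodule.subset_span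

/-- countable sup of countably generated submodules -/
theorem cg_biSup {ι : Type*} (T : Set ι) (hT : T.Countable) (N : ι → Submodule R M)
    (hN : ∀ i ∈ T, CAlg.IsCountablyGenerated R (N i)) :
    CAlg.IsCountablyGenerated R ↥(⨆ i ∈ T, N i) := by
  rw [cg_submodule_iff]
  have h : ∀ i : T, ∃ s : Set M, s.Countable ∧ Submodule.span R s = N i.1 :=
    fun i => (cg_submodule_iff _).mp (hN i.1 i.2)
  choose s hs hspan using h
  haveI : Countable T := hT.to_subtype
  refine ⟨⋃ i : T, s i, Set.countable_iUnion hs, ?_⟩
  rw [Submodule.span_iUnion, iSup_subtype']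
  exact iSup_congr hspan

/-- the image of a countably generated submodule is countably generated -/
theorem cg_map {M' : Type u} [AddCommGroup M'] [Module R M'] (f : M →ₗ[R] M') (N : Submodule R M)
    (hN : CAlg.IsCountablyGenerated R N) : CAlg.IsCountablyGenerated R ↥(N.map f) := by
  rw [cg_submodule_iff] at hN ⊢
  obtain ⟨s, hs, rfl⟩ := hN
  exact ⟨f '' s, hs.image f, (Submodule.map_span f s).symm⟩

end Groth.Agent.Lib.Helper23.Kap
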