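import Mathlib
import Groth.Prelude.Def_Found
import Groth.Agent.Lib.Helper23.Kap3

/-!
# Kaplansky's theorem: a direct summand of a direct sum of countably generated modules is a
direct sum of countably generated modules
-/

namespace Groth.Agent.Lib.Helper23.Kap

universe u
variable {R : Type u} [CommRing R] {M : Type u} [AddCommGroup M] [Module R M]

section
variable {I : Type u} (Mi : I → Submodule R M)

/-- partial sums -/
def MJ (J : Set I) : Submodule R M := ⨆ i ∈ J, Mi i

theorem MJ_mono {J J' : Set I} (h : J ⊆ J') : MJ Mi J ≤ MJ Mi J' :=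
  biSup_mono h

theorem MJ_iUnion {κ : Sort*} (T : κ → Set I) : MJ Mi (⋃ k, T k) = ⨆ k, MJ Mi (T k) :=
  iSup_iUnion _ _

theorem MJ_union (A B : Set I) : MJ Mi (A ∪ B) = MJ Mi A ⊔ MJ Mi B :=
  iSup_union

theorem le_MJ {J : Set I} {i : I} (hi : i ∈ J) : Mi i ≤ MJ Mi J :=
  le_biSup Mi hi

variable (e : M →ₗ[R] M)

/-- dependency closedness -/
def Closed (dep : I → Set I) (J : Set I) : Prop := ∀ i ∈ J, dep i ⊆ J

variable {Mi e}

theorem exists_dep (htop : ⨆ i, Mi i = ⊤) (hcg : ∀ i, CAlg.IsCountablyGenerated R (Mi i)) :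
    ∃ dep : I → Set I, (∀ i, (dep i).Countable) ∧
      ∀ i, (Mi i).map e ≤ MJ Mi (dep i) := by
  classical
  have h : ∀ i, ∃ D : Set I, D.Countable ∧ (Mi i).map e ≤ MJ Mi D := by
    intro i
    obtain ⟨s, hs, hspan⟩ := (cg_submodule_iff _).mp (hcg i)
    have hF : ∀ m : M, ∃ F : Finset I, e m ∈ ⨆ j ∈ F, Mi j := by
      intro m
      have : e m ∈ ⨆ j, Mi j := by rw [htop]; trivial
      exact (Submodule.mem_iSup_iff_exists_finset).mp this
    choose F hF using hF
    refine ⟨⋃ m ∈ s, (F m : Set I), hs.biUnion fun m _ => (F m).countable_toSet, ?_⟩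
    rw [← hspan, Submodule.map_span, Submodule.span_le]
    rintro _ ⟨m, hm, rfl⟩
    have hsub : ((F m : Set I)) ⊆ ⋃ m ∈ s, (F m : Set I) :=
      Set.subset_biUnion_of_mem (u := fun m => (F m : Set I)) hm
    exact MJ_mono Mi hsub (hF m)
  choose dep h1 h2 using h
  exact ⟨dep, h1, h2⟩

theorem map_le_of_closed {dep : I → Set I} (hdep : ∀ i, (Mi i).map e ≤ MJ Mi (dep i))
    {J : Set I} (hJ : Closed dep J) : (MJ Mi J).map e ≤ MJ Mi J := by
  rw [MJ, Submodule.map_iSup]
  refine iSup_le fun i => ?_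
  rw [Submodule.map_iSup]
  refine iSup_le fun hi => ?_
  exact (hdep i).trans (MJ_mono Mi (hJ i hi))

/-- levels of the dependency closure -/
def lev (dep : I → Set I) (x : I) : ℕ → Set I
  | 0 => {x}
  | n + 1 => ⋃ a ∈ lev dep x n, dep a

/-- dependency closure of a point -/
def cl (dep : I → Set I) (x : I) : Set I := ⋃ n, lev dep x n

theorem mem_cl (dep : I → Set I) (x : I) : x ∈ cl dep x :=
  Set.mem_iUnion.mpr ⟨0, rfl⟩

theorem cl_countable {dep : I → Set I} (hdep : ∀ i, (dep i).Countable) (x : I) :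
    (cl dep x).Countable := by
  refine Set.countable_iUnion fun n => ?_
  induction n with
  | zero => exact Set.countable_singleton x
  | succ n ih => exact ih.biUnion fun a _ => hdep a

theorem cl_closed (dep : I → Set I) (x : I) : Closed dep (cl dep x) := by
  intro i hi j hj
  obtain ⟨n, hn⟩ := Set.mem_iUnion.mp hi
  exact Set.mem_iUnion.mpr ⟨n + 1, Set.mem_biUnion hn hj⟩

theorem closed_iUnion {dep : I → Set I} {κ : Sort*} {T : κ → Set I} (h : ∀ k, Closed dep (T k)) :
    Closed dep (⋃ k, T k) := by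
  intro i hi
  obtain ⟨k, hk⟩ := Set.mem_iUnion.mp hi
  exact (h k i hk).trans (Set.subset_iUnion T k)


theorem isCompl_MJ (hind : iSupIndep Mi) (htop : ⨆ i, Mi i = ⊤) (A : Set I) :
    IsCompl (MJ Mi A) (MJ Mi Aᶜ) := by
  constructor
  · exact hind.disjoint_biSup_biSup disjoint_compl_right
  · rw [codisjoint_iff, ← MJ_union, Set.union_compl_self, MJ]
    simpa using htop

theorem summand_step (hind : iSupIndep Mi) (htop : ⨆ i, Mi i = ⊤) (he : e ∘ₗ e = e)
    {dep : I → Set I} (hdep : ∀ i, (Mi i).map e ≤ MJ Mi (dep i)) (A T : Set I)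
    (hA : Closed dep A) :
    ∃ C : Submodule R M, Disjoint ((MJ Mi A).map e) C ∧
      (MJ Mi A).map e ⊔ C = (MJ Mi (A ∪ T)).map e ∧ ∃ f : M →ₗ[R] M, C = (MJ Mi T).map f := by
  have hee : ∀ m, e (e m) = e m := fun m => LinearMap.congr_fun he m
  have hc := isCompl_MJ hind htop A
  let π : M →ₗ[R] M := (MJ Mi A).subtype ∘ₗ Submodule.projectionOnto _ _ hc
  have hπ1 : ∀ m ∈ MJ Mi A, π m = m := by
    intro m hm
    show ((Submodule.projectionOnto _ _ hc m : MJ Mi A) : M) = m
    have := Submodule.projectionOnto_apply_left hc ⟨m, hm⟩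
    exact congrArg Subtype.val this
  have hπ2 : ∀ m, π m ∈ MJ Mi A := fun m => (Submodule.projectionOnto _ _ hc m).2
  have hAe : ∀ m ∈ MJ Mi A, e m ∈ MJ Mi A := fun m hm =>
    map_le_of_closed hdep hA (Submodule.mem_map_of_mem hm)
  let ρ : M →ₗ[R] M := e ∘ₗ π
  have hρ1 : ∀ n ∈ (MJ Mi A).map e, ρ n = n := by
    rintro _ ⟨a, ha, rfl⟩
    show e (π (e a)) = e a
    rw [hπ1 _ (hAe a ha), hee]
  have hρ2 : ∀ m, ρ m ∈ (MJ Mi A).map e := fun m => Submodule.mem_map_of_mem (hπ2 m)
  let f : M →ₗ[R] M := (LinearMap.id - ρ) ∘ₗ e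
  have hf : ∀ c, f c = e c - ρ (e c) := fun c => rfl
  refine ⟨(MJ Mi T).map f, ?_, ?_, f, rfl⟩
  · rw [Submodule.disjoint_def]
    rintro z hz ⟨c, hc, rfl⟩
    have h1 : ρ (f c) = f c := hρ1 _ hz
    have h2 : ρ (f c) = 0 := by
      rw [hf, map_sub, hρ1 _ (hρ2 (e c)), sub_self]
    rw [← h1, h2]
  · apply le_antisymm
    · refine sup_le (Submodule.map_mono (MJ_mono Mi Set.subset_union_left)) ?_
      rintro _ ⟨c, hc, rfl⟩
      rw [hf]
      refine Submodule.sub_mem _ ?_ ?_
      · exact Submodule.mem_map_of_mem (MJ_mono Mi Set.subset_union_right hc)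
      · exact Submodule.map_mono (MJ_mono Mi Set.subset_union_left) (hρ2 _)
    · rw [MJ_union, Submodule.map_sup]
      refine sup_le le_sup_left ?_
      rintro _ ⟨c, hc, rfl⟩
      have : e c = ρ (e c) + f c := by rw [hf]; abel
      rw [this]
      exact Submodule.add_mem _ (Submodule.mem_sup_left (hρ2 _))
        (Submodule.mem_sup_right (Submodule.mem_map_of_mem hc))

/-- **Kaplansky**: the image of an idempotent endomorphism of a direct sum of countably generated
modules is a direct sum of countably generated modules. -/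
theorem kaplansky (hind : iSupIndep Mi) (htop : ⨆ i, Mi i = ⊤)
    (hcg : ∀ i, CAlg.IsCountablyGenerated R (Mi i)) (he : e ∘ₗ e = e) :
    ∃ C : I → Submodule R M, iSupIndep C ∧ ⨆ x, C x = LinearMap.range e ∧
      ∀ x, CAlg.IsCountablyGenerated R (C x) := by
  obtain ⟨dep, hdepc, hdep⟩ := exists_dep (e := e) htop hcg
  obtain ⟨lo, wf⟩ := exists_wellFoundedLT (α := I)
  let Jlt : I → Set I := fun x => ⋃ y : {y : I // y < x}, cl dep y.1
  let J : I → Set I := fun x => Jlt x ∪ cl dep x
  have hJlt_closed : ∀ x, Closed dep (Jlt x) := fun x =>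
    closed_iUnion fun y => cl_closed dep y.1
  have hJmono : ∀ y x, y < x → J y ⊆ Jlt x := by
    intro y x hyx
    refine Set.union_subset ?_ ?_
    · exact Set.iUnion_subset fun z =>
        Set.subset_iUnion (fun y : {y : I // y < x} => cl dep y.1) ⟨z.1, z.2.trans hyx⟩
    · exact Set.subset_iUnion (fun y : {y : I // y < x} => cl dep y.1) ⟨y, hyx⟩
  let N : I → Submodule R M := fun x => (MJ Mi (J x)).map e
  have hNlt : ∀ x, (⨆ (y : I) (_ : y < x), N y) = (MJ Mi (Jlt x)).map e := by
    intro x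
    apply le_antisymm
    · exact iSup₂_le fun y hy => Submodule.map_mono (MJ_mono Mi (hJmono y x hy))
    · rw [MJ_iUnion, Submodule.map_iSup]
      refine iSup_le fun y => ?_
      refine le_trans ?_ (le_iSup₂ (f := fun (y : I) (_ : y < x) => N y) y.1 y.2)
      exact Submodule.map_mono (MJ_mono Mi Set.subset_union_right)
  have hstep := fun x => summand_step hind htop he hdep (Jlt x) (cl dep x) (hJlt_closed x)
  choose C hC1 hC2 hC3 using hstep
  have key := isInternal_of_chain' N C (fun x => by rw [hNlt x]; exact hC1 x)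
    (fun x => by rw [hNlt x]; exact hC2 x)
  refine ⟨C, key.1, ?_, fun x => ?_⟩
  · rw [key.2]
    apply le_antisymm
    · exact iSup_le fun x => (Submodule.map_mono le_top).trans (by rw [Submodule.map_top])
    · rw [← Submodule.map_top, ← htop, Submodule.map_iSup]
      refine iSup_le fun x => le_trans ?_ (le_iSup N x)
      exact Submodule.map_mono (le_MJ Mi (Set.mem_union_right _ (mem_cl dep x)))
  · obtain ⟨f, hf⟩ := hC3 x
    rw [hf]
    exact cg_map f _ (cg_biSup _ (cl_countable hdepc x) Mi fun i _ => hcg i)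

end

end Groth.Agent.Lib.Helper23.Kap
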