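import Groth.Agent.Lib.Helper23.MLLim

/-!
# Countably generated Mittag-Leffler modules
-/

set_option autoImplicit false
universe u

open TensorProduct

namespace Groth.Agent.Lib.Helper23.ML

variable {R : Type u} [CommRing R]

/-- Two linear maps on `Finsupp.supported R R s` agreeing on the `single i 1` are equal. -/
theorem ext_supported {α : Type*} {s : Set α} {Q : Type*} [AddCommGroup Q] [Module R Q]
    (u v : Finsupp.supported R R s →ₗ[R] Q)
    (h : ∀ (i : α) (hi : i ∈ s),
      u ⟨Finsupp.single i 1, Finsupp.single_mem_supported R 1 hi⟩ =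
      v ⟨Finsupp.single i 1, Finsupp.single_mem_supported R 1 hi⟩) : u = v := by
  let e := Finsupp.supportedEquivFinsupp (M := R) (R := R) s
  have h1 : u ∘ₗ e.symm.toLinearMap = v ∘ₗ e.symm.toLinearMap := by
    apply Finsupp.lhom_ext
    intro a b
    have hs : (Finsupp.single a b : s →₀ R) = b • Finsupp.single a 1 := by
      rw [Finsupp.smul_single, smul_eq_mul, mul_one]
    have h2 : e.symm (Finsupp.single a 1) =
        ⟨Finsupp.single a.1 1, Finsupp.single_mem_supported R 1 a.2⟩ := by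
      apply Subtype.ext
      exact Finsupp.supportedEquivFinsupp_symm_single s a 1
    simp only [LinearMap.comp_apply, LinearEquiv.coe_coe]
    rw [hs, map_smul, map_smul, map_smul, h2, h a.1 a.2]
  ext x
  have := LinearMap.congr_fun h1 (e x)
  simpa using this

/-- Factor a map through a surjection killing more. -/
theorem exists_factor {F M Q : Type*} [AddCommGroup F] [Module R F] [AddCommGroup M] [Module R M]
    [AddCommGroup Q] [Module R Q] (π : F →ₗ[R] M) (hπ : Function.Surjective π) (B : F →ₗ[R] Q)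
    (h : ∀ x, π x = 0 → B x = 0) : ∃ b : M →ₗ[R] Q, ∀ x, b (π x) = B x := by
  refine ⟨(LinearMap.ker π).liftQ B (fun x hx => h x hx) ∘ₗ
    (π.quotKerEquivOfSurjective hπ).symm.toLinearMap, fun x => ?_⟩
  have h1 : (π.quotKerEquivOfSurjective hπ).symm (π x) = Submodule.Quotient.mk x := by
    rw [LinearEquiv.symm_apply_eq]
    rfl
  simp only [LinearMap.comp_apply, LinearEquiv.coe_coe, h1]
  rfl

/-- Domination implies containment of kernels. -/
theorem ker_le_of_dominates {P M Q : Type u} [AddCommGroup P] [Module R P] [AddCommGroup M]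
    [Module R M] [AddCommGroup Q] [Module R Q] (f : P →ₗ[R] M) (g : P →ₗ[R] Q)
    (h : ∀ (N : Type u) [AddCommGroup N] [Module R N],
      LinearMap.ker (f.rTensor N) ≤ LinearMap.ker (g.rTensor N)) :
    LinearMap.ker f ≤ LinearMap.ker g := by
  intro x hx
  rw [LinearMap.mem_ker] at hx ⊢
  have h2 := @h R _ _ (x ⊗ₜ[R] (1 : R)) (by
    rw [LinearMap.mem_ker, LinearMap.rTensor_tmul, hx, TensorProduct.zero_tmul])
  rw [LinearMap.mem_ker, LinearMap.rTensor_tmul] at h2
  have h3 := congrArg (TensorProduct.rid R Q) h2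
  simpa using h3

/-- The exhaustion of `ℕ →₀ R` by finite free submodules. -/
def Fl (R : Type u) [CommRing R] (n l : ℕ) : Submodule R (ℕ →₀ R) :=
  Finsupp.supported R R (Set.Iio (n + l))

theorem Fl_le (n : ℕ) {l l' : ℕ} (h : l ≤ l') : Fl R n l ≤ Fl R n l' :=
  Finsupp.supported_mono (Set.Iio_subset_Iio (by omega))

instance Fl_fp (n l : ℕ) : Module.FinitePresentation R (Fl R n l) := by
  have e := (Finsupp.supportedEquivFinsupp (M := R) (R := R) (Set.Iio (n + l))).symm
  exact Module.FinitePresentation.of_equiv (R := R) (M := (↑(Set.Iio (n + l)) →₀ R))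
    (N := ↥(Finsupp.supported R R (Set.Iio (n + l)))) e

/-- The inclusion of one stage into the next. -/
noncomputable def inc (R : Type u) [CommRing R] (n l : ℕ) : Fl R n l →ₗ[R] Fl R n (l + 1) :=
  Submodule.inclusion (Fl_le n (Nat.le_succ l))

theorem single_mem_Fl (n i : ℕ) : Finsupp.single i (1 : R) ∈ Fl R n (i + 1) :=
  Finsupp.single_mem_supported R 1 (show i < n + (i + 1) by omega)

theorem exists_mem_Fl (n : ℕ) (x : ℕ →₀ R) : ∃ l, x ∈ Fl R n l := by
  refine ⟨x.support.sup id + 1, ?_⟩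
  rw [Fl, Finsupp.mem_supported]
  intro i hi
  have : i ≤ x.support.sup id := Finset.le_sup (f := id) hi
  show i < n + (x.support.sup id + 1)
  omega

section Tower

variable (n : ℕ) (Q : ℕ → Type u) [∀ l, AddCommGroup (Q l)] [∀ l, Module R (Q l)]
  (g : ∀ l, Fl R n l →ₗ[R] Q l) (sl : ∀ l, Q (l + 1) →ₗ[R] Q l)

/-- The composite retractions `Q l → Q 0`. -/
noncomputable def bTower : ∀ l, Q l →ₗ[R] Q 0
  | 0 => LinearMap.id
  | (l + 1) => bTower l ∘ₗ sl l

/-- The stage maps `F l → Q 0`. -/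
noncomputable def BTower (l : ℕ) : Fl R n l →ₗ[R] Q 0 := bTower Q sl l ∘ₗ g l

variable (hsl : ∀ l, g l = sl l ∘ₗ (g (l + 1) ∘ₗ inc R n l))
include hsl

theorem BTower_inc (l : ℕ) : BTower n Q g sl (l + 1) ∘ₗ inc R n l = BTower n Q g sl l := by
  show (bTower Q sl (l + 1) ∘ₗ g (l + 1)) ∘ₗ inc R n l = bTower Q sl l ∘ₗ g l
  conv_rhs => rw [hsl l]
  rfl

theorem BTower_inclusion (l l' : ℕ) (hll : l ≤ l') (x : Fl R n l) :
    BTower n Q g sl l' (Submodule.inclusion (Fl_le n hll) x) = BTower n Q g sl l x := by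
  induction l', hll using Nat.le_induction with
  | base => rfl
  | succ l' hll ih =>
    rw [← ih, ← BTower_inc n Q g sl hsl l']
    rfl

/-- The glued map. -/
noncomputable def BGlue : (ℕ →₀ R) →ₗ[R] Q 0 :=
  Finsupp.linearCombination R fun i => BTower n Q g sl (i + 1) ⟨Finsupp.single i 1, single_mem_Fl n i⟩

theorem BGlue_comp (l : ℕ) : BGlue n Q g sl ∘ₗ (Fl R n l).subtype = BTower n Q g sl l := by
  apply ext_supported
  intro i hi
  show BGlue n Q g sl (Finsupp.single i 1) = _
  rw [BGlue, Finsupp.linearCombination_single, one_smul]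
  rcases le_total (i + 1) l with h1 | h1
  · exact (BTower_inclusion n Q g sl hsl (i + 1) l h1 ⟨Finsupp.single i 1, single_mem_Fl n i⟩).symm
  · exact BTower_inclusion n Q g sl hsl l (i + 1) h1
      ⟨Finsupp.single i 1, Finsupp.single_mem_supported R 1 hi⟩

theorem BGlue_apply (l : ℕ) (x : ℕ →₀ R) (hx : x ∈ Fl R n l) :
    BGlue n Q g sl x = bTower Q sl l (g l ⟨x, hx⟩) :=
  LinearMap.congr_fun (BGlue_comp n Q g sl hsl l) ⟨x, hx⟩

end Tower

/-- Stacks 059Y-like: for a countably generated Mittag-Leffler module `M` and `f : P → M` with `P` finite,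
there is an endomorphism of `M` factoring through a finitely presented module and fixing `f`. -/
theorem exists_endo {M : Type u} [AddCommGroup M] [Module R M]
    (hML : ∀ (ι : Type u) (Q : ι → Type u) [∀ i, AddCommGroup (Q i)] [∀ i, Module R (Q i)],
      Function.Injective (TensorProduct.piRightHom R R M Q))
    (hc : ∃ s : Set M, s.Countable ∧ Submodule.span R s = ⊤)
    {P : Type u} [AddCommGroup P] [Module R P] [Module.Finite R P] (f : P →ₗ[R] M) :
    ∃ (Q : Type u) (_ : AddCommGroup Q) (_ : Module R Q) (_ : Module.FinitePresentation R Q)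
      (b : M →ₗ[R] Q) (c : Q →ₗ[R] M), (c ∘ₗ b) ∘ₗ f = f := by
  classical
  obtain ⟨s, hs_c, hs_span⟩ := hc
  obtain ⟨n, p, hp⟩ := Module.Finite.exists_fin (R := R) (M := P)
  -- enumerate generators
  have hs' : (s ∪ {0}).Countable := hs_c.union (Set.countable_singleton 0)
  obtain ⟨e, he⟩ := hs'.exists_eq_range ⟨0, Or.inr rfl⟩
  obtain ⟨m, hm_lt, hm_span⟩ : ∃ m : ℕ → M, (∀ (i : ℕ) (h : i < n), m i = f (p ⟨i, h⟩)) ∧
      Submodule.span R (Set.range m) = ⊤ := by
    refine ⟨fun i => if h : i < n then f (p ⟨i, h⟩) else e (i - n), fun i h => dif_pos h, ?_⟩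
    rw [eq_top_iff, ← hs_span]
    apply Submodule.span_mono
    intro x hx
    have : x ∈ Set.range e := by rw [← he]; exact Or.inl hx
    obtain ⟨k, rfl⟩ := this
    refine ⟨n + k, ?_⟩
    show (if h : n + k < n then f (p ⟨n + k, h⟩) else e (n + k - n)) = e k
    rw [dif_neg (by omega)]
    congr 1
    omega
  obtain ⟨π, hπdef⟩ : ∃ π : (ℕ →₀ R) →ₗ[R] M, π = Finsupp.linearCombination R m := ⟨_, rfl⟩
  have hπ : Function.Surjective π := by
    rw [hπdef, ← LinearMap.range_eq_top, Finsupp.range_linearCombination, hm_span]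
  have hπ_single : ∀ i, π (Finsupp.single i 1) = m i := fun i => by
    rw [hπdef, Finsupp.linearCombination_single, one_smul]
  -- Theorem A at each stage
  have hA := fun l => exists_dominating_of_ML (P := ↥(Fl R n l)) hML (π ∘ₗ (Fl R n l).subtype)
  choose Q iQ1 iQ2 iQ3 g h hfac hker using hA
  have hπinc : ∀ l, (π ∘ₗ (Fl R n (l + 1)).subtype) ∘ₗ inc R n l = π ∘ₗ (Fl R n l).subtype :=
    fun l => LinearMap.ext fun x => rfl
  have hs : ∀ l, ∃ sl : Q (l + 1) →ₗ[R] Q l, g l = sl ∘ₗ (g (l + 1) ∘ₗ inc R n l) := by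
    intro l
    haveI : Module.FinitePresentation R (Q (l + 1) ⧸ LinearMap.range (g (l + 1) ∘ₗ inc R n l)) :=
      Module.finitePresentation_of_surjective (LinearMap.range (g (l + 1) ∘ₗ inc R n l)).mkQ
        (Submodule.mkQ_surjective _)
        (by rw [Submodule.ker_mkQ, ← Module.Finite.iff_fg]; exact Module.Finite.range _)
    apply (Groth.Agent.S6359.result R (M := ↥(Fl R n l)) (N := Q (l + 1)) (M' := Q l)
      (g (l + 1) ∘ₗ inc R n l) (g l)).mp
    intro N _ _ y hy
    rw [← hker l N]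
    rw [LinearMap.mem_ker] at hy ⊢
    rw [← hπinc l, hfac (l + 1), LinearMap.comp_assoc, LinearMap.rTensor_comp_apply, hy, map_zero]
  choose sl hsl using hs
  have hkerg := fun l => ker_le_of_dominates _ _ (fun N _ _ => le_of_eq (hker l N))
  have hkill : ∀ x : ℕ →₀ R, π x = 0 → BGlue n Q g sl x = 0 := by
    intro x hx
    obtain ⟨l, hxl⟩ := exists_mem_Fl (R := R) n x
    have h2 : g l ⟨x, hxl⟩ = 0 := hkerg l (x := ⟨x, hxl⟩) hx
    rw [BGlue_apply n Q g sl hsl l x hxl, h2, map_zero]
  obtain ⟨b, hb⟩ := exists_factor π hπ (BGlue n Q g sl) hkill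
  refine ⟨Q 0, iQ1 0, iQ2 0, iQ3 0, b, h 0, ?_⟩
  apply LinearMap.ext_on_range hp
  intro i
  have hmem : Finsupp.single (i : ℕ) (1 : R) ∈ Fl R n 0 :=
    Finsupp.single_mem_supported R 1 (show (i : ℕ) < n + 0 from i.2)
  have h1 : f (p i) = π (Finsupp.single (i : ℕ) 1) := by rw [hπ_single, hm_lt i i.2]
  simp only [LinearMap.comp_apply]
  rw [h1, hb, BGlue_apply n Q g sl hsl 0 _ hmem]
  exact (LinearMap.congr_fun (hfac 0) ⟨_, hmem⟩).symm

end Groth.Agent.Lib.Helper23.ML
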