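import Mathlib
import Groth.Prelude.Def_Found
import Groth.Agent.Lib.Helper23.MLCount

/-!
# Flat + Mittag-Leffler + countably generated ⇒ projective (Stacks 059Z)
-/

namespace Groth.Agent.Lib.Helper23.Kap

universe u
variable {R : Type u} [CommRing R]

/-- a pointwise eventually vanishing sequence of linear maps can be summed -/
theorem exists_sum_linear {M N : Type*} [AddCommGroup M] [Module R M] [AddCommGroup N] [Module R N]
    (g : ℕ → M →ₗ[R] N) (hfin : ∀ y, ∃ n0, ∀ n, n0 ≤ n → g n y = 0) :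
    ∃ h : M →ₗ[R] N, ∀ y n0, (∀ n, n0 ≤ n → g n y = 0) →
      h y = ∑ n ∈ Finset.range n0, g n y := by
  classical
  let T : M → N := fun y => ∑ n ∈ Finset.range (Nat.find (hfin y)), g n y
  have hT : ∀ y n0, (∀ n, n0 ≤ n → g n y = 0) → T y = ∑ n ∈ Finset.range n0, g n y := by
    intro y n0 hn0
    have hle : Nat.find (hfin y) ≤ n0 := Nat.find_min' (hfin y) hn0
    show ∑ n ∈ Finset.range (Nat.find (hfin y)), g n y = ∑ n ∈ Finset.range n0, g n y
    apply Finset.sum_subset_zero_on_sdiff (Finset.range_subset_range.mpr hle)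
    · intro n hn
      rw [Finset.mem_sdiff, Finset.mem_range, Finset.mem_range, not_lt] at hn
      exact Nat.find_spec (hfin y) n hn.2
    · intro n _; rfl
  refine ⟨{ toFun := T, map_add' := ?_, map_smul' := ?_ }, hT⟩
  · intro y z
    obtain ⟨n1, h1⟩ := hfin y
    obtain ⟨n2, h2⟩ := hfin z
    have h1' : ∀ n, max n1 n2 ≤ n → g n y = 0 := fun n hn => h1 n (le_trans (le_max_left _ _) hn)
    have h2' : ∀ n, max n1 n2 ≤ n → g n z = 0 := fun n hn => h2 n (le_trans (le_max_right _ _) hn)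
    have h3' : ∀ n, max n1 n2 ≤ n → g n (y + z) = 0 := fun n hn => by
      rw [map_add, h1' n hn, h2' n hn, add_zero]
    rw [hT _ _ h1', hT _ _ h2', hT _ _ h3', ← Finset.sum_add_distrib]
    exact Finset.sum_congr rfl fun n _ => map_add _ _ _
  · intro r y
    obtain ⟨n1, h1⟩ := hfin y
    have h1' : ∀ n, n1 ≤ n → g n (r • y) = 0 := fun n hn => by rw [map_smul, h1 n hn, smul_zero]
    rw [hT _ _ h1, hT _ _ h1', RingHom.id_apply, Finset.smul_sum]
    exact Finset.sum_congr rfl fun n _ => map_smul _ _ _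

variable {M : Type u} [AddCommGroup M] [Module R M]

/-- endomorphisms factoring through a finite free module -/
def FE (R : Type u) [CommRing R] (M : Type u) [AddCommGroup M] [Module R M] :
    Set (M →ₗ[R] M) :=
  {a | ∃ (k : ℕ) (b : M →ₗ[R] (Fin k →₀ R)) (c : (Fin k →₀ R) →ₗ[R] M), a = c ∘ₗ b}

theorem zero_mem_FE : (0 : M →ₗ[R] M) ∈ FE R M := ⟨0, 0, 0, by simp⟩

theorem FE_step [Module.Flat R M] (hML : CAlg.IsMittagLeffler R M)
    (hc : CAlg.IsCountablyGenerated R M) (a : M →ₗ[R] M) (ha : a ∈ FE R M) (x0 : M) :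
    ∃ a' ∈ FE R M, a' ∘ₗ a = a ∧ a' x0 = x0 := by
  obtain ⟨k, b, c, rfl⟩ := ha
  obtain ⟨Q, _, _, _, b', c', h⟩ := Groth.Agent.Lib.Helper23.ML.exists_endo hML hc
    (c.coprod (LinearMap.toSpanSingleton R M x0))
  obtain ⟨k', u, c'', hu⟩ := Module.Flat.exists_factorization_of_finitePresentation c'
  refine ⟨c'' ∘ₗ (u ∘ₗ b'), ⟨k', u ∘ₗ b', c'', rfl⟩, ?_, ?_⟩
  · ext y
    have := LinearMap.congr_fun h (b y, 0)
    simp only [LinearMap.comp_apply, LinearMap.coprod_apply, map_zero, add_zero] at this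
    simp only [LinearMap.comp_apply]
    rw [hu] at this
    exact this
  · have := LinearMap.congr_fun h (0, 1)
    simp only [LinearMap.comp_apply, LinearMap.coprod_apply, map_zero, zero_add,
      LinearMap.toSpanSingleton_apply, one_smul] at this
    rw [hu] at this
    exact this

theorem FE_piece {N : Type u} [AddCommGroup N] [Module R N] (f : N →ₗ[R] M)
    (hf : Function.Surjective f) (a a' : M →ₗ[R] M) (ha' : a' ∈ FE R M) (haa : a' ∘ₗ a = a) :
    ∃ g : M →ₗ[R] N, f ∘ₗ g = a' - a ∧ ∀ y, a y = y → g y = 0 := by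
  obtain ⟨k, b, c, rfl⟩ := ha'
  obtain ⟨h', hh'⟩ := Module.projective_lifting_property f c hf
  refine ⟨h' ∘ₗ b ∘ₗ (LinearMap.id - a), ?_, ?_⟩
  · rw [← LinearMap.comp_assoc, hh']
    ext y
    have := LinearMap.congr_fun haa y
    simp only [LinearMap.comp_apply] at this
    simp only [LinearMap.comp_apply, LinearMap.sub_apply, LinearMap.id_apply, map_sub, this]
  · intro y hy
    simp only [LinearMap.comp_apply, LinearMap.sub_apply, LinearMap.id_apply, hy, sub_self,
      map_zero]

/-- Stacks 059Z -/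
theorem projective_of_flat_ML_cg [Module.Flat R M] (hML : CAlg.IsMittagLeffler R M)
    (hc : CAlg.IsCountablyGenerated R M) : Module.Projective R M := by
  classical
  obtain ⟨s, hs_c, hs_span⟩ := hc
  have hs' : (s ∪ {0}).Countable := hs_c.union (Set.countable_singleton 0)
  obtain ⟨x, hx⟩ := hs'.exists_eq_range ⟨0, Or.inr rfl⟩
  have hxspan : Submodule.span R (Set.range x) = ⊤ := by
    rw [← hx, eq_top_iff, ← hs_span]
    exact Submodule.span_mono Set.subset_union_left
  have hc : CAlg.IsCountablyGenerated R M := ⟨s, hs_c, hs_span⟩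
  -- the sequence of endomorphisms
  let step : FE R M → ℕ → FE R M := fun a n =>
    ⟨Classical.choose (FE_step hML hc a.1 a.2 (x n)),
      (Classical.choose_spec (FE_step hML hc a.1 a.2 (x n))).1⟩
  have hstep1 : ∀ (a : FE R M) n, (step a n).1 ∘ₗ a.1 = a.1 := fun a n =>
    (Classical.choose_spec (FE_step hML hc a.1 a.2 (x n))).2.1
  have hstep2 : ∀ (a : FE R M) n, (step a n).1 (x n) = x n := fun a n =>
    (Classical.choose_spec (FE_step hML hc a.1 a.2 (x n))).2.2
  let A : ℕ → FE R M := fun n => Nat.rec ⟨0, zero_mem_FE⟩ (fun n a => step a n) n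
  have hA0 : (A 0).1 = 0 := rfl
  have hAs : ∀ n, A (n + 1) = step (A n) n := fun n => rfl
  have hAA : ∀ n, (A (n + 1)).1 ∘ₗ (A n).1 = (A n).1 := fun n => by rw [hAs]; exact hstep1 _ _
  have hAx : ∀ n, (A (n + 1)).1 (x n) = x n := fun n => by rw [hAs]; exact hstep2 _ _
  have hfix : ∀ n y, (A n).1 y = y → ∀ m, n ≤ m → (A m).1 y = y := by
    intro n y hy m hm
    induction m, hm using Nat.le_induction with
    | base => exact hy
    | succ m _ ih =>
      have := LinearMap.congr_fun (hAA m) y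
      simp only [LinearMap.comp_apply] at this
      rw [ih] at this
      exact this
  have hev : ∀ y : M, ∃ n0, ∀ m, n0 ≤ m → (A m).1 y = y := by
    intro y
    have hy : y ∈ Submodule.span R (Set.range x) := by rw [hxspan]; trivial
    induction hy using Submodule.span_induction with
    | mem y hy =>
      obtain ⟨n, rfl⟩ := hy
      exact ⟨n + 1, fun m hm => hfix (n + 1) _ (hAx n) m hm⟩
    | zero => exact ⟨0, fun m _ => map_zero _⟩
    | add y z _ _ hy hz =>
      obtain ⟨n1, h1⟩ := hy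
      obtain ⟨n2, h2⟩ := hz
      exact ⟨max n1 n2, fun m hm => by
        rw [map_add, h1 m (le_trans (le_max_left _ _) hm), h2 m (le_trans (le_max_right _ _) hm)]⟩
    | smul r y _ hy =>
      obtain ⟨n1, h1⟩ := hy
      exact ⟨n1, fun m hm => by rw [map_smul, h1 m hm]⟩
  refine Module.Projective.of_lifting_property'' fun f hf => ?_
  have hpiece := fun n => FE_piece f hf (A n).1 (A (n + 1)).1 (A (n + 1)).2 (hAA n)
  choose g hg1 hg2 using hpiece
  have hfin : ∀ y, ∃ n0, ∀ n, n0 ≤ n → g n y = 0 := by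
    intro y
    obtain ⟨n0, h0⟩ := hev y
    exact ⟨n0, fun n hn => hg2 n y (h0 n hn)⟩
  obtain ⟨h, hh⟩ := exists_sum_linear g hfin
  refine ⟨h, ?_⟩
  ext1 y
  obtain ⟨n0, h0⟩ := hev y
  have h1 : h y = ∑ n ∈ Finset.range n0, g n y := hh y n0 fun n hn => hg2 n y (h0 n hn)
  rw [LinearMap.comp_apply, h1, map_sum]
  have h2 : ∀ n, f (g n y) = (A (n + 1)).1 y - (A n).1 y := fun n => by
    have := LinearMap.congr_fun (hg1 n) y
    simpa using this
  simp only [h2]
  rw [Finset.sum_range_sub (fun n => (A n).1 y), hA0, LinearMap.zero_apply, sub_zero,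
    h0 n0 le_rfl, LinearMap.id_apply]

end Groth.Agent.Lib.Helper23.Kap
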