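import Groth.Agent.Lib.Helper23.ML

/-!
# Tensor products and arbitrary products: finitely generated / finitely presented modules
-/

set_option autoImplicit false
universe u v w

open TensorProduct

namespace Groth.Agent.Lib.Helper23.ML

variable {R : Type u} [CommRing R]

section
variable {ι : Type v} (Q : ι → Type w) [∀ i, AddCommGroup (Q i)] [∀ i, Module R (Q i)]

/-- The components of `piRightHom` are induced by the projections. -/
theorem piRightHom_apply (N : Type*) [AddCommGroup N] [Module R N] (x : N ⊗[R] (∀ i, Q i)) (a : ι) :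
    TensorProduct.piRightHom R R N Q x a = (LinearMap.proj a).lTensor N x := by
  induction x with
  | zero => simp
  | tmul n q => simp
  | add x y hx hy => simp only [map_add, Pi.add_apply, hx, hy]

theorem piRightHom_rTensor {N N' : Type*} [AddCommGroup N] [Module R N] [AddCommGroup N']
    [Module R N'] (g : N →ₗ[R] N') (x : N ⊗[R] (∀ i, Q i)) (a : ι) :
    TensorProduct.piRightHom R R N' Q (g.rTensor _ x) a =
      g.rTensor (Q a) (TensorProduct.piRightHom R R N Q x a) := by
  rw [piRightHom_apply, piRightHom_apply, ← LinearMap.comp_apply, ← LinearMap.comp_apply,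
    LinearMap.lTensor_comp_rTensor, LinearMap.rTensor_comp_lTensor]

end

theorem exists_sum_tmul {P Q' : Type*} [AddCommGroup P] [Module R P] [AddCommGroup Q'] [Module R Q']
    {n : ℕ} (p : Fin n → P) (hp : Submodule.span R (Set.range p) = ⊤) (t : P ⊗[R] Q') :
    ∃ q : Fin n → Q', t = ∑ i, p i ⊗ₜ[R] q i := by
  induction t with
  | zero => exact ⟨0, by simp⟩
  | tmul a b =>
    have ha : a ∈ Submodule.span R (Set.range p) := by rw [hp]; trivial
    obtain ⟨c, rfl⟩ := (Submodule.mem_span_range_iff_exists_fun R).mp ha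
    refine ⟨fun i => c i • b, ?_⟩
    rw [TensorProduct.sum_tmul]
    refine Finset.sum_congr rfl fun i _ => ?_
    rw [TensorProduct.smul_tmul]
  | add x y hx hy =>
    obtain ⟨q₁, rfl⟩ := hx
    obtain ⟨q₂, rfl⟩ := hy
    refine ⟨q₁ + q₂, ?_⟩
    rw [← Finset.sum_add_distrib]
    refine Finset.sum_congr rfl fun i _ => ?_
    rw [Pi.add_apply, TensorProduct.tmul_add]

section
variable {ι : Type v} (Q : ι → Type w) [∀ i, AddCommGroup (Q i)] [∀ i, Module R (Q i)]

/-- For a finitely generated module `P`, `P ⊗ ∏ Qᵢ → ∏ P ⊗ Qᵢ` is surjective. -/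
theorem piRightHom_surjective (P : Type*) [AddCommGroup P] [Module R P] [Module.Finite R P] :
    Function.Surjective (TensorProduct.piRightHom R R P Q) := by
  intro t
  obtain ⟨n, p, hp⟩ := Module.Finite.exists_fin (R := R) (M := P)
  choose q hq using fun a => exists_sum_tmul p hp (t a)
  refine ⟨∑ i, p i ⊗ₜ[R] (fun a => q a i), ?_⟩
  funext a
  rw [map_sum, Finset.sum_apply, hq a]
  rfl

/-- For a finite free module, `Rⁿ ⊗ ∏ Qᵢ → ∏ Rⁿ ⊗ Qᵢ` is injective. -/
theorem piRightHom_injective_free (n : ℕ) :
    Function.Injective (TensorProduct.piRightHom R R (Fin n → R) Q) := by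
  classical
  rw [injective_iff_map_eq_zero]
  intro y hy
  have hp : Submodule.span R (Set.range fun i : Fin n => (Pi.single i (1 : R) : Fin n → R)) = ⊤ := by
    have := (Pi.basisFun R (Fin n)).span_eq
    convert this using 3
    ext i j
    simp [Pi.single_apply, eq_comm]
  obtain ⟨c, rfl⟩ := exists_sum_tmul (fun i : Fin n => (Pi.single i (1 : R) : Fin n → R)) hp y
  have hc : ∀ i, c i = 0 := by
    intro i
    funext a
    have h1 := congrFun hy a
    rw [map_sum, Finset.sum_apply] at h1
    simp only [TensorProduct.piRightHom_tmul, Pi.zero_apply] at h1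
    have h2 := congrArg
      ((TensorProduct.lid R (Q a)).toLinearMap ∘ₗ (LinearMap.proj i : (Fin n → R) →ₗ[R] R).rTensor (Q a)) h1
    rw [map_sum, map_zero] at h2
    simp only [LinearMap.comp_apply, LinearMap.rTensor_tmul, LinearMap.proj_apply,
      LinearEquiv.coe_coe, TensorProduct.lid_tmul, Pi.single_apply] at h2
    simpa using h2
  simp [hc]

/-- For a finitely presented module `P`, `P ⊗ ∏ Qᵢ → ∏ P ⊗ Qᵢ` is injective. -/
theorem piRightHom_injective (P : Type*) [AddCommGroup P] [Module R P]
    [Module.FinitePresentation R P] :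
    Function.Injective (TensorProduct.piRightHom R R P Q) := by
  obtain ⟨n, m, π, j, hπ, hex⟩ := Module.FinitePresentation.exists_fin' R P
  rw [injective_iff_map_eq_zero]
  intro x hx
  obtain ⟨y, rfl⟩ := LinearMap.rTensor_surjective (∀ i, Q i) hπ x
  -- componentwise lift to `Rᵐ ⊗ Qₐ`
  have h1 : ∀ a, ∃ z : (Fin m → R) ⊗[R] Q a,
      j.rTensor (Q a) z = TensorProduct.piRightHom R R (Fin n → R) Q y a := by
    intro a
    apply (rTensor_exact (Q a) hex hπ _).mp
    rw [← piRightHom_rTensor, hx]
    rfl
  choose z hz using h1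
  obtain ⟨z', hz'⟩ := piRightHom_surjective Q (Fin m → R) z
  have h2 : y = j.rTensor _ z' := by
    apply piRightHom_injective_free Q n
    funext a
    rw [piRightHom_rTensor, hz', hz]
  rw [h2, ← LinearMap.comp_apply, ← LinearMap.rTensor_comp, hex.linearMap_comp_eq_zero,
    LinearMap.rTensor_zero, LinearMap.zero_apply]

end

end Groth.Agent.Lib.Helper23.ML
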