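import Mathlib
import Groth.Prelude.Def_Found
import Groth.Agent.Lib.Helper23.Kap4
import Groth.Agent.Lib.Helper23.Kap5
import Groth.Agent.Lib.Helper23.MLProd
import Groth.Agent.S6337

/-!
# Projective ⟺ flat + Mittag-Leffler + direct sum of countably generated
-/

namespace Groth.Agent.Lib.Helper23.Kap

open TensorProduct

universe u
variable {R : Type u} [CommRing R]

/-- Mittag-Leffler passes to retracts -/
theorem ML_of_retract {M N : Type u} [AddCommGroup M] [Module R M] [AddCommGroup N] [Module R N]
    (i : N →ₗ[R] M) (r : M →ₗ[R] N) (hri : r ∘ₗ i = LinearMap.id)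
    (hM : CAlg.IsMittagLeffler R M) : CAlg.IsMittagLeffler R N := by
  intro ι Q _ _
  rw [injective_iff_map_eq_zero]
  intro x hx
  have h1 : TensorProduct.piRightHom R R M Q (i.rTensor _ x) = 0 := by
    funext a
    rw [Groth.Agent.Lib.Helper23.ML.piRightHom_rTensor, hx]
    simp
  have h2 : i.rTensor _ x = 0 := by
    have := hM ι Q
    rw [injective_iff_map_eq_zero] at this
    exact this _ h1
  have h3 : r.rTensor _ (i.rTensor _ x) = x := by
    rw [← LinearMap.comp_apply, ← LinearMap.rTensor_comp, hri, LinearMap.rTensor_id,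
      LinearMap.id_apply]
  rw [← h3, h2, map_zero]

theorem ML_of_equiv {M N : Type u} [AddCommGroup M] [Module R M] [AddCommGroup N] [Module R N]
    (e : M ≃ₗ[R] N) (hM : CAlg.IsMittagLeffler R M) : CAlg.IsMittagLeffler R N :=
  ML_of_retract e.symm.toLinearMap e.toLinearMap (by ext; simp) hM

/-- the ring itself is Mittag-Leffler -/
theorem ML_self : CAlg.IsMittagLeffler R R := by
  intro ι Q _ _
  exact Groth.Agent.Lib.Helper23.ML.piRightHom_injective Q R

/-- free modules `X →₀ R` are Mittag-Leffler -/
theorem ML_finsupp (X : Type u) : CAlg.IsMittagLeffler R (X →₀ R) := by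
  classical
  have h : CAlg.IsMittagLeffler R (DirectSum X fun _ => R) :=
    (Groth.Agent.S6337.result R (fun _ : X => R)).mpr fun _ => ML_self
  exact ML_of_equiv (finsuppLEquivDirectSum R R X).symm h

/-- projective modules are Mittag-Leffler -/
theorem ML_of_projective (M : Type u) [AddCommGroup M] [Module R M] [Module.Projective R M] :
    CAlg.IsMittagLeffler R M := by
  obtain ⟨s, hs⟩ := Module.projective_def'.mp (inferInstance : Module.Projective R M)
  exact ML_of_retract s (Finsupp.linearCombination R id) hs (ML_finsupp M)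

variable {M : Type u} [AddCommGroup M] [Module R M]

/-- each summand of an internal direct sum is a retract -/
theorem exists_retraction {I : Type u} (N : I → Submodule R M) (hind : iSupIndep N)
    (htop : ⨆ i, N i = ⊤) (i : I) : ∃ r : M →ₗ[R] N i, r ∘ₗ (N i).subtype = LinearMap.id := by
  have hc := isCompl_MJ hind htop {i}
  have hi : MJ N {i} = N i := by simp [MJ]
  rw [hi] at hc
  refine ⟨Submodule.projectionOnto _ _ hc, ?_⟩
  ext x
  simp

/-- flat + ML + internal direct sum of countably generated ⇒ projective -/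
theorem projective_of_flat_ML_directSum [Module.Flat R M] (hML : CAlg.IsMittagLeffler R M)
    {I : Type u} (N : I → Submodule R M) (hind : iSupIndep N) (htop : ⨆ i, N i = ⊤)
    (hcg : ∀ i, CAlg.IsCountablyGenerated R (N i)) : Module.Projective R M := by
  classical
  have hproj : ∀ i, Module.Projective R (N i) := by
    intro i
    obtain ⟨r, hr⟩ := exists_retraction N hind htop i
    haveI : Module.Flat R (N i) := Module.Flat.of_retract (N i).subtype r hr
    exact projective_of_flat_ML_cg (ML_of_retract (N i).subtype r hr hML) (hcg i)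
  have hint := DirectSum.isInternal_submodule_of_iSupIndep_of_iSup_eq_top hind htop
  let e : (DirectSum I fun i => ↥(N i)) ≃ₗ[R] M :=
    LinearEquiv.ofBijective (DirectSum.coeLinearMap N) hint
  haveI : Module.Projective R (Π₀ i, ↥(N i)) := inferInstance
  exact Module.Projective.of_equiv e

/-- transfer of a decomposition of the range of a split injection -/
theorem transfer_decomposition {F : Type u} [AddCommGroup F] [Module R F] (s : M →ₗ[R] F)
    (π : F →ₗ[R] M) (hπs : π ∘ₗ s = LinearMap.id) {I : Type u} (C : I → Submodule R F)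
    (hind : iSupIndep C) (hsup : ⨆ x, C x = LinearMap.range s) :
    iSupIndep (fun x => (C x).map π) ∧ ⨆ x, (C x).map π = ⊤ := by
  have hπs' : ∀ m, π (s m) = m := fun m => LinearMap.congr_fun hπs m
  have hsinj : Function.Injective s := Function.LeftInverse.injective hπs'
  have hCle : ∀ x, C x ≤ LinearMap.range s := fun x => hsup ▸ le_iSup C x
  have hmapcomap : ∀ x, (C x).map π = (C x).comap s := by
    intro x
    apply le_antisymm
    · rintro _ ⟨c, hc, rfl⟩
      obtain ⟨m, rfl⟩ := hCle x hc
      rw [hπs']
      exact hc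
    · intro m hm
      exact ⟨s m, hm, hπs' m⟩
  refine ⟨?_, ?_⟩
  · intro x
    simp only [hmapcomap]
    have h1 : (⨆ (j : I) (_ : j ≠ x), (C j).comap s) ≤ (⨆ (j : I) (_ : j ≠ x), C j).comap s :=
      iSup₂_le fun j hj => Submodule.comap_mono (le_iSup₂ (f := fun (j : I) (_ : j ≠ x) => C j) j hj)
    refine Disjoint.mono_right h1 ?_
    rw [disjoint_iff, ← Submodule.comap_inf, disjoint_iff.mp (hind x), Submodule.comap_bot,
      LinearMap.ker_eq_bot.mpr hsinj]
  · rw [← Submodule.map_iSup, hsup, ← LinearMap.range_comp, hπs, LinearMap.range_id]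

/-- **Kaplansky**: projective modules are direct sums of countably generated modules -/
theorem exists_directSum_cg_of_projective [Module.Projective R M] :
    ∃ (I : Type u) (N : I → Submodule R M), iSupIndep N ∧ ⨆ i, N i = ⊤ ∧
      ∀ i, CAlg.IsCountablyGenerated R (N i) := by
  obtain ⟨s, hs⟩ := Module.projective_def'.mp (inferInstance : Module.Projective R M)
  set π : (M →₀ R) →ₗ[R] M := Finsupp.linearCombination R id with hπ
  let b : Module.Basis M R (M →₀ R) := Finsupp.basisSingleOne
  let Mi : M → Submodule R (M →₀ R) := fun m => Submodule.span R {b m}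
  have hMind : iSupIndep Mi := b.linearIndependent.iSupIndep_span_singleton
  have hMtop : ⨆ m, Mi m = ⊤ := by
    rw [← Submodule.span_range_eq_iSup, b.span_eq]
  have hMcg : ∀ m, CAlg.IsCountablyGenerated R (Mi m) := fun m =>
    (cg_submodule_iff _).mpr ⟨{b m}, Set.countable_singleton _, rfl⟩
  let e : (M →₀ R) →ₗ[R] (M →₀ R) := s ∘ₗ π
  have he : e ∘ₗ e = e := by
    show (s ∘ₗ π) ∘ₗ (s ∘ₗ π) = s ∘ₗ π
    rw [LinearMap.comp_assoc, ← LinearMap.comp_assoc π s π, hs, LinearMap.id_comp]
  obtain ⟨C, hCind, hCsup, hCcg⟩ := kaplansky hMind hMtop hMcg he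
  have hrange : LinearMap.range e = LinearMap.range s := by
    apply le_antisymm
    · exact LinearMap.range_comp_le_range π s
    · rintro _ ⟨m, rfl⟩
      exact ⟨s m, by show s (π (s m)) = s m; rw [← LinearMap.comp_apply π s, hs]; rfl⟩
  rw [hrange] at hCsup
  obtain ⟨h1, h2⟩ := transfer_decomposition s π hs C hCind hCsup
  exact ⟨M, fun x => (C x).map π, h1, h2, fun x => cg_map π _ (hCcg x)⟩

end Groth.Agent.Lib.Helper23.Kap
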