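import Mathlib
import Groth.Prelude.Def_Found
import Groth.Agent.Lib.Helper23.Kap4

/-!
# Adapted submodules (Stacks 05A8) via dependency-closed sets
-/

namespace Groth.Agent.Lib.Helper23.Kap

open TensorProduct

universe u
variable {R S : Type u} [CommRing R] [CommRing S] [Algebra R S]
  {M : Type u} [AddCommGroup M] [Module R M] {I : Type u} (Q : I → Submodule S (S ⊗[R] M))

theorem exists_phi (htop : ⨆ i, Q i = ⊤) :
    ∃ φ : M → Finset I, ∀ m, (1 : S) ⊗ₜ[R] m ∈ ⨆ i ∈ φ m, Q i := by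
  classical
  have h : ∀ m : M, ∃ F : Finset I, (1 : S) ⊗ₜ[R] m ∈ ⨆ i ∈ F, Q i := by
    intro m
    have : (1 : S) ⊗ₜ[R] m ∈ ⨆ i, Q i := by rw [htop]; trivial
    exact (Submodule.mem_iSup_iff_exists_finset).mp this
  choose φ hφ using h
  exact ⟨φ, hφ⟩

theorem exists_finset_span (z : S ⊗[R] M) :
    ∃ F : Finset M, z ∈ Submodule.span S (TensorProduct.mk R S M 1 '' (F : Set M)) := by
  classical
  induction z with
  | zero => exact ⟨∅, Submodule.zero_mem _⟩
  | tmul s m =>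
    refine ⟨{m}, ?_⟩
    have : s ⊗ₜ[R] m = s • ((1 : S) ⊗ₜ[R] m) := by
      rw [TensorProduct.smul_tmul', smul_eq_mul, mul_one]
    rw [this]
    exact Submodule.smul_mem _ _ (Submodule.subset_span ⟨m, by simp, rfl⟩)
  | add x y hx hy =>
    obtain ⟨F1, h1⟩ := hx
    obtain ⟨F2, h2⟩ := hy
    refine ⟨F1 ∪ F2, Submodule.add_mem _ ?_ ?_⟩
    · exact Submodule.span_mono (Set.image_mono (by simp)) h1
    · exact Submodule.span_mono (Set.image_mono (by simp)) h2

theorem exists_psi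
    (hcg : ∀ i, ∃ t : Set (S ⊗[R] M), t.Countable ∧ Submodule.span S t = Q i) :
    ∃ ψ : I → Set M, (∀ i, (ψ i).Countable) ∧
      ∀ i, Q i ≤ Submodule.span S (TensorProduct.mk R S M 1 '' ψ i) := by
  choose t ht hspan using hcg
  choose F hF using fun z : S ⊗[R] M => exists_finset_span (R := R) (S := S) (M := M) z
  refine ⟨fun i => ⋃ z ∈ t i, (F z : Set M),
    fun i => (ht i).biUnion fun z _ => (F z).countable_toSet, fun i => ?_⟩
  rw [← hspan i, Submodule.span_le]
  intro z hz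
  refine Submodule.span_mono (Set.image_mono ?_) (hF z)
  exact Set.subset_biUnion_of_mem (u := fun z => (F z : Set M)) hz

/-- the dependency relation on `M ⊕ I` -/
def depV (φ : M → Finset I) (ψ : I → Set M) : M ⊕ I → Set (M ⊕ I)
  | Sum.inl m => Sum.inr '' (φ m : Set I)
  | Sum.inr i => Sum.inl '' ψ i

theorem depV_countable (φ : M → Finset I) {ψ : I → Set M} (hψ : ∀ i, (ψ i).Countable)
    (v : M ⊕ I) : (depV φ ψ v).Countable := by
  cases v with
  | inl m => exact ((φ m).countable_toSet).image _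
  | inr i => exact (hψ i).image _

/-- the `M`-part of a subset of `M ⊕ I` -/
def TW (W : Set (M ⊕ I)) : Set M := Sum.inl ⁻¹' W
/-- the `I`-part of a subset of `M ⊕ I` -/
def JW (W : Set (M ⊕ I)) : Set I := Sum.inr ⁻¹' W

theorem TW_countable {W : Set (M ⊕ I)} (hW : W.Countable) : (TW W).Countable :=
  hW.preimage_of_injOn Sum.inl_injective.injOn

variable {Q}

theorem adapted_of_closed {φ : M → Finset I} {ψ : I → Set M}
    (hφ : ∀ m, (1 : S) ⊗ₜ[R] m ∈ ⨆ i ∈ φ m, Q i)
    (hψ : ∀ i, Q i ≤ Submodule.span S (TensorProduct.mk R S M 1 '' ψ i))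
    {W : Set (M ⊕ I)} (hW : Closed (depV φ ψ) W) :
    (Submodule.span R (TW W)).baseChange S = ⨆ i ∈ JW W, Q i := by
  rw [Submodule.baseChange_span]
  apply le_antisymm
  · rw [Submodule.span_le]
    rintro _ ⟨m, hm, rfl⟩
    have hsub : (φ m : Set I) ⊆ JW W := by
      intro i hi
      exact hW (Sum.inl m) hm ⟨i, hi, rfl⟩
    have hle : (⨆ i ∈ φ m, Q i) ≤ ⨆ i ∈ JW W, Q i :=
      iSup₂_le fun i hi => le_biSup Q (hsub (Finset.mem_coe.mpr hi))
    exact hle (hφ m)
  · refine iSup₂_le fun i hi => (hψ i).trans (Submodule.span_mono (Set.image_mono ?_))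
    intro m hm
    exact hW (Sum.inr i) hi ⟨m, hm, rfl⟩

end Groth.Agent.Lib.Helper23.Kap
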