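import Groth.Agent.Lib.Helper23.MLLim
import Mathlib.RingTheory.Flat.FaithfullyFlat.Algebra

/-!
# Faithfully flat descent of the Mittag-Leffler property
-/

set_option autoImplicit false
universe u

open TensorProduct

namespace Groth.Agent.Lib.Helper23.ML

variable {R : Type u} [CommRing R] {S : Type u} [CommRing S] [Algebra R S]

section Phi

variable (L' : Type u) [AddCommGroup L'] [Module S L'] [Module R L'] [IsScalarTower R S L']

/-- `(S ⊗ X) ⊗_S L' ≃ L' ⊗_R X`. -/
noncomputable def Phi (X : Type u) [AddCommGroup X] [Module R X] :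
    (S ⊗[R] X) ⊗[S] L' ≃ₗ[S] L' ⊗[R] X :=
  (TensorProduct.comm S (S ⊗[R] X) L') ≪≫ₗ
    (TensorProduct.AlgebraTensorModule.cancelBaseChange R S S L' X)

theorem Phi_tmul (X : Type u) [AddCommGroup X] [Module R X] (s : S) (x : X) (l : L') :
    Phi L' X ((s ⊗ₜ[R] x) ⊗ₜ[S] l) = (s • l) ⊗ₜ[R] x := rfl

theorem Phi_natural {X Y : Type u} [AddCommGroup X] [Module R X] [AddCommGroup Y] [Module R Y]
    (u : X →ₗ[R] Y) (z : (S ⊗[R] X) ⊗[S] L') :
    Phi L' Y ((u.baseChange S).rTensor L' z) = u.lTensor L' (Phi L' X z) := by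
  induction z with
  | zero => simp
  | add a b ha hb => simp only [map_add, ha, hb]
  | tmul w l =>
    induction w with
    | zero => simp
    | add a b ha hb =>
      rw [TensorProduct.add_tmul, map_add, map_add, ha, hb, map_add, map_add]
    | tmul s x =>
      rw [LinearMap.rTensor_tmul, LinearMap.baseChange_tmul, Phi_tmul, Phi_tmul,
        LinearMap.lTensor_tmul]

end Phi

section Psi

/-- `X ⊗_R N → (S ⊗ X) ⊗_S (S ⊗ N)`. -/
noncomputable def Psi (X N : Type u) [AddCommGroup X] [Module R X] [AddCommGroup N] [Module R N] :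
    X ⊗[R] N →ₗ[R] (S ⊗[R] X) ⊗[S] (S ⊗[R] N) :=
  ((TensorProduct.AlgebraTensorModule.distribBaseChange R S X N).toLinearMap.restrictScalars R) ∘ₗ
    (TensorProduct.mk R S (X ⊗[R] N) 1)

theorem Psi_tmul (X N : Type u) [AddCommGroup X] [Module R X] [AddCommGroup N] [Module R N]
    (x : X) (n : N) :
    Psi (R := R) (S := S) X N (x ⊗ₜ[R] n) = ((1 : S) ⊗ₜ[R] x) ⊗ₜ[S] ((1 : S) ⊗ₜ[R] n) := rfl

theorem Psi_injective [Module.FaithfullyFlat R S] (X N : Type u) [AddCommGroup X] [Module R X]
    [AddCommGroup N] [Module R N] : Function.Injective (Psi (R := R) (S := S) X N) := by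
  have h1 : Function.Injective (TensorProduct.mk R S (X ⊗[R] N) 1) :=
    Module.FaithfullyFlat.tensorProduct_mk_injective (A := R) (B := S) (X ⊗[R] N)
  exact (TensorProduct.AlgebraTensorModule.distribBaseChange R S X N).injective.comp h1

theorem Psi_natural {X Y : Type u} (N : Type u) [AddCommGroup X] [Module R X] [AddCommGroup Y]
    [Module R Y] [AddCommGroup N] [Module R N] (u : X →ₗ[R] Y) (y : X ⊗[R] N) :
    (u.baseChange S).rTensor (S ⊗[R] N) (Psi (R := R) (S := S) X N y) = Psi (R := R) (S := S) Y N (u.rTensor N y) := by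
  induction y with
  | zero => simp
  | add a b ha hb => simp only [map_add, ha, hb]
  | tmul x n =>
    rw [Psi_tmul, LinearMap.rTensor_tmul, LinearMap.baseChange_tmul, LinearMap.rTensor_tmul,
      Psi_tmul]

end Psi

/-- Faithfully flat descent of the Mittag-Leffler property (product definition). -/
theorem ML_descent [Module.FaithfullyFlat R S] (M : Type u) [AddCommGroup M] [Module R M]
    (hS : ∀ (ι : Type u) (Q : ι → Type u) [∀ i, AddCommGroup (Q i)] [∀ i, Module S (Q i)],
      Function.Injective (TensorProduct.piRightHom S S (S ⊗[R] M) Q))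
    (ι : Type u) (Q : ι → Type u) [∀ i, AddCommGroup (Q i)] [∀ i, Module R (Q i)] :
    Function.Injective (TensorProduct.piRightHom R R M Q) := by
  refine ML_of_dominating (R := R) (M := M) ?_ ι Q
  intro n f
  obtain ⟨L', iL1, iL2, x', hx', huniv⟩ :=
    exists_universal (R := S) (M := S ⊗[R] M) hS (f.baseChange S)
  letI : Module R L' := Module.compHom L' (algebraMap R S)
  haveI : IsScalarTower R S L' := IsScalarTower.of_algebraMap_smul fun r x => rfl
  have hx : f.lTensor L' (Phi L' (Fin n → R) x') = 0 := by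
    rw [← Phi_natural, hx', map_zero]
  obtain ⟨Q₀, i1, i2, hQ₀, g, h, hf, hg⟩ := approx' f _ hx
  refine ⟨Q₀, i1, i2, hQ₀, g, fun N _ _ => le_antisymm ?_ ?_⟩
  · intro y hy
    rw [LinearMap.mem_ker] at hy ⊢
    have h1 : (g.baseChange S).rTensor L' x' = 0 := by
      apply (Phi L' Q₀).injective
      rw [Phi_natural, hg, map_zero]
    have h2 := huniv (S ⊗[R] Q₀) (g.baseChange S) h1 (S ⊗[R] N)
    have h3 : Psi (R := R) (S := S) (Fin n → R) N y ∈
        LinearMap.ker ((f.baseChange S).rTensor (S ⊗[R] N)) := by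
      rw [LinearMap.mem_ker, Psi_natural, hy, map_zero]
    have h4 := h2 h3
    rw [LinearMap.mem_ker, Psi_natural] at h4
    exact Psi_injective (R := R) (S := S) Q₀ N (h4.trans (map_zero _).symm)
  · intro y hy
    rw [LinearMap.mem_ker] at hy ⊢
    rw [hf, LinearMap.rTensor_comp_apply, hy, map_zero]

end Groth.Agent.Lib.Helper23.ML
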