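import Mathlib
import Groth.Prelude.Def_Found
import Groth.Agent.Lib.Helper23.Kap6
import Groth.Agent.Lib.Helper23.Kap7
import Groth.Agent.Lib.Helper23.MLDescent

/-!
# Faithfully flat descent of projectivity (Raynaud–Gruson, Stacks 05A9)
-/

namespace Groth.Agent.Lib.Helper23.Kap

open TensorProduct

universe u

section Compl
variable {R : Type u} [CommRing R] {M : Type u} [AddCommGroup M] [Module R M]

/-- a projective quotient `B/A` gives a projective complement of `A` in `B` -/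
theorem exists_compl_of_projective_quotient (A B : Submodule R M) (hAB : A ≤ B)
    [Module.Projective R (↥B ⧸ A.comap B.subtype)] :
    ∃ C : Submodule R M, Disjoint A C ∧ A ⊔ C = B ∧ Module.Projective R C := by
  set A' := A.comap B.subtype with hA'
  obtain ⟨j, hj⟩ := Module.projective_lifting_property A'.mkQ LinearMap.id
    (Submodule.mkQ_surjective A')
  have hj' : ∀ p, A'.mkQ (j p) = p := fun p => LinearMap.congr_fun hj p
  have hinj : Function.Injective (B.subtype ∘ₗ j) := by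
    intro p p' h
    have : j p = j p' := Subtype.ext h
    rw [← hj' p, ← hj' p', this]
  refine ⟨LinearMap.range (B.subtype ∘ₗ j), ?_, ?_, ?_⟩
  · rw [Submodule.disjoint_def]
    rintro _ ha ⟨p, rfl⟩
    have h1 : j p ∈ A' := ha
    have h2 : A'.mkQ (j p) = 0 := (Submodule.Quotient.mk_eq_zero _).mpr h1
    rw [hj'] at h2
    rw [h2, map_zero]
  · apply le_antisymm
    · refine sup_le hAB ?_
      rintro _ ⟨p, rfl⟩
      exact (j p).2
    · intro b hb
      have h1 : (⟨b, hb⟩ : B) - j (A'.mkQ ⟨b, hb⟩) ∈ A' := by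
        rw [← Submodule.Quotient.mk_eq_zero, Submodule.Quotient.mk_sub]
        have := hj' (A'.mkQ ⟨b, hb⟩)
        rw [Submodule.mkQ_apply] at this
        rw [this, Submodule.mkQ_apply, sub_self]
      have h2 : b = ((⟨b, hb⟩ : B) - j (A'.mkQ ⟨b, hb⟩) : B).1 + (j (A'.mkQ ⟨b, hb⟩) : M) := by
        simp
      rw [h2]
      exact Submodule.add_mem _ (Submodule.mem_sup_left h1)
        (Submodule.mem_sup_right ⟨_, rfl⟩)
  · exact Module.Projective.of_equiv (LinearEquiv.ofInjective _ hinj)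

end Compl

section Step
variable {R S : Type u} [CommRing R] [CommRing S] [Algebra R S] [Module.FaithfullyFlat R S]
  {M : Type u} [AddCommGroup M] [Module R M] {I : Type u} {Q : I → Submodule S (S ⊗[R] M)}

theorem exists_retract (hind : iSupIndep Q) (htop : ⨆ i, Q i = ⊤)
    (A B : Submodule R M) (hAB : A ≤ B) (JA JB : Set I)
    (hA : A.baseChange S = ⨆ i ∈ JA, Q i) (hB : B.baseChange S = ⨆ i ∈ JB, Q i) :
    ∃ (σ : S ⊗[R] (↥B ⧸ A.comap B.subtype) →ₗ[S] S ⊗[R] M)
      (τ : S ⊗[R] M →ₗ[S] S ⊗[R] (↥B ⧸ A.comap B.subtype)), τ ∘ₗ σ = LinearMap.id := by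
  classical
  set A' := A.comap B.subtype with hA'
  have hcA := isCompl_MJ hind htop JA
  have hcB := isCompl_MJ hind htop JB
  change A.baseChange S = MJ Q JA at hA
  change B.baseChange S = MJ Q JB at hB
  let eA : S ⊗[R] M →ₗ[S] S ⊗[R] M := (MJ Q JA).subtype ∘ₗ Submodule.projectionOnto _ _ hcA
  have heA1 : ∀ w ∈ MJ Q JA, eA w = w := by
    intro w hw
    have := Submodule.projectionOnto_apply_left hcA ⟨w, hw⟩
    exact congrArg Subtype.val this
  have heA2 : ∀ w, eA w ∈ MJ Q JA := fun w => (Submodule.projectionOnto _ _ hcA w).2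
  let eB : S ⊗[R] M →ₗ[S] ↥(MJ Q JB) := Submodule.projectionOnto _ _ hcB
  have heB1 : ∀ (w : S ⊗[R] M) (hw : w ∈ MJ Q JB), eB w = ⟨w, hw⟩ := fun w hw =>
    Submodule.projectionOnto_apply_left hcB ⟨w, hw⟩
  let ιB : S ⊗[R] B →ₗ[S] S ⊗[R] M := B.subtype.baseChange S
  have hιinj : Function.Injective ιB :=
    Module.Flat.lTensor_preserves_injective_linearMap (M := S) B.subtype B.injective_subtype
  have hιrange : LinearMap.range ιB = MJ Q JB := hB
  let ιBe : S ⊗[R] B ≃ₗ[S] ↥(MJ Q JB) :=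
    (LinearEquiv.ofInjective ιB hιinj).trans (LinearEquiv.ofEq _ _ hιrange)
  have hιBe : ∀ z, (ιBe z : S ⊗[R] M) = ιB z := fun z => rfl
  let q : S ⊗[R] B →ₗ[S] S ⊗[R] (↥B ⧸ A') := (A'.mkQ).baseChange S
  let τ : S ⊗[R] M →ₗ[S] S ⊗[R] (↥B ⧸ A') := q ∘ₗ ιBe.symm.toLinearMap ∘ₗ eB
  let g : B →ₗ[R] S ⊗[R] M :=
    ((LinearMap.id - eA).restrictScalars R) ∘ₗ (TensorProduct.mk R S M 1) ∘ₗ B.subtype
  have hgb : ∀ b : B, g b = (1 : S) ⊗ₜ[R] (b : M) - eA ((1 : S) ⊗ₜ[R] (b : M)) := fun b => rfl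
  have hg : A' ≤ LinearMap.ker g := by
    intro a ha
    have ha' : (a : M) ∈ A := ha
    rw [LinearMap.mem_ker, hgb,
      heA1 _ (by rw [← hA]; exact Submodule.tmul_mem_baseChange_of_mem 1 ha'), sub_self]
  let σ : S ⊗[R] (↥B ⧸ A') →ₗ[S] S ⊗[R] M := (A'.liftQ g hg).liftBaseChange S
  refine ⟨σ, τ, ?_⟩
  -- τ on `1 ⊗ b`
  have hτ1 : ∀ b : B, τ ((1 : S) ⊗ₜ[R] (b : M)) = (1 : S) ⊗ₜ[R] A'.mkQ b := by
    intro b
    have hw : (1 : S) ⊗ₜ[R] (b : M) ∈ MJ Q JB := by
      rw [← hB]; exact Submodule.tmul_mem_baseChange_of_mem 1 b.2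
    have h1 : eB ((1 : S) ⊗ₜ[R] (b : M)) = ιBe ((1 : S) ⊗ₜ[R] b) := by
      rw [heB1 _ hw]
      exact Subtype.ext rfl
    show q (ιBe.symm (eB ((1 : S) ⊗ₜ[R] (b : M)))) = _
    rw [h1, LinearEquiv.symm_apply_apply]
    rfl
  -- τ kills `MJ Q JA`
  have hτ0 : ∀ w ∈ MJ Q JA, τ w = 0 := by
    intro w hw
    rw [← hA] at hw
    obtain ⟨z', hz'⟩ := hw
    let incl : A →ₗ[R] B := Submodule.inclusion hAB
    have hcomp : B.subtype ∘ₗ incl = A.subtype := rfl
    have h1 : ιB (incl.baseChange S z') = w := by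
      rw [← hz', ← hcomp, LinearMap.baseChange_comp]
      rfl
    have hwB : w ∈ MJ Q JB := by
      rw [← hιrange, ← h1]; exact ⟨_, rfl⟩
    have h2 : eB w = ιBe (incl.baseChange S z') := by
      rw [heB1 _ hwB]
      exact Subtype.ext h1.symm
    show q (ιBe.symm (eB w)) = 0
    rw [h2, LinearEquiv.symm_apply_apply]
    have h3 : A'.mkQ ∘ₗ incl = 0 := by
      ext a
      rw [LinearMap.comp_apply, LinearMap.zero_apply, Submodule.mkQ_apply,
        Submodule.Quotient.mk_eq_zero]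
      exact a.2
    show ((A'.mkQ).baseChange S) (incl.baseChange S z') = 0
    rw [← LinearMap.comp_apply, ← LinearMap.baseChange_comp, h3, LinearMap.baseChange_zero,
      LinearMap.zero_apply]
  apply TensorProduct.AlgebraTensorModule.ext
  intro s p
  obtain ⟨b, rfl⟩ := Submodule.Quotient.mk_surjective _ p
  have hσ : σ (s ⊗ₜ[R] (Submodule.Quotient.mk b)) = s • g b := by
    show ((A'.liftQ g hg).liftBaseChange S) (s ⊗ₜ[R] (A'.mkQ b)) = s • g b
    rw [LinearMap.liftBaseChange_tmul, Submodule.mkQ_apply, Submodule.liftQ_apply]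
  rw [LinearMap.comp_apply, hσ, map_smul, hgb, map_sub, hτ1, hτ0 _ (heA2 _), sub_zero,
    LinearMap.id_apply, TensorProduct.smul_tmul', smul_eq_mul, mul_one]
  rfl

/-- the quotient `B/A` of two adapted submodules is projective when countably generated -/
theorem step_projective [Module.Projective S (S ⊗[R] M)] (hind : iSupIndep Q)
    (htop : ⨆ i, Q i = ⊤) (A B : Submodule R M) (hAB : A ≤ B) (JA JB : Set I)
    (hA : A.baseChange S = ⨆ i ∈ JA, Q i) (hB : B.baseChange S = ⨆ i ∈ JB, Q i)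
    (hcg : CAlg.IsCountablyGenerated R (↥B ⧸ A.comap B.subtype)) :
    Module.Projective R (↥B ⧸ A.comap B.subtype) := by
  obtain ⟨σ, τ, hτσ⟩ := exists_retract hind htop A B hAB JA JB hA hB
  haveI : Module.Projective S (S ⊗[R] (↥B ⧸ A.comap B.subtype)) :=
    Module.Projective.of_split σ τ hτσ
  haveI : Module.Flat R (↥B ⧸ A.comap B.subtype) :=
    Module.Flat.of_flat_tensorProduct R _ S
  have hML : CAlg.IsMittagLeffler R (↥B ⧸ A.comap B.subtype) :=
    Groth.Agent.Lib.Helper23.ML.ML_descent (R := R) (S := S) _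
      (ML_of_projective (R := S) (S ⊗[R] (↥B ⧸ A.comap B.subtype)))
  exact projective_of_flat_ML_cg hML hcg

end Step

end Groth.Agent.Lib.Helper23.Kap
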