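import Mathlib
import Groth.Prelude.Def_Found
import Groth.Agent.Lib.Helper23.Kap8

/-!
# Faithfully flat descent of projectivity: assembly
-/

namespace Groth.Agent.Lib.Helper23.Kap

open TensorProduct

universe u

theorem closed_union {I : Type u} {dep : I → Set I} {A B : Set I} (hA : Closed dep A)
    (hB : Closed dep B) : Closed dep (A ∪ B) := by
  intro i hi
  rcases hi with hi | hi
  · exact (hA i hi).trans Set.subset_union_left
  · exact (hB i hi).trans Set.subset_union_right

variable (R S : Type u) [CommRing R] [CommRing S] [Algebra R S] [Module.FaithfullyFlat R S]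
  (M : Type u) [AddCommGroup M] [Module R M]

theorem projective_of_faithfullyFlat_baseChange [Module.Projective S (S ⊗[R] M)] :
    Module.Projective R M := by
  classical
  obtain ⟨I, Q, hind, htop, hcg⟩ := exists_directSum_cg_of_projective (R := S) (M := S ⊗[R] M)
  have hcg' : ∀ i, ∃ t : Set (S ⊗[R] M), t.Countable ∧ Submodule.span S t = Q i :=
    fun i => (cg_submodule_iff _).mp (hcg i)
  obtain ⟨φ, hφ⟩ := exists_phi Q htop
  obtain ⟨ψ, hψc, hψ⟩ := exists_psi Q hcg'
  let dep := depV φ ψ
  have hdepc : ∀ v, (dep v).Countable := depV_countable φ hψc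
  obtain ⟨lo, wf⟩ := exists_wellFoundedLT (α := M)
  let Wlt : M → Set (M ⊕ I) := fun x => ⋃ y : {y : M // y < x}, cl dep (Sum.inl y.1)
  let W : M → Set (M ⊕ I) := fun x => Wlt x ∪ cl dep (Sum.inl x)
  have hWlt_closed : ∀ x, Closed dep (Wlt x) := fun x =>
    closed_iUnion fun y => cl_closed dep _
  have hW_closed : ∀ x, Closed dep (W x) := fun x =>
    closed_union (hWlt_closed x) (cl_closed dep _)
  have hWmono : ∀ y x, y < x → W y ⊆ Wlt x := by
    intro y x hyx
    refine Set.union_subset ?_ ?_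
    · exact Set.iUnion_subset fun z =>
        Set.subset_iUnion (fun y : {y : M // y < x} => cl dep (Sum.inl y.1)) ⟨z.1, z.2.trans hyx⟩
    · exact Set.subset_iUnion (fun y : {y : M // y < x} => cl dep (Sum.inl y.1)) ⟨y, hyx⟩
  let Alt : M → Submodule R M := fun x => Submodule.span R (TW (Wlt x))
  let Bx : M → Submodule R M := fun x => Submodule.span R (TW (W x))
  let Dx : M → Submodule R M := fun x => Submodule.span R (TW (cl dep (Sum.inl x)))
  have hTWmono : ∀ {U V : Set (M ⊕ I)}, U ⊆ V → TW U ⊆ TW V := fun h => Set.preimage_mono h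
  have hAB : ∀ x, Alt x ≤ Bx x := fun x =>
    Submodule.span_mono (hTWmono Set.subset_union_left)
  have hBsup : ∀ x, Bx x = Alt x ⊔ Dx x := by
    intro x
    show Submodule.span R (TW (Wlt x ∪ cl dep (Sum.inl x))) = _
    rw [show TW (Wlt x ∪ cl dep (Sum.inl x)) = TW (Wlt x) ∪ TW (cl dep (Sum.inl x)) from
      Set.preimage_union, Submodule.span_union]
  have hBlt : ∀ x, (⨆ (y : M) (_ : y < x), Bx y) = Alt x := by
    intro x
    apply le_antisymm
    · exact iSup₂_le fun y hy => Submodule.span_mono (hTWmono (hWmono y x hy))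
    · show Submodule.span R (TW (⋃ y : {y : M // y < x}, cl dep (Sum.inl y.1))) ≤ _
      rw [show TW (⋃ y : {y : M // y < x}, cl dep (Sum.inl y.1)) =
        ⋃ y : {y : M // y < x}, TW (cl dep (Sum.inl y.1)) from Set.preimage_iUnion,
        Submodule.span_iUnion]
      refine iSup_le fun y => ?_
      refine le_trans ?_ (le_iSup₂ (f := fun (y : M) (_ : y < x) => Bx y) y.1 y.2)
      exact Submodule.span_mono (hTWmono Set.subset_union_right)
  have hBtop : ⨆ x, Bx x = ⊤ := by
    rw [eq_top_iff]
    intro m _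
    have : m ∈ Bx m := Submodule.subset_span (show Sum.inl m ∈ W m from
      Set.mem_union_right _ (mem_cl dep _))
    exact (le_iSup Bx m) this
  have hAad : ∀ x, (Alt x).baseChange S = ⨆ i ∈ JW (Wlt x), Q i := fun x =>
    adapted_of_closed hφ hψ (hWlt_closed x)
  have hBad : ∀ x, (Bx x).baseChange S = ⨆ i ∈ JW (W x), Q i := fun x =>
    adapted_of_closed hφ hψ (hW_closed x)
  have hDcg : ∀ x, CAlg.IsCountablyGenerated R (Dx x) := fun x =>
    (cg_submodule_iff _).mpr ⟨_, TW_countable (cl_countable hdepc _), rfl⟩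
  have hquotcg : ∀ x, CAlg.IsCountablyGenerated R (↥(Bx x) ⧸ (Alt x).comap (Bx x).subtype) := by
    intro x
    have hDB : Dx x ≤ Bx x := by rw [hBsup x]; exact le_sup_right
    refine cg_of_surjective (((Alt x).comap (Bx x).subtype).mkQ ∘ₗ Submodule.inclusion hDB) ?_
      (hDcg x)
    intro p
    obtain ⟨b, rfl⟩ := Submodule.Quotient.mk_surjective _ p
    have hb : (b : M) ∈ Alt x ⊔ Dx x := by rw [← hBsup x]; exact b.2
    obtain ⟨a, ha, d, hd, had⟩ := Submodule.mem_sup.mp hb
    refine ⟨⟨d, hd⟩, ?_⟩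
    rw [LinearMap.comp_apply, Submodule.mkQ_apply, Submodule.Quotient.eq]
    show ((Submodule.inclusion hDB ⟨d, hd⟩ : Bx x) - b : Bx x).1 ∈ Alt x
    have : ((Submodule.inclusion hDB ⟨d, hd⟩ : Bx x) - b : Bx x).1 = -a := by
      show d - (b : M) = -a
      rw [← had]; abel
    rw [this]
    exact (Alt x).neg_mem ha
  have hproj : ∀ x, Module.Projective R (↥(Bx x) ⧸ (Alt x).comap (Bx x).subtype) := fun x =>
    step_projective hind htop (Alt x) (Bx x) (hAB x) _ _ (hAad x) (hBad x) (hquotcg x)
  have hcompl := fun x =>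
    haveI := hproj x
    exists_compl_of_projective_quotient (Alt x) (Bx x) (hAB x)
  choose C hC1 hC2 hC3 using hcompl
  obtain ⟨hCind, hCtop⟩ := isInternal_of_chain Bx C hBtop
    (fun x => by rw [hBlt x]; exact hC1 x) (fun x => by rw [hBlt x]; exact hC2 x)
  have hint := DirectSum.isInternal_submodule_of_iSupIndep_of_iSup_eq_top hCind hCtop
  let e : (DirectSum M fun x => ↥(C x)) ≃ₗ[R] M :=
    LinearEquiv.ofBijective (DirectSum.coeLinearMap C) hint
  haveI : ∀ x, Module.Projective R (C x) := hC3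
  haveI : Module.Projective R (Π₀ x, ↥(C x)) := inferInstance
  exact Module.Projective.of_equiv e

end Groth.Agent.Lib.Helper23.Kap
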