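import Groth.Agent.S3047
import Groth.Agent.S0100
import Groth.Agent.Lib.Helper23.EtGlue2
import Groth.Prelude.Def_EtAcyc

/-!
# Inverse image preserves `L`-torsion sheaves (helper23)
-/

set_option autoImplicit false
set_option backward.isDefEq.respectTransparency false
set_option backward.isDefEq.respectTransparency.types false

universe u

open CategoryTheory CategoryTheory.Limits Opposite AlgebraicGeometry GrothendieckTopology

namespace Groth.Agent.Lib.Helper23.LTorsPull

open Groth.Agent.Lib.Helper23.EtGlue Groth.Agent.S3047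

variable {X Y : Scheme.{u}}

instance i1 : PreservesFilteredColimitsOfSize.{u, u} (forget AddCommGrpCat.{u + 1}) :=
  preservesFilteredColimitsOfSize_shrink.{u, u + 1, u, u + 1} _

/-- the sieve of arrows along which a section is killed by an `L`-number -/
def killSieve (L : Set ℕ) (F : EtCoh.Ab X) {U : X.Etale} (s : EtCoh.sect F U) : Sieve U where
  arrows V g := ∃ m : ℕ, EtAcyc.PrimesIn L m ∧ m • F.obj.map g.op s = 0
  downward_closed := by
    rintro V W g ⟨m, hm, h⟩ k
    refine ⟨m, hm, ?_⟩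
    have : F.obj.map (k ≫ g).op s = F.obj.map k.op (F.obj.map g.op s) := by
      rw [op_comp, Functor.map_comp]
      rfl
    rw [this, ← map_nsmul, h, map_zero]

lemma isLTorsion_iff_killSieve (L : Set ℕ) (F : EtCoh.Ab X) :
    EtAcyc.IsLTorsion L F ↔
      ∀ (U : X.Etale) (s : EtCoh.sect F U), killSieve L F s ∈ X.smallEtaleTopology U := by
  constructor
  · intro hF U s
    apply sieve_mem_of_forall_point
    intro x
    obtain ⟨V, g, m, ⟨v, hv⟩, hm, h⟩ := hF U s x
    exact ⟨V, g, ⟨m, hm, h⟩, ⟨v, hv⟩⟩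
  · intro h U s x
    obtain ⟨V, g, ⟨m, hm, hz⟩, ⟨v, hv⟩⟩ := exists_arrow_of_mem _ (h U s) x
    exact ⟨V, g, m, ⟨v, hv⟩, hm, hz⟩

/-- germs of an `L`-torsion sheaf at any point of the site are killed by `L`-numbers -/
lemma stalk_torsion (L : Set ℕ) (F : EtCoh.Ab X) (hF : EtAcyc.IsLTorsion L F)
    (Φ : Point.{u} X.smallEtaleTopology)
    (z : (Φ.presheafFiber (A := AddCommGrpCat.{u + 1})).obj F.obj) :
    ∃ m : ℕ, EtAcyc.PrimesIn L m ∧ m • z = 0 := by
  obtain ⟨U, x, s, rfl⟩ := Φ.toPresheafFiber_jointly_surjective (P := F.obj) z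
  obtain ⟨V, g, ⟨m, hm, h⟩, y, rfl⟩ :=
    Φ.jointly_surjective _ ((isLTorsion_iff_killSieve L F).1 hF U s) x
  refine ⟨m, hm, ?_⟩
  rw [← Point.toPresheafFiber_w_apply, ← map_nsmul, h, map_zero]

/-- a sheaf all of whose germs at the chosen geometric points are killed by `L`-numbers is
`L`-torsion -/
lemma isLTorsion_of_stalks (L : Set ℕ) (F : EtCoh.Ab X)
    (h : ∀ (x : X) (z : (EtCoh.stalk (gp X x)).obj F), ∃ m : ℕ, EtAcyc.PrimesIn L m ∧ m • z = 0) :
    EtAcyc.IsLTorsion L F := by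
  rw [isLTorsion_iff_killSieve]
  intro U s
  have hP : (ObjectProperty.ofObj (fun x : X ↦ Scheme.pointSmallEtale (gp X x))).IsConservativeFamilyOfPoints := by
    apply Scheme.isConservative_pointSmallEtale
    ext x
    simp only [Set.mem_iUnion, Set.mem_range, Set.mem_univ, iff_true]
    exact ⟨x, default, gp_apply X x _⟩
  apply Groth.Agent.Lib.Helper23.PointStalk.sieve_mem_of_forall hP
  rintro ⟨Ψ, ⟨x⟩⟩ y
  let t : ((Scheme.pointSmallEtale (gp X x)).presheafFiber (A := AddCommGrpCat.{u + 1})).obj F.obj :=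
    (Scheme.pointSmallEtale (gp X x)).toPresheafFiber U y F.obj s
  obtain ⟨m, hm, hz⟩ := h x t
  have hz2 : m • t = 0 := hz
  have hz' : (Scheme.pointSmallEtale (gp X x)).toPresheafFiber U y F.obj (m • s) =
      (Scheme.pointSmallEtale (gp X x)).toPresheafFiber U y F.obj 0 := by
    rw [map_nsmul, map_zero]
    exact hz2
  obtain ⟨V, g, y', hy', hg⟩ := (Point.toPresheafFiber_eq_iff' _ _ y _ _).1 hz'
  refine ⟨V, g, ⟨m, hm, ?_⟩, y', hy'⟩
  rw [← map_nsmul]
  exact hg.trans (map_zero _)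

/-- inverse image preserves `L`-torsion sheaves -/
theorem isLTorsion_pull (p : X ⟶ Y) (L : Set ℕ) (F : EtCoh.Ab Y) (hF : EtAcyc.IsLTorsion L F) :
    EtAcyc.IsLTorsion L ((EtCoh.pull p).obj F) := by
  apply isLTorsion_of_stalks
  intro x z
  obtain ⟨e⟩ := Groth.Agent.S0100.result p F (gp X x)
  let z' : ((Scheme.pointSmallEtale (gp X x ≫ p)).presheafFiber
    (A := AddCommGrpCat.{u + 1})).obj F.obj := e.hom z
  obtain ⟨m, hm, h⟩ := stalk_torsion L F hF (Scheme.pointSmallEtale (gp X x ≫ p)) z'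
  refine ⟨m, hm, ?_⟩
  have h1 : e.hom (m • z) = 0 := by rw [map_nsmul]; exact h
  have h2 : e.inv (e.hom (m • z)) = m • z := by
    have := ConcreteCategory.congr_hom e.hom_inv_id (m • z)
    simp only [ConcreteCategory.comp_apply, ConcreteCategory.id_apply] at this
    exact this
  rw [← h2, h1, map_zero]

end Groth.Agent.Lib.Helper23.LTorsPull
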