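import Groth.Agent.Lib.Helper23.IsoEquiv
import Groth.Agent.Lib.Helper23.LTorsPull
import Groth.Prelude.Def_EtAcyc

/-!
# Acyclicity of morphisms and composition (helper23)
-/

set_option autoImplicit false
set_option backward.isDefEq.respectTransparency false
set_option backward.isDefEq.respectTransparency.types false

universe u

open CategoryTheory CategoryTheory.Limits Opposite AlgebraicGeometry Abelian

namespace Groth.Agent.Lib.Helper23.AcycComp

open Groth.Agent.Lib.Helper23.HpullComp Groth.Agent.Lib.Helper23.IsoEquiv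
  Groth.Agent.Lib.Helper23.LTorsPull

variable {X Y Z : Scheme.{u}}

/-- the comparison condition with the canonical exactness instance -/
def Comp' (p : X ⟶ Y) (L : Set ℕ) (n : ℕ) : Prop :=
  ∀ F : EtCoh.Ab Y, EtAcyc.IsLTorsion L F →
    (∀ q : ℕ, q ≤ n → Function.Bijective (EtCore.Hpull p F q)) ∧
      Function.Injective (EtCore.Hpull p F (n + 1))

lemma compN_iff (p : X ⟶ Y) (L : Set ℕ) (n : ℕ) : EtAcyc.CompN p L n ↔ Comp' p L n :=
  ⟨fun h F hF => h F hF, fun h F hF _ => h F hF⟩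

lemma comp'_of_isIso (p : X ⟶ Y) [IsIso p] (L : Set ℕ) (n : ℕ) : Comp' p L n :=
  fun F _ => ⟨fun q _ => Hpull_bijective_of_isIso p F q, (Hpull_bijective_of_isIso p F (n + 1)).1⟩

section

variable (a : X ⟶ Y) (b : Y ⟶ Z) (p₀ : X ⟶ Z) (w : a ≫ b = p₀)

lemma Hpull_eq_comp (G : EtCoh.Ab Z) (q : ℕ) :
    ⇑(EtCore.Hpull p₀ G q) = ⇑(EtCore.HpullVia a b p₀ w G q) ∘ ⇑(EtCore.Hpull b G q) := by
  funext x
  exact (HpullVia_Hpull a b p₀ w G q x).symm

lemma HpullVia_eq_comp (G : EtCoh.Ab Z) (q : ℕ) :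
    ⇑(EtCore.HpullVia a b p₀ w G q) =
      ⇑((EtCoh.HF X q).map (((EtCore.pullComp a b).symm ≪≫ EtCore.pullCongr w).app G).hom) ∘
        ⇑(EtCore.Hpull a ((EtCoh.pull b).obj G) q) := rfl

lemma HF_map_bijective {F G : EtCoh.Ab X} (e : F ≅ G) (q : ℕ) :
    Function.Bijective ((EtCoh.HF X q).map e.hom) :=
  ConcreteCategory.bijective_of_isIso ((EtCoh.HF X q).map e.hom)

include w in
lemma comp'_comp (L : Set ℕ) (n : ℕ) (ha : Comp' a L n) (hb : Comp' b L n) : Comp' p₀ L n := by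
  intro G hG
  have hG' := isLTorsion_pull b L G hG
  refine ⟨fun q hq => ?_, ?_⟩
  · rw [Hpull_eq_comp a b p₀ w G q, HpullVia_eq_comp a b p₀ w G q]
    exact ((HF_map_bijective _ q).comp ((ha _ hG').1 q hq)).comp ((hb G hG).1 q hq)
  · rw [Hpull_eq_comp a b p₀ w G (n + 1), HpullVia_eq_comp a b p₀ w G (n + 1)]
    exact ((HF_map_bijective _ (n + 1)).1.comp (ha _ hG').2).comp (hb G hG).2

include w in
lemma comp'_of_comp (L : Set ℕ) (n : ℕ) (ha : Comp' a L n) (hp : Comp' p₀ L n) : Comp' b L n := by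
  intro G hG
  have hG' := isLTorsion_pull b L G hG
  refine ⟨fun q hq => ?_, ?_⟩
  · have h1 := (hp G hG).1 q hq
    rw [Hpull_eq_comp a b p₀ w G q, HpullVia_eq_comp a b p₀ w G q] at h1
    exact (Function.Bijective.of_comp_iff' ((HF_map_bijective _ q).comp ((ha _ hG').1 q hq)) _).1 h1
  · have h1 := (hp G hG).2
    rw [Hpull_eq_comp a b p₀ w G (n + 1)] at h1
    exact Function.Injective.of_comp h1

end

section Sets

/-- the unit of `p^* ⊣ p_*` on sheaves of sets is an isomorphism -/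
def UnitIso (p : X ⟶ Y) : Prop := ∀ F : EtDesc.Sh Y, IsIso ((EtDesc.adjSh p).unit.app F)

lemma unitIso_of_isIso (p : X ⟶ Y) [IsIso p] : UnitIso p := fun F => isIso_unitSh p F

variable (a : X ⟶ Y) (b : Y ⟶ Z)

lemma unit_comp (F : EtDesc.Sh Z) :
    (EtDesc.adjSh (a ≫ b)).unit.app F ≫
        (EtDesc.pushSh (a ≫ b)).map ((EtDesc.pullCompSh a b).hom.app F) =
      (EtDesc.adjSh b).unit.app F ≫
        (EtDesc.pushSh b).map ((EtDesc.adjSh a).unit.app ((EtDesc.pullSh b).obj F)) ≫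
          (EtDesc.pushCompSh b a).hom.app _ := by
  have h := Adjunction.unit_leftAdjointUniq_hom_app (EtDesc.adjSh (a ≫ b))
    (((EtDesc.adjSh b).comp (EtDesc.adjSh a)).ofNatIsoRight (EtDesc.pushCompSh b a)) F
  rw [Adjunction.ofNatIsoRight_unit, NatTrans.comp_app, Functor.whiskerLeft_app,
    Adjunction.comp_unit_app] at h
  simp only [Category.assoc] at h
  exact h

lemma unitIso_comp_iff (ha : UnitIso a) (F : EtDesc.Sh Z) :
    IsIso ((EtDesc.adjSh b).unit.app F) ↔ IsIso ((EtDesc.adjSh (a ≫ b)).unit.app F) := by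
  have h := unit_comp a b F
  have := ha ((EtDesc.pullSh b).obj F)
  constructor
  · intro hb
    have h1 : IsIso ((EtDesc.adjSh (a ≫ b)).unit.app F ≫
        (EtDesc.pushSh (a ≫ b)).map ((EtDesc.pullCompSh a b).hom.app F)) := by
      rw [h]
      infer_instance
    exact IsIso.of_isIso_comp_right _ ((EtDesc.pushSh (a ≫ b)).map ((EtDesc.pullCompSh a b).hom.app F))
  · intro hab
    have h1 : IsIso ((EtDesc.adjSh b).unit.app F ≫
        ((EtDesc.pushSh b).map ((EtDesc.adjSh a).unit.app ((EtDesc.pullSh b).obj F)) ≫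
          (EtDesc.pushCompSh b a).hom.app _)) := by
      rw [← h]
      infer_instance
    exact IsIso.of_isIso_comp_right _ ((EtDesc.pushSh b).map
      ((EtDesc.adjSh a).unit.app ((EtDesc.pullSh b).obj F)) ≫ (EtDesc.pushCompSh b a).hom.app _)

lemma unitIso_comp (ha : UnitIso a) (hb : UnitIso b) : UnitIso (a ≫ b) :=
  fun F => (unitIso_comp_iff a b ha F).1 (hb F)

lemma unitIso_of_comp (ha : UnitIso a) (hab : UnitIso (a ≫ b)) : UnitIso b :=
  fun F => (unitIso_comp_iff a b ha F).2 (hab F)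

end Sets

section Geometry

variable (g : X ⟶ Y) (h : Y ⟶ Z) (W : Z.Etale)

/-- the base change of `W` to `Y` -/
noncomputable abbrev VW : Y.Etale := (EtCoh.bc h).obj W

/-- `X ×_Y (Y ×_Z W) ≅ X ×_Z W` -/
noncomputable def ε : pullback (VW h W).hom g ≅ pullback W.hom (g ≫ h) :=
  pullbackLeftPullbackSndIso W.hom h g

lemma ε_hom_prj : (ε g h W).hom ≫ EtAcyc.prj (g ≫ h) W =
    EtAcyc.prj g (VW h W) ≫ EtAcyc.prj h W :=
  pullbackLeftPullbackSndIso_hom_fst W.hom h g

lemma prj_eq : (ε g h W).inv ≫ (EtAcyc.prj g (VW h W) ≫ EtAcyc.prj h W) = EtAcyc.prj (g ≫ h) W := by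
  rw [← ε_hom_prj, Iso.inv_hom_id_assoc]

end Geometry

theorem isAcyclicN_comp_iff (g : X ⟶ Y) (h : Y ⟶ Z) (L : Set ℕ) (n : ℕ)
    (hg : EtAcyc.IsAcyclicN g L n) :
    EtAcyc.IsAcyclicN h L n ↔ EtAcyc.IsAcyclicN (g ≫ h) L n := by
  constructor
  · intro hh W
    rw [compN_iff]
    have ha := (compN_iff _ L n).1 (hg (VW h W))
    have hb := (compN_iff _ L n).1 (hh W)
    have hab := comp'_comp _ _ _ rfl L n ha hb
    exact comp'_comp (ε g h W).inv _ _ (prj_eq g h W) L n (comp'_of_isIso _ L n) hab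
  · intro hgh W
    rw [compN_iff]
    have ha := (compN_iff _ L n).1 (hg (VW h W))
    have hp := (compN_iff _ L n).1 (hgh W)
    have hc : Comp' (EtAcyc.prj g (VW h W) ≫ EtAcyc.prj h W) L n :=
      comp'_comp (ε g h W).hom _ _ (ε_hom_prj g h W) L n (comp'_of_isIso _ L n) hp
    exact comp'_of_comp _ _ _ rfl L n ha hc

theorem isZeroAcyclic_comp_iff (g : X ⟶ Y) (h : Y ⟶ Z) (hg : EtAcyc.IsZeroAcyclic g) :
    EtAcyc.IsZeroAcyclic h ↔ EtAcyc.IsZeroAcyclic (g ≫ h) := by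
  constructor
  · intro hh W
    have ha : UnitIso (EtAcyc.prj g (VW h W)) := hg (VW h W)
    have hb : UnitIso (EtAcyc.prj h W) := hh W
    have hab := unitIso_comp _ _ ha hb
    have := unitIso_comp (ε g h W).inv _ (unitIso_of_isIso _) hab
    rw [prj_eq] at this
    exact this
  · intro hgh W
    have ha : UnitIso (EtAcyc.prj g (VW h W)) := hg (VW h W)
    have hp : UnitIso (EtAcyc.prj (g ≫ h) W) := hgh W
    have hc := unitIso_comp (ε g h W).hom _ (unitIso_of_isIso _) hp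
    rw [ε_hom_prj] at hc
    exact unitIso_of_comp _ _ ha hc

end Groth.Agent.Lib.Helper23.AcycComp
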