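import Mathlib.RingTheory.AdicCompletion.Exactness

set_option autoImplicit false
universe u

namespace Groth.Agent.Lib.Helper23

open AdicCompletion

variable {R : Type u} [CommRing R] (I : Ideal R)
variable {K M N : Type u} [AddCommGroup K] [Module R K] [AddCommGroup M] [Module R M]
  [AddCommGroup N] [Module R N]

/-- Exactness of adic completion under an Artin–Rees type hypothesis with shift `c`. -/
theorem adicCompletion_exact_of_shift (i : K →ₗ[R] M) (g : M →ₗ[R] N)
    (hg : Function.Surjective g) (hig : Function.Exact i g) (c : ℕ)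
    (hc : ∀ n, Submodule.comap i (I ^ (n + c) • ⊤ : Submodule R M) ≤ (I ^ n • ⊤ : Submodule R K)) :
    Function.Injective (AdicCompletion.map I i) ∧
      Function.Exact (AdicCompletion.map I i) (AdicCompletion.map I g) ∧
      Function.Surjective (AdicCompletion.map I g) := by
  refine ⟨?_, ?_, AdicCompletion.map_surjective I hg⟩
  · rw [← LinearMap.ker_eq_bot, LinearMap.ker_eq_bot']
    intro x
    apply AdicCompletion.induction_on I K x (fun a ↦ ?_)
    intro hx
    refine AdicCompletion.mk_zero_of _ _ _ ⟨0, fun n _ ↦ ⟨n + c, by omega, n, le_rfl, ?_⟩⟩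
    apply hc n
    rw [Submodule.mem_comap]
    have := congrArg (fun x ↦ x.val (n + c)) hx
    simpa using this
  · refine LinearMap.exact_of_comp_eq_zero_of_ker_le_range ?_ (fun y ↦ ?_)
    · rw [AdicCompletion.map_comp, hig.linearMap_comp_eq_zero, AdicCompletion.map_zero]
    · apply AdicCompletion.induction_on I M y (fun b ↦ ?_)
      intro hz
      have hb (n : ℕ) : g (b n) ∈ (I ^ n • ⊤ : Submodule R N) := by
        simpa using congrArg (fun x ↦ x.val n) hz
      have hex : ∀ n, ∃ k : K, b n - i k ∈ (I ^ n • ⊤ : Submodule R M) := by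
        intro n
        have h1 : g (b n) ∈ Submodule.map g (I ^ n • ⊤ : Submodule R M) := by
          rw [Submodule.map_smul'', Submodule.map_top, LinearMap.range_eq_top.mpr hg]
          exact hb n
        obtain ⟨d, hd, hdg⟩ := h1
        obtain ⟨k, hk⟩ := (hig (b n - d)).mp (by rw [map_sub, hdg, sub_self])
        exact ⟨k, by rw [hk, sub_sub_cancel]; exact hd⟩
      choose k hk using hex
      have hmono : ∀ {a b : ℕ}, a ≤ b →
          (I ^ b • ⊤ : Submodule R M) ≤ I ^ a • ⊤ := fun h =>
        Submodule.smul_mono_left (Ideal.pow_le_pow_right h)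
      have hcauchy : ∀ n, k (n + c) ≡ k (n + 1 + c) [SMOD (I ^ n • ⊤ : Submodule R K)] := by
        intro n
        rw [SModEq.sub_mem]
        apply hc n
        rw [Submodule.mem_comap, map_sub]
        have h1 := hk (n + c)
        have h2 := hmono (show n + c ≤ n + 1 + c by omega) (hk (n + 1 + c))
        have h3 : b (n + c) - b (n + 1 + c) ∈ (I ^ (n + c) • ⊤ : Submodule R M) := by
          rw [← SModEq.sub_mem]
          exact b.property (by omega)
        have : i (k (n + c)) - i (k (n + 1 + c)) =
            (b (n + 1 + c) - i (k (n + 1 + c))) - (b (n + c) - i (k (n + c))) +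
              (b (n + c) - b (n + 1 + c)) := by abel
        rw [this]
        exact Submodule.add_mem _ (Submodule.sub_mem _ h2 h1) h3
      refine ⟨AdicCompletion.mk I K (AdicCauchySequence.mk I K (fun n ↦ k (n + c)) hcauchy), ?_⟩
      ext n
      simp only [map_val_apply, mk_apply_coe, AdicCauchySequence.mk_coe, Submodule.mkQ_apply,
        LinearMap.reduceModIdeal_apply]
      rw [Submodule.Quotient.eq]
      have h1 := hmono (show n ≤ n + c by omega) (hk (n + c))
      have h2 : b n - b (n + c) ∈ (I ^ n • ⊤ : Submodule R M) := by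
        rw [← SModEq.sub_mem]
        exact b.property (by omega)
      have : i (k (n + c)) - b n = -((b (n + c) - i (k (n + c))) + (b n - b (n + c))) := by abel
      rw [this]
      exact Submodule.neg_mem _ (Submodule.add_mem _ h1 h2)

end Groth.Agent.Lib.Helper23
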