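import Mathlib
import Groth.Prelude.Def_CAlgX

/-!
# Adic formal smoothness descends along ring maps with a linear retraction
-/

namespace Groth.Agent.Lib.Helper23.AdicRetract

open TensorProduct

universe u
variable {R S R' : Type u} [CommRing R] [CommRing S] [Algebra R S] [CommRing R'] [Algebra R R']

section L
variable (ρ : R' →ₗ[R] R) (A : Type u) [CommRing A] [Algebra R A]

/-- `ρ ⊗ id : R' ⊗ A → A` -/
noncomputable def L : R' ⊗[R] A →ₗ[R] A := (TensorProduct.lid R A).toLinearMap ∘ₗ ρ.rTensor A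

@[simp] theorem L_tmul (r' : R') (a : A) : L ρ A (r' ⊗ₜ[R] a) = ρ r' • a := by
  simp [L]

theorem L_mul (a : A) (x : R' ⊗[R] A) : L ρ A (((1 : R') ⊗ₜ[R] a) * x) = a * L ρ A x := by
  induction x with
  | zero => simp
  | tmul r' b =>
    rw [Algebra.TensorProduct.tmul_mul_tmul, one_mul, L_tmul, L_tmul, mul_smul_comm]
  | add x y hx hy => rw [mul_add, map_add, hx, hy, map_add, mul_add]

theorem L_mem (J : Ideal A) (x : R' ⊗[R] A)
    (hx : x ∈ J.map (Algebra.TensorProduct.includeRight : A →ₐ[R] R' ⊗[R] A)) : L ρ A x ∈ J := by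
  have key : ∀ c : R' ⊗[R] A, L ρ A (c * x) ∈ J := by
    induction hx using Submodule.span_induction with
    | mem x hx =>
      obtain ⟨j, hj, rfl⟩ := hx
      intro c
      show L ρ A (c * ((1 : R') ⊗ₜ[R] j)) ∈ J
      rw [mul_comm, L_mul]
      exact J.mul_mem_right _ hj
    | zero => intro c; rw [mul_zero, map_zero]; exact J.zero_mem
    | add x y _ _ hx hy => intro c; rw [mul_add, map_add]; exact J.add_mem (hx c) (hy c)
    | smul d x _ hx =>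
      intro c
      rw [smul_eq_mul, ← mul_assoc]
      exact hx (c * d)
  simpa using key 1

end L


theorem descent (𝔫 : Ideal S) (ρ : R' →ₗ[R] R) (hρ : ∀ r : R, ρ (algebraMap R R' r) = r)
    (h : CAlgX.IsAdicFormallySmooth R' (R' ⊗[R] S)
      (𝔫.map (Algebra.TensorProduct.includeRight : S →ₐ[R] R' ⊗[R] S))) :
    CAlgX.IsAdicFormallySmooth R S 𝔫 := by
  intro A _ _ J hJ ψ hψ
  obtain ⟨k, hk⟩ := hψ
  have hρ1 : ρ 1 = 1 := by simpa using hρ 1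
  let inc : A →ₐ[R] R' ⊗[R] A := Algebra.TensorProduct.includeRight
  let J' : Ideal (R' ⊗[R] A) := J.map inc
  have hJ' : J' ^ 2 = ⊥ := by
    show (J.map inc) ^ 2 = ⊥
    rw [← Ideal.map_pow, hJ, Ideal.map_bot]
  have hJle : J ≤ J'.comap inc := Ideal.le_comap_map
  let qm : (A ⧸ J) →ₐ[R] (R' ⊗[R] A) ⧸ J' := Ideal.quotientMapₐ J' inc hJle
  let g : S →ₐ[R] (R' ⊗[R] A) ⧸ J' := qm.comp ψ
  let ψ' : (R' ⊗[R] S) →ₐ[R'] (R' ⊗[R] A) ⧸ J' :=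
    Algebra.TensorProduct.lift (Algebra.ofId R' ((R' ⊗[R] A) ⧸ J')) g (fun _ _ => Commute.all _ _)
  have hψ'1 : ∀ s : S, ψ' ((1 : R') ⊗ₜ[R] s) = qm (ψ s) := by
    intro s
    show Algebra.TensorProduct.lift _ g _ ((1 : R') ⊗ₜ[R] s) = _
    rw [Algebra.TensorProduct.lift_tmul, map_one, one_mul]
    rfl
  have hψ'k : ∃ k, ∀ x ∈ (𝔫.map (Algebra.TensorProduct.includeRight : S →ₐ[R] R' ⊗[R] S)) ^ k,
      ψ' x = 0 := by
    refine ⟨k, fun x hx => ?_⟩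
    rw [← Ideal.map_pow] at hx
    have hle : (𝔫 ^ k).map (Algebra.TensorProduct.includeRight : S →ₐ[R] R' ⊗[R] S) ≤
        RingHom.ker ψ'.toRingHom := by
      rw [Ideal.map_le_iff_le_comap]
      intro n hn
      show ψ' ((1 : R') ⊗ₜ[R] n) = 0
      rw [hψ'1, hk n hn, map_zero]
    exact hle hx
  obtain ⟨χ', hχ'⟩ := h (R' ⊗[R] A) J' hJ' ψ' hψ'k
  have hχ'1 : ∀ s : S, Ideal.Quotient.mk J' (χ' ((1 : R') ⊗ₜ[R] s)) = qm (ψ s) := by
    intro s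
    rw [← hψ'1, ← hχ']
    rfl
  -- decomposition
  have hdec : ∀ (s : S) (a : A), Ideal.Quotient.mk J a = ψ s →
      χ' ((1 : R') ⊗ₜ[R] s) - (1 : R') ⊗ₜ[R] a ∈ J' := by
    intro s a ha
    rw [← Ideal.Quotient.eq, hχ'1, ← ha]
    rfl
  have hL1 : ∀ a : A, L ρ A ((1 : R') ⊗ₜ[R] a) = a := fun a => by rw [L_tmul, hρ1, one_smul]
  have hLmk : ∀ s : S, Ideal.Quotient.mk J (L ρ A (χ' ((1 : R') ⊗ₜ[R] s))) = ψ s := by
    intro s
    obtain ⟨a, ha⟩ := Ideal.Quotient.mk_surjective (ψ s)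
    have h1 := L_mem ρ A J _ (hdec s a ha)
    rw [map_sub, hL1] at h1
    rw [← ha]
    exact Ideal.Quotient.eq.mpr h1
  have hmul : ∀ s t : S, L ρ A (χ' ((1 : R') ⊗ₜ[R] (s * t))) =
      L ρ A (χ' ((1 : R') ⊗ₜ[R] s)) * L ρ A (χ' ((1 : R') ⊗ₜ[R] t)) := by
    intro s t
    obtain ⟨a, ha⟩ := Ideal.Quotient.mk_surjective (ψ s)
    obtain ⟨b, hb⟩ := Ideal.Quotient.mk_surjective (ψ t)
    set X := χ' ((1 : R') ⊗ₜ[R] s) with hX
    set Y := χ' ((1 : R') ⊗ₜ[R] t) with hY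
    have hx : X - (1 : R') ⊗ₜ[R] a ∈ J' := hdec s a ha
    have hy : Y - (1 : R') ⊗ₜ[R] b ∈ J' := hdec t b hb
    have hst : χ' ((1 : R') ⊗ₜ[R] (s * t)) = X * Y := by
      rw [hX, hY, ← map_mul, Algebra.TensorProduct.tmul_mul_tmul, one_mul]
    have hxy : (X - (1 : R') ⊗ₜ[R] a) * (Y - (1 : R') ⊗ₜ[R] b) = 0 := by
      have : (X - (1 : R') ⊗ₜ[R] a) * (Y - (1 : R') ⊗ₜ[R] b) ∈ J' ^ 2 := by
        rw [pow_two]; exact Ideal.mul_mem_mul hx hy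
      rw [hJ'] at this
      exact this
    have hLx : L ρ A (X - (1 : R') ⊗ₜ[R] a) ∈ J := L_mem ρ A J _ hx
    have hLy : L ρ A (Y - (1 : R') ⊗ₜ[R] b) ∈ J := L_mem ρ A J _ hy
    have hLxy : L ρ A (X - (1 : R') ⊗ₜ[R] a) * L ρ A (Y - (1 : R') ⊗ₜ[R] b) = 0 := by
      have : L ρ A (X - (1 : R') ⊗ₜ[R] a) * L ρ A (Y - (1 : R') ⊗ₜ[R] b) ∈ J ^ 2 := by
        rw [pow_two]; exact Ideal.mul_mem_mul hLx hLy
      rw [hJ] at this
      exact this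
    have e1 : X * Y = ((1 : R') ⊗ₜ[R] a) * Y + ((1 : R') ⊗ₜ[R] b) * (X - (1 : R') ⊗ₜ[R] a) +
        (X - (1 : R') ⊗ₜ[R] a) * (Y - (1 : R') ⊗ₜ[R] b) := by ring
    rw [hst, e1, hxy, add_zero, map_add, L_mul, L_mul]
    have e2 : L ρ A X = a + L ρ A (X - (1 : R') ⊗ₜ[R] a) := by rw [map_sub, hL1]; ring
    have e3 : L ρ A Y = b + L ρ A (Y - (1 : R') ⊗ₜ[R] b) := by rw [map_sub, hL1]; ring
    have e4 : L ρ A X * L ρ A Y = a * L ρ A Y + b * L ρ A (X - (1 : R') ⊗ₜ[R] a) +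
        L ρ A (X - (1 : R') ⊗ₜ[R] a) * L ρ A (Y - (1 : R') ⊗ₜ[R] b) := by
      rw [e2, e3]
      ring
    rw [e4, hLxy, add_zero]
  let χ : S →ₐ[R] A :=
    AlgHom.ofLinearMap
      ((L ρ A) ∘ₗ (χ'.toLinearMap.restrictScalars R) ∘ₗ
        (Algebra.TensorProduct.includeRight : S →ₐ[R] R' ⊗[R] S).toLinearMap)
      (by
        show L ρ A (χ' ((1 : R') ⊗ₜ[R] (1 : S))) = 1
        have : ((1 : R') ⊗ₜ[R] (1 : S)) = (1 : R' ⊗[R] S) := rfl
        rw [this, map_one]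
        exact hL1 1)
      (fun s t => hmul s t)
  refine ⟨χ, ?_⟩
  ext s
  exact hLmk s

end Groth.Agent.Lib.Helper23.AdicRetract
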