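import Groth.Agent.Lib.Helper23.EtGlue2
import Groth.Prelude.Def_EtShriek2
import Mathlib.AlgebraicGeometry.Morphisms.UniversallyInjective

/-!
# Supports of sections of etale sheaves: locality lemmas
-/

set_option autoImplicit false
universe u

namespace Groth.Agent.Lib.Helper23.EtSupp

open CategoryTheory CategoryTheory.Limits AlgebraicGeometry Opposite GrothendieckTopology
open EtGlue

variable {X : Scheme.{u}}

/-- the sheaf of sets underlying an abelian sheaf -/
noncomputable def shOf (F : EtCoh.Ab X) : EtDesc.Sh X :=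
  ⟨F.obj ⋙ forget AddCommGrpCat.{u+1},
    (Presheaf.isSheaf_iff_isSheaf_forget _ _ (forget AddCommGrpCat.{u+1})).1 F.property⟩

set_option backward.isDefEq.respectTransparency.types false in
set_option backward.isDefEq.respectTransparency false in
/-- sections agreeing on a jointly surjective family agree -/
lemma eq_of_cover (F : EtCoh.Ab X) (U : X.Etale) (s t : EtCoh.sect F U)
    (h : ∀ x : U.left, ∃ (W : X.Etale) (g : W ⟶ U), x ∈ Set.range g.left ∧
      F.obj.map g.op s = F.obj.map g.op t) : s = t := by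
  let P := shOf F
  let R : Sieve U :=
    { arrows := fun W g => F.obj.map g.op s = F.obj.map g.op t
      downward_closed := by
        intro W W' g hg k
        change F.obj.map (k ≫ g).op s = F.obj.map (k ≫ g).op t
        rw [op_comp, F.obj.map_comp, ConcreteCategory.comp_apply, ConcreteCategory.comp_apply]
        exact congrArg _ hg }
  have hR : R ∈ X.smallEtaleTopology U :=
    sieve_mem_of_forall_point R (fun u => by
      obtain ⟨W, g, hx, hg⟩ := h u
      exact ⟨W, g, hg, hx⟩)
  have hP := (isSheaf_iff_isSheaf_of_type _ _).1 P.2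
  exact (hP R hR).isSeparatedFor.ext (fun W g hg => hg)

lemma not_mem_sectSupp_iff (F : EtCoh.Ab X) (U : X.Etale) (s : EtCoh.sect F U) (x : U.left) :
    x ∉ EtShriek.sectSupp F U s ↔
      ∃ (W : X.Etale) (g : W ⟶ U), x ∈ Set.range g.left ∧ F.obj.map g.op s = 0 := by
  unfold EtShriek.sectSupp
  simp only [Set.mem_ofPred_eq, not_forall, Set.mem_range]
  constructor
  · rintro ⟨W, g, hw, h⟩
    exact ⟨W, g, hw, not_not.1 h⟩
  · rintro ⟨W, g, hw, h⟩
    exact ⟨W, g, hw, not_not.2 h⟩

set_option backward.isDefEq.respectTransparency.types false in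
set_option backward.isDefEq.respectTransparency false in
/-- a morphism whose image lies in an open factors through it -/
lemma exists_factor_opn {T U : X.Etale} (g : T ⟶ U) (V : U.left.Opens)
    (h : ∀ t : T.left, g.left t ∈ V) : ∃ g' : T ⟶ opn U V, g' ≫ opnι U V = g := by
  have hr : Set.range g.left ⊆ Set.range V.ι := by
    rw [Scheme.Opens.range_ι]
    rintro _ ⟨t, rfl⟩
    exact h t
  let l : T.left ⟶ V.toScheme := IsOpenImmersion.lift V.ι g.left hr
  have hl : l ≫ V.ι = g.left := IsOpenImmersion.lift_fac _ _ _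
  have hg : g.left ≫ U.hom = T.hom := Over.w g.hom
  refine ⟨MorphismProperty.Over.homMk l (by
    change l ≫ V.ι ≫ U.hom = T.hom
    rw [← Category.assoc, hl, hg]) trivial, ?_⟩
  apply hom_ext_of_left
  exact hl

lemma map_comp_apply (F : EtCoh.Ab X) {A B C : X.Etale} (a : A ⟶ B) (b : B ⟶ C)
    (s : EtCoh.sect F C) :
    F.obj.map (a ≫ b).op s = F.obj.map a.op (F.obj.map b.op s) := by
  rw [op_comp, F.obj.map_comp, ConcreteCategory.comp_apply]

set_option backward.isDefEq.respectTransparency.types false in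
set_option backward.isDefEq.respectTransparency false in
/-- a section vanishes on an open all of whose points are outside its support -/
lemma restrict_eq_zero (F : EtCoh.Ab X) (U : X.Etale) (s : EtCoh.sect F U) (V : U.left.Opens)
    (h : ∀ x ∈ V, x ∉ EtShriek.sectSupp F U s) : F.obj.map (opnι U V).op s = 0 := by
  apply eq_of_cover F (opn U V)
  intro y
  obtain ⟨W, g, ⟨w, hw⟩, hg⟩ := (not_mem_sectSupp_iff F U s (V.ι y)).1 (h _ y.2)
  have hk : ∀ t : (opn W (g.left ⁻¹ᵁ V)).left, (opnι W (g.left ⁻¹ᵁ V) ≫ g).left t ∈ V :=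
    fun t => t.2
  obtain ⟨g', hg'⟩ := exists_factor_opn (opnι W (g.left ⁻¹ᵁ V) ≫ g) V hk
  refine ⟨opn W (g.left ⁻¹ᵁ V), g', ?_, ?_⟩
  · have hwV : w ∈ g.left ⁻¹ᵁ V := by
      change g.left w ∈ V
      rw [hw]
      exact y.2
    refine ⟨⟨w, hwV⟩, ?_⟩
    apply V.ι.isOpenEmbedding.injective
    have h1 := congrArg (fun k : opn W (g.left ⁻¹ᵁ V) ⟶ U => k.left (⟨w, hwV⟩ : ↥(g.left ⁻¹ᵁ V))) hg'
    exact h1.trans hw
  · rw [← map_comp_apply, hg', map_comp_apply, hg, map_zero, map_zero]

set_option backward.isDefEq.respectTransparency.types false in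
set_option backward.isDefEq.respectTransparency false in
/-- the support of a restricted section lies over the support of the section -/
lemma sectSupp_map_subset (F : EtCoh.Ab X) {U U' : X.Etale} (φ : U' ⟶ U) (s : EtCoh.sect F U) :
    EtShriek.sectSupp F U' (F.obj.map φ.op s) ⊆ φ.left ⁻¹' EtShriek.sectSupp F U s := by
  intro x' hx'
  by_contra hcon
  obtain ⟨W, g, ⟨w, hw⟩, hg⟩ := (not_mem_sectSupp_iff F U s (φ.left x')).1 hcon
  haveI : Etale U'.hom := U'.prop
  haveI : Etale (pullback.snd g.left φ.left ≫ U'.hom) := inferInstance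
  let W' : X.Etale := Scheme.Etale.mk (pullback.snd g.left φ.left ≫ U'.hom)
  let p₂ : W' ⟶ U' := MorphismProperty.Over.homMk (pullback.snd g.left φ.left) rfl trivial
  have hgw : g.left ≫ U.hom = W.hom := Over.w g.hom
  have hφw : φ.left ≫ U.hom = U'.hom := Over.w φ.hom
  let p₁ : W' ⟶ W := MorphismProperty.Over.homMk (pullback.fst g.left φ.left) (by
    change pullback.fst g.left φ.left ≫ W.hom = pullback.snd g.left φ.left ≫ U'.hom
    rw [← hgw, ← hφw, ← Category.assoc, ← Category.assoc, pullback.condition]) trivial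
  have hcomm : p₁ ≫ g = p₂ ≫ φ := by
    apply hom_ext_of_left
    exact pullback.condition
  obtain ⟨z, hz1, hz2⟩ := Scheme.Pullback.exists_preimage_pullback (f := g.left) (g := φ.left)
    w x' hw
  apply hx' W' p₂ ⟨z, hz2⟩
  rw [← map_comp_apply, ← hcomm, map_comp_apply, hg, map_zero]

set_option backward.isDefEq.respectTransparency.types false in
set_option backward.defeqAttrib.useBackward true in
lemma mem_range_diagonal {A B : Scheme.{u}} (f : A ⟶ B) (p : ↑(pullback f f))
    (hp : pullback.fst f f p = pullback.snd f f p)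
    (hs : ∀ x : A, x = pullback.fst f f p → Function.Surjective (f.residueFieldMap x).hom) :
    p ∈ Set.range (pullback.diagonal f) := by
  let K := (pullback f f).residueField p
  let φ₀ : Spec K ⟶ pullback f f := (pullback f f).fromSpecResidueField p
  let g₁ : Spec K ⟶ A := φ₀ ≫ pullback.fst f f
  let g₂ : Spec K ⟶ A := φ₀ ≫ pullback.snd f f
  have hg : g₁ ≫ f = g₂ ≫ f := by
    simp only [g₁, g₂, Category.assoc, pullback.condition]
  have h0 : φ₀ (IsLocalRing.closedPoint K) = p := Scheme.fromSpecResidueField_apply _ _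
  have h1 : g₁ (IsLocalRing.closedPoint K) = pullback.fst f f p := by
    change pullback.fst f f (φ₀ (IsLocalRing.closedPoint K)) = _
    rw [h0]
  have h2 : g₂ (IsLocalRing.closedPoint K) = pullback.snd f f p := by
    change pullback.snd f f (φ₀ (IsLocalRing.closedPoint K)) = _
    rw [h0]
  have e0 : g₁ (IsLocalRing.closedPoint K) = g₂ (IsLocalRing.closedPoint K) := by
    rw [h1, h2, hp]
  have h12 : g₁ = g₂ := by
    obtain ⟨e, h⟩ := Scheme.SpecToEquivOfField_eq_iff.mp congr((B.SpecToEquivOfField K) $(hg))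
    apply (A.SpecToEquivOfField K).injective
    dsimp at e h
    simp only [Scheme.descResidueField_stalkClosedPointTo_comp] at e h
    rw [← f.residueFieldMap_congr'_assoc e0, CommRingCat.hom_ext_iff] at h
    rw [Scheme.SpecToEquivOfField_eq_iff]
    refine ⟨e0, CommRingCat.hom_ext ?_⟩
    have hsurj := hs _ h1
    apply RingHom.ext
    intro y
    obtain ⟨z, rfl⟩ := hsurj y
    exact congrArg (fun ψ : _ →+* _ => ψ z) h
  have hφ₂ : φ₀ = g₁ ≫ pullback.diagonal f := by
    apply pullback.hom_ext
    · simp [g₁]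
    · rw [Category.assoc, pullback.diagonal_snd, Category.comp_id, h12]
  refine ⟨g₁ (IsLocalRing.closedPoint K), ?_⟩
  rw [← Scheme.Hom.comp_apply, ← hφ₂]
  exact Scheme.fromSpecResidueField_apply _ _

set_option backward.isDefEq.respectTransparency.types false in
set_option backward.isDefEq.respectTransparency false in
/-- gluing two sections along a two-element covering -/
lemma exists_glue_two (F : EtCoh.Ab X) {U A B : X.Etale} (a : A ⟶ U) (b : B ⟶ U)
    (hcov : ∀ x : U.left, x ∈ Set.range a.left ∨ x ∈ Set.range b.left)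
    (sa : EtCoh.sect F A) (sb : EtCoh.sect F B)
    (haa : ∀ (T : X.Etale) (g₁ g₂ : T ⟶ A), g₁ ≫ a = g₂ ≫ a →
      F.obj.map g₁.op sa = F.obj.map g₂.op sa)
    (hbb : ∀ (T : X.Etale) (g₁ g₂ : T ⟶ B), g₁ ≫ b = g₂ ≫ b →
      F.obj.map g₁.op sb = F.obj.map g₂.op sb)
    (hab : ∀ (T : X.Etale) (g₁ : T ⟶ A) (g₂ : T ⟶ B), g₁ ≫ a = g₂ ≫ b →
      F.obj.map g₁.op sa = F.obj.map g₂.op sb) :
    ∃ s : EtCoh.sect F U, F.obj.map a.op s = sa ∧ F.obj.map b.op s = sb := by
  let P := shOf F
  let Xs : Bool → X.Etale := fun i => cond i A B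
  let π : ∀ i, Xs i ⟶ U := fun i => by
    cases i
    · exact b
    · exact a
  let x : ∀ i, P.obj.obj (op (Xs i)) := fun i => by
    cases i
    · exact sb
    · exact sa
  have hc : Sieve.ofArrows Xs π ∈ X.smallEtaleTopology U := by
    rw [Scheme.ofArrows_mem_smallEtaleTopology_iff]
    ext t
    simp only [Set.mem_iUnion, Set.mem_univ, iff_true]
    rcases hcov t with h | h
    · exact ⟨true, h⟩
    · exact ⟨false, h⟩
  have hP := (isSheaf_iff_isSheaf_of_type _ _).1 P.2
  have h1 : Presieve.IsSheafFor P.obj (Presieve.ofArrows Xs π) :=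
    (Presieve.isSheafFor_iff_generate _).2 (hP _ hc)
  have hcompat : Presieve.Arrows.Compatible P.obj π x := by
    intro i j T gi gj hg
    cases i <;> cases j
    · exact hbb T gi gj hg
    · exact (hab T gj gi hg.symm).symm
    · exact hab T gi gj hg
    · exact haa T gi gj hg
  obtain ⟨s, hs, -⟩ := (Presieve.isSheafFor_arrows_iff P.obj π).1 h1 x hcompat
  exact ⟨s, hs true, hs false⟩

end Groth.Agent.Lib.Helper23.EtSupp
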