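import Groth.Agent.Lib.Helper23.EtRestr
import Groth.Agent.Lib.Helper23.EtJCont
import Groth.Prelude.Def_EtCore
import Mathlib.CategoryTheory.Sites.Over
import Mathlib.CategoryTheory.Sites.CoverLifting
import Mathlib.CategoryTheory.Sites.ConstantSheaf

/-!
# Bridge between restriction to the over-site and inverse image to an étale scheme
-/

set_option autoImplicit false
universe u

namespace Groth.Agent.Lib.Helper23.FlcBridge

open CategoryTheory CategoryTheory.Limits AlgebraicGeometry Opposite

variable {X : Scheme.{u}}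

/-- the constant sheaf on the over-site is the restriction of the constant sheaf -/
noncomputable def constOverIso (U : X.Etale) (M : AddCommGrpCat.{u + 1}) :
    (constantSheaf (X.smallEtaleTopology.over U) AddCommGrpCat.{u + 1}).obj M ≅
      ((constantSheaf X.smallEtaleTopology AddCommGrpCat.{u + 1}).obj M).over U :=
  ((Over.forget U).pushforwardContinuousSheafificationCompatibility AddCommGrpCat.{u + 1}
    (X.smallEtaleTopology.over U) X.smallEtaleTopology).app
      ((Functor.const X.Etaleᵒᵖ).obj M)

section Functors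

variable (U : X.Etale)

instance : Etale U.hom := U.prop

/-- `W ↦ (W → U)` from étale `U`-schemes to the over category of `U` in the small étale site -/
noncomputable def toOver : U.left.Etale ⥤ Over U where
  obj W := Over.mk (MorphismProperty.Over.homMk W.hom rfl trivial :
    (EtShriek.compEtale U.hom).obj W ⟶ U)
  map {W W'} g := Over.homMk ((EtShriek.compEtale U.hom).map g) (by
    apply MorphismProperty.Over.Hom.ext
    exact MorphismProperty.Over.w g)
  map_id W := by
    apply Over.OverMorphism.ext
    exact (EtShriek.compEtale U.hom).map_id W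
  map_comp g h := by
    apply Over.OverMorphism.ext
    exact (EtShriek.compEtale U.hom).map_comp g h

lemma toOver_forget : toOver U ⋙ Over.forget U = EtShriek.compEtale U.hom := rfl

/-- `(V → U) ↦ (V.left → U.left)` -/
noncomputable def ofOver : Over U ⥤ U.left.Etale where
  obj V := MorphismProperty.Over.mk ⊤ V.hom.left (by
    have e : V.hom.left ≫ U.hom = V.left.hom := MorphismProperty.Over.w V.hom
    have hV : EtCoh.etaleMP (V.hom.left ≫ U.hom) := by rw [e]; exact V.left.prop
    exact EtCoh.etaleMP.of_postcomp (W' := EtCoh.etaleMP) V.hom.left U.hom U.prop hV)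
  map {V V'} g := MorphismProperty.Over.homMk g.left.left (by
    have := congrArg (fun φ => φ.left) (Over.w g)
    exact this) trivial
  map_id V := by
    apply MorphismProperty.Over.Hom.ext
    rfl
  map_comp g h := by
    apply MorphismProperty.Over.Hom.ext
    rfl

/-- `V ≅ (V.left → U.left → X)` naturally in `V : Over U` -/
noncomputable def ofOverIso : ofOver U ⋙ EtShriek.compEtale U.hom ≅ Over.forget U :=
  NatIso.ofComponents (fun V => MorphismProperty.Over.isoMk (Iso.refl _) (by
    have e : V.hom.left ≫ U.hom = V.left.hom := MorphismProperty.Over.w V.hom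
    change 𝟙 _ ≫ V.left.hom = V.hom.left ≫ U.hom
    rw [Category.id_comp, e])) (fun {V V'} g => by
    apply MorphismProperty.Over.Hom.ext
    change g.left.left ≫ 𝟙 _ = 𝟙 _ ≫ g.left.left
    rw [Category.comp_id, Category.id_comp])

/-- an isomorphism of restrictions to the over-site gives one of restrictions along `U.hom` -/
noncomputable def restrAlongIsoOfOver {F G : EtCoh.Ab X} (e : F.over U ≅ G.over U) :
    (EtShriek.restrAlong U.hom).obj F ≅ (EtShriek.restrAlong U.hom).obj G :=
  let e' : (Over.forget U).op ⋙ F.obj ≅ (Over.forget U).op ⋙ G.obj :=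
    (sheafToPresheaf _ _).mapIso e
  let e'' : (EtShriek.compEtale U.hom).op ⋙ F.obj ≅ (EtShriek.compEtale U.hom).op ⋙ G.obj :=
    Functor.isoWhiskerLeft (toOver U).op e'
  (fullyFaithfulSheafToPresheaf _ _).preimageIso e''

/-- an isomorphism of restrictions along `U.hom` gives one of restrictions to the over-site -/
noncomputable def overIsoOfRestrAlong {F G : EtCoh.Ab X}
    (θ : (EtShriek.restrAlong U.hom).obj F ≅ (EtShriek.restrAlong U.hom).obj G) :
    F.over U ≅ G.over U :=
  let θ' : (EtShriek.compEtale U.hom).op ⋙ F.obj ≅ (EtShriek.compEtale U.hom).op ⋙ G.obj :=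
    (sheafToPresheaf _ _).mapIso θ
  let a : (Over.forget U).op ⋙ F.obj ≅ (ofOver U ⋙ EtShriek.compEtale U.hom).op ⋙ F.obj :=
    Functor.isoWhiskerRight (NatIso.op (ofOverIso U)) F.obj
  let b : (Over.forget U).op ⋙ G.obj ≅ (ofOver U ⋙ EtShriek.compEtale U.hom).op ⋙ G.obj :=
    Functor.isoWhiskerRight (NatIso.op (ofOverIso U)) G.obj
  let m : (ofOver U ⋙ EtShriek.compEtale U.hom).op ⋙ F.obj ≅
      (ofOver U ⋙ EtShriek.compEtale U.hom).op ⋙ G.obj :=
    Functor.isoWhiskerLeft (ofOver U).op θ'
  let t : (Over.forget U).op ⋙ F.obj ≅ (Over.forget U).op ⋙ G.obj := a ≪≫ m ≪≫ b.symm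
  (fullyFaithfulSheafToPresheaf _ _).preimageIso t

end Functors

/-- **Bridge**: `F` is constant with value `M` on the over-site of `U` iff its inverse image to the
scheme `U` is the constant sheaf with value `M`. -/
theorem restr_iso_const_iff (F : EtCoh.Ab X) (U : X.Etale) (M : AddCommGrpCat.{u + 1}) :
    Nonempty (EtCoh.restr F U ≅
      (constantSheaf (X.smallEtaleTopology.over U) AddCommGrpCat.{u + 1}).obj M) ↔
    Nonempty ((EtCoh.pull U.hom).obj F ≅
      (constantSheaf U.left.smallEtaleTopology AddCommGrpCat.{u + 1}).obj M) := by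
  let C : EtCoh.Ab X := (constantSheaf X.smallEtaleTopology AddCommGrpCat.{u + 1}).obj M
  have pc : (EtCoh.pull U.hom).obj C ≅
      (constantSheaf U.left.smallEtaleTopology AddCommGrpCat.{u + 1}).obj M :=
    (EtCore.pullConstIso U.hom).app M
  let r := EtRestr.pullIsoRestr U.hom
  constructor
  · rintro ⟨e⟩
    have e1 : F.over U ≅ C.over U := e ≪≫ constOverIso U M
    exact ⟨(r.app F) ≪≫ restrAlongIsoOfOver U e1 ≪≫ (r.app C).symm ≪≫ pc⟩
  · rintro ⟨e⟩
    have θ : (EtShriek.restrAlong U.hom).obj F ≅ (EtShriek.restrAlong U.hom).obj C :=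
      (r.app F).symm ≪≫ e ≪≫ pc.symm ≪≫ r.app C
    exact ⟨overIsoOfRestrAlong U θ ≪≫ (constOverIso U M).symm⟩

end Groth.Agent.Lib.Helper23.FlcBridge
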