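import Groth.Agent.Lib.Helper23.FlcSerre
import Groth.Agent.Lib.Helper23.FlcBridge
import Groth.Agent.Lib.Helper23.EtSupp

/-!
# A subsheaf of a constant sheaf with finite value is constant on some nonempty etale scheme
-/

set_option autoImplicit false
universe u

namespace Groth.Agent.Lib.Helper23.GenConst

open CategoryTheory CategoryTheory.Limits AlgebraicGeometry Opposite EtCore
open Groth.Agent.Lib.Helper23.FlcLoc PullConstComp EtGlue

section Lift

variable {Z : Scheme.{u}}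

/-- a morphism of sheaves that locally factors through a monomorphism factors through it -/
lemma exists_lift_of_local {H₁ H₂ H : EtCoh.Ab Z} (ι₁ : H₁ ⟶ H) (ι₂ : H₂ ⟶ H) [Mono ι₂]
    (h : ∀ (V : Z.Etale) (s : H₁.obj.obj (op V)) (v : V.left), ∃ (W : Z.Etale) (g : W ⟶ V),
      v ∈ Set.range g.left ∧ ∃ t : H₂.obj.obj (op W),
        ι₂.hom.app (op W) t = H.obj.map g.op (ι₁.hom.app (op V) s)) :
    ∃ ψ : H₁ ⟶ H₂, ψ ≫ ι₂ = ι₁ := by
  have hz : ι₁ ≫ cokernel.π ι₂ = 0 := by
    apply Sheaf.hom_ext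
    ext V s
    obtain ⟨V⟩ := V
    change (cokernel.π ι₂).hom.app (op V) (ι₁.hom.app (op V) s) = 0
    apply EtSupp.eq_of_cover (cokernel ι₂) V
    intro v
    obtain ⟨W, g, hv, t, ht⟩ := h V s v
    refine ⟨W, g, hv, ?_⟩
    have h1 := congrArg (fun k => k (ι₁.hom.app (op V) s))
      ((cokernel.π ι₂).hom.naturality g.op)
    simp only [ConcreteCategory.comp_apply] at h1
    rw [map_zero]
    refine h1.symm.trans ?_
    rw [← ht]
    exact comp_zero_apply ι₂ (cokernel.π ι₂) (cokernel.condition ι₂) W t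
  exact ⟨Abelian.monoLift ι₂ ι₁ hz, Abelian.monoLift_comp ι₂ ι₁ hz⟩

/-- two subsheaves which locally have the same sections are isomorphic -/
lemma nonempty_iso_of_local {H₁ H₂ H : EtCoh.Ab Z} (ι₁ : H₁ ⟶ H) (ι₂ : H₂ ⟶ H) [Mono ι₁]
    [Mono ι₂]
    (h12 : ∀ (V : Z.Etale) (s : H₁.obj.obj (op V)) (v : V.left), ∃ (W : Z.Etale) (g : W ⟶ V),
      v ∈ Set.range g.left ∧ ∃ t : H₂.obj.obj (op W),
        ι₂.hom.app (op W) t = H.obj.map g.op (ι₁.hom.app (op V) s))
    (h21 : ∀ (V : Z.Etale) (s : H₂.obj.obj (op V)) (v : V.left), ∃ (W : Z.Etale) (g : W ⟶ V),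
      v ∈ Set.range g.left ∧ ∃ t : H₁.obj.obj (op W),
        ι₁.hom.app (op W) t = H.obj.map g.op (ι₂.hom.app (op V) s)) :
    Nonempty (H₁ ≅ H₂) := by
  obtain ⟨ψ, hψ⟩ := exists_lift_of_local ι₁ ι₂ h12
  obtain ⟨ψ', hψ'⟩ := exists_lift_of_local ι₂ ι₁ h21
  refine ⟨⟨ψ, ψ', ?_, ?_⟩⟩
  · rw [← cancel_mono ι₁, Category.assoc, hψ', hψ, Category.id_comp]
  · rw [← cancel_mono ι₂, Category.assoc, hψ, hψ', Category.id_comp]

end Lift

section Sub

variable {Y : Scheme.{u}} {B : AddCommGrpCat.{u + 1}} {G : EtCoh.Ab Y}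

/-- the constants which are sections of the subsheaf over `V` -/
noncomputable def Nsub (ι : G ⟶ (C Y).obj B) (V : Y.Etale) : AddSubgroup B :=
  (AddMonoidHom.range (ι.hom.app (op V)).hom).comap (ts B V).hom

lemma mem_Nsub (ι : G ⟶ (C Y).obj B) (V : Y.Etale) (b : B) :
    b ∈ Nsub ι V ↔ ∃ t : G.obj.obj (op V), ι.hom.app (op V) t = ts B V b := Iff.rfl

lemma Nsub_mono (ι : G ⟶ (C Y).obj B) {V W : Y.Etale} (g : W ⟶ V) : Nsub ι V ≤ Nsub ι W := by
  intro b hb
  rw [mem_Nsub] at hb ⊢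
  obtain ⟨t, ht⟩ := hb
  refine ⟨G.obj.map g.op t, ?_⟩
  have h1 := congrArg (fun k => k t) (ι.hom.naturality g.op)
  simp only [ConcreteCategory.comp_apply] at h1
  rw [h1, ht]
  exact congrArg (fun k => k b) (ts_map B g)

lemma exists_maximal_Nsub [Nonempty Y] [Finite B] (ι : G ⟶ (C Y).obj B) :
    ∃ W₀ : Y.Etale, Nonempty W₀.left ∧
      ∀ (V : Y.Etale) (_ : V ⟶ W₀), Nonempty V.left → Nsub ι V = Nsub ι W₀ := by
  haveI : Finite (AddSubgroup B) :=
    Finite.of_injective (fun N => (N : Set B)) SetLike.coe_injective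
  obtain ⟨W₀, hW₀, hmax⟩ := Set.Finite.exists_maximalFor' (Nsub ι) {V : Y.Etale | Nonempty V.left}
    (Set.toFinite _) ⟨EtCoh.top Y, inferInstanceAs (Nonempty Y)⟩
  refine ⟨W₀, hW₀, fun V g hV => le_antisymm (hmax hV (Nsub_mono ι g)) (Nsub_mono ι g)⟩

lemma ts_map_apply (B : AddCommGrpCat.{u + 1}) {V W : Y.Etale} (g : W ⟶ V) (b : B) :
    ((C Y).obj B).obj.map g.op (ts B V b) = ts B W b :=
  congrArg (fun k => k b) (ts_map B g)

lemma ts_naturality_apply {A B : AddCommGrpCat.{u + 1}} (h : A ⟶ B) (V : Y.Etale) (a : A) :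
    ((C Y).map h).hom.app (op V) (ts A V a) = ts B V (h a) :=
  congrArg (fun k => k a) (ts_naturality h V)

lemma nat_apply {P Q : EtCoh.Ab Y} (φ : P ⟶ Q) {V W : Y.Etale} (g : W ⟶ V)
    (s : P.obj.obj (op V)) :
    φ.hom.app (op W) (P.obj.map g.op s) = Q.obj.map g.op (φ.hom.app (op V) s) :=
  congrArg (fun k => k s) (φ.hom.naturality g.op)

lemma map_comp_apply (P : EtCoh.Ab Y) {V W W' : Y.Etale} (g : W ⟶ V) (h : W' ⟶ W)
    (s : P.obj.obj (op V)) :
    P.obj.map (h ≫ g).op s = P.obj.map h.op (P.obj.map g.op s) := by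
  rw [op_comp, P.obj.map_comp]
  rfl

section Transport

variable (W₀ : Y.Etale)

instance : Etale W₀.hom := W₀.prop

/-- the structure morphism to `W₀` of an etale `W₀`-scheme, in the site of `Y` -/
noncomputable def toBase (W' : W₀.left.Etale) : (EtShriek.compEtale W₀.hom).obj W' ⟶ W₀ :=
  MorphismProperty.Over.homMk W'.hom rfl trivial

set_option backward.isDefEq.respectTransparency.types false in
set_option backward.isDefEq.respectTransparency false in
lemma exists_lift_etale (V' : W₀.left.Etale) (W : Y.Etale)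
    (g : W ⟶ (EtShriek.compEtale W₀.hom).obj V') :
    ∃ (W' : W₀.left.Etale) (g' : W' ⟶ V') (e : (EtShriek.compEtale W₀.hom).obj W' ⟶ W),
      (EtShriek.compEtale W₀.hom).map g' = e ≫ g ∧ Function.Surjective e.left := by
  have e0 : g.left ≫ V'.hom ≫ W₀.hom = W.hom := MorphismProperty.Over.w g
  have hW : EtCoh.etaleMP ((g.left ≫ V'.hom) ≫ W₀.hom) := by
    rw [Category.assoc, e0]; exact W.prop
  let W' : W₀.left.Etale := MorphismProperty.Over.mk ⊤ (g.left ≫ V'.hom)
    (EtCoh.etaleMP.of_postcomp (W' := EtCoh.etaleMP) (g.left ≫ V'.hom) W₀.hom W₀.prop hW)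
  let g' : W' ⟶ V' := MorphismProperty.Over.homMk g.left rfl trivial
  let e : (EtShriek.compEtale W₀.hom).obj W' ⟶ W :=
    MorphismProperty.Over.homMk (𝟙 W.left)
      ((Category.id_comp W.hom).trans (e0.symm.trans (Category.assoc _ _ _).symm)) trivial
  refine ⟨W', g', e, ?_, ?_⟩
  · apply hom_ext_of_left
    change g.left = 𝟙 _ ≫ g.left
    rw [Category.id_comp]
  · intro w
    exact ⟨w, rfl⟩

end Transport

set_option backward.isDefEq.respectTransparency.types false in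
set_option backward.isDefEq.respectTransparency false in
set_option maxHeartbeats 1600000 in
/-- **Generic constancy**: a subsheaf of a constant sheaf with finite value on a nonempty scheme is
constant (with finite value) on some nonempty etale scheme over it. -/
theorem exists_triv_sub [Nonempty Y] [Finite B] (ι : G ⟶ (C Y).obj B) [Mono ι] :
    ∃ W₀ : Y.Etale, Nonempty W₀.left ∧ Triv ((EtCoh.pull W₀.hom).obj G) := by
  obtain ⟨W₀, hW₀, hmax⟩ := exists_maximal_Nsub ι
  refine ⟨W₀, hW₀, ?_⟩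
  let j : W₀.left ⟶ Y := W₀.hom
  let cE : W₀.left.Etale ⥤ Y.Etale := EtShriek.compEtale j
  let N : AddSubgroup B := Nsub ι W₀
  let N' : AddCommGrpCat.{u + 1} := AddCommGrpCat.of N
  let inc : N' ⟶ B := AddCommGrpCat.ofHom N.subtype
  haveI : Mono inc := (AddCommGrpCat.mono_iff_injective _).2 Subtype.val_injective
  let R : EtCoh.Ab Y ⥤ EtCoh.Ab W₀.left := EtShriek.restrAlong j
  haveI : Mono ((C Y).map inc) := inferInstance
  haveI : PreservesFiniteLimits R :=
    preservesFiniteLimits_of_natIso (EtRestr.pullIsoRestr j)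
  let ι₁ : R.obj G ⟶ R.obj ((C Y).obj B) := R.map ι
  let ι₂ : R.obj ((C Y).obj N') ⟶ R.obj ((C Y).obj B) := R.map ((C Y).map inc)
  haveI : Mono ι₁ := inferInstanceAs (Mono (R.map ι))
  haveI : Mono ι₂ := inferInstanceAs (Mono (R.map ((C Y).map inc)))
  -- the key computation
  have key : ∀ (V' : W₀.left.Etale) (W : Y.Etale) (g : W ⟶ cE.obj V') (W' : W₀.left.Etale)
      (g' : W' ⟶ V') (e : cE.obj W' ⟶ W) (_ : cE.map g' = e ≫ g) (A : AddCommGrpCat.{u + 1})
      (a : A) (x : ((C Y).obj A).obj.obj (op (cE.obj V')))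
      (_ : ts A W a = ((C Y).obj A).obj.map g.op x),
      ((C Y).obj A).obj.map (cE.map g').op x = ts A (cE.obj W') a := by
    intro V' W g W' g' e he A a x hx
    rw [he, map_comp_apply, ← hx, ts_map_apply]
  have h12 : ∀ (V : W₀.left.Etale) (s : (R.obj G).obj.obj (op V)) (v : V.left),
      ∃ (W : W₀.left.Etale) (g : W ⟶ V), v ∈ Set.range g.left ∧
        ∃ t : (R.obj ((C Y).obj N')).obj.obj (op W),
          ι₂.hom.app (op W) t = (R.obj ((C Y).obj B)).obj.map g.op (ι₁.hom.app (op V) s) := by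
    intro V' s v
    obtain ⟨W, g, w, hw, hb⟩ := exists_const_of_sections B (V := cE.obj V') v
      (fun _ : Unit => ι.hom.app (op (cE.obj V')) s)
    obtain ⟨b, hb⟩ := hb ()
    obtain ⟨W', g', e, he, hsurj⟩ := exists_lift_etale W₀ V' W g
    obtain ⟨w', hw'⟩ := hsurj w
    have hk := key V' W g W' g' e he B b _ hb
    have hbN : b ∈ N := by
      change b ∈ Nsub ι W₀
      rw [← hmax (cE.obj W') (toBase W₀ W') ⟨w'⟩, mem_Nsub]
      refine ⟨G.obj.map (cE.map g').op s, ?_⟩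
      rw [nat_apply, hk]
    refine ⟨W', g', ⟨w', ?_⟩, ts N' (cE.obj W') ⟨b, hbN⟩, ?_⟩
    · have h1 : (cE.map g').left = (e ≫ g).left := congrArg (fun k => k.left) he
      have h2 : g'.left w' = (e ≫ g).left w' := congrArg (fun k => k w') h1
      rw [h2]
      change g.left (e.left w') = v
      rw [hw', hw]
    · change ((C Y).map inc).hom.app (op (cE.obj W')) (ts N' (cE.obj W') ⟨b, hbN⟩) =
        ((C Y).obj B).obj.map (cE.map g').op (ι.hom.app (op (cE.obj V')) s)
      rw [ts_naturality_apply, hk]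
      rfl
  have h21 : ∀ (V : W₀.left.Etale) (s : (R.obj ((C Y).obj N')).obj.obj (op V)) (v : V.left),
      ∃ (W : W₀.left.Etale) (g : W ⟶ V), v ∈ Set.range g.left ∧
        ∃ t : (R.obj G).obj.obj (op W),
          ι₁.hom.app (op W) t = (R.obj ((C Y).obj B)).obj.map g.op (ι₂.hom.app (op V) s) := by
    intro V' s v
    obtain ⟨W, g, w, hw, hb⟩ := exists_const_of_sections N' (V := cE.obj V') v
      (fun _ : Unit => (s : ((C Y).obj N').obj.obj (op (cE.obj V'))))
    obtain ⟨n, hn⟩ := hb ()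
    obtain ⟨W', g', e, he, hsurj⟩ := exists_lift_etale W₀ V' W g
    obtain ⟨w', hw'⟩ := hsurj w
    have hk := key V' W g W' g' e he N' n _ hn
    have hnN : (n : B) ∈ Nsub ι (cE.obj W') := by
      rw [hmax (cE.obj W') (toBase W₀ W') ⟨w'⟩]
      exact n.2
    obtain ⟨t, ht⟩ := (mem_Nsub ι _ _).1 hnN
    refine ⟨W', g', ⟨w', ?_⟩, t, ?_⟩
    · have h1 : (cE.map g').left = (e ≫ g).left := congrArg (fun k => k.left) he
      have h2 : g'.left w' = (e ≫ g).left w' := congrArg (fun k => k w') h1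
      rw [h2]
      change g.left (e.left w') = v
      rw [hw', hw]
    · change ι.hom.app (op (cE.obj W')) t =
        ((C Y).obj B).obj.map (cE.map g').op (((C Y).map inc).hom.app (op (cE.obj V')) s)
      rw [ht, ← nat_apply, hk, ts_naturality_apply]
      rfl
  obtain ⟨e⟩ := nonempty_iso_of_local ι₁ ι₂ h12 h21
  exact ⟨N', inferInstanceAs (Finite N), ⟨(EtRestr.pullIsoRestr j).app G ≪≫ e ≪≫
    ((EtRestr.pullIsoRestr j).app ((C Y).obj N')).symm ≪≫ (pullConstIso j).app N'⟩⟩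

end Sub

end Groth.Agent.Lib.Helper23.GenConst
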