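import Groth.Agent.Lib.Helper23.ConstrNoeth
import Groth.Agent.Lib.Helper23.GenConst

/-!
# Subsheaves and quotients of constructible sheaves on locally noetherian schemes
-/

set_option autoImplicit false
universe u

namespace Groth.Agent.Lib.Helper23.ConstrSub

open CategoryTheory CategoryTheory.Limits AlgebraicGeometry Opposite Topology EtCore
open Groth.Agent.Lib.Helper23.FlcLoc Groth.Agent.Lib.Helper23.ConstrNoeth
open Groth.Agent.Lib.Helper23.GenConst

variable {X : Scheme.{u}}

set_option backward.isDefEq.respectTransparency.types false in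
set_option backward.isDefEq.respectTransparency false in
/-- a subsheaf of a finite locally constant sheaf on a nonempty scheme is finite locally constant
on a nonempty open -/
theorem exists_open_flc_of_mono {T : Scheme.{u}} {F G : EtCoh.Ab T} (ι : G ⟶ F) [Mono ι]
    (hF : EtCoh.IsFiniteLocallyConstant F) (t : T) :
    ∃ T' : T.Opens, (T' : Set T).Nonempty ∧
      EtCoh.IsFiniteLocallyConstant ((EtCoh.pull T'.ι).obj G) := by
  obtain ⟨U, u, hu, B, hB, ⟨a⟩⟩ := (flc_iff_locTriv _).1 hF t
  let Y : Scheme.{u} := U.left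
  haveI : Nonempty Y := ⟨u⟩
  haveI : Finite B := hB
  let ι'' : (EtCoh.pull U.hom).obj G ⟶ (C U.left).obj B := (EtCoh.pull U.hom).map ι ≫ a.hom
  haveI : Mono ((EtCoh.pull U.hom).map ι) := inferInstance
  haveI : Mono ι'' := mono_comp _ _
  obtain ⟨W₀, ⟨w₀⟩, htriv⟩ := exists_triv_sub (Y := Y) ι''
  obtain ⟨W₁, w₁, hw₁, hW₁⟩ := exists_of_trans U W₀ w₀
  have hT1 : Triv ((EtCoh.pull W₁.hom).obj G) := hW₁ _ htriv
  haveI : Etale W₁.hom := W₁.prop
  let T' : T.Opens := ⟨Set.range W₁.hom, W₁.hom.isOpenMap.isOpen_range⟩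
  refine ⟨T', ⟨W₁.hom w₁, w₁, rfl⟩, ?_⟩
  rw [flc_iff_locTriv]
  intro t'
  obtain ⟨w, hw⟩ : (T'.ι t') ∈ Set.range W₁.hom := t'.2
  have hr : Set.range W₁.hom ⊆ Set.range T'.ι := by
    rw [Scheme.Opens.range_ι]
    exact subset_rfl
  let k : W₁.left ⟶ T' := IsOpenImmersion.lift T'.ι W₁.hom hr
  have hk : k ≫ T'.ι = W₁.hom := IsOpenImmersion.lift_fac _ _ _
  have hke : EtCoh.etaleMP k := by
    have h1 : EtCoh.etaleMP (k ≫ T'.ι) := by rw [hk]; exact W₁.prop
    have h2 : EtCoh.etaleMP T'.ι := (inferInstance : Etale T'.ι)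
    exact EtCoh.etaleMP.of_postcomp (W' := EtCoh.etaleMP) k T'.ι h2 h1
  refine ⟨MorphismProperty.Over.mk ⊤ k hke, w, ?_, ?_⟩
  · apply T'.ι.isOpenEmbedding.injective
    change (k ≫ T'.ι) w = T'.ι t'
    rw [hk]
    exact hw
  · change Triv ((EtCoh.pull k).obj ((EtCoh.pull T'.ι).obj G))
    exact hT1.of_iso ((pullCongr hk.symm).app G ≪≫ (pullComp k T'.ι).app G)

set_option backward.isDefEq.respectTransparency.types false in
set_option backward.isDefEq.respectTransparency false in
/-- on a locally noetherian scheme, a subsheaf of a constructible sheaf is constructible -/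
theorem constructible_of_mono [IsLocallyNoetherian X] {F G : EtCoh.Ab X} (ι : G ⟶ F) [Mono ι]
    (hF : EtPBC.IsConstructible F) : EtPBC.IsConstructible G := by
  apply constructible_of_flc_on_closures
  intro x
  obtain ⟨V, T, g, hg, hxV, hr, hflc⟩ := exists_flc_on_closure F hF x
  haveI := hg
  have hxr : x ∈ Set.range g := by rw [hr]; exact ⟨hxV, subset_closure rfl⟩
  obtain ⟨tx, htx⟩ := hxr
  haveI : Mono ((EtCoh.pull g).map ι) := inferInstance
  obtain ⟨T', ⟨t', ht'⟩, hflc'⟩ := exists_open_flc_of_mono ((EtCoh.pull g).map ι) hflc tx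
  obtain ⟨V', hV'o, hV'⟩ := (g.isEmbedding.isInducing.isOpen_iff).1 T'.isOpen
  have hgt' : g t' ∈ V' := by
    have : t' ∈ g ⁻¹' V' := by rw [hV']; exact ht'
    exact this
  have hgc : g t' ∈ closure {x} := by
    have : g t' ∈ Set.range g := ⟨t', rfl⟩
    rw [hr] at this
    exact this.2
  have hxV' : x ∈ V' := by
    obtain ⟨z, hzV', hz⟩ := mem_closure_iff.1 hgc V' hV'o hgt'
    rw [Set.mem_singleton_iff] at hz
    rwa [hz] at hzV'
  refine ⟨V ⊓ ⟨V', hV'o⟩, T', T'.ι ≫ g, inferInstance, ⟨hxV, hxV'⟩, ?_, ?_⟩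
  · rw [Strata.range_ι_comp, ← hV', Set.image_preimage_eq_inter_range, hr]
    ext y
    simp only [TopologicalSpace.Opens.coe_inf, TopologicalSpace.Opens.coe_mk, Set.mem_inter_iff]
    tauto
  · exact Flc.flc_of_iso ((pullComp T'.ι g).app G).symm hflc'

/-- on a locally noetherian scheme, a quotient of a constructible sheaf is constructible -/
theorem constructible_of_epi [IsLocallyNoetherian X] {F Q : EtCoh.Ab X} (π : F ⟶ Q) [Epi π]
    (hF : EtPBC.IsConstructible F) : EtPBC.IsConstructible Q := by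
  have hK : EtPBC.IsConstructible (kernel π) := constructible_of_mono (kernel.ι π) hF
  have hc := (Strata.constructible_kernel_cokernel (kernel.ι π) hK hF).2
  have hcolim : IsColimit (CokernelCofork.ofπ π (kernel.condition π)) :=
    Abelian.epiIsCokernelOfKernel _ (limit.isLimit _)
  let e : cokernel (kernel.ι π) ≅ Q :=
    IsColimit.coconePointUniqueUpToIso (colimit.isColimit _) hcolim
  exact Strata.constructible_of_iso e hc

end Groth.Agent.Lib.Helper23.ConstrSub
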