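import Groth.Agent.Lib.Helper23.FlcBridge

/-!
# Finite locally constant sheaves: intrinsic characterisation, stability under inverse image
-/

set_option autoImplicit false
universe u

namespace Groth.Agent.Lib.Helper23.Flc

open CategoryTheory CategoryTheory.Limits AlgebraicGeometry Opposite

variable {X Y : Scheme.{u}}

/-- `F` becomes the constant sheaf with value `M` after inverse image to `U` -/
def ConstOn (F : EtCoh.Ab X) (U : X.Etale) (M : Type) [AddCommGroup M] : Prop :=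
  Nonempty ((EtCoh.pull U.hom).obj F ≅ EtCoh.const U.left M)

theorem isFiniteLocallyConstant_iff (F : EtCoh.Ab X) :
    EtCoh.IsFiniteLocallyConstant F ↔
      ∃ (ι : Type u) (U : ι → X.Etale), EtCoh.Covers U ∧
        ∀ i, ∃ (M : Type) (_ : AddCommGroup M) (_ : Finite M), ConstOn F (U i) M := by
  constructor
  · rintro ⟨ι, U, hU, h⟩
    refine ⟨ι, U, hU, fun i => ?_⟩
    obtain ⟨M, i1, i2, e⟩ := h i
    exact ⟨M, i1, i2, (FlcBridge.restr_iso_const_iff F (U i) _).1 e⟩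
  · rintro ⟨ι, U, hU, h⟩
    refine ⟨ι, U, hU, fun i => ?_⟩
    obtain ⟨M, i1, i2, e⟩ := h i
    exact ⟨M, i1, i2, (FlcBridge.restr_iso_const_iff F (U i) _).2 e⟩

lemma constOn_of_iso {F G : EtCoh.Ab X} (e : F ≅ G) (U : X.Etale) (M : Type) [AddCommGroup M]
    (h : ConstOn F U M) : ConstOn G U M := by
  obtain ⟨a⟩ := h
  exact ⟨((EtCoh.pull U.hom).mapIso e).symm ≪≫ a⟩

theorem flc_of_iso {F G : EtCoh.Ab X} (e : F ≅ G) (h : EtCoh.IsFiniteLocallyConstant F) :
    EtCoh.IsFiniteLocallyConstant G := by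
  rw [isFiniteLocallyConstant_iff] at h ⊢
  obtain ⟨ι, U, hU, h⟩ := h
  refine ⟨ι, U, hU, fun i => ?_⟩
  obtain ⟨M, i1, i2, a⟩ := h i
  exact ⟨M, i1, i2, constOn_of_iso e (U i) M a⟩

/-- inverse image of `F` along `g ≫ f`, when `F` pulled back along `f` is constant -/
lemma pull_comp_const {Z : Scheme.{u}} (f : X ⟶ Y) (g : Z ⟶ X) (F : EtCoh.Ab Y) (M : Type)
    [AddCommGroup M] (e : (EtCoh.pull f).obj F ≅ EtCoh.const X M) :
    Nonempty ((EtCoh.pull (g ≫ f)).obj F ≅ EtCoh.const Z M) :=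
  ⟨(EtCore.pullComp g f).app F ≪≫ (EtCoh.pull g).mapIso e ≪≫ EtCore.pullConst g M⟩

set_option backward.isDefEq.respectTransparency.types false in
set_option backward.isDefEq.respectTransparency false in
/-- inverse image preserves finite locally constant sheaves -/
theorem flc_pull (f : X ⟶ Y) (F : EtCoh.Ab Y) (h : EtCoh.IsFiniteLocallyConstant F) :
    EtCoh.IsFiniteLocallyConstant ((EtCoh.pull f).obj F) := by
  rw [isFiniteLocallyConstant_iff] at h ⊢
  obtain ⟨ι, U, hU, h⟩ := h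
  refine ⟨ι, fun i => (EtCoh.bc f).obj (U i), ?_, fun i => ?_⟩
  · intro x
    obtain ⟨i, y, hy⟩ := hU (f x)
    obtain ⟨z, -, hz2⟩ := Scheme.Pullback.exists_preimage_pullback (f := (U i).hom) (g := f) y x hy
    exact ⟨i, z, hz2⟩
  · obtain ⟨M, i1, i2, ⟨a⟩⟩ := h i
    refine ⟨M, i1, i2, ?_⟩
    let p : ((EtCoh.bc f).obj (U i)).left ⟶ (U i).left := pullback.fst (U i).hom f
    have hc : p ≫ (U i).hom = ((EtCoh.bc f).obj (U i)).hom ≫ f := pullback.condition
    obtain ⟨b⟩ := pull_comp_const (U i).hom p F M a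
    exact ⟨((EtCore.pullComp ((EtCoh.bc f).obj (U i)).hom f).app F).symm ≪≫
      (EtCore.pullCongr hc.symm).app F ≪≫ b⟩

end Groth.Agent.Lib.Helper23.Flc
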