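import Groth.Agent.Lib.Helper23.FlcExt
import Groth.Agent.Lib.Helper23.FlcBasic
import Mathlib.Algebra.Group.Shrink

/-!
# Finite locally constant sheaves: kernels, cokernels, extensions
-/

set_option autoImplicit false
universe u

namespace Groth.Agent.Lib.Helper23.FlcLoc

open CategoryTheory CategoryTheory.Limits AlgebraicGeometry Opposite EtCore
open PullConstComp EtGlue

variable {X : Scheme.{u}}

lemma exists_small_model (G : AddCommGrpCat.{u + 1}) [Finite G] :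
    ∃ (M : Type) (_ : AddCommGroup M) (_ : Finite M),
      Nonempty (G ≅ AddCommGrpCat.of (ULift.{u + 1} M)) := by
  haveI : Small.{0} G := inferInstance
  refine ⟨Shrink.{0} G, inferInstance, Finite.of_equiv G (equivShrink G), ⟨?_⟩⟩
  exact AddEquiv.toAddCommGrpIso
    ((Shrink.addEquiv (α := G)).symm.trans AddEquiv.ulift.symm)

/-- pointwise form of being finite locally constant -/
def LocTriv (F : EtCoh.Ab X) : Prop :=
  ∀ x : X, ∃ (U : X.Etale) (u : U.left), U.hom u = x ∧ Triv ((EtCoh.pull U.hom).obj F)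

theorem flc_iff_locTriv (F : EtCoh.Ab X) : EtCoh.IsFiniteLocallyConstant F ↔ LocTriv F := by
  rw [Flc.isFiniteLocallyConstant_iff]
  constructor
  · rintro ⟨ι, U, hU, h⟩ x
    obtain ⟨i, y, hy⟩ := hU x
    obtain ⟨M, i1, i2, ⟨a⟩⟩ := h i
    exact ⟨U i, y, hy, AddCommGrpCat.of (ULift.{u + 1} M), inferInstanceAs (Finite (ULift M)), ⟨a⟩⟩
  · intro h
    choose U u hu hT using h
    refine ⟨X, U, fun x => ⟨x, u x, hu x⟩, fun x => ?_⟩
    obtain ⟨G, hG, ⟨a⟩⟩ := hT x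
    obtain ⟨M, i1, i2, ⟨e⟩⟩ := exists_small_model G
    exact ⟨M, i1, i2, ⟨a ≪≫ (C (U x).left).mapIso e⟩⟩

lemma Triv.pull {X' : Scheme.{u}} (f : X' ⟶ X) {P : EtCoh.Ab X} (h : Triv P) :
    Triv ((EtCoh.pull f).obj P) := by
  obtain ⟨G, hG, ⟨a⟩⟩ := h
  exact ⟨G, hG, ⟨(EtCoh.pull f).mapIso a ≪≫ (pullConstIso f).app G⟩⟩

set_option backward.isDefEq.respectTransparency.types false in
set_option backward.isDefEq.respectTransparency false in
/-- transitivity of localisation -/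
lemma exists_of_trans (U : X.Etale) (V : U.left.Etale) (v : V.left) :
    ∃ (U' : X.Etale) (u' : U'.left), U'.hom u' = U.hom (V.hom v) ∧
      ∀ F : EtCoh.Ab X, Triv ((EtCoh.pull V.hom).obj ((EtCoh.pull U.hom).obj F)) →
        Triv ((EtCoh.pull U'.hom).obj F) := by
  haveI : Etale V.hom := V.prop
  haveI : Etale U.hom := U.prop
  haveI : Etale (V.hom ≫ U.hom) := inferInstance
  refine ⟨Scheme.Etale.mk (V.hom ≫ U.hom), v, rfl, fun F h => ?_⟩
  exact h.of_iso ((pullComp V.hom U.hom).app F).symm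

theorem exists_common_triv (F G : EtCoh.Ab X) (hF : LocTriv F) (hG : LocTriv G) (x : X) :
    ∃ (W : X.Etale) (w : W.left), W.hom w = x ∧ Triv ((EtCoh.pull W.hom).obj F) ∧
      Triv ((EtCoh.pull W.hom).obj G) := by
  obtain ⟨U, u, hu, hTF⟩ := hF x
  have hG' : LocTriv ((EtCoh.pull U.hom).obj G) :=
    (flc_iff_locTriv _).1 (Flc.flc_pull U.hom G ((flc_iff_locTriv G).2 hG))
  obtain ⟨V, v, hv, hTG⟩ := hG' u
  obtain ⟨U', u', hu', hU'⟩ := exists_of_trans U V v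
  refine ⟨U', u', ?_, hU' F (hTF.pull V.hom), hU' G hTG⟩
  rw [hu', hv, hu]

theorem locTriv_kernel_cokernel {F G : EtCoh.Ab X} (φ : F ⟶ G) (hF : LocTriv F)
    (hG : LocTriv G) : LocTriv (kernel φ) ∧ LocTriv (cokernel φ) := by
  have key : ∀ x : X, ∃ (U : X.Etale) (u : U.left), U.hom u = x ∧
      Triv ((EtCoh.pull U.hom).obj (kernel φ)) ∧ Triv ((EtCoh.pull U.hom).obj (cokernel φ)) := by
    intro x
    obtain ⟨W, w, hw, ⟨A, hA, ⟨a⟩⟩, ⟨B, hB, ⟨b⟩⟩⟩ := exists_common_triv F G hF hG x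
    haveI := hA
    haveI := hB
    let ψ : (C W.left).obj A ⟶ (C W.left).obj B := a.inv ≫ (EtCoh.pull W.hom).map φ ≫ b.hom
    obtain ⟨V, v, hv, hK, hC⟩ := exists_triv_ker_coker ψ w
    have wψ : ψ ≫ b.symm.hom = a.symm.hom ≫ (EtCoh.pull W.hom).map φ := by
      simp [ψ]
    let eK : kernel ψ ≅ (EtCoh.pull W.hom).obj (kernel φ) :=
      kernel.mapIso ψ ((EtCoh.pull W.hom).map φ) a.symm b.symm wψ ≪≫
        (PreservesKernel.iso (EtCoh.pull W.hom) φ).symm
    let eC : cokernel ψ ≅ (EtCoh.pull W.hom).obj (cokernel φ) :=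
      cokernel.mapIso ψ ((EtCoh.pull W.hom).map φ) a.symm b.symm wψ ≪≫
        (PreservesCokernel.iso (EtCoh.pull W.hom) φ).symm
    obtain ⟨U', u', hu', hU'⟩ := exists_of_trans W V v
    exact ⟨U', u', by rw [hu', hv, hw], hU' _ (hK.of_iso ((EtCoh.pull V.hom).mapIso eK)),
      hU' _ (hC.of_iso ((EtCoh.pull V.hom).mapIso eC))⟩
  constructor
  · intro x
    obtain ⟨U, u, hu, h1, -⟩ := key x
    exact ⟨U, u, hu, h1⟩
  · intro x
    obtain ⟨U, u, hu, -, h2⟩ := key x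
    exact ⟨U, u, hu, h2⟩

set_option backward.isDefEq.respectTransparency.types false in
set_option backward.isDefEq.respectTransparency false in
theorem locTriv_extension {S : ShortComplex (EtCoh.Ab X)} (hS : S.ShortExact)
    (h₁ : LocTriv S.X₁) (h₃ : LocTriv S.X₃) : LocTriv S.X₂ := by
  intro x
  obtain ⟨W, w, hw, ⟨A, hA, ⟨a⟩⟩, ⟨B, hB, ⟨b⟩⟩⟩ := exists_common_triv S.X₁ S.X₃ h₁ h₃ x
  haveI := hA
  haveI := hB
  have hT := hS.map_of_exact (EtCoh.pull W.hom)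
  let T := S.map (EtCoh.pull W.hom)
  let f : (C W.left).obj A ⟶ T.X₂ := a.inv ≫ T.f
  let g : T.X₂ ⟶ (C W.left).obj B := T.g ≫ b.hom
  have wfg : f ≫ g = 0 := by
    have h0 : T.f ≫ T.g ≫ b.hom = 0 := by
      rw [← Category.assoc, T.zero, zero_comp]
    change (a.inv ≫ T.f) ≫ T.g ≫ b.hom = 0
    rw [Category.assoc, h0, comp_zero]
  let e : T ≅ ShortComplex.mk f g wfg :=
    ShortComplex.isoMk a (Iso.refl _) b
      (by
        change a.hom ≫ a.inv ≫ T.f = T.f ≫ 𝟙 _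
        rw [Iso.hom_inv_id_assoc, Category.comp_id])
      (by
        change 𝟙 _ ≫ T.g ≫ b.hom = T.g ≫ b.hom
        rw [Category.id_comp])
  have hT' := ShortComplex.shortExact_of_iso e hT
  obtain ⟨V, v, hv, hV⟩ := exists_triv_ext f g wfg hT' w
  obtain ⟨U', u', hu', hU'⟩ := exists_of_trans W V v
  exact ⟨U', u', by rw [hu', hv, hw], hU' _ hV⟩

theorem flc_kernel {F G : EtCoh.Ab X} (φ : F ⟶ G) (hF : EtCoh.IsFiniteLocallyConstant F)
    (hG : EtCoh.IsFiniteLocallyConstant G) : EtCoh.IsFiniteLocallyConstant (kernel φ) :=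
  (flc_iff_locTriv _).2
    (locTriv_kernel_cokernel φ ((flc_iff_locTriv _).1 hF) ((flc_iff_locTriv _).1 hG)).1

theorem flc_cokernel {F G : EtCoh.Ab X} (φ : F ⟶ G) (hF : EtCoh.IsFiniteLocallyConstant F)
    (hG : EtCoh.IsFiniteLocallyConstant G) : EtCoh.IsFiniteLocallyConstant (cokernel φ) :=
  (flc_iff_locTriv _).2
    (locTriv_kernel_cokernel φ ((flc_iff_locTriv _).1 hF) ((flc_iff_locTriv _).1 hG)).2

theorem flc_extension {S : ShortComplex (EtCoh.Ab X)} (hS : S.ShortExact)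
    (h₁ : EtCoh.IsFiniteLocallyConstant S.X₁) (h₃ : EtCoh.IsFiniteLocallyConstant S.X₃) :
    EtCoh.IsFiniteLocallyConstant S.X₂ :=
  (flc_iff_locTriv _).2
    (locTriv_extension hS ((flc_iff_locTriv _).1 h₁) ((flc_iff_locTriv _).1 h₃))

end Groth.Agent.Lib.Helper23.FlcLoc
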