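import Groth.Agent.Lib.Helper23.Strata
import Groth.Agent.Lib.Helper23.FlcSerre

/-!
# Common refinement of two adapted stratifications; constructible sheaves: kernels, cokernels, extensions
-/

set_option autoImplicit false
universe u

namespace Groth.Agent.Lib.Helper23.Strata

open CategoryTheory CategoryTheory.Limits AlgebraicGeometry Opposite Topology

variable {X : Scheme.{u}}

lemma Adapted.common {F G : EtCoh.Ab X} {V : X.Opens} (hF : Adapted F V) (hG : Adapted G V) :
    ∃ (ι : Type) (_ : Finite ι) (T : ι → Scheme.{u}) (g : ∀ i, T i ⟶ X),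
      (∀ i, IsImmersion (g i)) ∧ (∀ i, IsConstructible (V.ι ⁻¹' Set.range (g i))) ∧
      Pairwise (fun i j => Disjoint (Set.range (g i)) (Set.range (g j))) ∧
      (⋃ i, Set.range (g i)) = (V : Set X) ∧ (∀ i, FlcAlong F (g i)) ∧ (∀ i, FlcAlong G (g i)) := by
  obtain ⟨ι, hι, T, g, h1, h2, h3, h4, h5⟩ := hF
  obtain ⟨ι', hι', T', g', h1', h2', h3', h4', h5'⟩ := hG
  have hr : ∀ p : ι × ι', Set.range (pullback.fst (g p.1) (g' p.2) ≫ g p.1) =
      Set.range (g p.1) ∩ Set.range (g' p.2) := fun p => by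
    rw [range_comp', Scheme.Pullback.range_fst]
    exact Set.image_preimage_eq_range_inter
  refine ⟨ι × ι', inferInstance, fun p => Limits.pullback (g p.1) (g' p.2),
    fun p => pullback.fst (g p.1) (g' p.2) ≫ g p.1, fun p => ?_, fun p => ?_, ?_, ?_,
    fun p => flcAlong_comp F (g p.1) _ (h5 p.1), fun p => ?_⟩
  · haveI := h1 p.1
    haveI := h1' p.2
    infer_instance
  · rw [hr, Set.preimage_inter]
    exact (h2 p.1).inter (h2' p.2)
  · intro p q hpq
    rw [hr, hr]
    by_cases h : p.1 = q.1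
    · have h' : p.2 ≠ q.2 := fun h'' => hpq (Prod.ext h h'')
      exact (h3' h').mono Set.inter_subset_right Set.inter_subset_right
    · exact (h3 h).mono Set.inter_subset_left Set.inter_subset_left
  · simp only [hr]
    ext x
    simp only [Set.mem_iUnion, Set.mem_inter_iff]
    constructor
    · rintro ⟨p, hp, -⟩
      rw [← h4]
      exact Set.mem_iUnion.2 ⟨p.1, hp⟩
    · intro hx
      have hx1 : x ∈ ⋃ i, Set.range (g i) := by rw [h4]; exact hx
      have hx2 : x ∈ ⋃ i, Set.range (g' i) := by rw [h4']; exact hx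
      obtain ⟨i, hi⟩ := Set.mem_iUnion.1 hx1
      obtain ⟨j, hj⟩ := Set.mem_iUnion.1 hx2
      exact ⟨(i, j), hi, hj⟩
  · exact flcAlong_of_eq G pullback.condition.symm (flcAlong_comp G (g' p.2) _ (h5' p.2))

open FlcLoc in
theorem constructible_kernel_cokernel {F G : EtCoh.Ab X} (φ : F ⟶ G)
    (hF : EtPBC.IsConstructible F) (hG : EtPBC.IsConstructible G) :
    EtPBC.IsConstructible (kernel φ) ∧ EtPBC.IsConstructible (cokernel φ) := by
  have key : ∀ U : X.Opens, IsAffineOpen U → Adapted (kernel φ) U ∧ Adapted (cokernel φ) U := by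
    intro U hU
    obtain ⟨ι, hι, T, g, h1, h2, h3, h4, h5, h6⟩ :=
      ((adaptedStrata_iff F U).1 (hF U hU)).common ((adaptedStrata_iff G U).1 (hG U hU))
    constructor
    · refine ⟨ι, hι, T, g, h1, h2, h3, h4, fun i => ?_⟩
      exact Flc.flc_of_iso (PreservesKernel.iso (EtCoh.pull (g i)) φ).symm
        (flc_kernel _ (h5 i) (h6 i))
    · refine ⟨ι, hι, T, g, h1, h2, h3, h4, fun i => ?_⟩
      exact Flc.flc_of_iso (PreservesCokernel.iso (EtCoh.pull (g i)) φ).symm
        (flc_cokernel _ (h5 i) (h6 i))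
  exact ⟨fun U hU => (adaptedStrata_iff _ U).2 (key U hU).1,
    fun U hU => (adaptedStrata_iff _ U).2 (key U hU).2⟩

open FlcLoc in
theorem constructible_extension {S : ShortComplex (EtCoh.Ab X)} (hS : S.ShortExact)
    (h₁ : EtPBC.IsConstructible S.X₁) (h₃ : EtPBC.IsConstructible S.X₃) :
    EtPBC.IsConstructible S.X₂ := by
  intro U hU
  rw [adaptedStrata_iff]
  obtain ⟨ι, hι, T, g, h1, h2, h3, h4, h5, h6⟩ :=
    ((adaptedStrata_iff S.X₁ U).1 (h₁ U hU)).common ((adaptedStrata_iff S.X₃ U).1 (h₃ U hU))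
  refine ⟨ι, hι, T, g, h1, h2, h3, h4, fun i => ?_⟩
  exact flc_extension (hS.map_of_exact (EtCoh.pull (g i))) (h5 i) (h6 i)

end Groth.Agent.Lib.Helper23.Strata
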