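import Groth.Agent.Lib.Helper23.FlcBasic
import Groth.Prelude.Def_PBC
import Mathlib.AlgebraicGeometry.Morphisms.FinitePresentation
import Mathlib.AlgebraicGeometry.Morphisms.Immersion
import Mathlib.AlgebraicGeometry.IdealSheaf.Subscheme

/-!
# Stratifications adapted to an étale sheaf: restriction, gluing, pullback
-/

set_option autoImplicit false
universe u

namespace Groth.Agent.Lib.Helper23.Strata

open CategoryTheory CategoryTheory.Limits AlgebraicGeometry Opposite Topology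

variable {X : Scheme.{u}}

/-- the inverse image of `F` along `g` is finite locally constant -/
def FlcAlong (F : EtCoh.Ab X) {T : Scheme.{u}} (g : T ⟶ X) : Prop :=
  EtCoh.IsFiniteLocallyConstant ((EtCoh.pull g).obj F)

lemma flcAlong_comp (F : EtCoh.Ab X) {T T' : Scheme.{u}} (g : T ⟶ X) (h : T' ⟶ T)
    (hg : FlcAlong F g) : FlcAlong F (h ≫ g) :=
  Flc.flc_of_iso ((EtCore.pullComp h g).app F).symm (Flc.flc_pull h _ hg)

lemma flcAlong_of_eq (F : EtCoh.Ab X) {T : Scheme.{u}} {g g' : T ⟶ X} (e : g = g')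
    (hg : FlcAlong F g) : FlcAlong F g' := by
  subst e
  exact hg

lemma flcAlong_pull {X' : Scheme.{u}} (f : X' ⟶ X) (F : EtCoh.Ab X) {T T' : Scheme.{u}}
    (g : T ⟶ X) (g' : T' ⟶ X') (t : T' ⟶ T) (comm : g' ≫ f = t ≫ g) (hg : FlcAlong F g) :
    FlcAlong ((EtCoh.pull f).obj F) g' := by
  have h1 : FlcAlong F (g' ≫ f) := flcAlong_of_eq F comm.symm (flcAlong_comp F g t hg)
  exact Flc.flc_of_iso ((EtCore.pullComp g' f).app F) h1

lemma flcAlong_of_pull {X' : Scheme.{u}} (f : X' ⟶ X) (F : EtCoh.Ab X) {T : Scheme.{u}}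
    (g : T ⟶ X') (hg : FlcAlong ((EtCoh.pull f).obj F) g) : FlcAlong F (g ≫ f) :=
  Flc.flc_of_iso ((EtCore.pullComp g f).app F).symm hg

/-- strata adapted to `F` on an open `V`, with an arbitrary finite index type -/
def Adapted (F : EtCoh.Ab X) (V : X.Opens) : Prop :=
  ∃ (ι : Type) (_ : Finite ι) (T : ι → Scheme.{u}) (g : ∀ i, T i ⟶ X),
    (∀ i, IsImmersion (g i)) ∧ (∀ i, IsConstructible (V.ι ⁻¹' Set.range (g i))) ∧
    Pairwise (fun i j => Disjoint (Set.range (g i)) (Set.range (g j))) ∧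
    (⋃ i, Set.range (g i)) = (V : Set X) ∧ ∀ i, FlcAlong F (g i)

lemma adaptedStrata_iff (F : EtCoh.Ab X) (V : X.Opens) :
    EtPBC.AdaptedStrata F (V : Set X) ↔ Adapted F V := by
  constructor
  · rintro ⟨n, T, g, h1, h2, h3, h4, h5⟩
    exact ⟨Fin n, inferInstance, T, g, h1, h2, h3, h4, fun i => h5 i⟩
  · rintro ⟨ι, hι, T, g, h1, h2, h3, h4, h5⟩
    obtain ⟨n, ⟨e⟩⟩ := Finite.exists_equiv_fin ι
    refine ⟨n, fun k => T (e.symm k), fun k => g (e.symm k), fun k => h1 _, fun k => h2 _, ?_, ?_,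
      fun k _ => h5 _⟩
    · intro a b hab
      exact h3 (fun h => hab (e.symm.injective h))
    · rw [← h4]
      ext x
      simp only [Set.mem_iUnion]
      constructor
      · rintro ⟨k, hk⟩
        exact ⟨e.symm k, hk⟩
      · rintro ⟨i, hi⟩
        obtain ⟨k, rfl⟩ := e.symm.surjective i
        exact ⟨k, hi⟩

lemma range_comp' {A B C : Scheme.{u}} (a : A ⟶ B) (b : B ⟶ C) :
    Set.range (a ≫ b) = b '' Set.range a := by
  ext x
  constructor
  · rintro ⟨y, rfl⟩
    exact ⟨a y, ⟨y, rfl⟩, rfl⟩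
  · rintro ⟨_, ⟨y, rfl⟩, rfl⟩
    exact ⟨y, rfl⟩

lemma range_ι_comp {T : Scheme.{u}} (g : T ⟶ X) (O : T.Opens) :
    Set.range (O.ι ≫ g) = g '' (O : Set T) := by
  rw [range_comp', Scheme.Opens.range_ι]

lemma preimage_ι_inter (W : X.Opens) (A : Set X) : W.ι ⁻¹' (A ∩ W) = W.ι ⁻¹' A := by
  ext x
  simp only [Set.mem_preimage, Set.mem_inter_iff, and_iff_left_iff_imp]
  intro _
  exact x.2

/-- restriction of adapted strata to a smaller open -/
lemma Adapted.restrict_open {F : EtCoh.Ab X} {V W : X.Opens} (h : Adapted F V) (hW : W ≤ V) :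
    Adapted F W := by
  obtain ⟨ι, hι, T, g, h1, h2, h3, h4, h5⟩ := h
  have hr : ∀ i, Set.range (((g i) ⁻¹ᵁ W).ι ≫ g i) = Set.range (g i) ∩ W := fun i => by
    rw [range_ι_comp]
    exact Set.image_preimage_eq_range_inter
  refine ⟨ι, hι, fun i => ((g i) ⁻¹ᵁ W : (T i).Opens), fun i => ((g i) ⁻¹ᵁ W).ι ≫ g i,
    fun i => ?_, fun i => ?_, ?_, ?_, fun i => flcAlong_comp F (g i) _ (h5 i)⟩
  · haveI := h1 i
    infer_instance
  · rw [hr, preimage_ι_inter]
    have e : W.ι ⁻¹' Set.range (g i) = (X.homOfLE hW) ⁻¹' (V.ι ⁻¹' Set.range (g i)) := by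
      rw [← Set.preimage_comp]
      congr 1
      have := X.homOfLE_ι hW
      ext x
      exact congrArg (fun φ : (W : Scheme.{u}) ⟶ X => (φ x : X)) this.symm
    rw [e]
    exact (X.homOfLE hW).isConstructible_preimage (h2 i)
  · intro i j hij
    rw [hr, hr]
    exact (h3 hij).mono Set.inter_subset_left Set.inter_subset_left
  · simp only [hr]
    rw [← Set.iUnion_inter, h4]
    exact Set.inter_eq_right.2 hW

/-- strata on an open of an open subscheme give strata on its image -/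
lemma Adapted.of_open {F : EtCoh.Ab X} (U : X.Opens) (V' : (U : Scheme.{u}).Opens)
    (h : Adapted ((EtCoh.pull U.ι).obj F) V') : Adapted F (U.ι ''ᵁ V') := by
  obtain ⟨ι, hι, T, g, h1, h2, h3, h4, h5⟩ := h
  have hr : ∀ i, Set.range (g i ≫ U.ι) = U.ι '' Set.range (g i) := fun i => range_comp' _ _
  refine ⟨ι, hι, T, fun i => g i ≫ U.ι, fun i => ?_, fun i => ?_, ?_, ?_,
    fun i => flcAlong_of_pull U.ι F (g i) (h5 i)⟩
  · haveI := h1 i
    infer_instance
  · rw [hr]
    let e := U.ι.isoImage V'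
    have he : e.inv ≫ V'.ι ≫ U.ι = (U.ι ''ᵁ V').ι := U.ι.isoImage_inv_ι V'
    have hpt : ∀ y : (U.ι ''ᵁ V' : X.Opens), U.ι (V'.ι (e.inv y)) = (U.ι ''ᵁ V').ι y := fun y =>
      congrArg (fun φ : ((U.ι ''ᵁ V' : X.Opens) : Scheme.{u}) ⟶ X => (φ y : X)) he
    have e2 : (U.ι ''ᵁ V').ι ⁻¹' (U.ι '' Set.range (g i)) =
        e.inv ⁻¹' (V'.ι ⁻¹' Set.range (g i)) := by
      ext y
      simp only [Set.mem_preimage, Set.mem_image]
      constructor
      · rintro ⟨_, ⟨t, rfl⟩, ht⟩
        refine ⟨t, ?_⟩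
        apply U.ι.isOpenEmbedding.injective
        rw [ht, hpt]
      · rintro ⟨t, ht⟩
        exact ⟨g i t, ⟨t, rfl⟩, by rw [ht, hpt]⟩
    rw [e2]
    exact e.inv.isConstructible_preimage (h2 i)
  · intro i j hij
    rw [hr, hr]
    exact (Set.disjoint_image_iff U.ι.isOpenEmbedding.injective).2 (h3 hij)
  · simp only [hr]
    rw [← Set.image_iUnion, h4]
    rfl

/-- pullback of adapted strata along a morphism -/
lemma Adapted.pullback {X' : Scheme.{u}} (f : X' ⟶ X) {F : EtCoh.Ab X} {V : X.Opens}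
    (W : X'.Opens) (hWV : W ≤ f ⁻¹ᵁ V) (h : Adapted F V) :
    Adapted ((EtCoh.pull f).obj F) W := by
  obtain ⟨ι, hι, T, g, h1, h2, h3, h4, h5⟩ := h
  have hr : ∀ i, Set.range (pullback.snd (g i) (W.ι ≫ f) ≫ W.ι) =
      (W : Set X') ∩ f ⁻¹' Set.range (g i) := by
    intro i
    rw [range_comp', Scheme.Pullback.range_snd]
    ext x
    simp only [Set.mem_image, Set.mem_preimage, Set.mem_inter_iff]
    constructor
    · rintro ⟨w, hw, rfl⟩
      exact ⟨w.2, hw⟩
    · rintro ⟨hxW, hx⟩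
      exact ⟨⟨x, hxW⟩, hx, rfl⟩
  refine ⟨ι, hι, fun i => Limits.pullback (g i) (W.ι ≫ f),
    fun i => pullback.snd (g i) (W.ι ≫ f) ≫ W.ι, fun i => ?_, fun i => ?_, ?_, ?_, fun i => ?_⟩
  · haveI := h1 i
    infer_instance
  · rw [hr]
    have e2 : W.ι ⁻¹' ((W : Set X') ∩ f ⁻¹' Set.range (g i)) =
        (f.resLE V W hWV) ⁻¹' (V.ι ⁻¹' Set.range (g i)) := by
      have hres : f.resLE V W hWV ≫ V.ι = W.ι ≫ f := Scheme.Hom.resLE_comp_ι f hWV
      ext x
      have hx : V.ι (f.resLE V W hWV x) = f (W.ι x) :=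
        congrArg (fun φ : (W : Scheme.{u}) ⟶ X => (φ x : X)) hres
      simp only [Set.mem_preimage, Set.mem_inter_iff]
      rw [hx]
      exact ⟨fun h => h.2, fun h => ⟨x.2, h⟩⟩
    rw [e2]
    exact (f.resLE V W hWV).isConstructible_preimage (h2 i)
  · intro i j hij
    rw [hr, hr]
    exact ((h3 hij).preimage f).mono Set.inter_subset_right Set.inter_subset_right
  · simp only [hr]
    rw [← Set.inter_iUnion, ← Set.preimage_iUnion, h4]
    exact Set.inter_eq_left.2 hWV
  · exact flcAlong_pull f F (g i) _ (pullback.fst (g i) (W.ι ≫ f))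
      (by rw [Category.assoc]; exact pullback.condition.symm) (h5 i)

lemma isCompact_preimage_ι (V W : X.Opens) (hWV : W ≤ V) (hqc : IsCompact (W : Set X)) :
    IsCompact (V.ι ⁻¹' (W : Set X)) := by
  rw [V.ι.isOpenEmbedding.isEmbedding.isCompact_iff, Set.image_preimage_eq_inter_range,
    Scheme.Opens.range_ι, Set.inter_eq_left.2 hWV]
  exact hqc

/-- gluing adapted strata over a finite cover by quasi-compact opens -/
theorem Adapted.glue {F : EtCoh.Ab X} (V : X.Opens) [QuasiSeparatedSpace (V : Scheme.{u})]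
    (m : ℕ) (W : Fin m → X.Opens) (hWV : ∀ k, W k ≤ V) (hqc : ∀ k, IsCompact (W k : Set X))
    (hcov : (V : Set X) ⊆ ⋃ k, (W k : Set X)) (h : ∀ k, Adapted F (W k)) : Adapted F V := by
  classical
  choose ι hι T g h1 h2 h3 h4 h5 using h
  let Z : Fin m → Set X := fun k => (⋃ l ∈ {l : Fin m | l < k}, (W l : Set X))ᶜ
  have hZc : ∀ k, IsClosed (Z k) := fun k =>
    (isOpen_biUnion (fun l _ => (W l).isOpen)).isClosed_compl
  let C : ∀ k (j : ι k), TopologicalSpace.Closeds (T k j) := fun k j =>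
    ⟨(g k j) ⁻¹' Z k, (hZc k).preimage (g k j).continuous⟩
  let I : ∀ k (j : ι k), (T k j).IdealSheafData := fun k j =>
    Scheme.IdealSheafData.vanishingIdeal (C k j)
  have hrg : ∀ k (j : ι k), Set.range (g k j) ⊆ (W k : Set X) := fun k j => by
    rw [← h4 k]
    exact Set.subset_iUnion (fun i => Set.range (g k i)) j
  have hr : ∀ p : (Σ k, ι k), Set.range ((I p.1 p.2).subschemeι ≫ g p.1 p.2) =
      Set.range (g p.1 p.2) ∩ Z p.1 := by
    intro p
    rw [range_comp', Scheme.IdealSheafData.range_subschemeι]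
    change (g p.1 p.2) '' ((g p.1 p.2) ⁻¹' Z p.1) = _
    exact Set.image_preimage_eq_range_inter
  have hWr : ∀ l, IsRetrocompact (V.ι ⁻¹' (W l : Set X)) := fun l =>
    (isCompact_preimage_ι V (W l) (hWV l) (hqc l)).isRetrocompact
      ((W l).isOpen.preimage V.ι.continuous)
  have hWc : ∀ l, IsConstructible (V.ι ⁻¹' (W l : Set X)) := fun l =>
    (hWr l).isConstructible ((W l).isOpen.preimage V.ι.continuous)
  haveI := hι
  refine ⟨Σ k, ι k, inferInstance, fun p => (I p.1 p.2).subscheme,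
    fun p => (I p.1 p.2).subschemeι ≫ g p.1 p.2, fun p => ?_, fun p => ?_, ?_, ?_,
    fun p => flcAlong_comp F (g p.1 p.2) _ (h5 p.1 p.2)⟩
  · haveI := h1 p.1 p.2
    infer_instance
  · rw [hr, Set.preimage_inter]
    refine IsConstructible.inter ?_ ?_
    · let φ : (W p.1 : Scheme.{u}) ⟶ V := X.homOfLE (hWV p.1)
      have hφ : φ ≫ V.ι = (W p.1).ι := X.homOfLE_ι (hWV p.1)
      have hpt : ∀ w, V.ι (φ w) = (W p.1).ι w := fun w =>
        congrArg (fun ψ : (W p.1 : Scheme.{u}) ⟶ X => (ψ w : X)) hφ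
      have e : V.ι ⁻¹' Set.range (g p.1 p.2) = φ '' ((W p.1).ι ⁻¹' Set.range (g p.1 p.2)) := by
        ext y
        simp only [Set.mem_preimage, Set.mem_image]
        constructor
        · intro hy
          refine ⟨⟨V.ι y, hrg p.1 p.2 hy⟩, hy, ?_⟩
          apply V.ι.isOpenEmbedding.injective
          rw [hpt]
          rfl
        · rintro ⟨w, hw, rfl⟩
          rw [hpt]
          exact hw
      rw [e]
      have hrange : Set.range φ = V.ι ⁻¹' (W p.1 : Set X) := by
        ext y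
        simp only [Set.mem_range, Set.mem_preimage]
        constructor
        · rintro ⟨w, rfl⟩
          rw [hpt]
          exact w.2
        · intro hy
          refine ⟨⟨V.ι y, hy⟩, ?_⟩
          apply V.ι.isOpenEmbedding.injective
          rw [hpt]
          rfl
      refine IsConstructible.image_of_isOpenEmbedding φ.isOpenEmbedding ?_ (h2 p.1 p.2)
      rw [hrange]
      exact hWr p.1
    · have e : V.ι ⁻¹' Z p.1 = (⋃ l ∈ {l : Fin m | l < p.1}, V.ι ⁻¹' (W l : Set X))ᶜ := by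
        simp only [Z, Set.preimage_compl, Set.preimage_iUnion]
      rw [e]
      exact (IsConstructible.biUnion (Set.toFinite _) (fun l _ => hWc l)).compl
  · rintro ⟨k, j⟩ ⟨k', j'⟩ hne
    rw [hr, hr]
    change Disjoint (Set.range (g k j) ∩ Z k) (Set.range (g k' j') ∩ Z k')
    by_cases hk : k = k'
    · subst hk
      have hj : j ≠ j' := fun e => hne (by rw [e])
      exact (h3 k hj).mono Set.inter_subset_left Set.inter_subset_left
    · rcases lt_or_gt_of_ne hk with hlt | hlt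
      · rw [Set.disjoint_left]
        rintro x ⟨hx1, -⟩ ⟨-, hx2⟩
        apply hx2
        simp only [Set.mem_iUnion, Set.mem_ofPred_eq, exists_prop]
        exact ⟨k, hlt, hrg k j hx1⟩
      · rw [Set.disjoint_left]
        rintro x ⟨-, hx2⟩ ⟨hx1, -⟩
        apply hx2
        simp only [Set.mem_iUnion, Set.mem_ofPred_eq, exists_prop]
        exact ⟨k', hlt, hrg k' j' hx1⟩
  · simp only [hr]
    ext x
    simp only [Set.mem_iUnion, Set.mem_inter_iff]
    constructor
    · rintro ⟨p, hx, -⟩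
      exact hWV p.1 (hrg p.1 p.2 hx)
    · intro hx
      have hne : {k : Fin m | x ∈ (W k : Set X)}.Nonempty := by
        obtain ⟨k, hk⟩ := Set.mem_iUnion.1 (hcov hx)
        exact ⟨k, hk⟩
      obtain ⟨a, ha, hmin⟩ := Set.exists_min_image {k : Fin m | x ∈ (W k : Set X)} (fun k => k)
        (Set.toFinite _) hne
      have hxa : x ∈ ⋃ i, Set.range (g a i) := by rw [h4 a]; exact ha
      obtain ⟨j, hj⟩ := Set.mem_iUnion.1 hxa
      refine ⟨⟨a, j⟩, hj, ?_⟩
      simp only [Z, Set.mem_compl_iff, Set.mem_iUnion, Set.mem_ofPred_eq, exists_prop, not_exists,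
        not_and]
      intro l hl hxl
      exact absurd (hmin l hxl) (not_le.2 hl)

end Groth.Agent.Lib.Helper23.Strata
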