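import Groth.Agent.Lib.Helper23.GenConst

/-!
# Generic constancy for chains of subsheaves of a constant sheaf with finite value
-/

set_option autoImplicit false
universe u

namespace Groth.Agent.Lib.Helper23.GenConst

open CategoryTheory CategoryTheory.Limits AlgebraicGeometry Opposite EtCore
open Groth.Agent.Lib.Helper23.FlcLoc PullConstComp EtGlue

section Lift

variable {Z : Scheme.{u}}

/-- two subsheaves which locally have the same sections are isomorphic as subobjects -/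
lemma exists_iso_of_local {H₁ H₂ H : EtCoh.Ab Z} (ι₁ : H₁ ⟶ H) (ι₂ : H₂ ⟶ H) [Mono ι₁]
    [Mono ι₂]
    (h12 : ∀ (V : Z.Etale) (s : H₁.obj.obj (op V)) (v : V.left), ∃ (W : Z.Etale) (g : W ⟶ V),
      v ∈ Set.range g.left ∧ ∃ t : H₂.obj.obj (op W),
        ι₂.hom.app (op W) t = H.obj.map g.op (ι₁.hom.app (op V) s))
    (h21 : ∀ (V : Z.Etale) (s : H₂.obj.obj (op V)) (v : V.left), ∃ (W : Z.Etale) (g : W ⟶ V),
      v ∈ Set.range g.left ∧ ∃ t : H₁.obj.obj (op W),
        ι₁.hom.app (op W) t = H.obj.map g.op (ι₂.hom.app (op V) s)) :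
    ∃ e : H₁ ≅ H₂, e.hom ≫ ι₂ = ι₁ := by
  obtain ⟨ψ, hψ⟩ := exists_lift_of_local ι₁ ι₂ h12
  obtain ⟨ψ', hψ'⟩ := exists_lift_of_local ι₂ ι₁ h21
  refine ⟨⟨ψ, ψ', ?_, ?_⟩, hψ⟩
  · rw [← cancel_mono ι₁, Category.assoc, hψ', hψ, Category.id_comp]
  · rw [← cancel_mono ι₂, Category.assoc, hψ, hψ', Category.id_comp]

end Lift

section Sub

variable {Y : Scheme.{u}} {B : AddCommGrpCat.{u + 1}} {G : EtCoh.Ab Y}

set_option backward.isDefEq.respectTransparency.types false in
set_option backward.isDefEq.respectTransparency false in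
set_option maxHeartbeats 1600000 in
/-- if the constants which are sections of the subsheaf are the same subgroup `N` over all nonempty
etale schemes over `W₀`, then over `W₀` the subsheaf is the constant subsheaf with value `N` -/
theorem exists_iso_restr (ι : G ⟶ (C Y).obj B) [Mono ι] (W₀ : Y.Etale) (N : AddSubgroup B)
    (hmax : ∀ (V : Y.Etale) (_ : V ⟶ W₀), Nonempty V.left → Nsub ι V = N) :
    ∃ e : (EtShriek.restrAlong W₀.hom).obj G ≅
        (EtShriek.restrAlong W₀.hom).obj ((C Y).obj (AddCommGrpCat.of N)),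
      e.hom ≫ (EtShriek.restrAlong W₀.hom).map ((C Y).map (AddCommGrpCat.ofHom N.subtype)) =
        (EtShriek.restrAlong W₀.hom).map ι := by
  let j : W₀.left ⟶ Y := W₀.hom
  let cE : W₀.left.Etale ⥤ Y.Etale := EtShriek.compEtale j
  let N' : AddCommGrpCat.{u + 1} := AddCommGrpCat.of N
  let inc : N' ⟶ B := AddCommGrpCat.ofHom N.subtype
  haveI : Mono inc := (AddCommGrpCat.mono_iff_injective _).2 Subtype.val_injective
  let R : EtCoh.Ab Y ⥤ EtCoh.Ab W₀.left := EtShriek.restrAlong j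
  haveI : Mono ((C Y).map inc) := inferInstance
  haveI : PreservesFiniteLimits R :=
    preservesFiniteLimits_of_natIso (EtRestr.pullIsoRestr j)
  let ι₁ : R.obj G ⟶ R.obj ((C Y).obj B) := R.map ι
  let ι₂ : R.obj ((C Y).obj N') ⟶ R.obj ((C Y).obj B) := R.map ((C Y).map inc)
  haveI : Mono ι₁ := inferInstanceAs (Mono (R.map ι))
  haveI : Mono ι₂ := inferInstanceAs (Mono (R.map ((C Y).map inc)))
  -- the key computation
  have key : ∀ (V' : W₀.left.Etale) (W : Y.Etale) (g : W ⟶ cE.obj V') (W' : W₀.left.Etale)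
      (g' : W' ⟶ V') (e : cE.obj W' ⟶ W) (_ : cE.map g' = e ≫ g) (A : AddCommGrpCat.{u + 1})
      (a : A) (x : ((C Y).obj A).obj.obj (op (cE.obj V')))
      (_ : ts A W a = ((C Y).obj A).obj.map g.op x),
      ((C Y).obj A).obj.map (cE.map g').op x = ts A (cE.obj W') a := by
    intro V' W g W' g' e he A a x hx
    rw [he, map_comp_apply, ← hx, ts_map_apply]
  have h12 : ∀ (V : W₀.left.Etale) (s : (R.obj G).obj.obj (op V)) (v : V.left),
      ∃ (W : W₀.left.Etale) (g : W ⟶ V), v ∈ Set.range g.left ∧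
        ∃ t : (R.obj ((C Y).obj N')).obj.obj (op W),
          ι₂.hom.app (op W) t = (R.obj ((C Y).obj B)).obj.map g.op (ι₁.hom.app (op V) s) := by
    intro V' s v
    obtain ⟨W, g, w, hw, hb⟩ := exists_const_of_sections B (V := cE.obj V') v
      (fun _ : Unit => ι.hom.app (op (cE.obj V')) s)
    obtain ⟨b, hb⟩ := hb ()
    obtain ⟨W', g', e, he, hsurj⟩ := exists_lift_etale W₀ V' W g
    obtain ⟨w', hw'⟩ := hsurj w
    have hk := key V' W g W' g' e he B b _ hb
    have hbN : b ∈ N := by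
      rw [← hmax (cE.obj W') (toBase W₀ W') ⟨w'⟩, mem_Nsub]
      refine ⟨G.obj.map (cE.map g').op s, ?_⟩
      rw [nat_apply, hk]
    refine ⟨W', g', ⟨w', ?_⟩, ts N' (cE.obj W') ⟨b, hbN⟩, ?_⟩
    · have h1 : (cE.map g').left = (e ≫ g).left := congrArg (fun k => k.left) he
      have h2 : g'.left w' = (e ≫ g).left w' := congrArg (fun k => k w') h1
      rw [h2]
      change g.left (e.left w') = v
      rw [hw', hw]
    · change ((C Y).map inc).hom.app (op (cE.obj W')) (ts N' (cE.obj W') ⟨b, hbN⟩) =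
        ((C Y).obj B).obj.map (cE.map g').op (ι.hom.app (op (cE.obj V')) s)
      rw [ts_naturality_apply, hk]
      rfl
  have h21 : ∀ (V : W₀.left.Etale) (s : (R.obj ((C Y).obj N')).obj.obj (op V)) (v : V.left),
      ∃ (W : W₀.left.Etale) (g : W ⟶ V), v ∈ Set.range g.left ∧
        ∃ t : (R.obj G).obj.obj (op W),
          ι₁.hom.app (op W) t = (R.obj ((C Y).obj B)).obj.map g.op (ι₂.hom.app (op V) s) := by
    intro V' s v
    obtain ⟨W, g, w, hw, hb⟩ := exists_const_of_sections N' (V := cE.obj V') v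
      (fun _ : Unit => (s : ((C Y).obj N').obj.obj (op (cE.obj V'))))
    obtain ⟨n, hn⟩ := hb ()
    obtain ⟨W', g', e, he, hsurj⟩ := exists_lift_etale W₀ V' W g
    obtain ⟨w', hw'⟩ := hsurj w
    have hk := key V' W g W' g' e he N' n _ hn
    have hnN : (n : B) ∈ Nsub ι (cE.obj W') := by
      rw [hmax (cE.obj W') (toBase W₀ W') ⟨w'⟩]
      exact n.2
    obtain ⟨t, ht⟩ := (mem_Nsub ι _ _).1 hnN
    refine ⟨W', g', ⟨w', ?_⟩, t, ?_⟩
    · have h1 : (cE.map g').left = (e ≫ g).left := congrArg (fun k => k.left) he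
      have h2 : g'.left w' = (e ≫ g).left w' := congrArg (fun k => k w') h1
      rw [h2]
      change g.left (e.left w') = v
      rw [hw', hw]
    · change ι.hom.app (op (cE.obj W')) t =
        ((C Y).obj B).obj.map (cE.map g').op (((C Y).map inc).hom.app (op (cE.obj V')) s)
      rw [ht, ← nat_apply, hk, ts_naturality_apply]
      rfl
  exact exists_iso_of_local ι₁ ι₂ h12 h21

lemma Nsub_le_of_comp {G' : EtCoh.Ab Y} (ι : G ⟶ (C Y).obj B) (ι' : G' ⟶ (C Y).obj B)
    (a : G ⟶ G') (ha : a ≫ ι' = ι) (V : Y.Etale) : Nsub ι V ≤ Nsub ι' V := by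
  intro b hb
  rw [mem_Nsub] at hb ⊢
  obtain ⟨t, ht⟩ := hb
  refine ⟨a.hom.app (op V) t, ?_⟩
  rw [← ht, ← ha]
  rfl

set_option backward.isDefEq.respectTransparency.types false in
set_option backward.isDefEq.respectTransparency false in
/-- **Uniform generic constancy**: an increasing chain of subsheaves of a constant sheaf with finite
value on a nonempty scheme becomes stationary on some nonempty etale scheme over it. -/
theorem exists_isIso_chain [Nonempty Y] [Finite B] (G : ℕ → EtCoh.Ab Y)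
    (ι : ∀ m, G m ⟶ (C Y).obj B) [∀ m, Mono (ι m)]
    (a : ∀ m m', m ≤ m' → (G m ⟶ G m')) (ha : ∀ m m' (h : m ≤ m'), a m m' h ≫ ι m' = ι m) :
    ∃ (W₀ : Y.Etale) (N : ℕ), Nonempty W₀.left ∧
      ∀ m (h : N ≤ m), IsIso ((EtCoh.pull W₀.hom).map (a N m h)) := by
  haveI : Finite (AddSubgroup B) :=
    Finite.of_injective (fun N => (N : Set B)) SetLike.coe_injective
  obtain ⟨⟨N, W₀⟩, hW₀, hmax⟩ := Set.Finite.exists_maximalFor'
    (fun p : ℕ × Y.Etale => Nsub (ι p.1) p.2) {p : ℕ × Y.Etale | Nonempty p.2.left}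
    (Set.toFinite _) ⟨(0, EtCoh.top Y), inferInstanceAs (Nonempty Y)⟩
  refine ⟨W₀, N, hW₀, fun m hm => ?_⟩
  let Nm : AddSubgroup B := Nsub (ι N) W₀
  have hN : ∀ (V : Y.Etale) (_ : V ⟶ W₀), Nonempty V.left → Nsub (ι N) V = Nm := by
    intro V g hV
    exact le_antisymm (hmax (j := (N, V)) hV (Nsub_mono (ι N) g)) (Nsub_mono (ι N) g)
  have hm' : ∀ (V : Y.Etale) (_ : V ⟶ W₀), Nonempty V.left → Nsub (ι m) V = Nm := by
    intro V g hV
    have h1 : Nm ≤ Nsub (ι m) V :=
      (Nsub_mono (ι N) g).trans (Nsub_le_of_comp (ι N) (ι m) (a N m hm) (ha N m hm) V)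
    exact le_antisymm (hmax (j := (m, V)) hV h1) h1
  obtain ⟨eN, heN⟩ := exists_iso_restr (ι N) W₀ Nm hN
  obtain ⟨em, hem⟩ := exists_iso_restr (ι m) W₀ Nm hm'
  let R : EtCoh.Ab Y ⥤ EtCoh.Ab W₀.left := EtShriek.restrAlong W₀.hom
  let inc : AddCommGrpCat.of Nm ⟶ B := AddCommGrpCat.ofHom Nm.subtype
  haveI : Mono inc := (AddCommGrpCat.mono_iff_injective _).2 Subtype.val_injective
  haveI : Mono ((C Y).map inc) := inferInstance
  haveI : PreservesFiniteLimits R :=
    preservesFiniteLimits_of_natIso (EtRestr.pullIsoRestr W₀.hom)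
  haveI : Mono (R.map ((C Y).map inc)) := inferInstance
  have hR : R.map (a N m hm) = eN.hom ≫ em.inv := by
    rw [Iso.eq_comp_inv, ← cancel_mono (R.map ((C Y).map inc)), Category.assoc, hem, heN,
      ← R.map_comp, ha]
  have hRiso : IsIso (R.map (a N m hm)) := by
    rw [hR]
    infer_instance
  exact (NatIso.isIso_map_iff (EtRestr.pullIsoRestr W₀.hom) (a N m hm)).2 hRiso

end Sub

end Groth.Agent.Lib.Helper23.GenConst
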