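import Groth.Agent.Lib.Helper23.FinPushExact
import Groth.Agent.Lib.Helper23.ComapGerm
import Groth.Agent.Lib.Helper23.PointIso
import Groth.Agent.S0100

/-!
# Degree-zero base change for a finite morphism
-/

set_option autoImplicit false
universe u

namespace Groth.Agent.Lib.Helper23.FinBC0

open CategoryTheory CategoryTheory.Limits AlgebraicGeometry Opposite GrothendieckTopology
open EtLocalRing FinPushFiber EtGlue FinPushGeom FinPushStalk FinPushExact

section Stk

variable {Y' Y : Scheme.{u}} (g : Y' ⟶ Y)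

/-- the components of a morphism `A ⟶ g_* B` -/
noncomputable def secMap {A : EtCoh.Ab Y} {B : EtCoh.Ab Y'} (γ : A ⟶ (EtCoh.push g).obj B) (V : Y.Etale) :
    A.obj.obj (op V) ⟶ B.obj.obj (op ((EtCoh.bc g).obj V)) :=
  γ.hom.app (op V)

lemma secMap_naturality {A : EtCoh.Ab Y} {B : EtCoh.Ab Y'} (γ : A ⟶ (EtCoh.push g).obj B)
    {U V : Y.Etale} (k : U ⟶ V) :
    A.obj.map k.op ≫ secMap g γ U = secMap g γ V ≫ B.obj.map ((EtCoh.bc g).map k).op :=
  γ.hom.naturality k.op

lemma secMap_comp {A : EtCoh.Ab Y} {B B' : EtCoh.Ab Y'} (γ : A ⟶ (EtCoh.push g).obj B)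
    (b : B ⟶ B') (V : Y.Etale) :
    secMap g (γ ≫ (EtCoh.push g).map b) V = secMap g γ V ≫ b.hom.app (op ((EtCoh.bc g).obj V)) :=
  rfl

lemma secMap_comp' {A' A : EtCoh.Ab Y} {B : EtCoh.Ab Y'} (a : A' ⟶ A)
    (γ : A ⟶ (EtCoh.push g).obj B) (V : Y.Etale) :
    secMap g (a ≫ γ) V = a.hom.app (op V) ≫ secMap g γ V :=
  rfl

variable {Ω : Type u} [Field Ω] [IsSepClosed Ω]
  (η' : Spec (CommRingCat.of Ω) ⟶ Y')

/-- the map on stalks induced by a morphism `A ⟶ g_* B` -/
noncomputable def stk {A : EtCoh.Ab Y} {B : EtCoh.Ab Y'} (γ : A ⟶ (EtCoh.push g).obj B) :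
    (Scheme.pointSmallEtale (η' ≫ g)).presheafFiber.obj A.obj ⟶
      (Scheme.pointSmallEtale η').presheafFiber.obj B.obj :=
  (Scheme.pointSmallEtale (η' ≫ g)).presheafFiberDesc
    (fun V v => secMap g γ V ≫ (Scheme.pointSmallEtale η').toPresheafFiber
      ((EtCoh.bc g).obj V) (liftpt η' rfl V v) B.obj)
    (fun U V k x => by
      rw [← Category.assoc, secMap_naturality, Category.assoc, Point.toPresheafFiber_w,
        liftpt_map])

lemma germ_stk {A : EtCoh.Ab Y} {B : EtCoh.Ab Y'} (γ : A ⟶ (EtCoh.push g).obj B)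
    (V : Y.Etale) (v : (Scheme.pointSmallEtale (η' ≫ g)).fiber.obj V) :
    (Scheme.pointSmallEtale (η' ≫ g)).toPresheafFiber V v A.obj ≫ stk g η' γ =
      secMap g γ V ≫ (Scheme.pointSmallEtale η').toPresheafFiber
        ((EtCoh.bc g).obj V) (liftpt η' rfl V v) B.obj :=
  (Scheme.pointSmallEtale (η' ≫ g)).toPresheafFiber_presheafFiberDesc _ _ V v

lemma stk_comp {A : EtCoh.Ab Y} {B B' : EtCoh.Ab Y'} (γ : A ⟶ (EtCoh.push g).obj B)
    (b : B ⟶ B') :
    stk g η' (γ ≫ (EtCoh.push g).map b) =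
      stk g η' γ ≫ (Scheme.pointSmallEtale η').presheafFiber.map b.hom := by
  apply (Scheme.pointSmallEtale (η' ≫ g)).presheafFiber_hom_ext
  intro V v
  rw [germ_stk, ← Category.assoc, germ_stk, Category.assoc, Point.toPresheafFiber_naturality,
    secMap_comp, Category.assoc]

end Stk

end Groth.Agent.Lib.Helper23.FinBC0

namespace Groth.Agent.Lib.Helper23.FinBC0

open CategoryTheory CategoryTheory.Limits AlgebraicGeometry Opposite GrothendieckTopology
open EtLocalRing FinPushFiber EtGlue FinPushGeom FinPushStalk FinPushExact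

section Unit

variable {Y' Y : Scheme.{u}} (g : Y' ⟶ Y) {Ω : Type u} [Field Ω] [IsSepClosed Ω]
  (η' : Spec (CommRingCat.of Ω) ⟶ Y')

set_option backward.isDefEq.respectTransparency.types false in
set_option backward.isDefEq.respectTransparency false in
lemma fiberIso_inv_app (V : Y.Etale) (v : (Scheme.pointSmallEtale (η' ≫ g)).fiber.obj V) :
    (Groth.Agent.S0100.fiberIso g η').inv.app V v = liftpt η' rfl V v := by
  have hv := Adjunction.compCoyonedaIso_hom_app_app_hom_apply (Over.mapPullbackAdj g)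
    (op (Over.mk η')) ((Scheme.Etale.forget Y).obj V) v
  have h0 : (Groth.Agent.S0100.fiberIso g η').inv.app V v =
      (ConcreteCategory.hom (((Over.mapPullbackAdj g).compCoyonedaIso.hom.app
        (op (Over.mk η'))).app ((Scheme.Etale.forget Y).obj V))) v := by
    simp [Groth.Agent.S0100.fiberIso]
    rfl
  refine h0.trans (hv.trans ?_)
  apply Over.OverMorphism.ext
  apply pullback.hom_ext
  · simp [liftpt]
    exact Category.id_comp _
  · simp [liftpt]

/-- the unit of the adjunction, with explicit source and target -/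
noncomputable def unitG (A : EtCoh.Ab Y) : A ⟶ (EtCoh.push g).obj ((EtCoh.pull g).obj A) :=
  (EtCoh.pullPushAdj g).unit.app A

set_option backward.isDefEq.respectTransparency.types false in
set_option backward.isDefEq.respectTransparency false in
theorem isIso_stk_unit (A : EtCoh.Ab Y) :
    IsIso (stk g η' (unitG g A)) := by
  let Φ := Scheme.pointSmallEtale η'
  have : InitiallySmall.{u} (EtCoh.bc g ⋙ Φ.fiber).Elements :=
    PointIso.initiallySmall_elements_of_iso (Groth.Agent.S0100.fiberIso g η')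
  have hF := EtCoh.coverPreserving_bc g
  let e1 := Φ.sheafFiberComapIso (EtCoh.bc g) hF AddCommGrpCat.{u+1}
  let e2 : (Φ.comap (EtCoh.bc g) hF).sheafFiber (A := AddCommGrpCat.{u+1}) ≅
      (Scheme.pointSmallEtale (η' ≫ g)).sheafFiber :=
    PointIso.sheafFiberIsoOfFiberIso (Groth.Agent.S0100.fiberIso g η')
  have key : stk g η' (unitG g A) = e2.inv.app A ≫ e1.hom.app A := by
    apply (Scheme.pointSmallEtale (η' ≫ g)).presheafFiber_hom_ext
    intro V v
    rw [germ_stk]
    have h1 : (Scheme.pointSmallEtale (η' ≫ g)).toPresheafFiber V v A.obj ≫ e2.inv.app A =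
        (Φ.comap (EtCoh.bc g) hF).toPresheafFiber V
          ((Groth.Agent.S0100.fiberIso g η').inv.app V v) A.obj := by
      change _ ≫ (Point.Hom.presheafFiber (A := AddCommGrpCat.{u+1})
        (⟨(Groth.Agent.S0100.fiberIso g η').inv⟩ :
          (Φ.comap (EtCoh.bc g) hF) ⟶ Scheme.pointSmallEtale (η' ≫ g))).app A.obj = _
      rw [Point.Hom.presheafFiber_app]
      exact (Scheme.pointSmallEtale (η' ≫ g)).toPresheafFiber_presheafFiberDesc _ _ V v
    rw [← Category.assoc, h1, fiberIso_inv_app]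
    exact (ComapGerm.toPresheafFiber_sheafFiberComapIso_hom_app Φ (EtCoh.bc g) hF
      AddCommGrpCat.{u+1} A V (liftpt η' rfl V v)).symm
  rw [key]
  infer_instance

end Unit

end Groth.Agent.Lib.Helper23.FinBC0

namespace Groth.Agent.Lib.Helper23.FinBC0

open CategoryTheory CategoryTheory.Limits AlgebraicGeometry Opposite GrothendieckTopology
open EtLocalRing FinPushFiber EtGlue FinPushGeom FinPushStalk FinPushExact

section Square

variable {X Y X' Y' : Scheme.{u}} (f : X ⟶ Y) (g : Y' ⟶ Y) (f' : X' ⟶ Y') (g' : X' ⟶ X)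
  (w : g' ≫ f = f' ≫ g)

/-- the comparison `(V ×_Y Y') ×_{Y'} X' ⟶ (V ×_Y X) ×_X X'` -/
noncomputable def jV (V : Y.Etale) :
    (EtCoh.bc f').obj ((EtCoh.bc g).obj V) ⟶ (EtCoh.bc g').obj ((EtCoh.bc f).obj V) :=
  (MorphismProperty.Over.pullbackComp (P := EtCoh.etaleMP) (Q := ⊤) f' g).inv.app V ≫
    (MorphismProperty.Over.pullbackCongr (P := EtCoh.etaleMP) (Q := ⊤) w).inv.app V ≫
    (MorphismProperty.Over.pullbackComp (P := EtCoh.etaleMP) (Q := ⊤) g' f).hom.app V

/-- the adjoint of the base change map -/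
noncomputable def γ₀ (F : EtCoh.Ab X) :
    (EtCoh.push f).obj F ⟶ (EtCoh.push g).obj ((EtCoh.push f').obj ((EtCoh.pull g').obj F)) :=
  (EtCoh.push f).map (unitG g' F) ≫ (EtCoh.pushComp f g').hom.app _ ≫
    (EtCoh.pushCongr w).hom.app _ ≫ (EtCoh.pushComp g f').inv.app _

set_option backward.isDefEq.respectTransparency.types false in
set_option backward.isDefEq.respectTransparency false in
lemma secMap_γ₀ (F : EtCoh.Ab X) (V : Y.Etale) :
    secMap g (γ₀ f g f' g' w F) V =
      secMap g' (unitG g' F) ((EtCoh.bc f).obj V) ≫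
        ((EtCoh.pull g').obj F).obj.map (jV f g f' g' w V).op := by
  dsimp only [jV]
  rw [op_comp, op_comp, Functor.map_comp, Functor.map_comp]
  rfl

set_option backward.isDefEq.respectTransparency.types false in
set_option backward.isDefEq.respectTransparency false in
lemma jV_left_snd (V : Y.Etale) :
    (jV f g f' g' w V).left ≫
      (pullback.snd ((EtCoh.bc f).obj V).hom g' : ((EtCoh.bc g').obj ((EtCoh.bc f).obj V)).left ⟶ X') =
      (pullback.snd ((EtCoh.bc g).obj V).hom f' :
        ((EtCoh.bc f').obj ((EtCoh.bc g).obj V)).left ⟶ X') :=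
  Over.w (jV f g f' g' w V).hom

set_option backward.isDefEq.respectTransparency.types false in
set_option backward.isDefEq.respectTransparency false in
lemma jV_left_fst_fst (V : Y.Etale) :
    (jV f g f' g' w V).left ≫
      (pullback.fst ((EtCoh.bc f).obj V).hom g' :
        ((EtCoh.bc g').obj ((EtCoh.bc f).obj V)).left ⟶ ((EtCoh.bc f).obj V).left) ≫
      (pullback.fst V.hom f : ((EtCoh.bc f).obj V).left ⟶ V.left) =
      (pullback.fst ((EtCoh.bc g).obj V).hom f' :
        ((EtCoh.bc f').obj ((EtCoh.bc g).obj V)).left ⟶ ((EtCoh.bc g).obj V).left) ≫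
      (pullback.fst V.hom g : ((EtCoh.bc g).obj V).left ⟶ V.left) := by
  have h1 := MorphismProperty.Over.pullbackComp_left_fst_fst (P := EtCoh.etaleMP) (Q := ⊤) g' f V
  have h2 := MorphismProperty.Over.pullbackComp_left_fst_fst (P := EtCoh.etaleMP) (Q := ⊤) f' g V
  have h3 := MorphismProperty.Over.pullbackCongr_hom_app_left_fst (P := EtCoh.etaleMP) (Q := ⊤) w V
  have ha : ((MorphismProperty.Over.pullbackComp (P := EtCoh.etaleMP) (Q := ⊤) f' g).inv.app V).left ≫
      pullback.fst V.hom (f' ≫ g) =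
      pullback.fst (pullback.snd V.hom g) f' ≫ pullback.fst V.hom g := by
    rw [← h2, ← Category.assoc, ← MorphismProperty.Comma.comp_left, Iso.inv_hom_id_app]
    exact Category.id_comp _
  have hb : ((MorphismProperty.Over.pullbackCongr (P := EtCoh.etaleMP) (Q := ⊤) w).inv.app V).left ≫
      pullback.fst V.hom (g' ≫ f) = pullback.fst V.hom (f' ≫ g) := by
    rw [← h3, ← Category.assoc, ← MorphismProperty.Comma.comp_left, Iso.inv_hom_id_app]
    exact Category.id_comp _
  dsimp only [jV]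
  rw [MorphismProperty.Comma.comp_left, MorphismProperty.Comma.comp_left, Category.assoc,
    Category.assoc]
  erw [h1, hb, ha]
  rfl

variable {Ω : Type u} [Field Ω] [IsSepClosed Ω] (η' : Spec (CommRingCat.of Ω) ⟶ Y')
  (ξ' : Spec (CommRingCat.of Ω) ⟶ X') (hξ' : ξ' ≫ f' = η')

include w hξ' in
lemma lift_eq : (ξ' ≫ g') ≫ f = η' ≫ g := by
  rw [Category.assoc, w, ← Category.assoc, hξ']

set_option backward.isDefEq.respectTransparency.types false in
set_option backward.isDefEq.respectTransparency false in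
lemma jV_pt (V : Y.Etale) (v : (Scheme.pointSmallEtale (η' ≫ g)).fiber.obj V) :
    (Scheme.pointSmallEtale ξ').fiber.map (jV f g f' g' w V)
      (liftpt ξ' hξ' ((EtCoh.bc g).obj V) (liftpt η' rfl V v)) =
    liftpt ξ' rfl ((EtCoh.bc f).obj V)
      (liftpt (ξ' ≫ g') (lift_eq f g f' g' w η' ξ' hξ') V v) := by
  apply Over.OverMorphism.ext
  change (liftpt ξ' hξ' ((EtCoh.bc g).obj V) (liftpt η' rfl V v)).left ≫
    (jV f g f' g' w V).left = _
  have a1 := liftpt_left_fst ξ' hξ' ((EtCoh.bc g).obj V) (liftpt η' rfl V v)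
  have a2 := liftpt_left_snd ξ' hξ' ((EtCoh.bc g).obj V) (liftpt η' rfl V v)
  have a3 := liftpt_left_fst η' rfl V v
  have b1 := liftpt_left_fst ξ' rfl ((EtCoh.bc f).obj V)
    (liftpt (ξ' ≫ g') (lift_eq f g f' g' w η' ξ' hξ') V v)
  have b2 := liftpt_left_snd ξ' rfl ((EtCoh.bc f).obj V)
    (liftpt (ξ' ≫ g') (lift_eq f g f' g' w η' ξ' hξ') V v)
  have b3 := liftpt_left_fst (ξ' ≫ g') (lift_eq f g f' g' w η' ξ' hξ') V v
  have b4 := liftpt_left_snd (ξ' ≫ g') (lift_eq f g f' g' w η' ξ' hξ') V v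
  have c1 := jV_left_fst_fst f g f' g' w V
  have c2 := jV_left_snd f g f' g' w V
  have c3 : (pullback.fst ((EtCoh.bc f).obj V).hom g' :
        ((EtCoh.bc g').obj ((EtCoh.bc f).obj V)).left ⟶ ((EtCoh.bc f).obj V).left) ≫
      (pullback.snd V.hom f : ((EtCoh.bc f).obj V).left ⟶ X) =
      (pullback.snd ((EtCoh.bc f).obj V).hom g' :
        ((EtCoh.bc g').obj ((EtCoh.bc f).obj V)).left ⟶ X') ≫ g' := pullback.condition
  apply pullback.hom_ext
  · apply pullback.hom_ext
    · rw [Category.assoc, Category.assoc, c1]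
      simp only [← Category.assoc]
      rw [a1, a3, b1, b3]
    · rw [Category.assoc, Category.assoc, c3, ← Category.assoc _ _ g', c2]
      simp only [← Category.assoc]
      rw [a2, b1, b4]
  · rw [Category.assoc, c2, a2, b2]

end Square

end Groth.Agent.Lib.Helper23.FinBC0

namespace Groth.Agent.Lib.Helper23.FinBC0

open CategoryTheory CategoryTheory.Limits AlgebraicGeometry Opposite GrothendieckTopology
open EtLocalRing FinPushFiber EtGlue FinPushGeom FinPushStalk FinPushExact

section Star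

variable {X Y X' Y' : Scheme.{u}} (f : X ⟶ Y) (g : Y' ⟶ Y) (f' : X' ⟶ Y') (g' : X' ⟶ X)
  (w : g' ≫ f = f' ≫ g) [IsFinite f] [IsFinite f']
  {Ω : Type u} [Field Ω] [IsAlgClosed Ω] (η' : Spec (CommRingCat.of Ω) ⟶ Y')

/-- the map on lifts induced by the square -/
noncomputable def liftMap (ξ' : Lifts f' η') : Lifts f (η' ≫ g) :=
  ⟨ξ'.1 ≫ g', lift_eq f g f' g' w η' ξ'.1 ξ'.2⟩

set_option backward.isDefEq.respectTransparency.types false in
set_option backward.isDefEq.respectTransparency false in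
lemma star (F : EtCoh.Ab X) (ξ' : Lifts f' η') :
    stk g η' (γ₀ f g f' g' w F) ≫ θcomp f' η' ((EtCoh.pull g').obj F).obj ξ' =
      θcomp f (η' ≫ g) F.obj (liftMap f g f' g' w η' ξ') ≫ stk g' ξ'.1 (unitG g' F) := by
  apply (Scheme.pointSmallEtale (η' ≫ g)).presheafFiber_hom_ext
  intro V v
  rw [← Category.assoc, germ_stk, Category.assoc]
  erw [germ_θcomp]
  rw [secMap_γ₀, Category.assoc]
  erw [Point.toPresheafFiber_w]
  rw [jV_pt]
  rw [← Category.assoc]
  erw [germ_θcomp]
  erw [germ_stk]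
  rfl

omit [IsFinite f] [IsFinite f'] in
lemma liftMap_bijective (h : IsPullback g' f' f g) :
    Function.Bijective (liftMap f g f' g' h.w η') := by
  constructor
  · intro ξ₁ ξ₂ h12
    apply Subtype.ext
    apply h.hom_ext
    · exact congrArg Subtype.val h12
    · rw [ξ₁.2, ξ₂.2]
  · intro ξ
    exact ⟨⟨h.lift ξ.1 η' ξ.2, h.lift_snd _ _ _⟩, Subtype.ext (h.lift_fst _ _ _)⟩

set_option backward.isDefEq.respectTransparency.types false in
set_option backward.isDefEq.respectTransparency false in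
lemma star_apply (F : EtCoh.Ab X) (ξ' : Lifts f' η')
    (z : ToType ((Scheme.pointSmallEtale (η' ≫ g)).presheafFiber.obj
      ((EtCoh.bc f).op ⋙ F.obj))) :
    θcomp f' η' ((EtCoh.pull g').obj F).obj ξ' (stk g η' (γ₀ f g f' g' w F) z) =
      stk g' ξ'.1 (unitG g' F) (θcomp f (η' ≫ g) F.obj (liftMap f g f' g' w η' ξ') z) := by
  have := star f g f' g' w η' F ξ'
  exact congrArg (fun m => m z) this

set_option backward.isDefEq.respectTransparency.types false in
set_option backward.isDefEq.respectTransparency false in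
theorem stk_γ₀_bijective (h : IsPullback g' f' f g) (F : EtCoh.Ab X) :
    Function.Bijective (stk g η' (γ₀ f g f' g' h.w F)) := by
  have hF : Presheaf.IsSheaf X.smallEtaleTopology (F.obj ⋙ forget AddCommGrpCat.{u+1}) :=
    (Presheaf.isSheaf_iff_isSheaf_forget _ _ (forget AddCommGrpCat.{u+1})).1 F.property
  have hG : Presheaf.IsSheaf X'.smallEtaleTopology
      (((EtCoh.pull g').obj F).obj ⋙ forget AddCommGrpCat.{u+1}) :=
    (Presheaf.isSheaf_iff_isSheaf_forget _ _ (forget AddCommGrpCat.{u+1})).1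
      ((EtCoh.pull g').obj F).property
  have hφ := liftMap_bijective f g f' g' η' h
  have hU : ∀ ξ' : Lifts f' η', Function.Bijective (stk g' ξ'.1 (unitG g' F)) := fun ξ' => by
    have := isIso_stk_unit g' ξ'.1 F
    exact ConcreteCategory.bijective_of_isIso _
  constructor
  · intro z z' hzz'
    apply θ_injective f (η' ≫ g) F.obj hF
    intro ξ
    obtain ⟨ξ', rfl⟩ := hφ.2 ξ
    apply (hU ξ').1
    rw [← star_apply, ← star_apply]
    exact congrArg _ hzz'
  · intro y
    choose x' hx' using fun ξ' : Lifts f' η' =>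
      (hU ξ').2 (θcomp f' η' ((EtCoh.pull g').obj F).obj ξ' y)
    let T : Lifts f (η' ≫ g) → Type (u + 1) := fun ξ =>
      ToType ((Scheme.pointSmallEtale ξ.1).presheafFiber.obj F.obj)
    let e : Lifts f' η' ≃ Lifts f (η' ≫ g) := Equiv.ofBijective _ hφ
    obtain ⟨z, hz⟩ := θ_surjective f (η' ≫ g) F.obj hF (Equiv.piCongrLeft T e x')
    refine ⟨z, ?_⟩
    apply θ_injective f' η' ((EtCoh.pull g').obj F).obj hG
    intro ξ'
    rw [star_apply, ← hx' ξ']
    congr 1
    exact (hz (e ξ')).trans (Equiv.piCongrLeft_apply_apply T e x' ξ')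

end Star

end Groth.Agent.Lib.Helper23.FinBC0

namespace Groth.Agent.Lib.Helper23.FinBC0

open CategoryTheory CategoryTheory.Limits AlgebraicGeometry Opposite GrothendieckTopology
open EtLocalRing FinPushFiber EtGlue FinPushGeom FinPushStalk FinPushExact

section Main

lemma isIso_of_stalks {X : Scheme.{u}} {F G : EtCoh.Ab X} (a : F ⟶ G)
    (h : ∀ (Ω : Type u) [Field Ω] [IsAlgClosed Ω] (ξ : Spec (CommRingCat.of Ω) ⟶ X),
      Function.Bijective ((Scheme.pointSmallEtale ξ).presheafFiber.map a.hom)) : IsIso a := by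
  have hP := isConservative_algClosed X
  refine (Sheaf.isLocallyBijective_iff_isIso (A := AddCommGrpCat.{u + 1}) a).1 ⟨?_, ?_⟩
  · exact Groth.Agent.Lib.Helper23.PointStalk.isLocallyInjective_of_fibers hP a.hom (fun Φ => by
      obtain ⟨Ω, _, _, ξ, hΦ⟩ := key X Φ
      rw [hΦ]
      exact (h Ω ξ).1)
  · exact Groth.Agent.Lib.Helper23.PointStalk.isLocallySurjective_of_fibers hP a.hom (fun Φ => by
      obtain ⟨Ω, _, _, ξ, hΦ⟩ := key X Φ
      rw [hΦ]
      exact (h Ω ξ).2)

variable {X Y X' Y' : Scheme.{u}} (f : X ⟶ Y) (g : Y' ⟶ Y) (f' : X' ⟶ Y') (g' : X' ⟶ X)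
  [IsFinite f]

set_option backward.isDefEq.respectTransparency.types false in
set_option backward.isDefEq.respectTransparency false in
theorem isIso_baseChange0 (h : IsPullback g' f' f g) (F : EtCoh.Ab X) :
    IsIso (EtCoh.baseChange0 f g f' g' h.w F) := by
  have hf' : IsFinite f' := MorphismProperty.of_isPullback h (inferInstance : IsFinite f)
  apply isIso_of_stalks
  intro Ω _ _ η'
  have h1 : γ₀ f g f' g' h.w F =
      unitG g ((EtCoh.push f).obj F) ≫ (EtCoh.push g).map (EtCoh.baseChange0 f g f' g' h.w F) := by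
    have := (EtCoh.pullPushAdj g).homEquiv_unit (X := (EtCoh.push f).obj F)
      (Y := (EtCoh.push f').obj ((EtCoh.pull g').obj F))
      (f := EtCoh.baseChange0 f g f' g' h.w F)
    refine Eq.trans ?_ this
    dsimp only [EtCoh.baseChange0]
    rw [Equiv.apply_symm_apply]
    rfl
  have h2 := stk_comp g η' (unitG g ((EtCoh.push f).obj F)) (EtCoh.baseChange0 f g f' g' h.w F)
  rw [← h1] at h2
  have h3 := stk_γ₀_bijective f g f' g' η' h F
  have h4 : Function.Bijective (stk g η' (unitG g ((EtCoh.push f).obj F))) := by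
    have := isIso_stk_unit g η' ((EtCoh.push f).obj F)
    exact ConcreteCategory.bijective_of_isIso _
  rw [h2] at h3
  have h5 : Function.Bijective
      (((Scheme.pointSmallEtale η').presheafFiber.map (EtCoh.baseChange0 f g f' g' h.w F).hom) ∘
        (stk g η' (unitG g ((EtCoh.push f).obj F)))) := by
    convert h3 using 1
    funext z
    exact (ConcreteCategory.comp_apply _ _ z).symm
  exact (Function.Bijective.of_comp_iff _ h4).1 h5

end Main

end Groth.Agent.Lib.Helper23.FinBC0
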