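import Mathlib.CategoryTheory.Sites.Point.Over
import Mathlib.CategoryTheory.Sites.Point.Skyscraper
import Mathlib.CategoryTheory.Sites.ConstantSheaf
import Mathlib.CategoryTheory.Filtered.Final
import Mathlib.CategoryTheory.Limits.Final

/-!
# Fibres of constant sheaves and fibres at points of over sites
-/

set_option autoImplicit false

namespace Groth.Agent.Lib.Helper23.PointConst

open CategoryTheory Limits Opposite GrothendieckTopology

universe w v v' u u'

variable {C : Type u} [Category.{v} C] {J : GrothendieckTopology C}
  {A : Type u'} [Category.{v'} A] [HasColimitsOfSize.{w, w} A]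

section Const

attribute [local instance] IsFiltered.isConnected in
/-- the fibre of a constant presheaf -/
noncomputable def presheafFiberConstIso (Φ : Point.{w} J) (M : A) :
    Φ.presheafFiber.obj ((Functor.const Cᵒᵖ).obj M) ≅ M :=
  IsColimit.coconePointUniqueUpToIso (Φ.isColimitPresheafFiberCocone ((Functor.const Cᵒᵖ).obj M))
    (isColimitConstCocone _ M)

variable [HasWeakSheafify J A] [HasProducts.{w} A]

/-- the fibre of a constant sheaf -/
noncomputable def sheafFiberConstIso (Φ : Point.{w} J) (M : A) :
    Φ.sheafFiber.obj ((constantSheaf J A).obj M) ≅ M :=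
  (Φ.presheafToSheafCompSheafFiberIso A).app ((Functor.const Cᵒᵖ).obj M) ≪≫
    presheafFiberConstIso Φ M

end Const

section Over

variable [LocallySmall.{w} C] (Φ : Point.{w} J) {X : C} (x : Φ.fiber.obj X)

/-- the comparison functor on categories of elements -/
noncomputable abbrev G : (Φ.over x).fiber.Elements ⥤ Φ.fiber.Elements :=
  (FunctorToTypes.fromOverFunctorElementsEquivalence Φ.fiber x).functor ⋙
    Over.forget (Φ.fiber.elementsMk X x)

instance : (G Φ x).Initial := by
  have h1 : (FunctorToTypes.fromOverFunctorElementsEquivalence Φ.fiber x).functor.Initial :=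
    Functor.initial_of_adjunction
      (FunctorToTypes.fromOverFunctorElementsEquivalence Φ.fiber x).toAdjunction
  have h2 : (Over.forget (Φ.fiber.elementsMk X x)).Initial := Over.initial_forget _
  exact @Functor.initial_comp _ _ _ _ _ _ _ _ h1 h2

/-- the fibre at a point of the over site -/
noncomputable def overFiberIso (P : Cᵒᵖ ⥤ A) :
    (Φ.over x).presheafFiber.obj ((Over.forget X).op ⋙ P) ≅ Φ.presheafFiber.obj P :=
  Functor.Final.colimitIso (G Φ x).op ((CategoryOfElements.π Φ.fiber).op ⋙ P)

end Over

end Groth.Agent.Lib.Helper23.PointConst
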