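import Groth.Prelude.Def_EtBase
import Groth.Agent.Lib.Helper23.PointConst
import Mathlib.AlgebraicGeometry.Sites.EtalePoint
import Mathlib.FieldTheory.IsAlgClosed.AlgebraicClosure
import Mathlib.AlgebraicGeometry.Morphisms.UniversallyOpen
import Mathlib.AlgebraicGeometry.Morphisms.Etale

/-!
# The value group of a finite locally constant sheaf is locally constant
-/

set_option autoImplicit false
universe u

namespace Groth.Agent.Lib.Helper23.FlcConn

open CategoryTheory CategoryTheory.Limits AlgebraicGeometry Opposite GrothendieckTopology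

variable {X : Scheme.{u}}

/-- the geometric point at `x` with values in an algebraic closure of the residue field -/
noncomputable def geomPt (x : X) :
    Spec (CommRingCat.of (AlgebraicClosure (X.residueField x))) ⟶ X :=
  (Scheme.SpecToEquivOfField (AlgebraicClosure (X.residueField x)) X).2
    ⟨x, CommRingCat.ofHom (algebraMap (X.residueField x) _)⟩

lemma geomPt_default (x : X) : (geomPt x) default = x := by
  simp [geomPt, Scheme.SpecToEquivOfField]

/-- a lift of the geometric point through a given point of an etale scheme -/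
lemma exists_lift (x : X) (U : X.Etale) (y : U.left) (hy : U.hom y = x) :
    Nonempty ((Scheme.pointSmallEtale (geomPt x)).fiber.obj U) := by
  obtain ⟨t, -⟩ := Scheme.pointSmallEtaleFiberObjToPreimage_surjective (geomPt x)
    (geomPt_default x) U ⟨y, hy⟩
  exact ⟨t⟩

set_option backward.isDefEq.respectTransparency.types false in
set_option backward.isDefEq.respectTransparency false in
/-- the stalk of a sheaf which is constant over `U` -/
noncomputable def stalkIso (F : EtCoh.Ab X) {Ω : Type u} [Field Ω] [IsSepClosed Ω]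
    (ξ : Spec (CommRingCat.of Ω) ⟶ X) (U : X.Etale) (u : (Scheme.pointSmallEtale ξ).fiber.obj U)
    (M : AddCommGrpCat.{u + 1})
    (e : EtCoh.restr F U ≅
      (constantSheaf (X.smallEtaleTopology.over U) AddCommGrpCat.{u + 1}).obj M) :
    (Scheme.pointSmallEtale ξ).presheafFiber.obj F.obj ≅ M :=
  (PointConst.overFiberIso (Scheme.pointSmallEtale ξ) u F.obj).symm ≪≫
    ((Scheme.pointSmallEtale ξ).over u).sheafFiber.mapIso e ≪≫
    PointConst.sheafFiberConstIso ((Scheme.pointSmallEtale ξ).over u) M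

lemma addEquiv_of_common_point (F : EtCoh.Ab X) (U₁ U₂ : X.Etale) (M₁ M₂ : Type)
    [AddCommGroup M₁] [AddCommGroup M₂]
    (e₁ : Nonempty (EtCoh.restr F U₁ ≅
      (constantSheaf (X.smallEtaleTopology.over U₁) AddCommGrpCat.{u + 1}).obj
        (AddCommGrpCat.of (ULift.{u + 1} M₁))))
    (e₂ : Nonempty (EtCoh.restr F U₂ ≅
      (constantSheaf (X.smallEtaleTopology.over U₂) AddCommGrpCat.{u + 1}).obj
        (AddCommGrpCat.of (ULift.{u + 1} M₂))))
    (y₁ : U₁.left) (y₂ : U₂.left) (h : U₁.hom y₁ = U₂.hom y₂) : Nonempty (M₁ ≃+ M₂) := by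
  obtain ⟨e₁⟩ := e₁
  obtain ⟨e₂⟩ := e₂
  obtain ⟨u₁⟩ := exists_lift (U₁.hom y₁) U₁ y₁ rfl
  obtain ⟨u₂⟩ := exists_lift (U₁.hom y₁) U₂ y₂ h.symm
  let i := (stalkIso F (geomPt (U₁.hom y₁)) U₁ u₁ _ e₁).symm ≪≫
    stalkIso F (geomPt (U₁.hom y₁)) U₂ u₂ _ e₂
  exact ⟨AddEquiv.ulift.symm.trans (i.addCommGroupIsoToAddEquiv.trans AddEquiv.ulift)⟩

theorem single_group [ConnectedSpace X] (F : EtCoh.Ab X) (h : EtCoh.IsFiniteLocallyConstant F) :
    ∃ (M : Type) (_ : AddCommGroup M) (_ : Finite M) (ι : Type u) (U : ι → X.Etale),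
      EtCoh.Covers U ∧
      ∀ i, Nonempty (EtCoh.restr F (U i) ≅
        (constantSheaf (X.smallEtaleTopology.over (U i)) AddCommGrpCat.{u + 1}).obj
          (AddCommGrpCat.of (ULift.{u + 1} M))) := by
  obtain ⟨ι, U, hcov, hM⟩ := h
  choose M instM finM eM using hM
  obtain ⟨x₀⟩ := (inferInstance : Nonempty X)
  obtain ⟨i₀, y₀, hy₀⟩ := hcov x₀
  let A : Set X := {x | ∃ (i : ι) (y : (U i).left), (U i).hom y = x ∧ Nonempty (M i ≃+ M i₀)}
  let B : Set X := {x | ∃ (i : ι) (y : (U i).left), (U i).hom y = x ∧ ¬ Nonempty (M i ≃+ M i₀)}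
  have hopen : ∀ i, IsOpen (Set.range (U i).hom) := fun i => by
    have : Etale (U i).hom := (U i).prop
    exact (Scheme.Hom.isOpenMap (U i).hom).isOpen_range
  have hA : IsOpen A := by
    have : A = ⋃ (i : {i : ι // Nonempty (M i ≃+ M i₀)}), Set.range (U i.1).hom := by
      ext x
      simp only [A, Set.mem_ofPred_eq, Set.mem_iUnion, Set.mem_range, Subtype.exists]
      constructor
      · rintro ⟨i, y, hy, hi⟩
        exact ⟨i, hi, y, hy⟩
      · rintro ⟨i, hi, y, hy⟩
        exact ⟨i, y, hy, hi⟩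
    rw [this]
    exact isOpen_iUnion fun i => hopen i.1
  have hB : IsOpen B := by
    have : B = ⋃ (i : {i : ι // ¬ Nonempty (M i ≃+ M i₀)}), Set.range (U i.1).hom := by
      ext x
      simp only [B, Set.mem_ofPred_eq, Set.mem_iUnion, Set.mem_range, Subtype.exists]
      constructor
      · rintro ⟨i, y, hy, hi⟩
        exact ⟨i, hi, y, hy⟩
      · rintro ⟨i, hi, y, hy⟩
        exact ⟨i, y, hy, hi⟩
    rw [this]
    exact isOpen_iUnion fun i => hopen i.1
  have hAB : Aᶜ = B := by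
    ext x
    constructor
    · intro hx
      obtain ⟨i, y, hy⟩ := hcov x
      refine ⟨i, y, hy, fun hi => hx ⟨i, y, hy, hi⟩⟩
    · rintro ⟨j, y', hy', hj⟩ ⟨i, y, hy, ⟨hi⟩⟩
      obtain ⟨e⟩ := addEquiv_of_common_point F (U j) (U i) (M j) (M i) (eM j) (eM i) y' y
        (hy'.trans hy.symm)
      exact hj ⟨e.trans hi⟩
  have hclopen : IsClopen A := ⟨by rw [← isOpen_compl_iff, hAB]; exact hB, hA⟩
  have hAuniv : A = Set.univ :=
    (isClopen_iff.1 hclopen).resolve_left
      (Set.nonempty_iff_ne_empty.1 ⟨x₀, i₀, y₀, hy₀, ⟨AddEquiv.refl _⟩⟩)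
  refine ⟨M i₀, instM i₀, finM i₀, {i : ι // Nonempty (M i ≃+ M i₀)}, fun i => U i.1, ?_, ?_⟩
  · intro x
    have hx : x ∈ A := by rw [hAuniv]; trivial
    obtain ⟨i, y, hy, hi⟩ := hx
    exact ⟨⟨i, hi⟩, y, hy⟩
  · rintro ⟨i, ⟨hi⟩⟩
    obtain ⟨e⟩ := eM i
    let a : AddCommGrpCat.of (ULift.{u + 1} (M i)) ≅ AddCommGrpCat.of (ULift.{u + 1} (M i₀)) :=
      (AddEquiv.ulift.trans (hi.trans AddEquiv.ulift.symm)).toAddCommGrpIso
    exact ⟨e ≪≫ (constantSheaf (X.smallEtaleTopology.over (U i))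
      AddCommGrpCat.{u + 1}).mapIso a⟩

end Groth.Agent.Lib.Helper23.FlcConn
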