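import Mathlib.Topology.Spectral.ConstructibleTopology
import Mathlib.Topology.Constructible

/-!
# Constructible sets are clopen in the constructible topology; finite subcovers; compactness
-/

set_option autoImplicit false

namespace Groth.Agent.Lib.Helper23.ConstrTop

open Topology

variable {X : Type*} [TopologicalSpace X]

lemma isOpen_constructibleTopology_and_compl [CompactSpace X] {s : Set X}
    (hs : IsConstructible s) :
    IsOpen[constructibleTopology X] s ∧ IsOpen[constructibleTopology X] sᶜ := by
  induction hs using IsConstructible.empty_union_induction with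
  | open_retrocompact U hUo hUc =>
    have hc : IsCompact U := by
      have := hUc isCompact_univ isOpen_univ
      rwa [Set.inter_univ] at this
    refine ⟨hc.isOpen_constructibleTopology_of_isOpen hUo,
      IsCompact.isOpen_constructibleTopology_of_isClosed ?_ hUo.isClosed_compl⟩
    rwa [compl_compl]
  | union s hs t ht hs' ht' =>
    refine ⟨@IsOpen.union X _ _ (constructibleTopology X) hs'.1 ht'.1, ?_⟩
    rw [Set.compl_union]
    exact @IsOpen.inter X (constructibleTopology X) _ _ hs'.2 ht'.2
  | compl s hs hs' =>
    refine ⟨hs'.2, ?_⟩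
    rw [compl_compl]
    exact hs'.1

/-- a cover of a spectral space by constructible sets has a finite subcover -/
lemma exists_finite_cover [CompactSpace X] [QuasiSober X] [PrespectralSpace X]
    [QuasiSeparatedSpace X] {ι : Type*} (Z : ι → Set X) (hZ : ∀ i, IsConstructible (Z i))
    (hcov : (⋃ i, Z i) = Set.univ) : ∃ t : Finset ι, ∀ x : X, ∃ i ∈ t, x ∈ Z i := by
  obtain ⟨t, ht⟩ := (isCompact_univ (X := WithConstructibleTopology X)).elim_finite_subcover
    (fun i => WithTopology.ofTopology ⁻¹' Z i)
    (fun i => (WithTopology.isOpen_iff (constructibleTopology X)).2 (isOpen_constructibleTopology_and_compl (hZ i)).1)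
    (fun y _ => by
      have h : WithTopology.ofTopology y ∈ ⋃ i, Z i := by rw [hcov]; trivial
      obtain ⟨i, hi⟩ := Set.mem_iUnion.1 h
      exact Set.mem_iUnion.2 ⟨i, hi⟩)
  refine ⟨t, fun x => ?_⟩
  have h := ht (Set.mem_univ (WithTopology.toTopology (constructibleTopology X) x))
  simp only [Set.mem_iUnion, exists_prop] at h
  obtain ⟨i, hi, hx⟩ := h
  exact ⟨i, hi, hx⟩

/-- constructible subsets of a spectral space are compact -/
lemma isCompact_of_isConstructible [CompactSpace X] [QuasiSober X] [PrespectralSpace X]
    [QuasiSeparatedSpace X] {s : Set X} (hs : IsConstructible s) : IsCompact s := by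
  have hcl : IsClosed (WithTopology.ofTopology ⁻¹' s : Set (WithConstructibleTopology X)) := by
    rw [← isOpen_compl_iff]
    exact (WithTopology.isOpen_iff (constructibleTopology X)).2 (isOpen_constructibleTopology_and_compl hs).2
  have hc := hcl.isCompact
  have hcont : Continuous (WithTopology.ofTopology : WithConstructibleTopology X → X) := by
    rw [continuous_def]
    intro U hU
    rw [WithTopology.isOpen_iff]
    change IsOpen[(constructibleTopology X)] U
    obtain ⟨S, hS, rfl⟩ := PrespectralSpace.isTopologicalBasis.open_eq_sUnion hU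
    exact @isOpen_sUnion X (constructibleTopology X) S (fun V hV =>
      (hS hV).2.isOpen_constructibleTopology_of_isOpen (hS hV).1)
  have := hc.image hcont
  rwa [Set.image_preimage_eq _ (WithTopology.ofTopology_surjective (constructibleTopology X))] at this

/-- a compact subset of an open set in a prespectral space lies in a compact open subset of it -/
lemma exists_isCompact_isOpen_between [PrespectralSpace X] {K O : Set X} (hK : IsCompact K)
    (hO : IsOpen O) (hKO : K ⊆ O) : ∃ U : Set X, IsOpen U ∧ IsCompact U ∧ K ⊆ U ∧ U ⊆ O := by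
  have hx : ∀ x : K, ∃ V : Set X, (IsOpen V ∧ IsCompact V) ∧ (x : X) ∈ V ∧ V ⊆ O := fun x =>
    PrespectralSpace.isTopologicalBasis.exists_subset_of_mem_open (hKO x.2) hO
  choose V hV hxV hVO using hx
  obtain ⟨t, ht⟩ := hK.elim_finite_subcover (fun x : K => V x) (fun x => (hV x).1)
    (fun y hy => Set.mem_iUnion.2 ⟨⟨y, hy⟩, hxV _⟩)
  refine ⟨⋃ x ∈ t, V x, isOpen_biUnion (fun x _ => (hV x).1),
    t.finite_toSet.isCompact_biUnion (fun x _ => (hV x).2), ht, ?_⟩
  exact Set.iUnion₂_subset (fun x _ => hVO x)

end Groth.Agent.Lib.Helper23.ConstrTop
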