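import Groth.Agent.Lib.Helper23.Strata
import Groth.Agent.Lib.Helper23.ConstrTop
import Groth.Agent.S0127
import Groth.Agent.S0128

/-!
# Constructibility from a cover by constructible locally closed subschemes
-/

set_option autoImplicit false
universe u

namespace Groth.Agent.Lib.Helper23.Strata

open CategoryTheory CategoryTheory.Limits AlgebraicGeometry Opposite Topology

variable {X : Scheme.{u}}

lemma Adapted.of_iso {F F' : EtCoh.Ab X} (e : F ≅ F') {V : X.Opens} (h : Adapted F V) :
    Adapted F' V := by
  obtain ⟨ι, hι, T, g, h1, h2, h3, h4, h5⟩ := h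
  exact ⟨ι, hι, T, g, h1, h2, h3, h4,
    fun i => Flc.flc_of_iso ((EtCoh.pull (g i)).mapIso e) (h5 i)⟩

lemma constructible_of_iso {F F' : EtCoh.Ab X} (e : F ≅ F') (h : EtPBC.IsConstructible F) :
    EtPBC.IsConstructible F' := fun U hU =>
  (adaptedStrata_iff F' U).2 (((adaptedStrata_iff F U).1 (h U hU)).of_iso e)

lemma isConstructible_top_preimage_iff (A : Set X) :
    IsConstructible ((⊤ : X.Opens).ι ⁻¹' A) ↔ IsConstructible A := by
  have hr : Set.range (⊤ : X.Opens).ι = Set.univ := by
    rw [Scheme.Opens.range_ι]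
    rfl
  exact isConstructible_preimage_iff_of_isOpenEmbedding (⊤ : X.Opens).ι.isOpenEmbedding
    (by rw [hr]; exact IsRetrocompact.univ) (by rw [hr]; exact Set.subset_univ _)

/-- gluing adapted strata along a quasi-compact open and its closed complement -/
lemma Adapted.of_open_closed [QuasiSeparatedSpace X] {F : EtCoh.Ab X} (U : X.Opens)
    (hU : IsCompact (U : Set X)) {Y : Scheme.{u}} (i : Y ⟶ X) [IsImmersion i]
    (hi : Set.range i = (U : Set X)ᶜ)
    (h1 : Adapted ((EtCoh.pull U.ι).obj F) ⊤) (h2 : Adapted ((EtCoh.pull i).obj F) ⊤) :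
    Adapted F ⊤ := by
  obtain ⟨ι₁, hι₁, T₁, g₁, a1, a2, a3, a4, a5⟩ := h1
  obtain ⟨ι₂, hι₂, T₂, g₂, b1, b2, b3, b4, b5⟩ := h2
  have hret : IsRetrocompact (U : Set X) := fun V hVc hVo =>
    QuasiSeparatedSpace.inter_isCompact _ _ U.isOpen hU hVo hVc
  have hcl : IsClosedEmbedding i :=
    ⟨i.isEmbedding, by rw [hi]; exact U.isOpen.isClosed_compl⟩
  have hr1 : ∀ a, Set.range (g₁ a ≫ U.ι) = U.ι '' Set.range (g₁ a) := fun a => range_comp' _ _
  have hr2 : ∀ b, Set.range (g₂ b ≫ i) = i '' Set.range (g₂ b) := fun b => range_comp' _ _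
  have hsub1 : ∀ a, U.ι '' Set.range (g₁ a) ⊆ (U : Set X) := by
    rintro a _ ⟨u, -, rfl⟩
    exact u.2
  have hsub2 : ∀ b, i '' Set.range (g₂ b) ⊆ (U : Set X)ᶜ := by
    rintro b _ ⟨y, -, rfl⟩
    rw [← hi]
    exact ⟨y, rfl⟩
  refine ⟨ι₁ ⊕ ι₂, inferInstance, fun s => Sum.rec T₁ T₂ s,
    fun s => Sum.rec (motive := fun s => (Sum.rec T₁ T₂ s : Scheme.{u}) ⟶ X)
      (fun a => g₁ a ≫ U.ι) (fun b => g₂ b ≫ i) s, ?_, ?_, ?_, ?_, ?_⟩
  · rintro (a | b)
    · have := a1 a
      exact inferInstanceAs (IsImmersion (g₁ a ≫ U.ι))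
    · have := b1 b
      exact inferInstanceAs (IsImmersion (g₂ b ≫ i))
  · rintro (a | b)
    · rw [isConstructible_top_preimage_iff]
      change IsConstructible (Set.range (g₁ a ≫ U.ι))
      rw [hr1]
      refine IsConstructible.image_of_isOpenEmbedding U.ι.isOpenEmbedding ?_
        ((isConstructible_top_preimage_iff _).1 (a2 a))
      rw [Scheme.Opens.range_ι]
      exact hret
    · rw [isConstructible_top_preimage_iff]
      change IsConstructible (Set.range (g₂ b ≫ i))
      rw [hr2]
      refine IsConstructible.image_of_isClosedEmbedding hcl ?_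
        ((isConstructible_top_preimage_iff _).1 (b2 b))
      rw [hi, compl_compl]
      exact hret
  · rintro (a | b) (a' | b') hne
    · change Disjoint (Set.range (g₁ a ≫ U.ι)) (Set.range (g₁ a' ≫ U.ι))
      rw [hr1, hr1]
      exact (Set.disjoint_image_iff U.ι.isOpenEmbedding.injective).2
        (a3 (fun h => hne (congrArg Sum.inl h)))
    · change Disjoint (Set.range (g₁ a ≫ U.ι)) (Set.range (g₂ b' ≫ i))
      rw [hr1, hr2]
      exact Set.disjoint_of_subset (hsub1 a) (hsub2 b') disjoint_compl_right
    · change Disjoint (Set.range (g₂ b ≫ i)) (Set.range (g₁ a' ≫ U.ι))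
      rw [hr1, hr2]
      exact Set.disjoint_of_subset (hsub2 b) (hsub1 a') disjoint_compl_left
    · change Disjoint (Set.range (g₂ b ≫ i)) (Set.range (g₂ b' ≫ i))
      rw [hr2, hr2]
      exact (Set.disjoint_image_iff hcl.injective).2 (b3 (fun h => hne (congrArg Sum.inr h)))
  · ext x
    simp only [Set.mem_iUnion, TopologicalSpace.Opens.coe_top, Set.mem_univ, iff_true]
    by_cases hx : x ∈ (U : Set X)
    · have h0 : (⟨x, hx⟩ : U) ∈ ⋃ a, Set.range (g₁ a) := by rw [a4]; trivial
      obtain ⟨a, t, ht⟩ := Set.mem_iUnion.1 h0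
      refine ⟨Sum.inl a, t, ?_⟩
      change (g₁ a ≫ U.ι) t = x
      rw [Scheme.Hom.comp_apply, ht]
      rfl
    · have hx' : x ∈ Set.range i := by rw [hi]; exact hx
      obtain ⟨y, rfl⟩ := hx'
      have h0 : y ∈ ⋃ b, Set.range (g₂ b) := by rw [b4]; trivial
      obtain ⟨b, t, ht⟩ := Set.mem_iUnion.1 h0
      refine ⟨Sum.inr b, t, ?_⟩
      change (g₂ b ≫ i) t = i y
      rw [Scheme.Hom.comp_apply, ht]
  · rintro (a | b)
    · exact flcAlong_of_pull U.ι F (g₁ a) (a5 a)
    · exact flcAlong_of_pull i F (g₂ b) (b5 b)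

/-- `F` becomes constructible along `n` immersions with constructible images covering `X` -/
def Covered (F : EtCoh.Ab X) (n : ℕ) : Prop :=
  ∃ (T : Fin n → Scheme.{u}) (g : ∀ k, T k ⟶ X), (∀ k, IsImmersion (g k)) ∧
    (∀ k, IsConstructible (Set.range (g k))) ∧ (∀ x : X, ∃ k, x ∈ Set.range (g k)) ∧
    ∀ k, EtPBC.IsConstructible ((EtCoh.pull (g k)).obj F)

/-- restricting a covering family to a scheme over `X` missing the last member -/
lemma covered_pullback {F : EtCoh.Ab X} {n : ℕ} (T : Fin (n + 1) → Scheme.{u})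
    (g : ∀ k, T k ⟶ X) (h1 : ∀ k, IsImmersion (g k))
    (h2 : ∀ k, IsConstructible (Set.range (g k))) (h3 : ∀ x : X, ∃ k, x ∈ Set.range (g k))
    (h4 : ∀ k, EtPBC.IsConstructible ((EtCoh.pull (g k)).obj F))
    {X' : Scheme.{u}} (j : X' ⟶ X) (hj : ∀ x' : X', j x' ∉ Set.range (g (Fin.last n))) :
    Covered ((EtCoh.pull j).obj F) n := by
  refine ⟨fun k => pullback (g k.castSucc) j, fun k => pullback.snd (g k.castSucc) j,
    fun k => ?_, fun k => ?_, fun x' => ?_, fun k => ?_⟩
  · haveI := h1 k.castSucc
    infer_instance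
  · rw [Scheme.Pullback.range_snd]
    exact j.isConstructible_preimage (h2 k.castSucc)
  · obtain ⟨k, hk⟩ := h3 (j x')
    induction k using Fin.lastCases with
    | last => exact absurd hk (hj x')
    | cast k =>
      refine ⟨k, ?_⟩
      rw [Scheme.Pullback.range_snd]
      exact hk
  · have e1 : (EtCoh.pull (pullback.snd (g k.castSucc) j)).obj ((EtCoh.pull j).obj F) ≅
        (EtCoh.pull (pullback.fst (g k.castSucc) j)).obj ((EtCoh.pull (g k.castSucc)).obj F) :=
      ((EtCore.pullComp (pullback.snd (g k.castSucc) j) j).app F).symm ≪≫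
        (EtCore.pullCongr pullback.condition.symm).app F ≪≫
        (EtCore.pullComp (pullback.fst (g k.castSucc) j) (g k.castSucc)).app F
    exact constructible_of_iso e1.symm
      (Groth.Agent.S0127.result (pullback.fst (g k.castSucc) j) _ (h4 k.castSucc))

set_option maxHeartbeats 800000 in
theorem adapted_of_covered : ∀ (n : ℕ) (X : Scheme.{u}) [CompactSpace X] [QuasiSeparatedSpace X]
    (F : EtCoh.Ab X), Covered F n → Adapted F ⊤ := by
  intro n
  induction n with
  | zero =>
    rintro X _ _ F ⟨T, g, h1, h2, h3, h4⟩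
    have hE : IsEmpty X := ⟨fun x => by obtain ⟨k, -⟩ := h3 x; exact k.elim0⟩
    refine ⟨PEmpty, inferInstance, fun e => e.elim, fun e => e.elim, fun e => e.elim,
      fun e => e.elim, fun e => e.elim, ?_, fun e => e.elim⟩
    ext x
    exact (hE.false x).elim
  | succ n ih =>
    rintro X _ _ F ⟨T, g, h1, h2, h3, h4⟩
    haveI := h1 (Fin.last n)
    have hZc : IsCompact (Set.range (g (Fin.last n))) :=
      ConstrTop.isCompact_of_isConstructible (h2 _)
    have hZO₀ : Set.range (g (Fin.last n)) ⊆ ((g (Fin.last n)).coborderRange : Set X) :=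
      subset_coborder
    obtain ⟨Oset, hOo, hOc, hZO, hOO₀⟩ := ConstrTop.exists_isCompact_isOpen_between hZc
      (g (Fin.last n)).coborderRange.isOpen hZO₀
    let O : X.Opens := ⟨Oset, hOo⟩
    -- the closed complement
    let A := Scheme.IdealSheafData.vanishingIdeal ⟨(O : Set X)ᶜ, O.isOpen.isClosed_compl⟩
    have hA : Set.range A.subschemeι = (O : Set X)ᶜ := by
      rw [Scheme.IdealSheafData.range_subschemeι, Scheme.IdealSheafData.coe_support_vanishingIdeal]
      rfl
    haveI : CompactSpace A.subscheme := QuasiCompact.compactSpace_of_compactSpace A.subschemeι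
    haveI : QuasiSeparatedSpace A.subscheme := quasiSeparatedSpace_of_quasiSeparated A.subschemeι
    have adA : Adapted ((EtCoh.pull A.subschemeι).obj F) ⊤ := by
      refine ih _ _ (covered_pullback T g h1 h2 h3 h4 A.subschemeι (fun a ha => ?_))
      have h5 : A.subschemeι a ∈ (O : Set X)ᶜ := by
        rw [← hA]
        exact ⟨a, rfl⟩
      exact h5 (hZO ha)
    -- the open part
    haveI : CompactSpace (O : Scheme.{u}) := isCompact_iff_compactSpace.1 hOc
    haveI : QuasiSeparatedSpace (O : Scheme.{u}) := O.ι.isOpenEmbedding.quasiSeparatedSpace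
    have adO : Adapted ((EtCoh.pull O.ι).obj F) ⊤ := by
      have hpre : O.ι ⁻¹' Set.range (g (Fin.last n)) =
          O.ι ⁻¹' closure (Set.range (g (Fin.last n))) := by
        ext x
        constructor
        · intro hx
          exact subset_closure hx
        · intro hx
          have hxO : (O.ι x : X) ∈ coborder (Set.range (g (Fin.last n))) := by
            apply hOO₀
            have := Set.mem_range_self (f := O.ι) x
            rwa [Scheme.Opens.range_ι] at this
          have := coborder_inter_closure (s := Set.range (g (Fin.last n)))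
          rw [Set.mem_preimage, ← this]
          exact ⟨hxO, hx⟩
      have hcl : IsClosed (O.ι ⁻¹' Set.range (g (Fin.last n))) := by
        rw [hpre]
        exact isClosed_closure.preimage O.ι.continuous
      let U' : (O : Scheme.{u}).Opens := ⟨(O.ι ⁻¹' Set.range (g (Fin.last n)))ᶜ, hcl.isOpen_compl⟩
      have hU'c : IsCompact (U' : Set (O : Scheme.{u})) := by
        have h6 : IsConstructible ((O : Set X) \ Set.range (g (Fin.last n))) :=
          (hOc.isConstructible hOo).sdiff (h2 _)
        have h7 := ConstrTop.isCompact_of_isConstructible h6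
        have h8 : (U' : Set (O : Scheme.{u})) =
            O.ι ⁻¹' ((O : Set X) \ Set.range (g (Fin.last n))) := by
          ext x
          have hxO : (O.ι x : X) ∈ (O : Set X) := by
            have := Set.mem_range_self (f := O.ι) x
            rwa [Scheme.Opens.range_ι] at this
          constructor
          · intro hx
            exact ⟨hxO, hx⟩
          · intro hx
            exact hx.2
        rw [h8]
        refine (O.ι.isOpenEmbedding.isInducing.isCompact_preimage_iff ?_).2 h7
        rw [Scheme.Opens.range_ι]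
        exact Set.diff_subset
      have hrange : Set.range (g (Fin.last n)) ⊆ Set.range O.ι := by
        rw [Scheme.Opens.range_ι]
        exact hZO
      let i' : T (Fin.last n) ⟶ O := IsOpenImmersion.lift O.ι (g (Fin.last n)) hrange
      have hi' : i' ≫ O.ι = g (Fin.last n) := IsOpenImmersion.lift_fac _ _ _
      haveI : IsImmersion i' := by
        haveI : IsImmersion (i' ≫ O.ι) := by
          rw [hi']
          infer_instance
        exact IsImmersion.of_comp i' O.ι
      have hri' : Set.range i' = (U' : Set (O : Scheme.{u}))ᶜ := by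
        change _ = (O.ι ⁻¹' Set.range (g (Fin.last n)))ᶜᶜ
        rw [compl_compl]
        ext x
        constructor
        · rintro ⟨t, rfl⟩
          refine ⟨t, ?_⟩
          rw [← hi']
          rfl
        · rintro ⟨t, ht⟩
          refine ⟨t, O.ι.isOpenEmbedding.injective ?_⟩
          rw [← ht, ← hi']
          rfl
      refine Adapted.of_open_closed U' hU'c i' hri' ?_ ?_
      · haveI : CompactSpace (U' : Scheme.{u}) := isCompact_iff_compactSpace.1 hU'c
        haveI : QuasiSeparatedSpace (U' : Scheme.{u}) :=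
          U'.ι.isOpenEmbedding.quasiSeparatedSpace
        have c := covered_pullback T g h1 h2 h3 h4 (U'.ι ≫ O.ι) (fun x hx => by
          have h9 : U'.ι x ∈ (U' : Set (O : Scheme.{u})) := by
            have := Set.mem_range_self (f := U'.ι) x
            rwa [Scheme.Opens.range_ι] at this
          exact h9 hx)
        exact (ih _ _ c).of_iso ((EtCore.pullComp U'.ι O.ι).app F)
      · haveI : CompactSpace (T (Fin.last n)) := by
          rw [← isCompact_univ_iff, (g (Fin.last n)).isEmbedding.isInducing.isCompact_iff,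
            Set.image_univ]
          exact hZc
        haveI : QuasiSeparatedSpace (T (Fin.last n)) :=
          quasiSeparatedSpace_of_quasiSeparated (g (Fin.last n))
        have ad : Adapted ((EtCoh.pull (g (Fin.last n))).obj F) ⊤ :=
          (adaptedStrata_iff _ ⊤).1 ((Groth.Agent.S0128.result _ _).1 (h4 (Fin.last n)))
        exact ad.of_iso (((EtCore.pullCongr hi'.symm).app F) ≪≫ (EtCore.pullComp i' O.ι).app F)
    exact Adapted.of_open_closed O hOc A.subschemeι hA adO adA

end Groth.Agent.Lib.Helper23.Strata
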