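import Groth.Agent.Lib.Helper23.StrataRefine
import Groth.Agent.Lib.Helper23.StrataCover
import Groth.Agent.Lib.Helper23.FlcConn
import Groth.Agent.Lib.Helper23.FinBC0

/-!
# The locus where the stalks of a constructible sheaf vanish is constructible
-/

set_option autoImplicit false
universe u

namespace Groth.Agent.Lib.Helper23.SurjLocus

open CategoryTheory CategoryTheory.Limits AlgebraicGeometry Opposite Topology

variable {X : Scheme.{u}}

/-- the stalks of `P` at all geometric points over `x` vanish -/
def StalkZeroAt (P : EtCoh.Ab X) (x : X) : Prop :=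
  ∀ (Ω : Type u) [Field Ω] [IsSepClosed Ω] (ξ : Spec (CommRingCat.of Ω) ⟶ X),
    Set.range ξ = {x} → IsZero ((EtCoh.stalk ξ).obj P)

lemma default_of_range {Ω : Type u} [Field Ω] (ξ : Spec (CommRingCat.of Ω) ⟶ X) {x : X}
    (h : Set.range ξ = {x}) : ξ default = x := by
  have : ξ default ∈ Set.range ξ := ⟨default, rfl⟩
  rw [h] at this
  exact this

lemma range_of_default {Ω : Type u} [Field Ω] (ξ : Spec (CommRingCat.of Ω) ⟶ X) {x : X}
    (h : ξ default = x) : Set.range ξ = {x} := by
  rw [Set.range_unique, h]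

set_option backward.isDefEq.respectTransparency.types false in
set_option backward.isDefEq.respectTransparency false in
/-- the zero-stalk locus of a finite locally constant sheaf is open and closed -/
lemma isClopen_stalkZero_of_flc (P : EtCoh.Ab X) (hP : EtCoh.IsFiniteLocallyConstant P) :
    IsClopen {t : X | StalkZeroAt P t} := by
  obtain ⟨ι, U, hcov, hM⟩ := hP
  choose M instM finM eM using hM
  let A : Set X := {x | ∃ (i : ι) (y : (U i).left), (U i).hom y = x ∧ Subsingleton (M i)}
  let B : Set X := {x | ∃ (i : ι) (y : (U i).left), (U i).hom y = x ∧ ¬ Subsingleton (M i)}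
  have hopen : ∀ i, IsOpen (Set.range (U i).hom) := fun i => by
    haveI : Etale (U i).hom := (U i).prop
    exact (U i).hom.isOpenMap.isOpen_range
  have hA : IsOpen A := by
    have : A = ⋃ (i : ι) (_ : Subsingleton (M i)), Set.range (U i).hom := by
      ext x
      simp only [A, Set.mem_setOf_eq, Set.mem_iUnion, Set.mem_range, exists_prop]
      constructor
      · rintro ⟨i, y, hy, hs⟩
        exact ⟨i, hs, y, hy⟩
      · rintro ⟨i, hs, y, hy⟩
        exact ⟨i, y, hy, hs⟩
    rw [this]
    exact isOpen_iUnion fun i => isOpen_iUnion fun _ => hopen i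
  have hB : IsOpen B := by
    have : B = ⋃ (i : ι) (_ : ¬ Subsingleton (M i)), Set.range (U i).hom := by
      ext x
      simp only [B, Set.mem_setOf_eq, Set.mem_iUnion, Set.mem_range, exists_prop]
      constructor
      · rintro ⟨i, y, hy, hs⟩
        exact ⟨i, hs, y, hy⟩
      · rintro ⟨i, hs, y, hy⟩
        exact ⟨i, y, hy, hs⟩
    rw [this]
    exact isOpen_iUnion fun i => isOpen_iUnion fun _ => hopen i
  have hAB : A ∪ B = Set.univ := by
    ext x
    simp only [Set.mem_union, Set.mem_univ, iff_true]
    obtain ⟨i, y, hy⟩ := hcov x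
    by_cases hs : Subsingleton (M i)
    · exact Or.inl ⟨i, y, hy, hs⟩
    · exact Or.inr ⟨i, y, hy, hs⟩
  have key : ∀ (x : X) (i : ι) (y : (U i).left), (U i).hom y = x →
      ∀ (Ω : Type u) [Field Ω] [IsSepClosed Ω] (ξ : Spec (CommRingCat.of Ω) ⟶ X),
        Set.range ξ = {x} → Nonempty ((EtCoh.stalk ξ).obj P ≅
          AddCommGrpCat.of (ULift.{u + 1} (M i))) := by
    intro x i y hy Ω _ _ ξ hξ
    obtain ⟨u, -⟩ := Scheme.pointSmallEtaleFiberObjToPreimage_surjective ξ
      (default_of_range ξ hξ) (U i) ⟨y, hy⟩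
    obtain ⟨e⟩ := eM i
    exact ⟨FlcConn.stalkIso P ξ (U i) u _ e⟩
  have hSA : {t : X | StalkZeroAt P t} = A := by
    ext x
    constructor
    · intro hx
      have hxAB : x ∈ A ∪ B := by rw [hAB]; trivial
      rcases hxAB with h | ⟨i, y, hy, hs⟩
      · exact h
      · exfalso
        have hz := hx _ (FlcConn.geomPt x) (range_of_default _ (FlcConn.geomPt_default x))
        obtain ⟨e⟩ := key x i y hy _ (FlcConn.geomPt x)
          (range_of_default _ (FlcConn.geomPt_default x))
        have hz2 : IsZero (AddCommGrpCat.of (ULift.{u + 1} (M i))) := hz.of_iso e.symm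
        apply hs
        have := AddCommGrpCat.subsingleton_of_isZero hz2
        exact Equiv.ulift.symm.subsingleton
    · rintro ⟨i, y, hy, hs⟩ Ω _ _ ξ hξ
      obtain ⟨e⟩ := key x i y hy Ω ξ hξ
      refine IsZero.of_iso ?_ e
      haveI : Subsingleton (ULift.{u + 1} (M i)) := Equiv.ulift.subsingleton
      exact AddCommGrpCat.isZero_of_subsingleton _
  have hSB : {t : X | StalkZeroAt P t} = Bᶜ := by
    rw [hSA]
    ext x
    constructor
    · rintro ⟨i, y, hy, hs⟩ ⟨i', y', hy', hs'⟩
      -- both trivialisations compute the same stalk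
      obtain ⟨e⟩ := key x i y hy _ (FlcConn.geomPt x)
        (range_of_default _ (FlcConn.geomPt_default x))
      obtain ⟨e'⟩ := key x i' y' hy' _ (FlcConn.geomPt x)
        (range_of_default _ (FlcConn.geomPt_default x))
      haveI : Subsingleton (ULift.{u + 1} (M i)) := Equiv.ulift.subsingleton
      have hz : IsZero (AddCommGrpCat.of (ULift.{u + 1} (M i'))) :=
        (AddCommGrpCat.isZero_of_subsingleton _).of_iso (e'.symm ≪≫ e)
      apply hs'
      have := AddCommGrpCat.subsingleton_of_isZero hz
      exact Equiv.ulift.symm.subsingleton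
    · intro hx
      have hxAB : x ∈ A ∪ B := by rw [hAB]; trivial
      rcases hxAB with h | h
      · exact h
      · exact absurd h hx
  refine ⟨?_, ?_⟩
  · rw [hSB]
    exact hB.isClosed_compl
  · rw [hSA]
    exact hA

/-- lifting a geometric point through an immersion -/
lemma exists_lift_of_immersion {T : Scheme.{u}} (g : T ⟶ X) [IsImmersion g] {Ω : Type u} [Field Ω]
    (ξ : Spec (CommRingCat.of Ω) ⟶ X) (t : T) (h : ξ default = g t) :
    ∃ ξ' : Spec (CommRingCat.of Ω) ⟶ T, ξ' ≫ g = ξ := by
  let p := pullback.fst ξ g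
  obtain ⟨z, hz1, -⟩ := Scheme.Pullback.exists_preimage_pullback (f := ξ) (g := g) default t h
  have hr : Set.range p = Set.univ := by
    ext a
    simp only [Set.mem_univ, iff_true]
    exact ⟨z, Subsingleton.elim _ _⟩
  haveI : IsClosedImmersion p :=
    IsClosedImmersion.of_isPreimmersion p (by rw [hr]; exact isClosed_univ)
  haveI : Surjective p := ⟨fun a => by
    have : a ∈ Set.range p := by rw [hr]; trivial
    exact this⟩
  haveI : IsIso p := isIso_of_isClosedImmersion_of_surjective p
  refine ⟨inv p ≫ pullback.snd ξ g, ?_⟩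
  rw [Category.assoc, ← pullback.condition, IsIso.inv_hom_id_assoc]

set_option backward.isDefEq.respectTransparency.types false in
set_option backward.isDefEq.respectTransparency false in
lemma stalkZeroAt_pull_iff {T : Scheme.{u}} (g : T ⟶ X) [IsImmersion g] (Q : EtCoh.Ab X) (t : T) :
    StalkZeroAt ((EtCoh.pull g).obj Q) t ↔ StalkZeroAt Q (g t) := by
  constructor
  · intro h Ω _ _ ξ hξ
    obtain ⟨ξ', rfl⟩ := exists_lift_of_immersion g ξ t (default_of_range ξ hξ)
    have ht : ξ' default = t := by
      apply g.isEmbedding.injective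
      have := default_of_range _ hξ
      rw [← this]
      rfl
    have hz := h Ω ξ' (range_of_default ξ' ht)
    haveI := FinBC0.isIso_stk_unit g ξ' Q
    exact hz.of_iso (asIso (FinBC0.stk g ξ' (FinBC0.unitG g Q)))
  · intro h Ω _ _ ξ' hξ'
    have ht := default_of_range ξ' hξ'
    have hz := h Ω (ξ' ≫ g) (range_of_default _ (by
      change g (ξ' default) = g t
      rw [ht]))
    haveI := FinBC0.isIso_stk_unit g ξ' Q
    exact hz.of_iso (asIso (FinBC0.stk g ξ' (FinBC0.unitG g Q))).symm

/-- the image of a clopen subset under an embedding with constructible range is constructible -/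
lemma isConstructible_image_of_isClopen [CompactSpace X] [QuasiSeparatedSpace X] {T : Scheme.{u}}
    (g : T ⟶ X) [IsImmersion g] (hg : IsConstructible (Set.range g)) {C : Set T}
    (hC : IsClopen C) : IsConstructible (g '' C) := by
  have hTc : CompactSpace T := by
    rw [← isCompact_univ_iff, g.isEmbedding.isInducing.isCompact_iff, Set.image_univ]
    exact ConstrTop.isCompact_of_isConstructible hg
  obtain ⟨W₀, hW₀, hCW⟩ := g.isEmbedding.isInducing.isOpen_iff.1 hC.2
  have hK : IsCompact (g '' C) := hC.1.isCompact.image g.continuous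
  have hKW : g '' C ⊆ W₀ := by
    rintro _ ⟨c, hc, rfl⟩
    have : c ∈ g ⁻¹' W₀ := by rw [hCW]; exact hc
    exact this
  obtain ⟨W, hWo, hWc, hKW', hWW₀⟩ := ConstrTop.exists_isCompact_isOpen_between hK hW₀ hKW
  have he : g '' C = Set.range g ∩ W := by
    ext y
    constructor
    · intro hy
      exact ⟨Set.image_subset_range _ _ hy, hKW' hy⟩
    · rintro ⟨⟨c, rfl⟩, hy⟩
      refine ⟨c, ?_, rfl⟩
      rw [← hCW]
      exact hWW₀ hy
  rw [he]
  exact hg.inter (hWc.isConstructible hWo)

theorem isConstructible_stalkZero [CompactSpace X] [QuasiSeparatedSpace X] (Q : EtCoh.Ab X)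
    (hQ : EtPBC.IsConstructible Q) : IsConstructible {x : X | StalkZeroAt Q x} := by
  obtain ⟨ι, hι, T, g, h1, h2, h3, h4, h5⟩ :=
    (Strata.adaptedStrata_iff Q ⊤).1 ((Groth.Agent.S0128.result X Q).1 hQ)
  have he : {x : X | StalkZeroAt Q x} =
      ⋃ i, g i '' {t : T i | StalkZeroAt ((EtCoh.pull (g i)).obj Q) t} := by
    ext x
    simp only [Set.mem_setOf_eq, Set.mem_iUnion, Set.mem_image]
    constructor
    · intro hx
      have hx' : x ∈ ⋃ i, Set.range (g i) := by rw [h4]; trivial
      obtain ⟨i, t, rfl⟩ := Set.mem_iUnion.1 hx'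
      haveI := h1 i
      exact ⟨i, t, (stalkZeroAt_pull_iff (g i) Q t).2 hx, rfl⟩
    · rintro ⟨i, t, ht, rfl⟩
      haveI := h1 i
      exact (stalkZeroAt_pull_iff (g i) Q t).1 ht
  rw [he]
  refine IsConstructible.iUnion fun i => ?_
  haveI := h1 i
  exact isConstructible_image_of_isClopen (g i)
    ((Strata.isConstructible_top_preimage_iff _).1 (h2 i))
    (isClopen_stalkZero_of_flc _ (h5 i))

end Groth.Agent.Lib.Helper23.SurjLocus
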