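import Groth.Agent.Lib.Helper23.FinBC0
import Groth.Agent.Lib.Helper23.SurjLocus
import Groth.Agent.S0622

/-!
# Surjectivity on stalks and inverse images
-/

set_option autoImplicit false
universe u

namespace Groth.Agent.Lib.Helper23.StalkSurj

open CategoryTheory CategoryTheory.Limits AlgebraicGeometry Opposite GrothendieckTopology

section Nat

variable {T X : Scheme.{u}} (g : T ⟶ X) {Ω : Type u} [Field Ω] [IsSepClosed Ω]
  (η' : Spec (CommRingCat.of Ω) ⟶ T)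

lemma stk_comp' {A' A : EtCoh.Ab X} {B : EtCoh.Ab T} (a : A' ⟶ A)
    (γ : A ⟶ (EtCoh.push g).obj B) :
    FinBC0.stk g η' (a ≫ γ) =
      (Scheme.pointSmallEtale (η' ≫ g)).presheafFiber.map a.hom ≫ FinBC0.stk g η' γ := by
  apply (Scheme.pointSmallEtale (η' ≫ g)).presheafFiber_hom_ext
  intro V v
  rw [FinBC0.germ_stk, ← Category.assoc, Point.toPresheafFiber_naturality, Category.assoc,
    FinBC0.germ_stk, FinBC0.secMap_comp', Category.assoc]

lemma stk_unit_naturality {A A' : EtCoh.Ab X} (φ : A ⟶ A') :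
    FinBC0.stk g η' (FinBC0.unitG g A) ≫
        (Scheme.pointSmallEtale η').presheafFiber.map ((EtCoh.pull g).map φ).hom =
      (Scheme.pointSmallEtale (η' ≫ g)).presheafFiber.map φ.hom ≫
        FinBC0.stk g η' (FinBC0.unitG g A') := by
  rw [← FinBC0.stk_comp, ← stk_comp']
  congr 1
  exact ((EtCoh.pullPushAdj g).unit.naturality φ).symm

lemma surjective_stalk_pull_iff {A A' : EtCoh.Ab X} (φ : A ⟶ A') :
    Function.Surjective ((EtCoh.stalk η').map ((EtCoh.pull g).map φ)) ↔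
      Function.Surjective ((EtCoh.stalk (η' ≫ g)).map φ) := by
  haveI := FinBC0.isIso_stk_unit g η' A
  haveI := FinBC0.isIso_stk_unit g η' A'
  have h := stk_unit_naturality g η' φ
  have hb : Function.Bijective (FinBC0.stk g η' (FinBC0.unitG g A)) :=
    ConcreteCategory.bijective_of_isIso _
  have hb' : Function.Bijective (FinBC0.stk g η' (FinBC0.unitG g A')) :=
    ConcreteCategory.bijective_of_isIso _
  have h1 : ∀ z, ((EtCoh.stalk η').map ((EtCoh.pull g).map φ))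
      (FinBC0.stk g η' (FinBC0.unitG g A) z) =
      FinBC0.stk g η' (FinBC0.unitG g A') (((EtCoh.stalk (η' ≫ g)).map φ) z) := fun z =>
    congrArg (fun k => k z) h
  constructor
  · intro hs y
    obtain ⟨w, hw⟩ := hs (FinBC0.stk g η' (FinBC0.unitG g A') y)
    obtain ⟨z, rfl⟩ := hb.2 w
    refine ⟨z, hb'.1 ?_⟩
    rw [← h1, hw]
  · intro hs y
    obtain ⟨y', rfl⟩ := hb'.2 y
    obtain ⟨z, rfl⟩ := hs y'
    exact ⟨_, h1 z⟩

end Nat

variable {X : Scheme.{u}}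

/-- surjectivity of the stalk maps at all geometric points over `x` -/
def SurjAt {A A' : EtCoh.Ab X} (φ : A ⟶ A') (x : X) : Prop :=
  ∀ (Ω : Type u) [Field Ω] [IsSepClosed Ω] (ξ : Spec (CommRingCat.of Ω) ⟶ X),
    ξ default = x → Function.Surjective ((EtCoh.stalk ξ).map φ)

lemma epi_iff_surjAt {A A' : EtCoh.Ab X} (φ : A ⟶ A') : Epi φ ↔ ∀ x, SurjAt φ x := by
  rw [Groth.Agent.S0622.hepi]
  constructor
  · intro h x Ω _ _ ξ _
    exact h Ω ξ
  · intro h Ω _ _ ξ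
    exact h (ξ default) Ω ξ rfl

lemma SurjAt.of_comp {A A' A'' : EtCoh.Ab X} (φ : A ⟶ A') (ψ : A' ⟶ A'') {x : X}
    (h : SurjAt (φ ≫ ψ) x) : SurjAt ψ x := by
  intro Ω _ _ ξ hξ y
  obtain ⟨z, hz⟩ := h Ω ξ hξ y
  refine ⟨(EtCoh.stalk ξ).map φ z, ?_⟩
  rw [← hz, (EtCoh.stalk ξ).map_comp]
  rfl

/-- geometric points lift along `g` at `t` -/
def GLiftAt {T : Scheme.{u}} (g : T ⟶ X) (t : T) : Prop :=
  ∀ (Ω : Type u) [Field Ω] [IsSepClosed Ω] (ξ : Spec (CommRingCat.of Ω) ⟶ X),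
    ξ default = g t → ∃ ξ' : Spec (CommRingCat.of Ω) ⟶ T, ξ' ≫ g = ξ ∧ ξ' default = t

lemma gLiftAt_of_isImmersion {T : Scheme.{u}} (g : T ⟶ X) [IsImmersion g] (t : T) :
    GLiftAt g t := by
  intro Ω _ _ ξ hξ
  obtain ⟨ξ', rfl⟩ := SurjLocus.exists_lift_of_immersion g ξ t hξ
  refine ⟨ξ', rfl, ?_⟩
  apply g.isEmbedding.injective
  rw [← hξ]
  rfl

lemma gLiftAt_of_etale {T : Scheme.{u}} (g : T ⟶ X) [Etale g] (t : T) : GLiftAt g t := by
  intro Ω _ _ ξ hξ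
  obtain ⟨l, hl₁, hl₂⟩ := Scheme.exists_fac_of_etale_of_isSepClosed g ξ t hξ.symm
  exact ⟨l, hl₁, hl₂⟩

lemma SurjAt.of_pull {T : Scheme.{u}} (g : T ⟶ X) {A A' : EtCoh.Ab X} (φ : A ⟶ A') (t : T)
    (hg : GLiftAt g t) (h : SurjAt ((EtCoh.pull g).map φ) t) : SurjAt φ (g t) := by
  intro Ω _ _ ξ hξ
  obtain ⟨ξ', rfl, hξ'⟩ := hg Ω ξ hξ
  exact (surjective_stalk_pull_iff g ξ' φ).1 (h Ω ξ' hξ')

end Groth.Agent.Lib.Helper23.StalkSurj
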