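import Groth.Agent.Lib.Helper23.ConstrSub
import Groth.Agent.Lib.Helper23.GenConst2
import Groth.Agent.Lib.Helper23.StalkSurj

/-!
# Ascending chains of subsheaves of a constructible sheaf on a noetherian scheme are stationary
-/

set_option autoImplicit false
universe u

namespace Groth.Agent.Lib.Helper23.ConstrACC

open CategoryTheory CategoryTheory.Limits AlgebraicGeometry Opposite Topology EtCore
open Groth.Agent.Lib.Helper23.FlcLoc Groth.Agent.Lib.Helper23.ConstrNoeth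
open Groth.Agent.Lib.Helper23.GenConst Groth.Agent.Lib.Helper23.StalkSurj

variable {X : Scheme.{u}}

set_option backward.isDefEq.respectTransparency.types false in
set_option backward.isDefEq.respectTransparency false in
set_option maxHeartbeats 800000 in
/-- local stabilisation of a chain of subsheaves of a constructible sheaf -/
theorem exists_local_stab (F : EtCoh.Ab X) (hF : EtPBC.IsConstructible F)
    (G : ℕ → EtCoh.Ab X) (ι : ∀ m, G m ⟶ F) [∀ m, Mono (ι m)]
    (a : ∀ m m', m ≤ m' → (G m ⟶ G m')) (ha : ∀ m m' (h : m ≤ m'), a m m' h ≫ ι m' = ι m)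
    (x : X) :
    ∃ (V : X.Opens) (N : ℕ), x ∈ V ∧
      ∀ m (h : N ≤ m), ∀ y ∈ (V : Set X) ∩ closure {x}, SurjAt (a N m h) y := by
  obtain ⟨V, T, g, hg, hxV, hr, hflc⟩ := exists_flc_on_closure F hF x
  haveI := hg
  obtain ⟨tx, htx⟩ : x ∈ Set.range g := by rw [hr]; exact ⟨hxV, subset_closure rfl⟩
  obtain ⟨U, u, hu, B, hB, ⟨e⟩⟩ := (flc_iff_locTriv _).1 hflc tx
  let Y : Scheme.{u} := U.left
  haveI : Nonempty Y := ⟨u⟩
  haveI : Finite B := hB
  let P : EtCoh.Ab X ⥤ EtCoh.Ab Y := EtCoh.pull g ⋙ EtCoh.pull U.hom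
  haveI : PreservesFiniteLimits P := inferInstance
  let ι' : ∀ m, P.obj (G m) ⟶ (C Y).obj B := fun m => P.map (ι m) ≫ e.hom
  haveI : ∀ m, Mono (P.map (ι m)) := fun m => inferInstance
  haveI : ∀ m, Mono (ι' m) := fun m => mono_comp _ _
  obtain ⟨W₀, N, ⟨w₀⟩, hiso⟩ := exists_isIso_chain (Y := Y) (fun m => P.obj (G m)) ι'
    (fun m m' h => P.map (a m m' h)) (by
      intro m m' h
      change P.map (a m m' h) ≫ P.map (ι m') ≫ e.hom = P.map (ι m) ≫ e.hom
      rw [← Category.assoc, ← P.map_comp, ha])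
  haveI : Etale W₀.hom := W₀.prop
  haveI : Etale U.hom := U.prop
  let q : W₀.left ⟶ T := W₀.hom ≫ U.hom
  have hqo : IsOpen (Set.range q) := q.isOpenMap.isOpen_range
  obtain ⟨V', hV'o, hV'⟩ := (g.isEmbedding.isInducing.isOpen_iff).1 hqo
  have hgt' : g (q w₀) ∈ V' := by
    have : q w₀ ∈ g ⁻¹' V' := by rw [hV']; exact ⟨w₀, rfl⟩
    exact this
  have hgc : g (q w₀) ∈ closure {x} := by
    have : g (q w₀) ∈ Set.range g := ⟨q w₀, rfl⟩
    rw [hr] at this
    exact this.2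
  have hxV' : x ∈ V' := by
    obtain ⟨z, hzV', hz⟩ := mem_closure_iff.1 hgc V' hV'o hgt'
    rw [Set.mem_singleton_iff] at hz
    rwa [hz] at hzV'
  refine ⟨V ⊓ ⟨V', hV'o⟩, N, ⟨hxV, hxV'⟩, fun m hm y hy => ?_⟩
  obtain ⟨⟨hyV, hyV'⟩, hyc⟩ := hy
  obtain ⟨t, rfl⟩ : y ∈ Set.range g := by rw [hr]; exact ⟨hyV, hyc⟩
  obtain ⟨w, rfl⟩ : t ∈ Set.range q := by rw [← hV']; exact hyV'
  have h0 : SurjAt ((EtCoh.pull W₀.hom).map (P.map (a N m hm))) w := by
    haveI := hiso m hm
    exact (epi_iff_surjAt _).1 inferInstance w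
  have h1 : SurjAt ((EtCoh.pull U.hom).map ((EtCoh.pull g).map (a N m hm))) (W₀.hom w) :=
    SurjAt.of_pull W₀.hom _ w (gLiftAt_of_etale _ _) h0
  have h2 : SurjAt ((EtCoh.pull g).map (a N m hm)) (U.hom (W₀.hom w)) :=
    SurjAt.of_pull U.hom _ _ (gLiftAt_of_etale _ _) h1
  exact SurjAt.of_pull g _ _ (gLiftAt_of_isImmersion _ _) h2

/-- an ascending chain of subsheaves of a constructible sheaf on a noetherian scheme is
stationary -/
theorem exists_stab [IsNoetherian X] (F : EtCoh.Ab X) (hF : EtPBC.IsConstructible F)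
    (G : ℕ → EtCoh.Ab X) (ι : ∀ m, G m ⟶ F) [∀ m, Mono (ι m)]
    (a : ∀ m m', m ≤ m' → (G m ⟶ G m')) (ha : ∀ m m' (h : m ≤ m'), a m m' h ≫ ι m' = ι m) :
    ∃ N : ℕ, ∀ m (h : N ≤ m), IsIso (a N m h) := by
  have hloc := exists_local_stab F hF G ι a ha
  choose V N hxV hN using hloc
  obtain ⟨t, ht⟩ := ConstrTop.exists_finite_cover (fun x : X => (V x : Set X) ∩ closure {x})
    (fun x => isConstructible_of_isLocallyClosed
      ((V x).isOpen.isLocallyClosed.inter isClosed_closure.isLocallyClosed))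
    (by
      ext y
      simp only [Set.mem_iUnion, Set.mem_univ, iff_true]
      exact ⟨y, hxV y, subset_closure rfl⟩)
  have hcomp : ∀ m m' m'' (h : m ≤ m') (h' : m' ≤ m''),
      a m m' h ≫ a m' m'' h' = a m m'' (h.trans h') := by
    intro m m' m'' h h'
    rw [← cancel_mono (ι m''), Category.assoc, ha, ha, ha]
  refine ⟨t.sup N, fun m hm => ?_⟩
  haveI : Mono (a (t.sup N) m hm) := by
    have : Mono (a (t.sup N) m hm ≫ ι m) := by rw [ha]; infer_instance
    exact mono_of_mono _ (ι m)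
  haveI : Epi (a (t.sup N) m hm) := by
    rw [epi_iff_surjAt]
    intro y
    obtain ⟨x, hxt, hy⟩ := ht y
    have hle : N x ≤ t.sup N := Finset.le_sup hxt
    have h1 := hN x m (hle.trans hm) y hy
    rw [← hcomp (N x) (t.sup N) m hle hm] at h1
    exact h1.of_comp
  exact isIso_of_mono_of_epi _

end Groth.Agent.Lib.Helper23.ConstrACC
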