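import Groth.Prelude.Def_EtShriek2
import Groth.Prelude.Def_SGA4b
import Mathlib.CategoryTheory.Sites.Continuous

/-!
# For an etale morphism `j`, inverse image along `j` is restriction along `compEtale j`
-/

set_option autoImplicit false

universe u

namespace Groth.Agent.Lib.Helper23.EtRestr

open CategoryTheory Limits Opposite AlgebraicGeometry GrothendieckTopology

variable {U X : Scheme.{u}} (j : U ⟶ X) [hj : Etale j]

/-- `V ↦ (V → U → X)` is left adjoint to base change along `j`. -/
noncomputable def adjSite : EtShriek.compEtale j ⊣ EtCoh.bc j :=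
  MorphismProperty.Over.mapPullbackAdj EtCoh.etaleMP ⊤ j hj trivial

variable [EtShriek.JCont j]

/-- restriction of sheaves of sets along an etale morphism -/
noncomputable abbrev restrSh : EtDesc.Sh X ⥤ EtDesc.Sh U :=
  (EtShriek.compEtale j).sheafPushforwardContinuous (Type (u+1)) U.smallEtaleTopology
    X.smallEtaleTopology

noncomputable def restrPushAdjSh : restrSh j ⊣ EtDesc.pushSh j :=
  (adjSite j).sheafPushforwardContinuous _ _

noncomputable def pullShIsoRestr : EtDesc.pullSh j ≅ restrSh j :=
  Adjunction.leftAdjointUniq (EtDesc.adjSh j) (restrPushAdjSh j)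

noncomputable def restrPushAdj : EtShriek.restrAlong j ⊣ EtCoh.push j :=
  (adjSite j).sheafPushforwardContinuous _ _

noncomputable def pullIsoRestr : EtCoh.pull j ≅ EtShriek.restrAlong j :=
  Adjunction.leftAdjointUniq (EtCoh.pullPushAdj j) (restrPushAdj j)

end Groth.Agent.Lib.Helper23.EtRestr
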