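import Groth.Prelude.Def_EtAcyc
import Groth.Agent.Lib.Helper23.EtGlue2
import Mathlib.Algebra.Homology.DerivedCategory.Ext.Map
import Mathlib.Algebra.Homology.DerivedCategory.Ext.ExactSequences

/-!
# Naturality of `EtCore.Hpull` in the sheaf and in connecting maps (helper23)
-/

set_option autoImplicit false

universe u

open CategoryTheory CategoryTheory.Limits Opposite AlgebraicGeometry Abelian

namespace Groth.Agent.Lib.Helper23.HpullNat

open Groth.Agent.Lib.Helper23.EtGlue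

variable {X Y : Scheme.{u}}

/-- a quotient of an `L`-torsion sheaf is `L`-torsion -/
lemma isLTorsion_of_epi (L : Set ℕ) {G Q : EtCoh.Ab X} (π : G ⟶ Q) [Epi π]
    (hG : EtAcyc.IsLTorsion L G) : EtAcyc.IsLTorsion L Q := by
  intro U s x
  have hπ : Presheaf.IsLocallySurjective X.smallEtaleTopology π.hom :=
    (Sheaf.isLocallySurjective_iff_epi' AddCommGrpCat.{u + 1} π).2 inferInstance
  obtain ⟨V₁, g₁, ⟨z₁, hz₁⟩, v₁, hv₁⟩ := exists_arrow_of_mem _ (hπ.imageSieve_mem s) x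
  have hv₁ : g₁.left.base v₁ = x := hv₁
  obtain ⟨V₂, g₂, m, ⟨v₂, hv₂⟩, hm, hz⟩ := hG V₁ z₁ v₁
  refine ⟨V₂, g₂ ≫ g₁, m, ⟨v₂, ?_⟩, hm, ?_⟩
  · change g₁.left.base (g₂.left.base v₂) = x
    rw [hv₂]
    exact hv₁
  · have h1 : Q.obj.map (g₂ ≫ g₁).op s =
        (ConcreteCategory.hom (π.hom.app (op V₂))) (G.obj.map g₂.op z₁) := by
      have nat := ConcreteCategory.congr_hom (π.hom.naturality g₂.op) z₁
      simp only [ConcreteCategory.comp_apply] at nat
      rw [nat]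
      have : (ConcreteCategory.hom (π.hom.app (op V₁))) z₁ = Q.obj.map g₁.op s := hz₁
      rw [this, op_comp, Functor.map_comp]
      rfl
    rw [h1, ← map_nsmul, hz, map_zero]

variable (h : Y ⟶ X) [PreservesFiniteLimits (EtCoh.pull h)]

lemma Hpull_apply (G : EtCoh.Ab X) (n : ℕ) (e : EtCoh.H X G n) :
    EtCore.Hpull h G n e =
      (Ext.mk₀ (EtCore.pullConst h ℤ).inv).comp (e.mapExactFunctor (EtCoh.pull h)) (zero_add n) :=
  rfl

lemma Hpull_comp_mk₀ {G G' : EtCoh.Ab X} (φ : G ⟶ G') (n : ℕ) (e : EtCoh.H X G n) :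
    EtCore.Hpull h G' n (e.comp (Ext.mk₀ φ) (add_zero n)) =
      (EtCore.Hpull h G n e).comp (Ext.mk₀ ((EtCoh.pull h).map φ)) (add_zero n) := by
  rw [Hpull_apply, Hpull_apply, Ext.mapExactFunctor_comp, Ext.mapExactFunctor_mk₀]
  exact (Ext.comp_assoc (Ext.mk₀ (EtCore.pullConst h ℤ).inv) (e.mapExactFunctor (EtCoh.pull h))
    (Ext.mk₀ ((EtCoh.pull h).map φ)) (zero_add n) (add_zero n) (by omega)).symm

lemma Hpull_comp_extClass {S : ShortComplex (EtCoh.Ab X)} (hS : S.ShortExact) (n n' : ℕ)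
    (hn : n + 1 = n') (e : EtCoh.H X S.X₃ n) :
    EtCore.Hpull h S.X₁ n' (e.comp hS.extClass hn) =
      (EtCore.Hpull h S.X₃ n e).comp (hS.map_of_exact (EtCoh.pull h)).extClass hn := by
  subst hn
  rw [Hpull_apply, Hpull_apply, Ext.mapExactFunctor_comp, Ext.mapExactFunctor_extClass]
  exact (Ext.comp_assoc (Ext.mk₀ (EtCore.pullConst h ℤ).inv) (e.mapExactFunctor (EtCoh.pull h))
    (hS.map_of_exact (EtCoh.pull h)).extClass (zero_add n) rfl (by omega)).symm

lemma HF_map_apply {F G : EtCoh.Ab Y} (φ : F ⟶ G) (n : ℕ) (ξ : EtCoh.H Y F n) :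
    (EtCoh.HF Y n).map φ ξ = ξ.comp (Ext.mk₀ φ) (add_zero n) := rfl

theorem mem_range_of_mono (L : Set ℕ) (n : ℕ) (hc : EtAcyc.CompN h L n)
    {F G : EtCoh.Ab X} (u : F ⟶ G) [Mono u]
    (_hF : EtAcyc.IsLTorsion L F) (hG : EtAcyc.IsLTorsion L G)
    (ξ : EtCoh.H Y ((EtCoh.pull h).obj F) (n + 1))
    (hξ : (EtCoh.HF Y (n + 1)).map ((EtCoh.pull h).map u) ξ ∈
      Set.range (EtCore.Hpull h G (n + 1))) :
    ξ ∈ Set.range (EtCore.Hpull h F (n + 1)) := by
  let S : ShortComplex (EtCoh.Ab X) := ShortComplex.mk u (cokernel.π u) (cokernel.condition u)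
  have hS : S.ShortExact :=
    { exact := ShortComplex.exact_cokernel u
      mono_f := inferInstanceAs (Mono u)
      epi_g := inferInstanceAs (Epi (cokernel.π u)) }
  have hQ : EtAcyc.IsLTorsion L (cokernel u) := isLTorsion_of_epi L (cokernel.π u) hG
  have hS' := hS.map_of_exact (EtCoh.pull h)
  obtain ⟨g, hg⟩ := hξ
  rw [HF_map_apply] at hg
  -- step 1
  have h1 : g.comp (Ext.mk₀ S.g) (add_zero (n + 1)) = 0 := by
    apply (hc (cokernel u) hQ).2
    rw [map_zero, Hpull_comp_mk₀, hg, Ext.comp_assoc_of_third_deg_zero, Ext.mk₀_comp_mk₀,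
      ← Functor.map_comp]
    have : u ≫ S.g = 0 := cokernel.condition u
    rw [this, Functor.map_zero, Ext.mk₀_zero, Ext.comp_zero]
  obtain ⟨f0, hf0⟩ := Ext.covariant_sequence_exact₂ _ hS g h1
  -- step 3
  have h3 : (ξ - EtCore.Hpull h F (n + 1) f0).comp (Ext.mk₀ (S.map (EtCoh.pull h)).f)
      (add_zero (n + 1)) = 0 := by
    rw [sub_eq_add_neg, Ext.add_comp, Ext.neg_comp]
    have : (EtCore.Hpull h F (n + 1) f0).comp (Ext.mk₀ (S.map (EtCoh.pull h)).f)
        (add_zero (n + 1)) = EtCore.Hpull h G (n + 1) g := by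
      rw [← hf0]
      exact (Hpull_comp_mk₀ h u (n + 1) f0).symm
    rw [this, hg]
    exact add_neg_cancel _
  obtain ⟨q', hq'⟩ := Ext.covariant_sequence_exact₁ _ hS' _ h3 (rfl : n + 1 = n + 1)
  obtain ⟨q, rfl⟩ := ((hc (cokernel u) hQ).1 n le_rfl).2 q'
  refine ⟨f0 + q.comp hS.extClass rfl, ?_⟩
  rw [map_add, Hpull_comp_extClass h hS n (n + 1) rfl q]
  have : (EtCore.Hpull h S.X₃ n q).comp hS'.extClass rfl = ξ - EtCore.Hpull h F (n + 1) f0 := hq'
  rw [this]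
  abel

end Groth.Agent.Lib.Helper23.HpullNat
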