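import Groth.Prelude.Def_EtCore

/-!
# Compatibility of `EtCore.pullConst` with composition of pullbacks

`pullConst_comp`: `(pullConst f₀ M).inv = (pullConst f M).inv ≫ f^{-1}((pullConst g M).inv) ≫ θ`
where `θ : f^{-1} g^{-1} ≅ f₀^{-1}` is `(pullComp f g).symm ≪≫ pullCongr w`, for `w : f ≫ g = f₀`.
-/

set_option autoImplicit false
set_option backward.isDefEq.respectTransparency false

universe u

namespace Groth.Agent.Lib.Helper23.PullConstComp

open CategoryTheory Limits Opposite AlgebraicGeometry EtCore

variable {X Y Z : Scheme.{u}}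

/-- the canonical map on global sections `Γ(Y, G) → Γ(X, f^{-1} G)` -/
noncomputable def sharp (f : X ⟶ Y) (G : EtCoh.Ab Y) :
    (gsec Y).obj G ⟶ (gsec X).obj ((EtCoh.pull f).obj G) :=
  (gsec Y).map ((EtCoh.pullPushAdj f).unit.app G) ≫ (pushGsecIso f).hom.app ((EtCoh.pull f).obj G)

lemma sharp_naturality (f : X ⟶ Y) {G G' : EtCoh.Ab Y} (φ : G ⟶ G') :
    (gsec Y).map φ ≫ sharp f G' = sharp f G ≫ (gsec X).map ((EtCoh.pull f).map φ) := by
  have h1 := (EtCoh.pullPushAdj f).unit.naturality φ
  have h2 := (pushGsecIso f).hom.naturality ((EtCoh.pull f).map φ)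
  simp only [Functor.id_obj, Functor.id_map, Functor.comp_obj, Functor.comp_map] at h1 h2
  rw [sharp, sharp, ← Functor.map_comp_assoc, h1, Functor.map_comp_assoc, Category.assoc, ← h2]

/-- characterisation of `pullConstIso`: it sends the pulled back unit section to the unit section -/
lemma unit_sharp_pullConst (f : X ⟶ Y) (M : AddCommGrpCat.{u + 1}) :
    (constAdj Y).unit.app M ≫ sharp f ((constantSheaf _ _).obj M) ≫
      (gsec X).map ((pullConstIso f).hom.app M) = (constAdj X).unit.app M := by
  have h := Adjunction.unit_leftAdjointUniq_hom_app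
    (((constAdj Y).comp (EtCoh.pullPushAdj f)).ofNatIsoRight (pushGsecIso f)) (constAdj X) M
  rw [Adjunction.ofNatIsoRight_unit, NatTrans.comp_app, Functor.whiskerLeft_app,
    Adjunction.comp_unit_app] at h
  simp only [Functor.comp_obj, Category.assoc] at h
  rw [sharp, Category.assoc]
  exact h

/-- compatibility of `pushGsecIso` with composition of direct images -/
lemma pushComp_pushGsecIso (f : X ⟶ Y) (g : Y ⟶ Z) (H : EtCoh.Ab X) :
    (gsec Z).map ((EtCoh.pushComp g f).hom.app H) ≫ (pushGsecIso (f ≫ g)).hom.app H =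
      (pushGsecIso g).hom.app ((EtCoh.push f).obj H) ≫ (pushGsecIso f).hom.app H := by
  have hT : IsTerminal ((EtCoh.bc f).obj ((EtCoh.bc g).obj (EtCoh.top Z))) :=
    IsTerminal.isTerminalObj (EtCoh.bc f) _ (bcTopIsTerminal g)
  dsimp [pushGsecIso, EtCoh.pushComp]
  rw [Functor.sheafPushforwardContinuousComp'_hom_app_hom_app]
  change _ = H.obj.map ((EtCoh.bc f).map (bcTopIso g).inv).op ≫ H.obj.map (bcTopIso f).op.inv
  rw [← Functor.map_comp, ← Functor.map_comp]
  congr 1
  apply Quiver.Hom.unop_inj
  exact hT.hom_ext _ _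

/-- compatibility of the maps on global sections with composition -/
lemma sharp_comp (f : X ⟶ Y) (g : Y ⟶ Z) (G : EtCoh.Ab Z) :
    sharp (f ≫ g) G ≫ (gsec X).map ((pullComp f g).hom.app G) =
      sharp g G ≫ sharp f ((EtCoh.pull g).obj G) := by
  have h := Adjunction.unit_leftAdjointUniq_hom_app (EtCoh.pullPushAdj (f ≫ g))
    (((EtCoh.pullPushAdj g).comp (EtCoh.pullPushAdj f)).ofNatIsoRight (EtCoh.pushComp g f)) G
  rw [Adjunction.ofNatIsoRight_unit, NatTrans.comp_app, Functor.whiskerLeft_app,
    Adjunction.comp_unit_app] at h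
  simp only [Functor.comp_obj] at h
  have h2 := (pushGsecIso (f ≫ g)).hom.naturality ((pullComp f g).hom.app G)
  have h3 := (pushGsecIso g).hom.naturality
    ((EtCoh.pullPushAdj f).unit.app ((EtCoh.pull g).obj G))
  simp only [Functor.comp_obj, Functor.comp_map, Functor.id_obj] at h2 h3
  have h4 := pushComp_pushGsecIso f g ((EtCoh.pull f).obj ((EtCoh.pull g).obj G))
  calc sharp (f ≫ g) G ≫ (gsec X).map ((pullComp f g).hom.app G)
      = (gsec Z).map ((EtCoh.pullPushAdj (f ≫ g)).unit.app G ≫
          (EtCoh.push (f ≫ g)).map ((pullComp f g).hom.app G)) ≫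
          (pushGsecIso (f ≫ g)).hom.app ((EtCoh.pull f).obj ((EtCoh.pull g).obj G)) := by
        rw [sharp, Category.assoc, ← h2, Functor.map_comp, Category.assoc]
    _ = (gsec Z).map ((EtCoh.pullPushAdj g).unit.app G) ≫
          (gsec Z).map ((EtCoh.push g).map
            ((EtCoh.pullPushAdj f).unit.app ((EtCoh.pull g).obj G))) ≫
          ((gsec Z).map ((EtCoh.pushComp g f).hom.app
            ((EtCoh.pull f).obj ((EtCoh.pull g).obj G))) ≫
          (pushGsecIso (f ≫ g)).hom.app ((EtCoh.pull f).obj ((EtCoh.pull g).obj G))) := by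
        have h' : (EtCoh.pullPushAdj (f ≫ g)).unit.app G ≫
            (EtCoh.push (f ≫ g)).map ((pullComp f g).hom.app G) = _ := h
        rw [h', Functor.map_comp, Functor.map_comp, Category.assoc, Category.assoc]
    _ = sharp g G ≫ sharp f ((EtCoh.pull g).obj G) := by
        rw [h4, sharp, sharp, Category.assoc, reassoc_of% h3]

lemma pullConstIso_comp_hom (f : X ⟶ Y) (g : Y ⟶ Z) (M : AddCommGrpCat.{u + 1}) :
    (pullConstIso (f ≫ g)).hom.app M =
      (pullComp f g).hom.app ((constantSheaf _ _).obj M) ≫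
        (EtCoh.pull f).map ((pullConstIso g).hom.app M) ≫ (pullConstIso f).hom.app M := by
  rw [← cancel_epi ((pullConstIso (f ≫ g)).inv.app M), Iso.inv_hom_id_app]
  apply ((constAdj X).homEquiv _ _).injective
  rw [Adjunction.homEquiv_unit, Adjunction.homEquiv_unit, CategoryTheory.Functor.map_id]
  erw [Category.comp_id]
  have e1 : (constAdj X).unit.app M ≫ (gsec X).map ((pullConstIso (f ≫ g)).inv.app M) =
      (constAdj Z).unit.app M ≫ sharp (f ≫ g) ((constantSheaf _ _).obj M) := by
    rw [← unit_sharp_pullConst (f ≫ g) M, Category.assoc, Category.assoc, ← Functor.map_comp,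
      Iso.hom_inv_id_app]
    erw [CategoryTheory.Functor.map_id, Category.comp_id]
  have e2 := sharp_comp f g ((constantSheaf _ _).obj M)
  have e3 := sharp_naturality f ((pullConstIso g).hom.app M)
  have e4 := unit_sharp_pullConst g M
  have e5 := unit_sharp_pullConst f M
  simp only [Functor.comp_obj] at e3
  symm
  calc (constAdj X).unit.app M ≫ (gsec X).map ((pullConstIso (f ≫ g)).inv.app M ≫
        (pullComp f g).hom.app ((constantSheaf _ _).obj M) ≫
        (EtCoh.pull f).map ((pullConstIso g).hom.app M) ≫ (pullConstIso f).hom.app M)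
      = ((constAdj X).unit.app M ≫ (gsec X).map ((pullConstIso (f ≫ g)).inv.app M)) ≫
        (gsec X).map ((pullComp f g).hom.app ((constantSheaf _ _).obj M)) ≫
        (gsec X).map ((EtCoh.pull f).map ((pullConstIso g).hom.app M)) ≫
        (gsec X).map ((pullConstIso f).hom.app M) := by
        rw [Functor.map_comp, Functor.map_comp, Functor.map_comp, Category.assoc]
    _ = (constAdj Z).unit.app M ≫ (sharp (f ≫ g) ((constantSheaf _ _).obj M) ≫
        (gsec X).map ((pullComp f g).hom.app ((constantSheaf _ _).obj M))) ≫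
        (gsec X).map ((EtCoh.pull f).map ((pullConstIso g).hom.app M)) ≫
        (gsec X).map ((pullConstIso f).hom.app M) := by
        rw [e1, Category.assoc, Category.assoc]
    _ = (constAdj Z).unit.app M ≫ sharp g ((constantSheaf _ _).obj M) ≫
        (sharp f ((EtCoh.pull g).obj ((constantSheaf _ _).obj M)) ≫
        (gsec X).map ((EtCoh.pull f).map ((pullConstIso g).hom.app M))) ≫
        (gsec X).map ((pullConstIso f).hom.app M) := by
        rw [e2, Category.assoc, Category.assoc]
    _ = ((constAdj Z).unit.app M ≫ sharp g ((constantSheaf _ _).obj M) ≫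
        (gsec Y).map ((pullConstIso g).hom.app M)) ≫
        sharp f ((constantSheaf _ _).obj M) ≫
        (gsec X).map ((pullConstIso f).hom.app M) := by
        rw [← e3, Category.assoc, Category.assoc, Category.assoc]
    _ = (constAdj X).unit.app M := by
        rw [e4, e5]

/-- compatibility of the trivialisations `f^{-1} M_Y ≅ M_X` with composition -/
theorem pullConst_comp (f : X ⟶ Y) (g : Y ⟶ Z) (f₀ : X ⟶ Z) (w : f ≫ g = f₀)
    (M : Type) [AddCommGroup M] :
    (pullConst f₀ M).inv =
      (pullConst f M).inv ≫ (EtCoh.pull f).map (pullConst g M).inv ≫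
        ((pullComp f g).symm ≪≫ pullCongr w).hom.app (EtCoh.const Z M) := by
  subst w
  have h : (pullConst (f ≫ g) M) =
      (pullComp f g).app (EtCoh.const Z M) ≪≫ (EtCoh.pull f).mapIso (pullConst g M) ≪≫
        pullConst f M := by
    ext1
    exact pullConstIso_comp_hom f g _
  rw [h]
  simp [pullCongr]

end Groth.Agent.Lib.Helper23.PullConstComp
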