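import Groth.Agent.Lib.Helper23.ExtFunct
import Groth.Agent.Lib.Helper23.PullConstComp
import Groth.Agent.Lib.Helper23.HpullNat
import Groth.Agent.S0101

/-!
# `EtCore.Hpull` is compatible with composition of morphisms (helper23)
-/

set_option autoImplicit false
set_option backward.isDefEq.respectTransparency false

universe u

open CategoryTheory CategoryTheory.Limits Opposite AlgebraicGeometry Abelian

namespace Groth.Agent.Lib.Helper23.HpullComp

open Groth.Agent.Lib.Helper23.ExtFunct Groth.Agent.Lib.Helper23.PullConstComp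
  Groth.Agent.Lib.Helper23.HpullNat

variable {X Y Z : Scheme.{u}}

instance pull_pfl (f : X ⟶ Y) : PreservesFiniteLimits (EtCoh.pull f) :=
  Groth.Agent.S0101.result f

/-- transitivity of the pullback maps on cohomology -/
theorem HpullVia_Hpull (f : X ⟶ Y) (g : Y ⟶ Z) (f₀ : X ⟶ Z) (w : f ≫ g = f₀)
    (G : EtCoh.Ab Z) (n : ℕ) (x : EtCoh.H Z G n) :
    EtCore.HpullVia f g f₀ w G n (EtCore.Hpull g G n x) = EtCore.Hpull f₀ G n x := by
  let θ : EtCoh.pull g ⋙ EtCoh.pull f ≅ EtCoh.pull f₀ :=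
    (EtCore.pullComp f g).symm ≪≫ EtCore.pullCongr w
  have hC : (EtCore.pullConst f₀ ℤ).inv =
      (EtCore.pullConst f ℤ).inv ≫ (EtCoh.pull f).map (EtCore.pullConst g ℤ).inv ≫
        θ.hom.app (EtCoh.const Z ℤ) := pullConst_comp f g f₀ w ℤ
  have hv : EtCore.HpullVia f g f₀ w G n (EtCore.Hpull g G n x) =
      (EtCore.Hpull f _ n (EtCore.Hpull g G n x)).comp (Ext.mk₀ (θ.hom.app G)) (add_zero n) := rfl
  haveI : PreservesFiniteLimits (EtCoh.pull g ⋙ EtCoh.pull f) := comp_preservesFiniteLimits _ _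
  haveI : PreservesFiniteColimits (EtCoh.pull g ⋙ EtCoh.pull f) :=
    comp_preservesFiniteColimits _ _
  have hA := mapExactFunctor_natTrans (EtCoh.pull g ⋙ EtCoh.pull f) (EtCoh.pull f₀) θ.hom x
  rw [hv, Hpull_apply, Hpull_apply, Hpull_apply, Ext.mapExactFunctor_comp,
    Ext.mapExactFunctor_mk₀, mapExactFunctor_mapExactFunctor, Ext.comp_assoc_of_third_deg_zero,
    Ext.comp_assoc_of_third_deg_zero, hA, Ext.mk₀_comp_mk₀_assoc, Ext.mk₀_comp_mk₀_assoc, hC, Category.assoc]

end Groth.Agent.Lib.Helper23.HpullComp
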