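import Groth.Agent.Lib.Helper23.BLTorsion

/-!
# Beauville–Laszlo: glueable modules via torsion
-/

universe u
open TensorProduct

namespace Helper23.BL

variable {R R' : Type u} [CommRing R] [CommRing R'] [Algebra R R'] {f : R}
variable {M : Type u} [AddCommGroup M] [Module R M]

theorem locOfTensor_eq_tensorOfLoc_iff (x : R' ⊗[R] M) (m : M) (k : ℕ) :
    EtGlue.locOfTensor R R' f M x = EtGlue.tensorOfLoc R R' f M
      (IsLocalizedModule.mk' (LocalizedModule.mkLinearMap (Submonoid.powers f) M) m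
        (⟨f ^ k, k, rfl⟩ : Submonoid.powers f)) ↔
    ∃ j : ℕ, f ^ j • f ^ k • x = f ^ j • ((1 : R') ⊗ₜ[R] m) := by
  unfold EtGlue.locOfTensor EtGlue.tensorOfLoc
  rw [IsLocalizedModule.map_mk', ← IsLocalizedModule.mk'_one (Submonoid.powers f)
    (LocalizedModule.mkLinearMap (Submonoid.powers f) (R' ⊗[R] M)) x,
    IsLocalizedModule.mk'_eq_mk'_iff]
  constructor
  · rintro ⟨⟨_, j, rfl⟩, h⟩
    refine ⟨j, ?_⟩
    simpa [Submonoid.smul_def] using h.symm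
  · rintro ⟨j, h⟩
    refine ⟨⟨f ^ j, j, rfl⟩, ?_⟩
    simpa [Submonoid.smul_def] using h.symm

theorem mkLinearMap_eq_zero_iff {N : Type*} [AddCommGroup N] [Module R N] (n : N) :
    LocalizedModule.mkLinearMap (Submonoid.powers f) N n = 0 ↔ ∃ k : ℕ, f ^ k • n = 0 := by
  rw [IsLocalizedModule.eq_zero_iff (Submonoid.powers f)]
  constructor
  · rintro ⟨⟨_, k, rfl⟩, h⟩
    exact ⟨k, h⟩
  · rintro ⟨k, h⟩
    exact ⟨⟨f ^ k, k, rfl⟩, h⟩

theorem torsion_bij_of_glueable (h : EtGlue.IsGlueable R R' f M) :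
    (∀ m : M, (∃ n : ℕ, f ^ n • m = 0) → (1 : R') ⊗ₜ[R] m = 0 → m = 0) ∧
    (∀ x : R' ⊗[R] M, (∃ n : ℕ, f ^ n • x = 0) →
      ∃ m : M, (∃ n : ℕ, f ^ n • m = 0) ∧ (1 : R') ⊗ₜ[R] m = x) := by
  obtain ⟨hinj, hex⟩ := h
  constructor
  · intro m hm h0
    apply hinj
    simp only [h0, TensorProduct.tmul_zero, map_zero, Prod.mk.injEq, true_and]
    exact (mkLinearMap_eq_zero_iff m).mpr hm
  · intro x hx
    obtain ⟨m, hm1, hm2⟩ := hex x 0 (by
      rw [map_zero]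
      exact (mkLinearMap_eq_zero_iff x).mpr hx)
    exact ⟨m, (mkLinearMap_eq_zero_iff m).mp hm2, hm1⟩

theorem glueable_of_torsion_bij (hq : EtGlue.QuotPowBijective R R' f)
    (hinj : ∀ m : M, (∃ n : ℕ, f ^ n • m = 0) → (1 : R') ⊗ₜ[R] m = 0 → m = 0)
    (hsurj : ∀ x : R' ⊗[R] M, (∃ n : ℕ, f ^ n • x = 0) →
      ∃ m : M, (∃ n : ℕ, f ^ n • m = 0) ∧ (1 : R') ⊗ₜ[R] m = x) :
    EtGlue.IsGlueable R R' f M := by
  constructor
  · intro a b hab
    simp only [Prod.mk.injEq] at hab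
    obtain ⟨h1, h2⟩ := hab
    rw [← sub_eq_zero] at h1 h2 ⊢
    rw [← TensorProduct.tmul_sub] at h1
    rw [← map_sub] at h2
    exact hinj _ ((mkLinearMap_eq_zero_iff _).mp h2) h1
  · intro x y hxy
    obtain ⟨⟨m, ⟨_, k, rfl⟩⟩, rfl⟩ := IsLocalizedModule.mk'_surjective (Submonoid.powers f)
      (LocalizedModule.mkLinearMap (Submonoid.powers f) M) y
    simp only [Function.uncurry_apply_pair] at hxy ⊢
    obtain ⟨j, hj⟩ := (locOfTensor_eq_tensorOfLoc_iff x m k).mp hxy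
    obtain ⟨t, ht, ht'⟩ := hsurj (f ^ k • x - (1 : R') ⊗ₜ[R] m) ⟨j, by rw [smul_sub, hj, sub_self]⟩
    obtain ⟨m₀, hm₀⟩ := dvd_of_tmul_dvd hq k (m + t) x (by
      rw [TensorProduct.tmul_add, ht']; abel)
    obtain ⟨t₂, ht₂, ht₂'⟩ := hsurj (x - (1 : R') ⊗ₜ[R] m₀) ⟨k, by
      rw [smul_sub, ← TensorProduct.tmul_smul, ← hm₀, TensorProduct.tmul_add, ht']; abel⟩
    refine ⟨m₀ + t₂, by rw [TensorProduct.tmul_add, ht₂']; abel, ?_⟩
    rw [eq_comm, IsLocalizedModule.mk'_eq_iff, Submonoid.smul_def, ← map_smul]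
    change _ = LocalizedModule.mkLinearMap (Submonoid.powers f) M (f ^ k • (m₀ + t₂))
    rw [smul_add, ← hm₀, map_add, map_add, (mkLinearMap_eq_zero_iff t).mpr ht,
      (mkLinearMap_eq_zero_iff (f ^ k • t₂)).mpr (by
        obtain ⟨n, hn⟩ := ht₂
        exact ⟨n, by rw [smul_comm, hn, smul_zero]⟩), add_zero, add_zero]

end Helper23.BL
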