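import Groth.Agent.Lib.Helper23.BLGlue

/-!
# Beauville–Laszlo: for a glueing pair the sequence `M → R'⊗M ⊕ M_f → (R'⊗M)_f` is exact in the middle
-/

universe u
open TensorProduct

namespace Helper23.BL

variable {R R' : Type u} [CommRing R] [CommRing R'] [Algebra R R'] {f : R}
variable {M : Type u} [AddCommGroup M] [Module R M]

/-- `Localization.awayMap` as an `R`-linear map. -/
noncomputable def awLin (R R' : Type u) [CommRing R] [CommRing R'] [Algebra R R'] (f : R) :
    Localization.Away f →ₗ[R] Localization.Away (algebraMap R R' f) where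
  toFun := Localization.awayMap (algebraMap R R') f
  map_add' := map_add _
  map_smul' r y := by
    simp only [RingHom.id_apply]
    rw [Algebra.smul_def, map_mul, Algebra.smul_def]
    congr 1
    rw [IsScalarTower.algebraMap_apply R R' (Localization.Away (algebraMap R R' f))]
    simp [Localization.awayMap, IsLocalization.Away.map, IsLocalization.map_eq]

@[simp] theorem awLin_apply (y : Localization.Away f) :
    awLin R R' f y = Localization.awayMap (algebraMap R R') f y := rfl

instance instIsLocAway : IsLocalizedModule (Submonoid.powers f)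
    (IsScalarTower.toAlgHom R R' (Localization.Away (algebraMap R R' f))).toLinearMap := by
  rw [isLocalizedModule_iff_isLocalization]
  have : Algebra.algebraMapSubmonoid R' (Submonoid.powers f) =
      Submonoid.powers (algebraMap R R' f) := Submonoid.map_powers _ _
  rw [this]
  infer_instance

theorem middle_exact_of_glueingPair (hRR : EtGlue.IsGlueingPair R R' f)
    (x : R' ⊗[R] M) (y : LocalizedModule (Submonoid.powers f) M)
    (hxy : EtGlue.locOfTensor R R' f M x = EtGlue.tensorOfLoc R R' f M y) :
    ∃ m : M, (1 : R') ⊗ₜ[R] m = x ∧ LocalizedModule.mkLinearMap (Submonoid.powers f) M m = y := by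
  obtain ⟨hq, _, hmid, hsur⟩ := hRR
  let Rf := Localization.Away f
  let C := Localization.Away (algebraMap R R' f)
  let ι' : R' →ₗ[R] C := (IsScalarTower.toAlgHom R R' C).toLinearMap
  let ιA : R →ₗ[R] R' × Rf := (Algebra.linearMap R R').prod (Algebra.linearMap R Rf)
  let gA : R' × Rf →ₗ[R] C := ι'.coprod (-awLin R R' f)
  have hgA : ∀ a : R' × Rf, gA a = algebraMap R' C a.1 - Localization.awayMap (algebraMap R R') f a.2 := by
    intro a
    rw [sub_eq_add_neg]
    rfl
  have hcomm : ∀ r : R, Localization.awayMap (algebraMap R R') f (algebraMap R Rf r) =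
      algebraMap R' C (algebraMap R R' r) := by
    intro r
    exact IsLocalization.map_eq _ _
  have hex : Function.Exact ιA gA := by
    intro a
    constructor
    · intro h
      rw [hgA, sub_eq_zero] at h
      obtain ⟨r, h1, h2⟩ := hmid a.1 a.2 h
      exact ⟨r, Prod.ext h1 h2⟩
    · rintro ⟨r, rfl⟩
      rw [hgA]
      simp [ιA, hcomm]
  have hsurj : Function.Surjective gA := by
    intro z
    obtain ⟨x, y, h⟩ := hsur z
    exact ⟨(x, y), by rw [hgA]; exact h⟩
  have hexM := rTensor_exact M hex hsurj
  let ρ : R' ⊗[R] M →ₗ[R] C ⊗[R] M := TensorProduct.AlgebraTensorModule.rTensor R M ι'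
  have : IsLocalizedModule (Submonoid.powers f) ρ :=
    show IsLocalizedModule (Submonoid.powers f) (TensorProduct.AlgebraTensorModule.rTensor R M ι') from inferInstance
  obtain ⟨⟨m, ⟨_, k, rfl⟩⟩, rfl⟩ := IsLocalizedModule.mk'_surjective (Submonoid.powers f)
    (LocalizedModule.mkLinearMap (Submonoid.powers f) M) y
  simp only [Function.uncurry_apply_pair] at hxy ⊢
  obtain ⟨j, hj⟩ := (locOfTensor_eq_tensorOfLoc_iff x m k).mp hxy
  let s : Submonoid.powers f := ⟨f ^ k, k, rfl⟩
  let u : Rf := IsLocalization.mk' Rf 1 s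
  let a : (R' × Rf) ⊗[R] M := (LinearMap.inl R R' Rf).rTensor M x + ((0, u) : R' × Rf) ⊗ₜ m
  have h1 : gA.rTensor M ((LinearMap.inl R R' Rf).rTensor M x) = ρ x := by
    rw [← LinearMap.comp_apply, ← LinearMap.rTensor_comp]
    have : gA ∘ₗ LinearMap.inl R R' Rf = ι' := by
      ext; simp [gA]
    rw [this]
    rfl
  have hu : f ^ k • Localization.awayMap (algebraMap R R') f u = (1 : C) := by
    rw [Algebra.smul_def, IsScalarTower.algebraMap_apply R R' C, ← hcomm, ← map_mul]
    have : algebraMap R Rf (f ^ k) * u = 1 := by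
      simp only [u]
      rw [IsLocalization.mul_mk'_eq_mk'_of_mul, mul_one]
      exact IsLocalization.mk'_self' Rf (x := s)
    rw [this, map_one]
  have ha : gA.rTensor M a = 0 := by
    simp only [a, map_add, h1, LinearMap.rTensor_tmul]
    rw [hgA]
    simp only [map_zero, zero_sub, TensorProduct.neg_tmul]
    apply IsLocalizedModule.smul_injective ρ s
    simp only [smul_zero, smul_add, smul_neg]
    rw [Submonoid.smul_def, Submonoid.smul_def]
    change f ^ k • ρ x + -(f ^ k • (Localization.awayMap (algebraMap R R') f u ⊗ₜ[R] m)) = 0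
    rw [TensorProduct.smul_tmul', hu, ← map_smul]
    have h2 : ρ ((1 : R') ⊗ₜ[R] m) = (1 : C) ⊗ₜ[R] m := by
      simp [ρ, ι']
    rw [← h2, ← sub_eq_add_neg, ← map_sub, IsLocalizedModule.eq_zero_iff (Submonoid.powers f)]
    exact ⟨⟨f ^ j, j, rfl⟩, by rw [Submonoid.smul_def]; simp only [smul_sub]; rw [hj, sub_self]⟩
  obtain ⟨b, hb⟩ := (hexM a).mp ha
  have key1 : ∀ b : R ⊗[R] M, ((LinearMap.fst R R' Rf ∘ₗ ιA).rTensor M) b =
      (1 : R') ⊗ₜ[R] (TensorProduct.lid R M b) := by
    intro b
    induction b using TensorProduct.induction_on with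
    | zero => simp
    | tmul r n => simp [ιA, TensorProduct.smul_tmul', TensorProduct.tmul_smul, Algebra.smul_def]
    | add b₁ b₂ h₁ h₂ => simp only [map_add, TensorProduct.tmul_add, h₁, h₂]
  let θ := (LocalizedModule.equivTensorProduct (Submonoid.powers f) M).symm
  have hθ : ∀ (c : Rf) (n : M), θ (c ⊗ₜ[R] n) =
      c • LocalizedModule.mkLinearMap (Submonoid.powers f) M n := by
    intro c n
    have : c ⊗ₜ[R] n = c • ((1 : Rf) ⊗ₜ[R] n) := by
      rw [TensorProduct.smul_tmul', smul_eq_mul, mul_one]
    rw [this, map_smul]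
    congr 1
    exact LocalizedModule.equivTensorProduct_symm_apply_tmul_one _ n
  have key2 : ∀ b : R ⊗[R] M, θ (((LinearMap.snd R R' Rf ∘ₗ ιA).rTensor M) b) =
      LocalizedModule.mkLinearMap (Submonoid.powers f) M (TensorProduct.lid R M b) := by
    intro b
    induction b using TensorProduct.induction_on with
    | zero => simp
    | tmul r n =>
      rw [LinearMap.rTensor_tmul, hθ, TensorProduct.lid_tmul, map_smul]
      simp [ιA]
    | add b₁ b₂ h₁ h₂ => simp only [map_add, h₁, h₂]
  refine ⟨TensorProduct.lid R M b, ?_, ?_⟩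
  · have := congrArg ((LinearMap.fst R R' Rf).rTensor M) hb
    rw [← LinearMap.comp_apply, ← LinearMap.rTensor_comp] at this
    simp only [a, map_add, LinearMap.rTensor_tmul, LinearMap.fst_apply, TensorProduct.zero_tmul,
      add_zero] at this
    rw [← LinearMap.comp_apply, ← LinearMap.rTensor_comp] at this
    have e1 : LinearMap.fst R R' Rf ∘ₗ LinearMap.inl R R' Rf = LinearMap.id := by ext; simp
    rw [e1, LinearMap.rTensor_id, LinearMap.id_apply] at this
    rw [← this, key1]
  · have := congrArg ((LinearMap.snd R R' Rf).rTensor M) hb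
    rw [← LinearMap.comp_apply, ← LinearMap.rTensor_comp] at this
    simp only [a, map_add, LinearMap.rTensor_tmul, LinearMap.snd_apply] at this
    rw [← LinearMap.comp_apply, ← LinearMap.rTensor_comp] at this
    have e1 : LinearMap.snd R R' Rf ∘ₗ LinearMap.inl R R' Rf = 0 := by ext; simp
    rw [e1, LinearMap.rTensor_zero, LinearMap.zero_apply, zero_add] at this
    have h3 := congrArg θ this
    rw [hθ, key2] at h3
    rw [h3]
    simp only [u]
    rw [← IsLocalizedModule.mk'_one (Submonoid.powers f)
      (LocalizedModule.mkLinearMap (Submonoid.powers f) M) m,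
      IsLocalizedModule.mk'_smul_mk', one_smul, mul_one]

theorem glueable_of_glueingPair (hRR : EtGlue.IsGlueingPair R R' f)
    (hinj : ∀ m : M, (∃ n : ℕ, f ^ n • m = 0) → (1 : R') ⊗ₜ[R] m = 0 → m = 0) :
    EtGlue.IsGlueable R R' f M := by
  constructor
  · intro a b hab
    simp only [Prod.mk.injEq] at hab
    obtain ⟨h1, h2⟩ := hab
    rw [← sub_eq_zero] at h1 h2 ⊢
    rw [← TensorProduct.tmul_sub] at h1
    rw [← map_sub] at h2
    exact hinj _ ((mkLinearMap_eq_zero_iff _).mp h2) h1
  · exact middle_exact_of_glueingPair hRR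

end Helper23.BL
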