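import Groth.Agent.Lib.Helper23.BLGlue2

/-!
# Beauville–Laszlo: abstract glueing of `(M', M₁, α)` (essential surjectivity)

`GlueData` packages an `R`-module `M` with maps to `M'` and `M₁` identifying it with the module of
compatible pairs.  For a glueing pair, `M` is glueable, `M → M₁` is a localization at `f` and
`R' ⊗ M → M'` is bijective.
-/

universe u
open TensorProduct

namespace Helper23.BL

variable {R R' : Type u} [CommRing R] [CommRing R'] [Algebra R R']
variable {M' : Type u} [AddCommGroup M'] [Module R' M'] [Module R M'] [IsScalarTower R R' M']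
variable {M₁ : Type u} [AddCommGroup M₁] [Module R M₁]
variable {L : Type u} [AddCommGroup L] [Module R' L]
variable {M : Type u} [AddCommGroup M] [Module R M]

/-- `M` (with `p₁`, `p₂`) is the module of compatible pairs for the glueing datum `(M', M₁, α)`. -/
structure GlueData (f : R) (lam : M' →ₗ[R'] L) (α : L ≃ₗ[R'] R' ⊗[R] M₁)
    (p₁ : M →ₗ[R] M') (p₂ : M →ₗ[R] M₁) : Prop where
  loc : IsLocalizedModule (Submonoid.powers (algebraMap R R' f)) lam
  bij : Function.Bijective fun x : M₁ => f • x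
  compat : ∀ m, α (lam (p₁ m)) = (1 : R') ⊗ₜ[R] p₂ m
  inj : ∀ m, p₁ m = 0 → p₂ m = 0 → m = 0
  surj : ∀ x y, α (lam x) = (1 : R') ⊗ₜ[R] y → ∃ m, p₁ m = x ∧ p₂ m = y

namespace GlueData

variable {f : R} {lam : M' →ₗ[R'] L} {α : L ≃ₗ[R'] R' ⊗[R] M₁}
  {p₁ : M →ₗ[R] M'} {p₂ : M →ₗ[R] M₁}

theorem pow_bij (h : GlueData f lam α p₁ p₂) (k : ℕ) :
    Function.Bijective fun x : M₁ => f ^ k • x := by
  induction k with
  | zero =>
    simp only [pow_zero, one_smul]
    exact Function.bijective_id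
  | succ k ih =>
    have : (fun x : M₁ => f ^ (k + 1) • x) = (fun x => f ^ k • x) ∘ (fun x => f • x) := by
      funext x
      simp [pow_succ, mul_smul]
    rw [this]
    exact ih.comp h.bij

theorem torsionFree (h : GlueData f lam α p₁ p₂) (y : M₁) (k : ℕ) (hy : f ^ k • y = 0) : y = 0 :=
  (h.pow_bij k).1 (by simpa using hy)

theorem smul_tmul_eq (k : ℕ) (z : R' ⊗[R] M₁) : (algebraMap R R' f ^ k) • z = f ^ k • z := by
  rw [← map_pow, algebraMap_smul]

theorem exists_num (h : GlueData f lam α p₁ p₂) (y : M₁) :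
    ∃ (k : ℕ) (u : M'), α (lam u) = (1 : R') ⊗ₜ[R] (f ^ k • y) := by
  haveI := h.loc
  obtain ⟨⟨u, ⟨_, k, rfl⟩⟩, hu⟩ := IsLocalizedModule.mk'_surjective
    (Submonoid.powers (algebraMap R R' f)) lam (α.symm ((1 : R') ⊗ₜ[R] y))
  refine ⟨k, u, ?_⟩
  simp only [Function.uncurry_apply_pair] at hu
  rw [IsLocalizedModule.mk'_eq_iff] at hu
  rw [hu, Submonoid.smul_def, map_smul, LinearEquiv.apply_symm_apply]
  change (algebraMap R R' f ^ k) • ((1 : R') ⊗ₜ[R] y) = _
  rw [smul_tmul_eq, ← TensorProduct.tmul_smul]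

theorem isLocalizedModule (h : GlueData f lam α p₁ p₂) :
    IsLocalizedModule (Submonoid.powers f) p₂ := by
  haveI := h.loc
  refine ⟨?_, ?_, ?_⟩
  · rintro ⟨_, k, rfl⟩
    rw [Module.End.isUnit_iff]
    exact h.pow_bij k
  · intro y
    obtain ⟨k, u, hu⟩ := h.exists_num y
    obtain ⟨m, _, hm2⟩ := h.surj u _ hu
    exact ⟨(m, ⟨f ^ k, k, rfl⟩), hm2.symm⟩
  · intro m₁ m₂ hm
    have h0 : lam (p₁ m₁ - p₁ m₂) = 0 := by
      apply α.injective
      rw [map_zero, map_sub, map_sub, sub_eq_zero, h.compat, h.compat, hm]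
    rw [IsLocalizedModule.eq_zero_iff (Submonoid.powers (algebraMap R R' f))] at h0
    obtain ⟨⟨_, k, rfl⟩, hk⟩ := h0
    refine ⟨⟨f ^ k, k, rfl⟩, ?_⟩
    rw [Submonoid.smul_def, Submonoid.smul_def, ← sub_eq_zero, ← smul_sub]
    apply h.inj
    · rw [map_smul, map_sub, ← algebraMap_smul R' (f ^ k), map_pow]
      exact hk
    · rw [map_smul, map_sub, hm, sub_self, smul_zero]

theorem lift_tmul (r' : R') (m : M) :
    LinearMap.liftBaseChange R' p₁ (r' ⊗ₜ[R] m) = r' • p₁ m := rfl

theorem alpha_lift (h : GlueData f lam α p₁ p₂) (t : R' ⊗[R] M) :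
    α (lam (LinearMap.liftBaseChange R' p₁ t)) = p₂.lTensor R' t := by
  induction t using TensorProduct.induction_on with
  | zero => simp
  | tmul r' m =>
    rw [lift_tmul, map_smul, map_smul, h.compat, LinearMap.lTensor_tmul, TensorProduct.smul_tmul',
      smul_eq_mul, mul_one]
  | add a b ha hb => simp only [map_add, ha, hb]

theorem glueable (h : GlueData f lam α p₁ p₂) (hRR : EtGlue.IsGlueingPair R R' f) :
    EtGlue.IsGlueable R R' f M := by
  apply glueable_of_glueingPair hRR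
  rintro m ⟨n, hn⟩ h0
  have h1 : p₁ m = 0 := by
    have := congrArg (LinearMap.liftBaseChange R' p₁) h0
    rw [lift_tmul, one_smul, map_zero] at this
    exact this
  have h2 : p₂ m = 0 := h.torsionFree _ n (by rw [← map_smul, hn, map_zero])
  exact h.inj m h1 h2

theorem lift_surjective (h : GlueData f lam α p₁ p₂) (hRR : EtGlue.IsGlueingPair R R' f) :
    Function.Surjective (LinearMap.liftBaseChange R' p₁) := by
  have hq := hRR.1
  have hQ : ∀ z : R' ⊗[R] M₁, ∃ (y₀ : M₁) (t : R' ⊗[R] M),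
      z = (1 : R') ⊗ₜ[R] y₀ + α (lam (LinearMap.liftBaseChange R' p₁ t)) := by
    intro z
    induction z using TensorProduct.induction_on with
    | zero => exact ⟨0, 0, by simp⟩
    | tmul r' y =>
      obtain ⟨k, u, hu⟩ := h.exists_num y
      obtain ⟨r, s', hr⟩ := exists_approx hq k r'
      obtain ⟨m, _, hm2⟩ := h.surj u _ hu
      refine ⟨r • y, s' ⊗ₜ[R] m, ?_⟩
      rw [h.alpha_lift, LinearMap.lTensor_tmul, hm2, hr, TensorProduct.add_tmul,
        TensorProduct.tmul_smul, TensorProduct.tmul_smul, TensorProduct.smul_tmul',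
        TensorProduct.smul_tmul', Algebra.smul_def, Algebra.smul_def, mul_one]
    | add a b ha hb =>
      obtain ⟨y₁, t₁, h₁⟩ := ha
      obtain ⟨y₂, t₂, h₂⟩ := hb
      exact ⟨y₁ + y₂, t₁ + t₂, by rw [h₁, h₂]; simp only [map_add, TensorProduct.tmul_add]; abel⟩
  intro x
  obtain ⟨y₀, t, ht⟩ := hQ (α (lam x))
  obtain ⟨m, hm1, _⟩ := h.surj (x - LinearMap.liftBaseChange R' p₁ t) y₀ (by
    rw [map_sub, map_sub, ht]; abel)
  refine ⟨(1 : R') ⊗ₜ[R] m + t, ?_⟩
  rw [map_add, lift_tmul, one_smul, hm1]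
  abel

theorem lift_injective (h : GlueData f lam α p₁ p₂) (hRR : EtGlue.IsGlueingPair R R' f) :
    Function.Injective (LinearMap.liftBaseChange R' p₁) := by
  haveI := h.isLocalizedModule
  have hcomm : ∀ t : R' ⊗[R] M,
      TensorProduct.AlgebraTensorModule.rTensor R R' p₂ (TensorProduct.comm R R' M t) =
        TensorProduct.comm R R' M₁ (p₂.lTensor R' t) := by
    intro t
    induction t using TensorProduct.induction_on with
    | zero => simp
    | tmul r' m => simp
    | add a b ha hb => simp only [map_add, ha, hb]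
  rw [injective_iff_map_eq_zero]
  intro t ht
  have h1 : p₂.lTensor R' t = 0 := by rw [← h.alpha_lift, ht, map_zero, map_zero]
  have h2 : ∃ n : ℕ, f ^ n • t = 0 := by
    have h3 : TensorProduct.AlgebraTensorModule.rTensor R R' p₂ (TensorProduct.comm R R' M t) = 0 := by
      rw [hcomm, h1, map_zero]
    rw [IsLocalizedModule.eq_zero_iff (Submonoid.powers f)] at h3
    obtain ⟨⟨_, n, rfl⟩, hn⟩ := h3
    refine ⟨n, ?_⟩
    apply (TensorProduct.comm R R' M).injective
    rw [map_smul, map_zero]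
    exact hn
  obtain ⟨m, ⟨n, hn⟩, hm⟩ := (torsion_bij_of_glueable (h.glueable hRR)).2 t h2
  have h4 : p₁ m = 0 := by
    rw [← hm, lift_tmul, one_smul] at ht
    exact ht
  have h5 : p₂ m = 0 := h.torsionFree _ n (by rw [← map_smul, hn, map_zero])
  rw [← hm, h.inj m h4 h5, TensorProduct.tmul_zero]

theorem lift_bijective (h : GlueData f lam α p₁ p₂) (hRR : EtGlue.IsGlueingPair R R' f) :
    Function.Bijective (LinearMap.liftBaseChange R' p₁) :=
  ⟨h.lift_injective hRR, h.lift_surjective hRR⟩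

end GlueData

end Helper23.BL
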