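import Groth.Agent.Lib.Helper23.BLGlue2

/-!
# Beauville–Laszlo: `Tor_1^R(R', Q) = 0` for `f`-power torsion `Q` (elementary form)

For a glueing pair and a submodule `K` of a free module `P` with `P/K` `f`-power torsion,
`R' ⊗ K → R' ⊗ P` is injective.
-/

universe u
open TensorProduct

namespace Helper23.BL

variable {R R' : Type u} [CommRing R] [CommRing R'] [Algebra R R'] {f : R}

/-- In a free module over the base of a glueing pair, `f`-power torsion elements dying in
`R' ⊗ P` vanish. -/
theorem eq_zero_of_tmul_eq_zero_finsupp (hRR : EtGlue.IsGlueingPair R R' f) {ι : Type u}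
    (p : ι →₀ R) (hp : ∃ n : ℕ, f ^ n • p = 0) (h0 : (1 : R') ⊗ₜ[R] p = 0) : p = 0 := by
  obtain ⟨n, hn⟩ := hp
  ext i
  have h1 : algebraMap R R' (p i) = 0 := by
    have := congrArg (LinearMap.liftBaseChange R'
      ((Algebra.linearMap R R') ∘ₗ (Finsupp.lapply i : (ι →₀ R) →ₗ[R] R))) h0
    simpa using this
  have h2 : f ^ n * p i = 0 := by
    have := congrArg (fun q : ι →₀ R => q i) hn
    simpa using this
  have h3 : algebraMap R (Localization.Away f) (p i) = 0 := by
    rw [IsLocalization.map_eq_zero_iff (Submonoid.powers f)]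
    exact ⟨⟨f ^ n, n, rfl⟩, h2⟩
  have := hRR.2.1 (a₁ := p i) (a₂ := 0) (by simp [h1, h3])
  simpa using this

section FactB

variable {P : Type u} [AddCommGroup P] [Module R P]

/-- **Fact B**: if `P` has no `f`-power torsion dying in `R' ⊗ P` and `P/K` is `f`-power
torsion, then `R' ⊗ K → R' ⊗ P` is injective. -/
theorem lTensor_subtype_injective (hRR : EtGlue.IsGlueingPair R R' f)
    (hP : ∀ p : P, (∃ n : ℕ, f ^ n • p = 0) → (1 : R') ⊗ₜ[R] p = 0 → p = 0)
    (K : Submodule R P) (hK : ∀ p : P, ∃ n : ℕ, f ^ n • p ∈ K) :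
    Function.Injective (K.subtype.lTensor R') := by
  have hKglue : EtGlue.IsGlueable R R' f K := by
    apply glueable_of_glueingPair hRR
    rintro k ⟨n, hn⟩ h0
    have h1 : (1 : R') ⊗ₜ[R] (k : P) = 0 := by
      have := congrArg (K.subtype.lTensor R') h0
      simpa using this
    have h2 : (k : P) = 0 := hP k ⟨n, by
      have := congrArg Subtype.val hn
      simpa using this⟩ h1
    exact Subtype.ext h2
  rw [injective_iff_map_eq_zero]
  intro t ht
  -- `t` is `f`-power torsion
  let S := Submonoid.powers f
  let LK := LocalizedModule S K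
  let LP := LocalizedModule S P
  let jf : LK →ₗ[R] LP := IsLocalizedModule.map S (LocalizedModule.mkLinearMap S K)
    (LocalizedModule.mkLinearMap S P) K.subtype
  have hjf_inj : Function.Injective jf :=
    IsLocalizedModule.map_injective S (LocalizedModule.mkLinearMap S K)
      (LocalizedModule.mkLinearMap S P) K.subtype K.injective_subtype
  have hjf_surj : Function.Surjective jf := by
    intro y
    obtain ⟨⟨p, s⟩, rfl⟩ := IsLocalizedModule.mk'_surjective S (LocalizedModule.mkLinearMap S P) y
    obtain ⟨n, hn⟩ := hK p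
    refine ⟨IsLocalizedModule.mk' (LocalizedModule.mkLinearMap S K) ⟨f ^ n • p, hn⟩
      (⟨f ^ n, n, rfl⟩ * s), ?_⟩
    simp only [jf, Function.uncurry_apply_pair]
    rw [IsLocalizedModule.map_mk', IsLocalizedModule.mk'_eq_mk'_iff]
    refine ⟨1, ?_⟩
    simp only [Submodule.subtype_apply, one_smul]
    rw [Submonoid.smul_def, Submonoid.smul_def, Submonoid.coe_mul, mul_smul, smul_comm]
  let ejf : LK ≃ₗ[R] LP := LinearEquiv.ofBijective jf ⟨hjf_inj, hjf_surj⟩
  have hsq : ∀ t : R' ⊗[R] K, (jf.lTensor R') ((LocalizedModule.mkLinearMap S K).lTensor R' t) =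
      (LocalizedModule.mkLinearMap S P).lTensor R' (K.subtype.lTensor R' t) := by
    intro t
    induction t using TensorProduct.induction_on with
    | zero => simp
    | tmul r' k =>
      simp only [LinearMap.lTensor_tmul, jf]
      rw [IsLocalizedModule.map_apply]
    | add a b ha hb => simp only [map_add, ha, hb]
  have h1 : (LocalizedModule.mkLinearMap S K).lTensor R' t = 0 := by
    have h2 := hsq t
    rw [ht, map_zero] at h2
    have : Function.Injective (jf.lTensor R') := (LinearEquiv.lTensor R' ejf).injective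
    exact this (by rw [h2, map_zero])
  have h2 : ∃ n : ℕ, f ^ n • t = 0 := by
    have hcomm : TensorProduct.AlgebraTensorModule.rTensor R R' (LocalizedModule.mkLinearMap S K)
        (TensorProduct.comm R R' K t) =
        TensorProduct.comm R R' LK ((LocalizedModule.mkLinearMap S K).lTensor R' t) := by
      clear ht h1
      induction t using TensorProduct.induction_on with
      | zero => simp
      | tmul r' m => simp
      | add a b ha hb => simp only [map_add, ha, hb]
    have h3 : TensorProduct.AlgebraTensorModule.rTensor R R' (LocalizedModule.mkLinearMap S K)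
        (TensorProduct.comm R R' K t) = 0 := by
      rw [hcomm, h1, map_zero]
    rw [IsLocalizedModule.eq_zero_iff S] at h3
    obtain ⟨⟨_, n, rfl⟩, hn⟩ := h3
    refine ⟨n, ?_⟩
    apply (TensorProduct.comm R R' K).injective
    rw [map_smul, map_zero]
    exact hn
  obtain ⟨k, ⟨n, hn⟩, hk⟩ := (torsion_bij_of_glueable hKglue).2 t h2
  have h4 : (1 : R') ⊗ₜ[R] (k : P) = 0 := by
    rw [← hk] at ht
    simpa using ht
  have h5 : (k : P) = 0 := hP k ⟨n, by
    have := congrArg Subtype.val hn
    simpa using this⟩ h4
  rw [← hk, Subtype.ext (a1 := k) (a2 := 0) h5, TensorProduct.tmul_zero]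

end FactB

end Helper23.BL
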