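import Groth.Prelude.Def_EtGlue
import Mathlib

/-!
# Beauville–Laszlo: `f`-power torsion modules are invariant under `R' ⊗_R -`

For `R → R'` inducing bijections `R/f^n → R'/f^n R'` and an `f`-power torsion `R`-module `Q`,
the map `q ↦ 1 ⊗ q : Q → R' ⊗_R Q` is bijective (`Helper23.BL.mk_bijective`), with explicit inverse
`Helper23.BL.mu`.
-/

universe u v
open TensorProduct

namespace Helper23.BL

variable {R R' : Type u} [CommRing R] [CommRing R'] [Algebra R R'] {f : R}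

theorem exists_approx (hq : EtGlue.QuotPowBijective R R' f) (n : ℕ) (x' : R') :
    ∃ (r : R) (y' : R'), x' = algebraMap R R' r + algebraMap R R' (f ^ n) * y' := by
  rcases Nat.eq_zero_or_pos n with rfl | hn
  · exact ⟨0, x', by simp⟩
  · obtain ⟨q, hq'⟩ := (hq n hn).2 (Ideal.Quotient.mk _ x')
    obtain ⟨r, rfl⟩ := Ideal.Quotient.mk_surjective q
    rw [Ideal.quotientMap_mk, Ideal.Quotient.eq, Ideal.map_span, Set.image_singleton,
      Ideal.mem_span_singleton'] at hq'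
    obtain ⟨a, ha⟩ := hq'
    refine ⟨r, -a, ?_⟩
    linear_combination ha

theorem dvd_of_map_dvd (hq : EtGlue.QuotPowBijective R R' f) (n : ℕ) (r : R) (y' : R')
    (h : algebraMap R R' r = algebraMap R R' (f ^ n) * y') : ∃ s, r = f ^ n * s := by
  rcases Nat.eq_zero_or_pos n with rfl | hn
  · exact ⟨r, by simp⟩
  · have h0 : Ideal.quotientMap (Ideal.map (algebraMap R R') (Ideal.span {f ^ n})) (algebraMap R R')
        Ideal.le_comap_map (Ideal.Quotient.mk _ r) =
        Ideal.quotientMap (Ideal.map (algebraMap R R') (Ideal.span {f ^ n})) (algebraMap R R')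
        Ideal.le_comap_map (Ideal.Quotient.mk _ 0) := by
      rw [Ideal.quotientMap_mk, Ideal.quotientMap_mk, Ideal.Quotient.eq, map_zero, sub_zero,
        Ideal.map_span, Set.image_singleton, Ideal.mem_span_singleton']
      exact ⟨y', by rw [h, mul_comm]⟩
    have h1 := (hq n hn).1 h0
    rw [Ideal.Quotient.eq, sub_zero, Ideal.mem_span_singleton'] at h1
    obtain ⟨a, ha⟩ := h1
    exact ⟨a, by rw [← ha, mul_comm]⟩

section LemmaT

variable {Q : Type v} [AddCommGroup Q] [Module R Q]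

/-- `r` approximates `x'` well enough to act on `q`. -/
def IsApproxAt (f : R) (n : ℕ) (x' : R') (q : Q) (r : R) : Prop :=
  f ^ n • q = 0 ∧ ∃ y' : R', x' = algebraMap R R' r + algebraMap R R' (f ^ n) * y'

theorem IsApproxAt.mono {n n' : ℕ} {x' : R'} {q : Q} {r : R} (h : IsApproxAt f n x' q r)
    (hn : n' ≤ n) (h0 : f ^ n' • q = 0) : IsApproxAt f n' x' q r := by
  obtain ⟨_, y', hy'⟩ := h
  refine ⟨h0, algebraMap R R' (f ^ (n - n')) * y', ?_⟩
  rw [hy', ← mul_assoc, ← map_mul, ← pow_add, Nat.add_sub_cancel' hn]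

theorem IsApproxAt.smul_eq (hq : EtGlue.QuotPowBijective R R' f) {n₁ n₂ : ℕ} {x' : R'} {q : Q}
    {r₁ r₂ : R} (h₁ : IsApproxAt f n₁ x' q r₁) (h₂ : IsApproxAt f n₂ x' q r₂) :
    r₁ • q = r₂ • q := by
  wlog hle : n₁ ≤ n₂ generalizing n₁ n₂ r₁ r₂
  · exact (this h₂ h₁ (le_of_not_ge hle)).symm
  have h₂' := h₂.mono hle h₁.1
  obtain ⟨hq1, y₁, hy₁⟩ := h₁
  obtain ⟨_, y₂, hy₂⟩ := h₂'
  obtain ⟨s, hs⟩ := dvd_of_map_dvd hq n₁ (r₁ - r₂) (y₂ - y₁) (by
    rw [map_sub]; linear_combination hy₂ - hy₁)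
  rw [← sub_eq_zero, ← sub_smul, hs, mul_comm, mul_smul, hq1, smul_zero]

variable (hq : EtGlue.QuotPowBijective R R' f) (hQ : ∀ q : Q, ∃ n : ℕ, f ^ n • q = 0)

include hq hQ in
theorem exists_isApproxAt (x' : R') (q : Q) : ∃ (n : ℕ) (r : R), IsApproxAt f n x' q r := by
  obtain ⟨n, hn⟩ := hQ q
  obtain ⟨r, y', h⟩ := exists_approx hq n x'
  exact ⟨n, r, hn, y', h⟩

/-- The action of `R'` on an `f`-power torsion `R`-module. -/
noncomputable def act (x' : R') (q : Q) : Q :=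
  (exists_isApproxAt hq hQ x' q).choose_spec.choose • q

theorem act_eq {n : ℕ} {x' : R'} {q : Q} {r : R} (h : IsApproxAt f n x' q r) :
    act hq hQ x' q = r • q :=
  IsApproxAt.smul_eq hq (exists_isApproxAt hq hQ x' q).choose_spec.choose_spec h

theorem pow_smul_eq_zero_of_le {n n' : ℕ} {q : Q} (h : f ^ n • q = 0) (hn : n ≤ n') :
    f ^ n' • q = 0 := by
  rw [← Nat.sub_add_cancel hn, pow_add, mul_smul, h, smul_zero]

/-- The inverse `R' ⊗ Q → Q` of `q ↦ 1 ⊗ q`. -/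
noncomputable def mu : R' ⊗[R] Q →ₗ[R] Q :=
  TensorProduct.lift (LinearMap.mk₂ R (act hq hQ)
    (by
      intro x₁ x₂ q
      obtain ⟨n, hn⟩ := hQ q
      obtain ⟨r₁, y₁, h₁⟩ := exists_approx hq n x₁
      obtain ⟨r₂, y₂, h₂⟩ := exists_approx hq n x₂
      rw [act_eq hq hQ (n := n) (r := r₁) ⟨hn, y₁, h₁⟩, act_eq hq hQ (n := n) (r := r₂) ⟨hn, y₂, h₂⟩,
        act_eq hq hQ (n := n) (r := r₁ + r₂) ⟨hn, y₁ + y₂, by rw [map_add]; linear_combination h₁ + h₂⟩,
        add_smul])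
    (by
      intro s x q
      obtain ⟨n, hn⟩ := hQ q
      obtain ⟨r, y, h⟩ := exists_approx hq n x
      rw [act_eq hq hQ (n := n) (r := r) ⟨hn, y, h⟩,
        act_eq hq hQ (n := n) (r := s * r) ⟨hn, algebraMap R R' s * y, by
          rw [Algebra.smul_def, map_mul]; linear_combination (algebraMap R R' s) * h⟩, mul_smul])
    (by
      intro x q₁ q₂
      obtain ⟨n₁, hn₁⟩ := hQ q₁
      obtain ⟨n₂, hn₂⟩ := hQ q₂
      have h1 := pow_smul_eq_zero_of_le hn₁ (le_max_left n₁ n₂)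
      have h2 := pow_smul_eq_zero_of_le hn₂ (le_max_right n₁ n₂)
      obtain ⟨r, y, h⟩ := exists_approx hq (max n₁ n₂) x
      rw [act_eq hq hQ (n := max n₁ n₂) (r := r) ⟨h1, y, h⟩,
        act_eq hq hQ (n := max n₁ n₂) (r := r) ⟨h2, y, h⟩,
        act_eq hq hQ (n := max n₁ n₂) (r := r) ⟨by rw [smul_add, h1, h2, add_zero], y, h⟩, smul_add])
    (by
      intro s x q
      obtain ⟨n, hn⟩ := hQ q
      obtain ⟨r, y, h⟩ := exists_approx hq n x
      rw [act_eq hq hQ (n := n) (r := r) ⟨hn, y, h⟩,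
        act_eq hq hQ (n := n) (r := r) ⟨by rw [smul_comm, hn, smul_zero], y, h⟩, smul_comm]))

@[simp] theorem mu_one_tmul (q : Q) : mu hq hQ ((1 : R') ⊗ₜ[R] q) = q := by
  obtain ⟨n, hn⟩ := hQ q
  rw [mu, TensorProduct.lift.tmul, LinearMap.mk₂_apply,
    act_eq hq hQ (n := n) (r := 1) ⟨hn, 0, by simp⟩, one_smul]

include hq hQ in
theorem mk_surjective : Function.Surjective (TensorProduct.mk R R' Q 1) := by
  intro t
  induction t using TensorProduct.induction_on with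
  | zero => exact ⟨0, map_zero _⟩
  | tmul x q =>
    obtain ⟨n, hn⟩ := hQ q
    obtain ⟨r, y, h⟩ := exists_approx hq n x
    refine ⟨r • q, ?_⟩
    rw [TensorProduct.mk_apply, h, TensorProduct.add_tmul, ← Algebra.smul_def,
      TensorProduct.smul_tmul (f ^ n) y q, hn, TensorProduct.tmul_zero, add_zero,
      ← mul_one (algebraMap R R' r), ← Algebra.smul_def, TensorProduct.smul_tmul]
  | add a b ha hb =>
    obtain ⟨a', rfl⟩ := ha
    obtain ⟨b', rfl⟩ := hb
    exact ⟨a' + b', map_add _ _ _⟩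

include hq hQ in
theorem mk_injective : Function.Injective (TensorProduct.mk R R' Q 1) := by
  intro a b h
  have := congrArg (mu hq hQ) h
  simpa using this

include hq hQ in
theorem mk_bijective : Function.Bijective (TensorProduct.mk R R' Q 1) :=
  ⟨mk_injective hq hQ, mk_surjective hq hQ⟩

include hq hQ in
theorem subsingleton_of_tensor (h : Subsingleton (R' ⊗[R] Q)) : Subsingleton Q :=
  (mk_injective hq hQ).subsingleton

end LemmaT

section Cor

variable {M : Type v} [AddCommGroup M] [Module R M]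

/-- If `1 ⊗ m` is divisible by `f ^ k` in `R' ⊗ M` then `m` is divisible by `f ^ k` in `M`. -/
theorem dvd_of_tmul_dvd (hq : EtGlue.QuotPowBijective R R' f) (k : ℕ) (m : M) (x : R' ⊗[R] M)
    (h : (1 : R') ⊗ₜ[R] m = f ^ k • x) : ∃ m₀ : M, m = f ^ k • m₀ := by
  let N : Submodule R M := LinearMap.range (LinearMap.lsmul R M (f ^ k))
  have hQ : ∀ q : M ⧸ N, ∃ n : ℕ, f ^ n • q = 0 := by
    intro q
    obtain ⟨m, rfl⟩ := N.mkQ_surjective q
    refine ⟨k, ?_⟩
    rw [← map_smul, Submodule.mkQ_apply, Submodule.Quotient.mk_eq_zero]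
    exact ⟨m, rfl⟩
  have hk : ∀ q : M ⧸ N, f ^ k • q = 0 := by
    intro q
    obtain ⟨m, rfl⟩ := N.mkQ_surjective q
    rw [← map_smul, Submodule.mkQ_apply, Submodule.Quotient.mk_eq_zero]
    exact ⟨m, rfl⟩
  have h1 := congrArg (fun t => mu hq hQ (N.mkQ.lTensor R' t)) h
  simp only [LinearMap.lTensor_tmul, mu_one_tmul, map_smul, hk] at h1
  rw [Submodule.mkQ_apply, Submodule.Quotient.mk_eq_zero] at h1
  obtain ⟨m₀, hm₀⟩ := h1
  exact ⟨m₀, hm₀.symm⟩

end Cor

end Helper23.BL
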