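import Groth.Agent.Lib.Helper23.CycLocal

/-!
# Bézout domains: total divisibility of localizations, freeness of f.g. submodules of `R^a`
-/

universe u
open Submodule

namespace Helper23.Bez

variable (R : Type u) [CommRing R] [IsDomain R] [IsBezout R]

/-- Localizations of a Bézout domain at maximal (indeed prime) ideals have total divisibility. -/
theorem dvd_total_localization (m : Ideal R) [m.IsPrime]
    (a b : Localization.AtPrime m) : a ∣ b ∨ b ∣ a := by
  obtain ⟨x, s, rfl⟩ := IsLocalization.exists_mk'_eq m.primeCompl a
  obtain ⟨y, t, rfl⟩ := IsLocalization.exists_mk'_eq m.primeCompl b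
  set A := algebraMap R (Localization.AtPrime m) with hA
  have hs : IsUnit (A s) := IsLocalization.map_units _ s
  have ht : IsUnit (A t) := IsLocalization.map_units _ t
  have key : ∀ (x y : R), A x ∣ A y →
      IsLocalization.mk' (Localization.AtPrime m) x s ∣
        IsLocalization.mk' (Localization.AtPrime m) y t := by
    intro x y hxy
    rw [← hs.mul_right_dvd, ← ht.dvd_mul_right, IsLocalization.mk'_spec, IsLocalization.mk'_spec]
    exact hxy
  obtain ⟨x', hx'⟩ := IsBezout.gcd_dvd_left x y
  obtain ⟨y', hy'⟩ := IsBezout.gcd_dvd_right x y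
  obtain ⟨u, v, huv⟩ := IsBezout.gcd_eq_sum x y
  set d := IsBezout.gcd x y with hd
  by_cases hd0 : d = 0
  · left
    apply key
    have : x = 0 := by rw [hx', hd0, zero_mul]
    rw [this, map_zero]
    have : y = 0 := by rw [hy', hd0, zero_mul]
    rw [this, map_zero]
  · have h1 : u * x' + v * y' = 1 := by
      apply mul_left_cancel₀ hd0
      rw [mul_one]
      calc d * (u * x' + v * y') = u * (d * x') + v * (d * y') := by ring
        _ = d := by rw [← hx', ← hy', huv]
    have hor : x' ∉ m ∨ y' ∉ m := by
      by_contra hcon
      push_neg at hcon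
      have : (1 : R) ∈ m := by
        rw [← h1]
        exact m.add_mem (m.mul_mem_left _ hcon.1) (m.mul_mem_left _ hcon.2)
      exact (Ideal.IsPrime.ne_top ‹_›) ((Ideal.eq_top_iff_one _).mpr this)
    rcases hor with hx'm | hy'm
    · left
      apply key
      have hu : IsUnit (A x') := IsLocalization.map_units _ (⟨x', hx'm⟩ : m.primeCompl)
      rw [hx', map_mul, hu.mul_right_dvd, hy', map_mul]
      exact dvd_mul_right _ _
    · right
      have key' : ∀ (x y : R), A y ∣ A x →
          IsLocalization.mk' (Localization.AtPrime m) y t ∣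
            IsLocalization.mk' (Localization.AtPrime m) x s := by
        intro x y hxy
        rw [← ht.mul_right_dvd, ← hs.dvd_mul_right, IsLocalization.mk'_spec,
          IsLocalization.mk'_spec]
        exact hxy
      apply key'
      have hu : IsUnit (A y') := IsLocalization.map_units _ (⟨y', hy'm⟩ : m.primeCompl)
      rw [hy', map_mul, hu.mul_right_dvd, hx', map_mul]
      exact dvd_mul_right _ _

/-- Over a Bézout domain, a finitely generated module embedding into `R^a` is free. -/
theorem free_of_injective :
    ∀ (a : ℕ) (Q : Type u) [AddCommGroup Q] [Module R Q] [Module.Finite R Q]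
      (j : Q →ₗ[R] (Fin a → R)), Function.Injective j →
      ∃ r : ℕ, Nonempty (Q ≃ₗ[R] (Fin r → R)) := by
  intro a
  induction a with
  | zero =>
    intro Q _ _ _ j hj
    have : Subsingleton Q := hj.subsingleton
    exact ⟨0, ⟨LinearEquiv.ofSubsingleton _ _⟩⟩
  | succ a ih =>
    intro Q _ _ _ j hj
    let π : Q →ₗ[R] R := LinearMap.proj 0 ∘ₗ j
    have hπ : ∀ q, π q = j q 0 := fun q => rfl
    have hfg : (LinearMap.range π).FG := by
      rw [LinearMap.range_eq_map]
      exact Submodule.FG.map _ (Module.Finite.fg_top)
    obtain ⟨d, hd⟩ : ∃ d : R, (LinearMap.range π : Ideal R) = Ideal.span {d} :=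
      (IsBezout.isPrincipal_of_FG (LinearMap.range π : Ideal R) hfg).principal
    let tl : (Fin (a + 1) → R) →ₗ[R] (Fin a → R) := LinearMap.pi fun i => LinearMap.proj i.succ
    have htl : ∀ (v : Fin (a + 1) → R) i, tl v i = v i.succ := fun v i => rfl
    by_cases hd0 : d = 0
    · have hπ0 : ∀ q, π q = 0 := by
        intro q
        have : π q ∈ (LinearMap.range π : Ideal R) := ⟨q, rfl⟩
        rw [hd, hd0] at this
        simpa using this
      let j' : Q →ₗ[R] (Fin a → R) := tl ∘ₗ j
      have hj' : Function.Injective j' := by
        intro q1 q2 h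
        apply hj
        funext i
        refine Fin.cases ?_ (fun i => ?_) i
        · rw [← hπ, ← hπ, hπ0, hπ0]
        · exact congrFun h i
      exact ih Q j' hj'
    · obtain ⟨q0, hq0⟩ : ∃ q0, π q0 = d := by
        have : d ∈ (LinearMap.range π : Ideal R) := by
          rw [hd]; exact Ideal.mem_span_singleton_self d
        exact this
      have hex : ∀ q, ∃ c, π q = c * d := by
        intro q
        have : π q ∈ (LinearMap.range π : Ideal R) := ⟨q, rfl⟩
        rw [hd] at this
        obtain ⟨c, hc⟩ := Ideal.mem_span_singleton'.mp this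
        exact ⟨c, hc.symm⟩
      choose ρ0 hρ0 using hex
      let ρ : Q →ₗ[R] R :=
        { toFun := ρ0
          map_add' := by
            intro x y
            apply mul_right_cancel₀ hd0
            rw [← hρ0, add_mul, ← hρ0, ← hρ0, map_add]
          map_smul' := by
            intro c x
            apply mul_right_cancel₀ hd0
            rw [← hρ0, RingHom.id_apply, smul_eq_mul, mul_assoc, ← hρ0, map_smul, smul_eq_mul] }
      have hρ : ∀ q, π q = ρ q * d := hρ0
      have hρq0 : ρ q0 = 1 := by
        apply mul_right_cancel₀ hd0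
        rw [← hρ, hq0, one_mul]
      let σ : R →ₗ[R] Q := LinearMap.toSpanSingleton R Q q0
      have hσ : ∀ c, σ c = c • q0 := fun c => rfl
      let K := LinearMap.ker ρ
      have hmemK : ∀ q, q - σ (ρ q) ∈ K := by
        intro q
        change ρ _ = 0
        rw [map_sub, hσ, map_smul, hρq0, smul_eq_mul, mul_one, sub_self]
      let pr : Q →ₗ[R] K := LinearMap.codRestrict K (LinearMap.id - σ ∘ₗ ρ) hmemK
      have hpr : Function.Surjective pr := by
        rintro ⟨k, hk⟩
        refine ⟨k, ?_⟩
        apply Subtype.ext
        have hk' : ρ k = 0 := hk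
        change k - σ (ρ k) = k
        rw [hk', map_zero, sub_zero]
      have : Module.Finite R K := Module.Finite.of_surjective pr hpr
      let jK : K →ₗ[R] (Fin a → R) := tl ∘ₗ j ∘ₗ K.subtype
      have hjK : Function.Injective jK := by
        intro k1 k2 h
        apply Subtype.ext
        apply hj
        funext i
        refine Fin.cases ?_ (fun i => ?_) i
        · have h1 : ρ k1.1 = 0 := k1.2
          have h2 : ρ k2.1 = 0 := k2.2
          rw [← hπ, ← hπ, hρ, hρ, h1, h2]
        · exact congrFun h i
      obtain ⟨r, ⟨eK⟩⟩ := ih K jK hjK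
      let Φ : (R × K) →ₗ[R] Q := LinearMap.coprod σ K.subtype
      have hΦ : Function.Bijective Φ := by
        constructor
        · rw [← LinearMap.ker_eq_bot, LinearMap.ker_eq_bot']
          rintro ⟨c, k⟩ h
          have h' : σ c + k.1 = 0 := by simpa [Φ] using h
          have hk : ρ k.1 = 0 := k.2
          have hc : c = 0 := by
            have := congrArg ρ h'
            rwa [map_add, hσ, map_smul, hρq0, hk, smul_eq_mul, mul_one, add_zero, map_zero] at this
          have hk0 : k = 0 := by
            apply Subtype.ext
            rw [hc, map_zero, zero_add] at h'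
            exact h'
          rw [hc, hk0]; rfl
        · intro q
          refine ⟨(ρ q, ⟨q - σ (ρ q), hmemK q⟩), ?_⟩
          simp [Φ]
      exact ⟨r + 1, ⟨(LinearEquiv.ofBijective Φ hΦ).symm ≪≫ₗ
        (LinearEquiv.prodCongr (LinearEquiv.refl R R) eK) ≪≫ₗ
        (Fin.consLinearEquiv R (fun _ : Fin (r + 1) => R))⟩⟩

end Helper23.Bez
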