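import Groth.Agent.Lib.Helper23.CardTriv
import Groth.Agent.Lib.Helper23.ConstrSub
import Groth.Agent.S2285

/-!
# A sheaf with finite stalks whose cardinality loci are locally constructible is constructible
-/

set_option autoImplicit false
universe u

namespace Groth.Agent.Lib.Helper23.CardConstr

open CategoryTheory CategoryTheory.Limits AlgebraicGeometry Opposite Topology EtCore
open Groth.Agent.Lib.Helper23.FlcLoc Groth.Agent.Lib.Helper23.ConstrNoeth
open Groth.Agent.Lib.Helper23.GenConst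

variable {X : Scheme.{u}}

set_option backward.isDefEq.respectTransparency.types false in
set_option backward.isDefEq.respectTransparency false in
/-- a sheaf which is constant on a nonempty etale scheme is finite locally constant on a nonempty
open -/
theorem exists_open_flc_of_triv {T : Scheme.{u}} (G : EtCoh.Ab T) (W₁ : T.Etale) (w₁ : W₁.left)
    (hT1 : Triv ((EtCoh.pull W₁.hom).obj G)) :
    ∃ T' : T.Opens, (T' : Set T).Nonempty ∧
      EtCoh.IsFiniteLocallyConstant ((EtCoh.pull T'.ι).obj G) := by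
  haveI : Etale W₁.hom := W₁.prop
  let T' : T.Opens := ⟨Set.range W₁.hom, W₁.hom.isOpenMap.isOpen_range⟩
  refine ⟨T', ⟨W₁.hom w₁, w₁, rfl⟩, ?_⟩
  rw [flc_iff_locTriv]
  intro t'
  obtain ⟨w, hw⟩ : (T'.ι t') ∈ Set.range W₁.hom := t'.2
  have hr : Set.range W₁.hom ⊆ Set.range T'.ι := by
    rw [Scheme.Opens.range_ι]
    exact subset_rfl
  let k : W₁.left ⟶ T' := IsOpenImmersion.lift T'.ι W₁.hom hr
  have hk : k ≫ T'.ι = W₁.hom := IsOpenImmersion.lift_fac _ _ _
  have hke : EtCoh.etaleMP k := by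
    have h1 : EtCoh.etaleMP (k ≫ T'.ι) := by rw [hk]; exact W₁.prop
    have h2 : EtCoh.etaleMP T'.ι := (inferInstance : Etale T'.ι)
    exact EtCoh.etaleMP.of_postcomp (W' := EtCoh.etaleMP) k T'.ι h2 h1
  refine ⟨MorphismProperty.Over.mk ⊤ k hke, w, ?_, ?_⟩
  · apply T'.ι.isOpenEmbedding.injective
    change (k ≫ T'.ι) w = T'.ι t'
    rw [hk]
    exact hw
  · change Triv ((EtCoh.pull k).obj ((EtCoh.pull T'.ι).obj G))
    exact hT1.of_iso ((pullCongr hk.symm).app G ≪≫ (pullComp k T'.ι).app G)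

set_option backward.isDefEq.respectTransparency.types false in
set_option backward.isDefEq.respectTransparency false in
set_option maxHeartbeats 1600000 in
/-- on a locally noetherian scheme, a sheaf with finite stalks whose cardinality loci are locally
constructible is constructible -/
theorem constructible_of_cardAt [IsLocallyNoetherian X] (F : EtCoh.Ab X)
    (hfin : ∀ (Ω : Type u) [Field Ω] [IsSepClosed Ω] (ξ : Spec (CommRingCat.of Ω) ⟶ X),
      Finite ((EtCoh.stalk ξ).obj F))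
    (hE : ∀ n : ℕ, IsLocallyConstructible {x : X | CardLocus.CardAt F n x}) :
    EtPBC.IsConstructible F := by
  apply constructible_of_flc_on_closures
  intro x
  obtain ⟨ξ₀, hξ₀⟩ : ∃ ξ₀ : Spec (CommRingCat.of (AlgebraicClosure (X.residueField x))) ⟶ X,
      ξ₀ default = x := ⟨FlcConn.geomPt x, FlcConn.geomPt_default x⟩
  obtain ⟨n, hn⟩ : ∃ n : ℕ, Nat.card ((EtCoh.stalk ξ₀).obj F) = n := ⟨_, rfl⟩
  have hxE : CardLocus.CardAt F n x :=
    ⟨_, inferInstance, inferInstance, ξ₀, SurjLocus.range_of_default ξ₀ hξ₀, hn⟩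
  obtain ⟨U₀, hU₀n, hU₀o, hU₀c⟩ := hE n x
  have hxU₀ : x ∈ U₀ := mem_of_mem_nhds hU₀n
  obtain ⟨V', hV'o, hxV', hV'⟩ :=
    (exists_nhd_of_constructible (⟨x, hxU₀⟩ : U₀) hU₀c).1 hxE
  let V₁ : X.Opens := ⟨Subtype.val '' V', hU₀o.isOpenMap_subtype_val V' hV'o⟩
  have hxV₁ : x ∈ V₁ := ⟨⟨x, hxU₀⟩, hxV', rfl⟩
  have hV₁E : (V₁ : Set X) ∩ closure {x} ⊆ {x | CardLocus.CardAt F n x} := by
    rintro _ ⟨⟨y', hy', rfl⟩, hyc⟩
    have : y' ∈ closure {(⟨x, hxU₀⟩ : U₀)} := by
      rw [Topology.IsInducing.subtypeVal.closure_eq_preimage_closure_image, Set.image_singleton]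
      exact hyc
    exact hV' ⟨hy', this⟩
  have hlc : IsLocallyClosed ((V₁ : Set X) ∩ closure {x}) :=
    V₁.isOpen.isLocallyClosed.inter isClosed_closure.isLocallyClosed
  obtain ⟨T, g, hg, hTred, hr⟩ := (Groth.Agent.S2285.result X _ hlc).1
  haveI := hg
  have hxr : x ∈ Set.range g := by rw [hr]; exact ⟨hxV₁, subset_closure rfl⟩
  obtain ⟨tx, htx⟩ := hxr
  have hcl : closure {tx} = Set.univ := by
    rw [g.isEmbedding.isInducing.closure_eq_preimage_closure_image, Set.image_singleton, htx]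
    ext a
    simp only [Set.mem_preimage, Set.mem_univ, iff_true]
    have : g a ∈ Set.range g := ⟨a, rfl⟩
    rw [hr] at this
    exact this.2
  haveI : IsLocallyNoetherian T := LocallyOfFiniteType.isLocallyNoetherian g
  let F' : EtCoh.Ab T := (EtCoh.pull g).obj F
  have hfin' : ∀ (Ω : Type u) [Field Ω] [IsSepClosed Ω] (ξ : Spec (CommRingCat.of Ω) ⟶ T),
      Finite ((EtCoh.stalk ξ).obj F') := by
    intro Ω _ _ ξ'
    haveI := FinBC0.isIso_stk_unit g ξ' F
    have h0 := hfin Ω (ξ' ≫ g)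
    exact @Finite.of_equiv _ _ h0
      (asIso (FinBC0.stk g ξ' (FinBC0.unitG g F))).addCommGroupIsoToAddEquiv.toEquiv
  obtain ⟨ξ₁, rfl⟩ := SurjLocus.exists_lift_of_immersion g ξ₀ tx (by rw [hξ₀, htx])
  have hξ₁ : ξ₁ default = tx := by
    apply g.isEmbedding.injective
    change (ξ₁ ≫ g) default = g tx
    rw [hξ₀, htx]
  have hn' : Nat.card (CardTriv.Mst F' ξ₁) = n := by
    haveI := FinBC0.isIso_stk_unit g ξ₁ F
    have := CardLocus.card_eq_of_iso (asIso (FinBC0.stk g ξ₁ (FinBC0.unitG g F)))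
    exact this.symm.trans hn
  have hcard : ∀ t : T, CardLocus.CardAt F' (Nat.card (CardTriv.Mst F' ξ₁)) t := by
    intro t
    rw [hn']
    exact (CardLocus.cardAt_pull_iff g F n t).2 (hV₁E (by rw [← hr]; exact ⟨t, rfl⟩))
  obtain ⟨Y, ⟨y⟩, hTriv⟩ := CardTriv.exists_triv_of_card F' tx hcl ξ₁ hξ₁ hfin' hcard
  obtain ⟨T', ⟨t', ht'⟩, hflc'⟩ := exists_open_flc_of_triv F' Y y hTriv
  obtain ⟨V'', hV''o, hV''⟩ := (g.isEmbedding.isInducing.isOpen_iff).1 T'.isOpen
  have hgt' : g t' ∈ V'' := by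
    have : t' ∈ g ⁻¹' V'' := by rw [hV'']; exact ht'
    exact this
  have hgc : g t' ∈ closure {x} := by
    have : g t' ∈ Set.range g := ⟨t', rfl⟩
    rw [hr] at this
    exact this.2
  have hxV'' : x ∈ V'' := by
    obtain ⟨z, hzV', hz⟩ := mem_closure_iff.1 hgc V'' hV''o hgt'
    rw [Set.mem_singleton_iff] at hz
    rwa [hz] at hzV'
  refine ⟨V₁ ⊓ ⟨V'', hV''o⟩, T', T'.ι ≫ g, inferInstance, ⟨hxV₁, hxV''⟩, ?_, ?_⟩
  · rw [Strata.range_ι_comp, ← hV'', Set.image_preimage_eq_inter_range, hr]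
    ext y
    simp only [TopologicalSpace.Opens.coe_inf, TopologicalSpace.Opens.coe_mk, Set.mem_inter_iff]
    tauto
  · exact Flc.flc_of_iso ((pullComp T'.ι g).app F).symm hflc'

end Groth.Agent.Lib.Helper23.CardConstr
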