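import Groth.Agent.Lib.Helper23.SurjLocus
import Groth.Agent.S0127

/-!
# The loci where the stalks of a constructible sheaf have a given cardinality are constructible
-/

set_option autoImplicit false
universe u

namespace Groth.Agent.Lib.Helper23.CardLocus

open CategoryTheory CategoryTheory.Limits AlgebraicGeometry Opposite Topology
open Groth.Agent.Lib.Helper23.SurjLocus

variable {X : Scheme.{u}}

/-- some geometric stalk of `P` over `x` has exactly `n` elements -/
def CardAt (P : EtCoh.Ab X) (n : ℕ) (x : X) : Prop :=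
  ∃ (Ω : Type u) (_ : Field Ω) (_ : IsSepClosed Ω) (ξ : Spec (CommRingCat.of Ω) ⟶ X),
    Set.range ξ = {x} ∧ Nat.card ((EtCoh.stalk ξ).obj P) = n

lemma card_eq_of_iso {A B : AddCommGrpCat.{u + 1}} (e : A ≅ B) : Nat.card A = Nat.card B :=
  Nat.card_congr e.addCommGroupIsoToAddEquiv.toEquiv

set_option backward.isDefEq.respectTransparency.types false in
set_option backward.isDefEq.respectTransparency false in
/-- the level sets of the stalk cardinality of a finite locally constant sheaf are open and closed -/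
lemma isClopen_cardAt_of_flc (P : EtCoh.Ab X) (hP : EtCoh.IsFiniteLocallyConstant P) (n : ℕ) :
    IsClopen {t : X | CardAt P n t} := by
  obtain ⟨ι, U, hcov, hM⟩ := hP
  choose M instM finM eM using hM
  let A : Set X := {x | ∃ (i : ι) (y : (U i).left), (U i).hom y = x ∧ Nat.card (M i) = n}
  let B : Set X := {x | ∃ (i : ι) (y : (U i).left), (U i).hom y = x ∧ Nat.card (M i) ≠ n}
  have hopen : ∀ i, IsOpen (Set.range (U i).hom) := fun i => by
    haveI : Etale (U i).hom := (U i).prop
    exact (U i).hom.isOpenMap.isOpen_range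
  have hA : IsOpen A := by
    have : A = ⋃ (i : ι) (_ : Nat.card (M i) = n), Set.range (U i).hom := by
      ext x
      simp only [A, Set.mem_setOf_eq, Set.mem_iUnion, Set.mem_range, exists_prop]
      constructor
      · rintro ⟨i, y, hy, hs⟩
        exact ⟨i, hs, y, hy⟩
      · rintro ⟨i, hs, y, hy⟩
        exact ⟨i, y, hy, hs⟩
    rw [this]
    exact isOpen_iUnion fun i => isOpen_iUnion fun _ => hopen i
  have hB : IsOpen B := by
    have : B = ⋃ (i : ι) (_ : Nat.card (M i) ≠ n), Set.range (U i).hom := by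
      ext x
      simp only [B, Set.mem_setOf_eq, Set.mem_iUnion, Set.mem_range, exists_prop]
      constructor
      · rintro ⟨i, y, hy, hs⟩
        exact ⟨i, hs, y, hy⟩
      · rintro ⟨i, hs, y, hy⟩
        exact ⟨i, y, hy, hs⟩
    rw [this]
    exact isOpen_iUnion fun i => isOpen_iUnion fun _ => hopen i
  have key : ∀ (x : X) (i : ι) (y : (U i).left), (U i).hom y = x →
      ∀ (Ω : Type u) [Field Ω] [IsSepClosed Ω] (ξ : Spec (CommRingCat.of Ω) ⟶ X),
        Set.range ξ = {x} → Nat.card ((EtCoh.stalk ξ).obj P) = Nat.card (M i) := by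
    intro x i y hy Ω _ _ ξ hξ
    obtain ⟨u, -⟩ := Scheme.pointSmallEtaleFiberObjToPreimage_surjective ξ
      (default_of_range ξ hξ) (U i) ⟨y, hy⟩
    obtain ⟨e⟩ := eM i
    have h1 := card_eq_of_iso (FlcConn.stalkIso P ξ (U i) u _ e)
    refine h1.trans ?_
    exact Nat.card_congr Equiv.ulift
  have hSA : {t : X | CardAt P n t} = A := by
    ext x
    constructor
    · rintro ⟨Ω, i1, i2, ξ, hξ, hc⟩
      obtain ⟨i, y, hy⟩ := hcov x
      exact ⟨i, y, hy, (key x i y hy Ω ξ hξ).symm.trans hc⟩
    · rintro ⟨i, y, hy, hs⟩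
      exact ⟨_, inferInstance, inferInstance, FlcConn.geomPt x,
        range_of_default _ (FlcConn.geomPt_default x),
        (key x i y hy _ (FlcConn.geomPt x) (range_of_default _ (FlcConn.geomPt_default x))).trans
          hs⟩
  have hSB : {t : X | CardAt P n t} = Bᶜ := by
    rw [hSA]
    ext x
    constructor
    · rintro ⟨i, y, hy, hs⟩ ⟨i', y', hy', hs'⟩
      have h1 := key x i y hy _ (FlcConn.geomPt x) (range_of_default _ (FlcConn.geomPt_default x))
      have h2 := key x i' y' hy' _ (FlcConn.geomPt x)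
        (range_of_default _ (FlcConn.geomPt_default x))
      exact hs' ((h2.symm.trans h1).trans hs)
    · intro hx
      obtain ⟨i, y, hy⟩ := hcov x
      by_cases hs : Nat.card (M i) = n
      · exact ⟨i, y, hy, hs⟩
      · exact absurd ⟨i, y, hy, hs⟩ hx
  refine ⟨?_, ?_⟩
  · rw [hSB]
    exact hB.isClosed_compl
  · rw [hSA]
    exact hA

set_option backward.isDefEq.respectTransparency.types false in
set_option backward.isDefEq.respectTransparency false in
lemma cardAt_pull_iff {T : Scheme.{u}} (g : T ⟶ X) [IsImmersion g] (Q : EtCoh.Ab X) (n : ℕ)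
    (t : T) : CardAt ((EtCoh.pull g).obj Q) n t ↔ CardAt Q n (g t) := by
  constructor
  · rintro ⟨Ω, i1, i2, ξ', hξ', hc⟩
    have ht := default_of_range ξ' hξ'
    refine ⟨Ω, i1, i2, ξ' ≫ g, range_of_default _ (by
      change g (ξ' default) = g t
      rw [ht]), ?_⟩
    haveI := FinBC0.isIso_stk_unit g ξ' Q
    exact (card_eq_of_iso (asIso (FinBC0.stk g ξ' (FinBC0.unitG g Q)))).trans hc
  · rintro ⟨Ω, i1, i2, ξ, hξ, hc⟩
    obtain ⟨ξ', rfl⟩ := exists_lift_of_immersion g ξ t (default_of_range ξ hξ)
    have ht : ξ' default = t := by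
      apply g.isEmbedding.injective
      have := default_of_range _ hξ
      rw [← this]
      rfl
    refine ⟨Ω, i1, i2, ξ', range_of_default ξ' ht, ?_⟩
    haveI := FinBC0.isIso_stk_unit g ξ' Q
    exact (card_eq_of_iso (asIso (FinBC0.stk g ξ' (FinBC0.unitG g Q)))).symm.trans hc

theorem isConstructible_cardAt [CompactSpace X] [QuasiSeparatedSpace X] (Q : EtCoh.Ab X)
    (hQ : EtPBC.IsConstructible Q) (n : ℕ) : IsConstructible {x : X | CardAt Q n x} := by
  obtain ⟨ι, hι, T, g, h1, h2, h3, h4, h5⟩ :=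
    (Strata.adaptedStrata_iff Q ⊤).1 ((Groth.Agent.S0128.result X Q).1 hQ)
  have he : {x : X | CardAt Q n x} =
      ⋃ i, g i '' {t : T i | CardAt ((EtCoh.pull (g i)).obj Q) n t} := by
    ext x
    simp only [Set.mem_setOf_eq, Set.mem_iUnion, Set.mem_image]
    constructor
    · intro hx
      have hx' : x ∈ ⋃ i, Set.range (g i) := by rw [h4]; trivial
      obtain ⟨i, t, rfl⟩ := Set.mem_iUnion.1 hx'
      haveI := h1 i
      exact ⟨i, t, (cardAt_pull_iff (g i) Q n t).2 hx, rfl⟩
    · rintro ⟨i, t, ht, rfl⟩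
      haveI := h1 i
      exact (cardAt_pull_iff (g i) Q n t).1 ht
  rw [he]
  refine IsConstructible.iUnion fun i => ?_
  haveI := h1 i
  exact isConstructible_image_of_isClopen (g i)
    ((Strata.isConstructible_top_preimage_iff _).1 (h2 i))
    (isClopen_cardAt_of_flc _ (h5 i) n)

/-- the cardinality level sets of a constructible sheaf are locally constructible -/
theorem isLocallyConstructible_cardAt (F : EtCoh.Ab X) (hF : EtPBC.IsConstructible F) (n : ℕ) :
    IsLocallyConstructible {x : X | CardAt F n x} := by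
  intro x
  obtain ⟨U, hU, hxU, -⟩ := exists_isAffineOpen_mem_and_subset (x := x) (U := ⊤) trivial
  refine ⟨U, U.isOpen.mem_nhds hxU, U.isOpen, ?_⟩
  haveI : IsAffine (U : Scheme.{u}) := hU
  have hc : EtPBC.IsConstructible ((EtCoh.pull U.ι).obj F) := Groth.Agent.S0127.result U.ι F hF
  have h1 := isConstructible_cardAt _ hc n
  have h2 : ((Subtype.val : ((U : Set X) : Type u) → X) ⁻¹' {x : X | CardAt F n x}) =
      {t : (U : Scheme.{u}) | CardAt ((EtCoh.pull U.ι).obj F) n t} := by
    ext t
    simp only [Set.mem_preimage, Set.mem_setOf_eq]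
    exact (cardAt_pull_iff U.ι F n t).symm
  rw [h2]
  exact h1

end Groth.Agent.Lib.Helper23.CardLocus
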