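import Mathlib.AlgebraicGeometry.Morphisms.QuasiFinite
import Mathlib.AlgebraicGeometry.Morphisms.Etale
import Mathlib.AlgebraicGeometry.Noetherian
import Mathlib.RingTheory.Unramified.LocalStructure
import Mathlib.Topology.NoetherianSpace
import Mathlib.Topology.Sober

/-!
# Points over the generic point of an irreducible scheme along an etale morphism
-/

set_option autoImplicit false
universe u

namespace Groth.Agent.Lib.Helper23.GenericNbhd

open CategoryTheory AlgebraicGeometry Topology

lemma quasiFinite_of_etale {R S : Type*} [CommRing R] [CommRing S] (f : R →+* S)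
    (hf : f.Etale) : f.QuasiFinite := by
  algebraize [f]
  have : Algebra.Etale R S := hf
  change Algebra.QuasiFinite R S
  infer_instance

instance locallyQuasiFinite_of_etale {X Y : Scheme.{u}} (f : X ⟶ Y) [Etale f] :
    LocallyQuasiFinite f := by
  constructor
  intro U hU V hV e
  exact quasiFinite_of_etale _ (HasRingHomProperty.appLE @Etale f inferInstance ⟨U, hU⟩ ⟨V, hV⟩ e)

/-- in a noetherian quasi-sober space a point without proper generizations has an open
neighbourhood contained in its closure -/
lemma exists_isOpen_subset_closure {A : Type*} [TopologicalSpace A]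
    [TopologicalSpace.NoetherianSpace A] [QuasiSober A] (a : A) (ha : ∀ z : A, z ⤳ a → z = a) :
    ∃ Y : Set A, IsOpen Y ∧ a ∈ Y ∧ Y ⊆ closure {a} := by
  let 𝒵 : Set (Set A) := {Z | Z ∈ irreducibleComponents A ∧ a ∉ Z}
  have hfin : 𝒵.Finite :=
    (TopologicalSpace.NoetherianSpace.finite_irreducibleComponents (α := A)).subset
      (fun Z hZ => hZ.1)
  have hcl : IsClosed (⋃₀ 𝒵) := by
    rw [Set.sUnion_eq_biUnion]
    exact Set.Finite.isClosed_biUnion hfin
      (fun Z hZ => isClosed_of_mem_irreducibleComponents Z hZ.1)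
  refine ⟨(⋃₀ 𝒵)ᶜ, hcl.isOpen_compl, ?_, ?_⟩
  · rintro ⟨Z, hZ, haZ⟩
    exact hZ.2 haZ
  · intro y hy
    have hZ : irreducibleComponent y ∈ irreducibleComponents A :=
      irreducibleComponent_mem_irreducibleComponents y
    have haZ : a ∈ irreducibleComponent y := by
      by_contra h
      exact hy ⟨_, ⟨hZ, h⟩, mem_irreducibleComponent⟩
    obtain ⟨z, hz⟩ := QuasiSober.sober (isIrreducible_irreducibleComponent (x := y))
      isClosed_irreducibleComponent
    have hza : z ⤳ a := by
      rw [specializes_iff_mem_closure, hz.def]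
      exact haZ
    have hzeq := ha z hza
    rw [← hzeq, hz.def]
    exact mem_irreducibleComponent

/-- a point over the generic point of the target of an etale morphism has no proper
generization -/
lemma eq_of_specializes {W T : Scheme.{u}} (f : W ⟶ T) [Etale f] (tx : T)
    (htx : closure {tx} = Set.univ) (w₀ : W) (hw₀ : f w₀ = tx) (z : W) (hz : z ⤳ w₀) :
    z = w₀ := by
  have h1 : f z ⤳ tx := by
    rw [← hw₀]
    exact hz.map f.continuous
  have h2 : tx ⤳ f z := by
    rw [specializes_iff_mem_closure, htx]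
    trivial
  have hfz : f z = tx := (h1.antisymm h2).eq
  have hd : _root_.IsDiscrete (f ⁻¹' {tx}) := f.isDiscrete_preimage_singleton tx
  rw [isDiscrete_iff_forall_mem_exists_isOpen] at hd
  obtain ⟨O, hO, hOS⟩ := hd w₀ hw₀
  have hw₀O : w₀ ∈ O := by
    have : w₀ ∈ O ∩ f ⁻¹' {tx} := by rw [hOS]; rfl
    exact this.1
  have hzO : z ∈ O := hz.mem_open hO hw₀O
  have : z ∈ O ∩ f ⁻¹' {tx} := ⟨hzO, hfz⟩
  rw [hOS] at this
  exact this

/-- a point over the generic point of the target of an etale morphism from a locally noetherian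
scheme has an open neighbourhood contained in its closure -/
theorem exists_opens_subset_closure {W T : Scheme.{u}} (f : W ⟶ T) [Etale f]
    [IsLocallyNoetherian W] (tx : T) (htx : closure {tx} = Set.univ) (w₀ : W)
    (hw₀ : f w₀ = tx) : ∃ Y : W.Opens, w₀ ∈ Y ∧ (Y : Set W) ⊆ closure {w₀} := by
  obtain ⟨A, hA, hwA, -⟩ := exists_isAffineOpen_mem_and_subset (x := w₀) (U := ⊤) trivial
  haveI : IsNoetherianRing Γ(W, A) :=
    IsLocallyNoetherian.component_noetherian (⟨A, hA⟩ : W.affineOpens)
  haveI : TopologicalSpace.NoetherianSpace ((A : Set W) : Type u) :=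
    noetherianSpace_of_isAffineOpen A hA
  haveI : QuasiSober ((A : Set W) : Type u) := A.isOpen.isOpenEmbedding_subtypeVal.quasiSober
  let a : ((A : Set W) : Type u) := ⟨w₀, hwA⟩
  have ha : ∀ z : ((A : Set W) : Type u), z ⤳ a → z = a := by
    intro z hz
    have h1 : (z : W) ⤳ w₀ := hz.map continuous_subtype_val
    exact Subtype.ext (eq_of_specializes f tx htx w₀ hw₀ z h1)
  obtain ⟨Y', hY'o, haY', hY'c⟩ := exists_isOpen_subset_closure a ha
  refine ⟨⟨Subtype.val '' Y', A.isOpen.isOpenMap_subtype_val Y' hY'o⟩, ⟨a, haY', rfl⟩, ?_⟩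
  rintro _ ⟨y, hy, rfl⟩
  have h1 : y ∈ closure {a} := hY'c hy
  have h2 := image_closure_subset_closure_image (s := {a}) continuous_subtype_val
    (Set.mem_image_of_mem Subtype.val h1)
  rwa [Set.image_singleton] at h2

end Groth.Agent.Lib.Helper23.GenericNbhd
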