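import Groth.Agent.Lib.Helper23.GermLift
import Groth.Agent.Lib.Helper23.GenericNbhd
import Groth.Agent.Lib.Helper23.CardLocus
import Groth.Agent.Lib.Helper23.FlcSerre
import Groth.Agent.Lib.Helper23.StalkSurj

/-!
# A sheaf with finite stalks of constant cardinality on an irreducible locally noetherian scheme
is constant on a nonempty etale scheme
-/

set_option autoImplicit false
universe u

namespace Groth.Agent.Lib.Helper23.CardTriv

open CategoryTheory CategoryTheory.Limits AlgebraicGeometry Opposite GrothendieckTopology Topology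
open Groth.Agent.Lib.Helper23.FlcLoc Groth.Agent.Lib.Helper23.GenConst EtGlue EtCore

variable {T : Scheme.{u}}

section Core

variable (F' : EtCoh.Ab T) {Ω₁ : Type u} [Field Ω₁] [IsSepClosed Ω₁]
  (ξ₁ : Spec (CommRingCat.of Ω₁) ⟶ T) (Y : T.Etale)
  (y : (Scheme.pointSmallEtale ξ₁).fiber.obj Y)
  (s' : (Scheme.pointSmallEtale ξ₁).presheafFiber.obj F'.obj ⟶ F'.obj.obj (op Y))

/-- the stalk, as a group -/
noncomputable abbrev Mst : AddCommGrpCat.{u + 1} :=
  (Scheme.pointSmallEtale ξ₁).presheafFiber.obj F'.obj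

instance : Etale Y.hom := Y.prop

/-- the sheaf restricted to `Y` -/
noncomputable abbrev Hres : EtCoh.Ab Y.left := (EtShriek.restrAlong Y.hom).obj F'

/-- `top` over `Y`, in the site of `T` -/
noncomputable def e₀ : (EtShriek.compEtale Y.hom).obj (EtCoh.top Y.left) ⟶ Y :=
  toBase Y (EtCoh.top Y.left)

/-- the map from the constant sheaf given by the lifted sections -/
noncomputable def phi : (C Y.left).obj (Mst F' ξ₁) ⟶ Hres F' Y :=
  ((constAdj Y.left).homEquiv (Mst F' ξ₁) (Hres F' Y)).symm (s' ≫ F'.obj.map (e₀ Y).op)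

set_option backward.isDefEq.respectTransparency.types false in
set_option backward.isDefEq.respectTransparency false in
lemma phi_ts (V : Y.left.Etale) (m : Mst F' ξ₁) :
    (phi F' ξ₁ Y s').hom.app (op V) (ts (Mst F' ξ₁) V m) =
      F'.obj.map (toBase Y V).op (s' m) := by
  have h1 : (constAdj Y.left).unit.app (Mst F' ξ₁) ≫ (gsec Y.left).map (phi F' ξ₁ Y s') =
      s' ≫ F'.obj.map (e₀ Y).op := by
    have := (constAdj Y.left).homEquiv_unit (X := Mst F' ξ₁) (Y := Hres F' Y)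
      (f := phi F' ξ₁ Y s')
    rw [← this]
    exact ((constAdj Y.left).homEquiv _ _).apply_symm_apply _
  have h2 : (phi F' ξ₁ Y s').hom.app (op (EtCoh.top Y.left))
      (ts (Mst F' ξ₁) (EtCoh.top Y.left) m) = F'.obj.map (e₀ Y).op (s' m) :=
    congrArg (fun k => k m) h1
  let t : V ⟶ EtCoh.top Y.left := (topIsTerminal Y.left).from V
  rw [← ts_map_apply (Mst F' ξ₁) t m, nat_apply, h2]
  change F'.obj.map ((EtShriek.compEtale Y.hom).map t).op (F'.obj.map (e₀ Y).op (s' m)) = _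
  rw [← map_comp_apply]
  have hcomp : (EtShriek.compEtale Y.hom).map t ≫ e₀ Y = toBase Y V := by
    apply hom_ext_of_left
    change t.left ≫ (EtCoh.top Y.left).hom = V.hom
    exact MorphismProperty.Over.w t
  rw [hcomp]

variable (hs : s' ≫ (Scheme.pointSmallEtale ξ₁).toPresheafFiber Y y F'.obj = 𝟙 _)
  (hG : ∀ V : Y.left.Etale, Nonempty V.left →
    ∃ v : (Scheme.pointSmallEtale ξ₁).fiber.obj ((EtShriek.compEtale Y.hom).obj V),
      (Scheme.pointSmallEtale ξ₁).fiber.map (toBase Y V) v = y)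

include hs hG in
set_option backward.isDefEq.respectTransparency.types false in
set_option backward.isDefEq.respectTransparency false in
lemma eq_zero_of_phi_ts (V : Y.left.Etale) (hV : Nonempty V.left) (m : Mst F' ξ₁)
    (h : (phi F' ξ₁ Y s').hom.app (op V) (ts (Mst F' ξ₁) V m) = 0) : m = 0 := by
  let Φ := Scheme.pointSmallEtale ξ₁
  obtain ⟨v, hv⟩ := hG V hV
  rw [phi_ts] at h
  have h1 : Φ.toPresheafFiber Y y F'.obj (s' m) = m := congrArg (fun k => k m) hs
  rw [← h1, ← hv, ← Φ.toPresheafFiber_w_apply, h, map_zero]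

include hs hG in
set_option backward.isDefEq.respectTransparency.types false in
set_option backward.isDefEq.respectTransparency false in
lemma phi_injective (V : Y.left.Etale) :
    Function.Injective ((phi F' ξ₁ Y s').hom.app (op V)) := by
  rw [injective_iff_map_eq_zero]
  intro c hc
  apply EtSupp.eq_of_cover ((C Y.left).obj (Mst F' ξ₁)) V
  intro p
  obtain ⟨V₁, g₁, p₁, hp₁, hb⟩ := exists_const_of_sections (Mst F' ξ₁) (V := V) p
    (fun _ : Unit => c)
  obtain ⟨m, hm⟩ := hb ()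
  refine ⟨V₁, g₁, ⟨p₁, hp₁⟩, ?_⟩
  have h0 : (phi F' ξ₁ Y s').hom.app (op V₁) (ts (Mst F' ξ₁) V₁ m) = 0 := by
    rw [hm, nat_apply, hc, map_zero]
  have hm0 := eq_zero_of_phi_ts F' ξ₁ Y y s' hs hG V₁ ⟨p₁⟩ m h0
  rw [← hm, hm0, map_zero, map_zero]

include hs hG in
lemma mono_phi : Mono (phi F' ξ₁ Y s') :=
  Sheaf.mono_of_injective _ (fun V => by
    obtain ⟨V⟩ := V
    exact phi_injective F' ξ₁ Y y s' hs hG V)

include hs hG in
set_option backward.isDefEq.respectTransparency.types false in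
set_option backward.isDefEq.respectTransparency false in
set_option maxHeartbeats 1600000 in
lemma epi_phi
    (hfin : ∀ (Ω : Type u) [Field Ω] [IsSepClosed Ω] (ξ : Spec (CommRingCat.of Ω) ⟶ T),
      Finite ((EtCoh.stalk ξ).obj F'))
    (hcard : ∀ t : T, CardLocus.CardAt F' (Nat.card (Mst F' ξ₁)) t) :
    Epi (phi F' ξ₁ Y s') := by
  haveI := mono_phi F' ξ₁ Y y s' hs hG
  apply StalkLocal.epi_of_local_lift
  intro V σ' p
  let j : Y.left ⟶ T := Y.hom
  haveI : Etale V.hom := V.prop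
  let q : V.left ⟶ T := V.hom ≫ j
  obtain ⟨Ω, i1, i2, ξT, hξT, hc⟩ := hcard (q p)
  have hdef : ξT default = q p := SurjLocus.default_of_range ξT hξT
  obtain ⟨l, hl1, hl2⟩ := Scheme.exists_fac_of_etale_of_isSepClosed q ξT p hdef.symm
  subst hl1
  let ξY : Spec (CommRingCat.of Ω) ⟶ Y.left := l ≫ V.hom
  have hinj : Function.Injective ((EtCoh.stalk ξY).map (phi F' ξ₁ Y s')) :=
    (Groth.Agent.S0622.hmono _).1 inferInstance Ω ξY
  have e1 : (EtCoh.stalk ξY).obj ((C Y.left).obj (Mst F' ξ₁)) ≅ Mst F' ξ₁ :=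
    PointConst.sheafFiberConstIso (Scheme.pointSmallEtale ξY) (Mst F' ξ₁)
  haveI := FinBC0.isIso_stk_unit j ξY F'
  have e2 : (EtCoh.stalk ξY).obj (Hres F' Y) ≅ (EtCoh.stalk (ξY ≫ j)).obj F' :=
    (EtCoh.stalk ξY).mapIso ((EtRestr.pullIsoRestr j).app F').symm ≪≫
      (asIso (FinBC0.stk j ξY (FinBC0.unitG j F'))).symm
  have hassoc : ξY ≫ j = l ≫ q := Category.assoc _ _ _
  have hcard2 : Nat.card ((EtCoh.stalk ξY).obj (Hres F' Y)) = Nat.card (Mst F' ξ₁) := by
    rw [CardLocus.card_eq_of_iso e2, hassoc]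
    exact hc
  haveI : Finite ((EtCoh.stalk ξY).obj (Hres F' Y)) := by
    haveI := hfin Ω (ξY ≫ j)
    exact Finite.of_equiv _ e2.addCommGroupIsoToAddEquiv.toEquiv.symm
  have hbij := hinj.bijective_of_nat_card_le (by rw [hcard2, CardLocus.card_eq_of_iso e1])
  let v' : (Scheme.pointSmallEtale ξY).fiber.obj V := Over.homMk l rfl
  obtain ⟨V₁, g₁, w₁, hw₁, t₁, ht₁⟩ := StalkLocal.exists_local_lift ξY (phi F' ξ₁ Y s') hbij.2
    V v' σ'
  refine ⟨V₁, g₁, ⟨(w₁.left : Spec (CommRingCat.of Ω) ⟶ V₁.left)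
    (default : Spec (CommRingCat.of Ω)), ?_⟩, t₁, ht₁⟩
  have h3 : ((Scheme.pointSmallEtale ξY).fiber.map g₁ w₁).left = v'.left :=
    congrArg (fun k => k.left) hw₁
  have h4 : (w₁.left : Spec (CommRingCat.of Ω) ⟶ V₁.left) ≫ g₁.left = l := h3
  rw [← hl2, ← h4]
  rfl

end Core

section Main

set_option backward.isDefEq.respectTransparency.types false in
set_option backward.isDefEq.respectTransparency false in
set_option maxHeartbeats 1600000 in
/-- a sheaf on an irreducible locally noetherian scheme whose stalks are finite of constant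
cardinality is constant on a nonempty etale scheme -/
theorem exists_triv_of_card [IsLocallyNoetherian T] (F' : EtCoh.Ab T) (tx : T)
    (htx : closure {tx} = Set.univ) {Ω₁ : Type u} [Field Ω₁] [IsSepClosed Ω₁]
    (ξ₁ : Spec (CommRingCat.of Ω₁) ⟶ T) (hξ₁ : ξ₁ default = tx)
    (hfin : ∀ (Ω : Type u) [Field Ω] [IsSepClosed Ω] (ξ : Spec (CommRingCat.of Ω) ⟶ T),
      Finite ((EtCoh.stalk ξ).obj F'))
    (hcard : ∀ t : T, CardLocus.CardAt F' (Nat.card (Mst F' ξ₁)) t) :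
    ∃ Y : T.Etale, Nonempty Y.left ∧ Triv ((EtCoh.pull Y.hom).obj F') := by
  haveI hfinM : Finite (ToType ((Scheme.pointSmallEtale ξ₁).presheafFiber.obj F'.obj)) :=
    hfin Ω₁ ξ₁
  obtain ⟨W, w, s, hs⟩ := GermLift.exists_additive_lift ξ₁ F'
  let Wl : Scheme.{u} := W.left
  let f : Wl ⟶ T := W.hom
  haveI : Etale f := W.prop
  let wl : Spec (CommRingCat.of Ω₁) ⟶ Wl := w.left
  let w₀ : Wl := wl default
  have hwl : wl ≫ f = ξ₁ := Over.w w
  have hw₀ : f w₀ = tx := by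
    rw [← hξ₁, ← hwl]; rfl
  haveI : IsLocallyNoetherian Wl := LocallyOfFiniteType.isLocallyNoetherian f
  obtain ⟨Y₀, hwY₀, hY₀⟩ := GenericNbhd.exists_opens_subset_closure f tx htx w₀ hw₀
  have hYe : EtCoh.etaleMP (Y₀.ι ≫ f) := (inferInstance : Etale (Y₀.ι ≫ f))
  let Y : T.Etale := MorphismProperty.Over.mk ⊤ (Y₀.ι ≫ f) hYe
  let k : Y ⟶ W := MorphismProperty.Over.homMk Y₀.ι rfl trivial
  have hrange : Set.range wl ⊆ Set.range Y₀.ι := by
    rintro _ ⟨a, rfl⟩
    rw [Subsingleton.elim a default, Scheme.Opens.range_ι]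
    exact hwY₀
  let yl : Spec (CommRingCat.of Ω₁) ⟶ (Y₀ : Scheme.{u}) := IsOpenImmersion.lift Y₀.ι wl hrange
  have hyl : yl ≫ Y₀.ι = wl := IsOpenImmersion.lift_fac _ _ _
  have hylξ : yl ≫ (Y₀.ι ≫ f) = ξ₁ := by rw [← Category.assoc, hyl, hwl]
  let y : (Scheme.pointSmallEtale ξ₁).fiber.obj Y := Over.homMk yl hylξ
  have hky : (Scheme.pointSmallEtale ξ₁).fiber.map k y = w := by
    apply Over.OverMorphism.ext
    exact hyl
  let s' : Mst F' ξ₁ ⟶ F'.obj.obj (op Y) := s ≫ F'.obj.map k.op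
  have hs' : s' ≫ (Scheme.pointSmallEtale ξ₁).toPresheafFiber Y y F'.obj = 𝟙 _ := by
    rw [Category.assoc, (Scheme.pointSmallEtale ξ₁).toPresheafFiber_w, hky, hs]
  let y₀ : (Y₀ : Scheme.{u}) := yl default
  have hy₀ : Y₀.ι y₀ = w₀ := by
    change (yl ≫ Y₀.ι) default = wl default
    rw [hyl]
  have hG : ∀ V : Y.left.Etale, Nonempty V.left →
      ∃ v : (Scheme.pointSmallEtale ξ₁).fiber.obj ((EtShriek.compEtale Y.hom).obj V),
        (Scheme.pointSmallEtale ξ₁).fiber.map (toBase Y V) v = y := by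
    intro V hV
    obtain ⟨p⟩ := hV
    haveI : Etale V.hom := V.prop
    let q : V.left ⟶ (Y₀ : Scheme.{u}) := V.hom
    have hO : IsOpen (Y₀.ι '' Set.range q) :=
      Y₀.ι.isOpenEmbedding.isOpenMap _ q.isOpenMap.isOpen_range
    have hz : Y₀.ι (q p) ∈ closure {w₀} := hY₀ (by
      have h1 : Y₀.ι (q p) ∈ Set.range Y₀.ι := ⟨_, rfl⟩
      rwa [Scheme.Opens.range_ι] at h1)
    obtain ⟨z, hzO, hz'⟩ := mem_closure_iff.1 hz _ hO ⟨q p, ⟨p, rfl⟩, rfl⟩
    rw [Set.mem_singleton_iff] at hz'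
    subst hz'
    obtain ⟨z', ⟨p', hp'⟩, hz'⟩ := hzO
    have hp'' : q p' = yl default := by
      apply Y₀.ι.isOpenEmbedding.injective
      rw [hp', hz']
      exact hy₀.symm
    obtain ⟨l, hl1, hl2⟩ := Scheme.exists_fac_of_etale_of_isSepClosed q yl p' hp''
    have hlξ : l ≫ ((EtShriek.compEtale Y.hom).obj V).hom = ξ₁ := by
      change l ≫ (q ≫ (Y₀.ι ≫ f)) = ξ₁
      rw [← Category.assoc, hl1, hylξ]
    refine ⟨Over.homMk l hlξ, ?_⟩
    apply Over.OverMorphism.ext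
    exact hl1
  haveI := mono_phi F' ξ₁ Y y s' hs' hG
  haveI := epi_phi F' ξ₁ Y y s' hs' hG hfin hcard
  haveI : IsIso (phi F' ξ₁ Y s') := isIso_of_mono_of_epi _
  refine ⟨Y, ⟨y₀⟩, Mst F' ξ₁, hfinM, ⟨(EtRestr.pullIsoRestr Y.hom).app F' ≪≫
    (asIso (phi F' ξ₁ Y s')).symm⟩⟩

end Main

end Groth.Agent.Lib.Helper23.CardTriv
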