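import Mathlib
import Groth.Prelude.Def_CechOX
import Groth.Agent.Lib.Helper16.QCohSigma
import Groth.Agent.Lib.Helper28.QCohPush
import Groth.Agent.Lib.Helper23.DimOne.Affine
/-!
# Helper23 — CechQC: terms of the Čech complex of sheaves are quasi-coherent
-/

set_option autoImplicit false
universe u
open CategoryTheory CategoryTheory.Limits AlgebraicGeometry Opposite TopologicalSpace

namespace Groth.Agent.Lib.Helper23.CechQC

variable {X : Scheme.{u}}

theorem piObj_eq_iInf {α : Type} (V : α → X.Opens) [HasProduct V] : (∏ᶜ V : X.Opens) = ⨅ a, V a := by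
  apply le_antisymm
  · exact le_iInf fun a => (Pi.π V a).le
  · exact (Pi.lift (fun a => homOfLE (iInf_le V a)) : (⨅ a, V a) ⟶ ∏ᶜ V).le

theorem isAffineOpen_iInf_fin [X.IsSeparated] : ∀ (n : ℕ) (V : Fin (n + 1) → X.Opens),
    (∀ a, IsAffineOpen (V a)) → IsAffineOpen (⨅ a, V a)
  | 0, V, hV => by
    have : (⨅ a, V a) = V 0 := by
      apply le_antisymm (iInf_le V 0)
      refine le_iInf fun a => ?_
      have : a = 0 := Fin.ext (by have := a.2; simp only [Fin.val_zero]; omega)
      rw [this]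
    rw [this]; exact hV 0
  | n + 1, V, hV => by
    have : (⨅ a, V a) = V 0 ⊓ ⨅ a : Fin (n + 1), V a.succ := by
      apply le_antisymm
      · exact le_inf (iInf_le V 0) (le_iInf fun a => iInf_le V a.succ)
      · refine le_iInf fun a => ?_
        refine Fin.cases ?_ (fun b => ?_) a
        · exact inf_le_left
        · exact inf_le_right.trans (iInf_le (fun a : Fin (n + 1) => V a.succ) b)
    rw [this]
    exact (hV 0).inf (isAffineOpen_iInf_fin n (fun a => V a.succ) fun a => hV a.succ)

theorem quasiCompact_ι_of_isAffineOpen [X.IsSeparated] {W : X.Opens} (hW : IsAffineOpen W) :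
    QuasiCompact W.ι := by
  rw [quasiCompact_iff_forall_isAffineOpen]
  intro V hV
  exact (Groth.Agent.Lib.Helper23.DimOne.isAffineOpen_ι_preimage W V (hW.inf hV)).isCompact

theorem isQCoh_pushRestr [X.IsSeparated] {W : X.Opens} (hW : IsAffineOpen W) (F : X.Modules)
    [Coh.IsQCoh F] : Coh.IsQCoh ((CechOX.pushRestr W).obj F) := by
  have := quasiCompact_ι_of_isAffineOpen hW
  have : F.IsQuasicoherent := ‹_›
  have : ((Scheme.Modules.restrictFunctor W.ι).obj F).IsQuasicoherent := inferInstance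
  exact Groth.Agent.Lib.Helper28.QCohLoc.isQuasicoherent_pushforward W.ι _

theorem isQCoh_pi_of_finite {J : Type u} (hJ : Finite J) (G : J → X.Modules) [HasProduct G]
    (hG : ∀ j, Coh.IsQCoh (G j)) : Coh.IsQCoh (∏ᶜ G) := by
  have : ∀ j, (G j).IsQuasicoherent := hG
  have : HasBiproduct G := HasBiproduct.of_hasProduct G
  have h := Groth.Agent.Lib.Helper16.QCohSigma.isQuasicoherent_sigma G
  exact (SheafOfModules.isQuasicoherent.{u} X.ringCatSheaf).prop_of_iso
    ((biproduct.isoCoproduct G).symm ≪≫ biproduct.isoProduct G) h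

variable {ι : Type u} (𝒰 : ι → X.Opens) (F : X.Modules) (p : ℕ)

theorem isQCoh_cechSh_X [X.IsSeparated] [Finite ι] (h𝒰 : ∀ i, IsAffineOpen (𝒰 i)) [Coh.IsQCoh F] :
    Coh.IsQCoh (((CechOX.cechSh 𝒰).obj F).X p) := by
  unfold CechOX.cechSh cechComplexFunctor
  simp only [Functor.comp_obj, FormalCoproduct.cochainComplexFunctor_obj_X]
  refine isQCoh_pi_of_finite (show Finite (Fin (p + 1) → ι) from inferInstance) _ (fun i => ?_)
  show Coh.IsQCoh ((CechOX.pushRestr (∏ᶜ (𝒰 ∘ i))).obj F)
  refine isQCoh_pushRestr ?_ F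
  rw [piObj_eq_iInf]
  exact isAffineOpen_iInf_fin p _ (fun a => h𝒰 (i a))

end Groth.Agent.Lib.Helper23.CechQC
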