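import Groth.Agent.Lib.Helper23.FinPushStalk

/-!
# Naturality of the comparison map for the stalk of a finite direct image
-/

set_option autoImplicit false
universe u

namespace Groth.Agent.Lib.Helper23.FinPushStalk

open CategoryTheory CategoryTheory.Limits AlgebraicGeometry Opposite GrothendieckTopology
open EtLocalRing FinPushFiber EtGlue FinPushGeom

variable {X Y : Scheme.{u}} (f : X ⟶ Y) [IsFinite f] {Ω : Type u} [Field Ω] [IsAlgClosed Ω]
  (η : Spec (CommRingCat.of Ω) ⟶ Y)

section Nat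

universe v' u'

variable {A : Type u'} [Category.{v'} A] [HasColimitsOfSize.{u, u} A]

lemma germ_θcomp (F : X.Etaleᵒᵖ ⥤ A) (ξ : Lifts f η) (V : Y.Etale)
    (v : (Scheme.pointSmallEtale η).fiber.obj V) :
    (Scheme.pointSmallEtale η).toPresheafFiber V v ((EtCoh.bc f).op ⋙ F) ≫ θcomp f η F ξ =
      (Scheme.pointSmallEtale ξ.1).toPresheafFiber ((EtCoh.bc f).obj V)
        (liftpt ξ.1 ξ.2 V v) F :=
  (Scheme.pointSmallEtale η).toPresheafFiber_presheafFiberDesc
    (P := (EtCoh.bc f).op ⋙ F) _ _ V v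

lemma θcomp_naturality {F G : X.Etaleᵒᵖ ⥤ A} (φ : F ⟶ G) (ξ : Lifts f η) :
    (Scheme.pointSmallEtale η).presheafFiber.map (Functor.whiskerLeft (EtCoh.bc f).op φ) ≫
        θcomp f η G ξ =
      θcomp f η F ξ ≫ (Scheme.pointSmallEtale ξ.1).presheafFiber.map φ := by
  apply (Scheme.pointSmallEtale η).presheafFiber_hom_ext
  intro V v
  rw [Point.toPresheafFiber_naturality_assoc, germ_θcomp, ← Category.assoc, germ_θcomp,
    Point.toPresheafFiber_naturality]
  rfl

end Nat

end Groth.Agent.Lib.Helper23.FinPushStalk
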