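import Groth.Agent.Lib.Helper23.FinBC0
import Groth.Agent.Lib.Helper23.FinPushStalk2
import Groth.Agent.S0622

/-!
# Decomposition of a sheaf along finitely many finite morphisms which are jointly bijective on
geometric points
-/

set_option autoImplicit false
universe u

namespace Groth.Agent.Lib.Helper23.ClopenDecomp

open CategoryTheory CategoryTheory.Limits AlgebraicGeometry Opposite GrothendieckTopology
open FinPushFiber FinPushGeom FinPushStalk FinBC0

section Rel

variable {Y' Y : Scheme.{u}} (g : Y' ⟶ Y) [IsFinite g] {Ω : Type u} [Field Ω] [IsAlgClosed Ω]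
  (η' : Spec (CommRingCat.of Ω) ⟶ Y')

set_option backward.isDefEq.respectTransparency.types false in
set_option backward.isDefEq.respectTransparency false in
lemma stk_eq {A : EtCoh.Ab Y} {B : EtCoh.Ab Y'} (γ : A ⟶ (EtCoh.push g).obj B) :
    stk g η' γ = (Scheme.pointSmallEtale (η' ≫ g)).presheafFiber.map γ.hom ≫
      θcomp g (η' ≫ g) B.obj ⟨η', rfl⟩ := by
  apply (Scheme.pointSmallEtale (η' ≫ g)).presheafFiber_hom_ext
  intro V v
  rw [germ_stk, ← Category.assoc, Point.toPresheafFiber_naturality, Category.assoc]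
  erw [germ_θcomp]
  rfl

end Rel

section Joint

/-- evaluation of morphisms of abelian groups at an element, as an additive map -/
def evalAt {P Q : AddCommGrpCat.{u + 1}} (w : P) : (P ⟶ Q) →+ Q where
  toFun f := f w
  map_zero' := rfl
  map_add' _ _ := rfl

lemma joint_inj {Z : Scheme.{u}} (S : EtCoh.Ab Z ⥤ AddCommGrpCat.{u + 1}) [S.Additive] {n : ℕ}
    (G : Fin n → EtCoh.Ab Z) (w w' : S.obj (⨁ G))
    (h : ∀ i, S.map (biproduct.π G i) w = S.map (biproduct.π G i) w') : w = w' := by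
  have h1 : 𝟙 (S.obj (⨁ G)) = ∑ i, S.map (biproduct.π G i) ≫ S.map (biproduct.ι G i) := by
    rw [← S.map_id, ← biproduct.total, S.map_sum]
    simp only [S.map_comp]
  have h2 : ∀ v : S.obj (⨁ G), v = ∑ i, S.map (biproduct.ι G i) (S.map (biproduct.π G i) v) := by
    intro v
    have e := congrArg (fun m => evalAt v m) h1
    simp only [map_sum] at e
    exact e
  rw [h2 w, h2 w']
  exact Finset.sum_congr rfl (fun i _ => by rw [h i])

end Joint

section Decomp

variable {Z : Scheme.{u}} {n : ℕ} (T : Fin n → Scheme.{u}) (a : ∀ i, T i ⟶ Z)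

/-- the summands `a_{i*} a_i^* F` -/
noncomputable def G (F : EtCoh.Ab Z) (i : Fin n) : EtCoh.Ab Z :=
  (EtCoh.push (a i)).obj ((EtCoh.pull (a i)).obj F)

/-- the canonical map `F ⟶ ⨁ a_{i*} a_i^* F` -/
noncomputable def φ (F : EtCoh.Ab Z) : F ⟶ ⨁ (G T a F) :=
  biproduct.lift (fun i => unitG (a i) F)

set_option backward.isDefEq.respectTransparency.types false in
set_option backward.isDefEq.respectTransparency false in
theorem isIso_φ [∀ i, IsFinite (a i)] [∀ i, Mono (a i)]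
    (hex : ∀ (Ω : Type u) [Field Ω] [IsAlgClosed Ω] (x : Spec (CommRingCat.of Ω) ⟶ Z),
      ∃ (i : Fin n) (ξ : Spec (CommRingCat.of Ω) ⟶ T i), ξ ≫ a i = x)
    (huniq : ∀ (Ω : Type u) [Field Ω] [IsAlgClosed Ω] (i j : Fin n)
      (ξ : Spec (CommRingCat.of Ω) ⟶ T i) (ξ' : Spec (CommRingCat.of Ω) ⟶ T j),
      ξ ≫ a i = ξ' ≫ a j → i = j)
    (F : EtCoh.Ab Z) : IsIso (φ T a F) := by
  apply isIso_of_stalks
  intro Ω _ _ x
  obtain ⟨i₀, ξ₀, rfl⟩ := hex Ω x
  let S := EtCoh.stalk (ξ₀ ≫ a i₀)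
  haveI : S.Additive := Groth.Agent.S0622.i3 _
  change Function.Bijective (S.map (φ T a F))
  have hU : Function.Bijective (stk (a i₀) ξ₀ (unitG (a i₀) F)) := by
    have := isIso_stk_unit (a i₀) ξ₀ F
    exact ConcreteCategory.bijective_of_isIso _
  have hcomp : ∀ i, φ T a F ≫ biproduct.π _ i = unitG (a i) F := fun i => biproduct.lift_π _ _
  have hcomp' : ∀ i z, S.map (biproduct.π (G T a F) i) (S.map (φ T a F) z) =
      S.map (unitG (a i) F) z := fun i z => by
    rw [← hcomp i, S.map_comp]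
    rfl
  have hstk : ∀ z, stk (a i₀) ξ₀ (unitG (a i₀) F) z =
      θcomp (a i₀) (ξ₀ ≫ a i₀) ((EtCoh.pull (a i₀)).obj F).obj ⟨ξ₀, rfl⟩
        (S.map (unitG (a i₀) F) z) := fun z => by
    have := stk_eq (a i₀) ξ₀ (unitG (a i₀) F)
    exact congrArg (fun m => m z) this
  constructor
  · intro z z' h
    apply hU.1
    rw [hstk, hstk, ← hcomp' i₀ z, ← hcomp' i₀ z', h]
  · intro w
    obtain ⟨z, hz⟩ := hU.2 (θcomp (a i₀) (ξ₀ ≫ a i₀) ((EtCoh.pull (a i₀)).obj F).obj ⟨ξ₀, rfl⟩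
      (S.map (biproduct.π (G T a F) i₀) w))
    refine ⟨z, ?_⟩
    apply joint_inj S (G T a F)
    intro i
    rw [hcomp' i z]
    have hsheaf : Presheaf.IsSheaf (T i).smallEtaleTopology
        (((EtCoh.pull (a i)).obj F).obj ⋙ forget AddCommGrpCat.{u+1}) :=
      (Presheaf.isSheaf_iff_isSheaf_forget _ _ (forget AddCommGrpCat.{u+1})).1
        ((EtCoh.pull (a i)).obj F).property
    apply θ_injective (a i) (ξ₀ ≫ a i₀) ((EtCoh.pull (a i)).obj F).obj hsheaf
    intro ξ
    obtain rfl : i = i₀ := huniq Ω i i₀ ξ.1 ξ₀ ξ.2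
    have hξ : ξ = ⟨ξ₀, rfl⟩ := Subtype.ext ((cancel_mono (a i)).1 ξ.2)
    rw [hξ, ← hstk, hz]

end Decomp

end Groth.Agent.Lib.Helper23.ClopenDecomp
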