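import Groth.Agent.Lib.Helper23.SpecPush
import Groth.Agent.S3403
import Groth.Agent.S0127

/-!
# Sheaves all of whose specialization maps are isomorphisms
-/

set_option autoImplicit false
universe u

namespace Groth.Agent.Lib.Helper23.SpecIso

open CategoryTheory CategoryTheory.Limits AlgebraicGeometry Opposite GrothendieckTopology Topology
open Groth.Agent.Lib.Helper23.FlcLoc Groth.Agent.Lib.Helper23.GenConst EtGlue EtCore
open Groth.Agent.Lib.Helper23.CardTriv Groth.Agent.Lib.Helper23.SpecPush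

variable {X : Scheme.{u}}

section Claim1

variable (F : EtCoh.Ab X) (W : X.Etale) {Ω Ω' : Type u} [Field Ω] [IsSepClosed Ω] [Field Ω']
  [IsSepClosed Ω'] (ζ : Spec (CommRingCat.of Ω) ⟶ W.left) (ζ' : Spec (CommRingCat.of Ω') ⟶ W.left)
  (s' : Mst F (ζ ≫ W.hom) ⟶ F.obj.obj (op W))
  (hs : s' ≫ (Scheme.pointSmallEtale (ζ ≫ W.hom)).toPresheafFiber W (taut W ζ) F.obj = 𝟙 _)
  (φ : Scheme.pointSmallEtale (ζ' ≫ W.hom) ⟶ Scheme.pointSmallEtale (ζ ≫ W.hom))
  (hφ : φ.hom.app W (taut W ζ) = taut W ζ')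

include hs hφ in
set_option backward.isDefEq.respectTransparency.types false in
set_option backward.isDefEq.respectTransparency false in
set_option maxHeartbeats 1600000 in
theorem injective_stalk_phi
    (hsp : Function.Injective
      ((GrothendieckTopology.Point.Hom.sheafFiber (A := AddCommGrpCat.{u + 1}) φ).app F)) :
    Function.Injective ((EtCoh.stalk ζ').map (phi F (ζ ≫ W.hom) W s')) := by
  let Φ' := Scheme.pointSmallEtale ζ'
  let M := Mst F (ζ ≫ W.hom)
  rw [injective_iff_map_eq_zero]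
  intro a ha
  obtain ⟨V, v, c, hc⟩ := Φ'.toPresheafFiber_jointly_surjective a
  haveI : Etale V.hom := V.prop
  let vl : Spec (CommRingCat.of Ω') ⟶ V.left := v.left
  have hvw : vl ≫ V.hom = ζ' := Over.w v
  obtain ⟨V₁, g₁, p₁, hp₁, hb⟩ := exists_const_of_sections M (V := V) (vl default)
    (fun _ : Unit => c)
  obtain ⟨m, hm⟩ := hb ()
  let g₁l : V₁.left ⟶ V.left := g₁.left
  have hg₁w : g₁l ≫ V.hom = V₁.hom := MorphismProperty.Over.w g₁
  have hg₁e : EtCoh.etaleMP g₁l := by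
    have h1 : EtCoh.etaleMP (g₁l ≫ V.hom) := by rw [hg₁w]; exact V₁.prop
    exact EtCoh.etaleMP.of_postcomp (W' := EtCoh.etaleMP) g₁l V.hom V.prop h1
  haveI : Etale g₁l := hg₁e
  obtain ⟨l₁, hl₁, -⟩ := Scheme.exists_fac_of_etale_of_isSepClosed g₁l vl p₁ hp₁
  have hl₁w : l₁ ≫ V₁.hom = ζ' := by rw [← hg₁w, ← Category.assoc, hl₁, hvw]
  let v₁ : Φ'.fiber.obj V₁ := Over.homMk l₁ hl₁w
  have hv₁ : Φ'.fiber.map g₁ v₁ = v := by
    apply Over.OverMorphism.ext
    exact hl₁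
  have ha1 : Φ'.toPresheafFiber V v ((C W.left).obj M).obj c =
      Φ'.toPresheafFiber V₁ v₁ ((C W.left).obj M).obj (ts M V₁ m) := by
    rw [hm, Φ'.toPresheafFiber_w_apply, hv₁]
  have ha2 : a = Φ'.toPresheafFiber V₁ v₁ ((C W.left).obj M).obj (ts M V₁ m) :=
    hc.symm.trans ha1
  rw [ha2] at ha ⊢
  have h2 : (EtCoh.stalk ζ').map (phi F (ζ ≫ W.hom) W s')
      (Φ'.toPresheafFiber V₁ v₁ ((C W.left).obj M).obj (ts M V₁ m)) =
      Φ'.toPresheafFiber V₁ v₁ (Hres F W).obj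
        ((phi F (ζ ≫ W.hom) W s').hom.app (op V₁) (ts M V₁ m)) :=
    Φ'.toPresheafFiber_naturality_apply _ _ _ _
  rw [h2, phi_ts] at ha
  have ha' : Φ'.toPresheafFiber V₁ v₁ (Hres F W).obj (F.obj.map (toBase W V₁).op (s' m)) =
      Φ'.toPresheafFiber V₁ v₁ (Hres F W).obj 0 := by rw [ha, map_zero]
  rw [Φ'.toPresheafFiber_eq_iff'] at ha'
  obtain ⟨V₂, g₂, v₂, hv₂, hg₂⟩ := ha'
  have hz : F.obj.map (toBase W V₂).op (s' m) = 0 := by
    have hcomp : toBase W V₂ = (EtShriek.compEtale W.hom).map g₂ ≫ toBase W V₁ := by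
      apply hom_ext_of_left
      change V₂.hom = g₂.left ≫ V₁.hom
      exact (MorphismProperty.Over.w g₂).symm
    rw [hcomp, map_comp_apply]
    exact hg₂.trans (map_zero _)
  let Φx' := Scheme.pointSmallEtale (ζ' ≫ W.hom)
  let v₂l : Spec (CommRingCat.of Ω') ⟶ V₂.left := v₂.left
  have hv₂w : v₂l ≫ V₂.hom = ζ' := Over.w v₂
  have hvt : v₂l ≫ ((EtShriek.compEtale W.hom).obj V₂).hom = ζ' ≫ W.hom := by
    change v₂l ≫ (V₂.hom ≫ W.hom) = ζ' ≫ W.hom
    rw [← Category.assoc, hv₂w]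
  let vt : Φx'.fiber.obj ((EtShriek.compEtale W.hom).obj V₂) := Over.homMk v₂l hvt
  have hvt' : Φx'.fiber.map (toBase W V₂) vt = taut W ζ' := by
    apply Over.OverMorphism.ext
    exact hv₂w
  have h3 : Φx'.toPresheafFiber W (taut W ζ') F.obj (s' m) = 0 := by
    rw [← hvt', ← Φx'.toPresheafFiber_w_apply, hz, map_zero]
  have h4 := SpecMono.sp_germ φ F W (taut W ζ) (s' m)
  rw [hφ, h3] at h4
  have h5 : (Scheme.pointSmallEtale (ζ ≫ W.hom)).toPresheafFiber W (taut W ζ) F.obj (s' m) = m :=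
    congrArg (fun k => k m) hs
  rw [h5] at h4
  have hm0 : m = 0 := hsp (h4.trans (map_zero _).symm)
  rw [hm0, map_zero, map_zero]

include hs hφ in
set_option backward.isDefEq.respectTransparency.types false in
set_option backward.isDefEq.respectTransparency false in
set_option maxHeartbeats 1600000 in
theorem bijective_stalk_phi (hfinM : Finite (Mst F (ζ ≫ W.hom)))
    (hsp : IsIso ((GrothendieckTopology.Point.Hom.sheafFiber (A := AddCommGrpCat.{u + 1}) φ).app F)) :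
    Function.Bijective ((EtCoh.stalk ζ').map (phi F (ζ ≫ W.hom) W s')) := by
  have hspb : Function.Bijective
      ((GrothendieckTopology.Point.Hom.sheafFiber (A := AddCommGrpCat.{u + 1}) φ).app F) :=
    (ConcreteCategory.isIso_iff_bijective _).1 hsp
  have hinj := injective_stalk_phi F W ζ ζ' s' hs φ hφ hspb.1
  have e1 : (EtCoh.stalk ζ').obj ((C W.left).obj (Mst F (ζ ≫ W.hom))) ≅ Mst F (ζ ≫ W.hom) :=
    PointConst.sheafFiberConstIso (Scheme.pointSmallEtale ζ') (Mst F (ζ ≫ W.hom))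
  haveI := FinBC0.isIso_stk_unit W.hom ζ' F
  have e2 : (EtCoh.stalk ζ').obj (Hres F W) ≅ (EtCoh.stalk (ζ' ≫ W.hom)).obj F :=
    (EtCoh.stalk ζ').mapIso ((EtRestr.pullIsoRestr W.hom).app F).symm ≪≫
      (asIso (FinBC0.stk W.hom ζ' (FinBC0.unitG W.hom F))).symm
  have e3 : (EtCoh.stalk (ζ ≫ W.hom)).obj F ≅ (EtCoh.stalk (ζ' ≫ W.hom)).obj F := asIso
    ((GrothendieckTopology.Point.Hom.sheafFiber (A := AddCommGrpCat.{u + 1}) φ).app F)
  have e4 : (EtCoh.stalk ζ').obj (Hres F W) ≅ Mst F (ζ ≫ W.hom) := e2 ≪≫ e3.symm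
  haveI : Finite ((EtCoh.stalk ζ').obj (Hres F W)) :=
    Finite.of_equiv _ e4.addCommGroupIsoToAddEquiv.toEquiv.symm
  exact hinj.bijective_of_nat_card_le (by
    rw [CardLocus.card_eq_of_iso e4, CardLocus.card_eq_of_iso e1])

end Claim1

section Exact

variable {Y : Scheme.{u}} {P Q : EtCoh.Ab Y} (f : P ⟶ Q) {Ω : Type u} [Field Ω] [IsSepClosed Ω]
  (ξ : Spec (CommRingCat.of Ω) ⟶ Y)

open Groth.Agent.S0622 in
lemma isZero_stalk_kernel (h : Function.Injective ((EtCoh.stalk ξ).map f)) :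
    IsZero ((EtCoh.stalk ξ).obj (kernel f)) := by
  haveI : Subsingleton ((EtCoh.stalk ξ).obj (kernel f)) := by
    refine ⟨fun a b => ?_⟩
    have hι : Function.Injective ((EtCoh.stalk ξ).map (kernel.ι f)) :=
      (Groth.Agent.S0622.hmono (kernel.ι f)).1 inferInstance Ω ξ
    apply hι
    apply h
    have h0 : (EtCoh.stalk ξ).map (kernel.ι f) ≫ (EtCoh.stalk ξ).map f = 0 := by
      rw [← Functor.map_comp, kernel.condition, Functor.map_zero]
    have ha : (EtCoh.stalk ξ).map f ((EtCoh.stalk ξ).map (kernel.ι f) a) = 0 :=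
      congrArg (fun k => k a) h0
    have hb : (EtCoh.stalk ξ).map f ((EtCoh.stalk ξ).map (kernel.ι f) b) = 0 :=
      congrArg (fun k => k b) h0
    rw [ha, hb]
  exact AddCommGrpCat.isZero_of_subsingleton _

open Groth.Agent.S0622 in
lemma isZero_stalk_cokernel (h : Function.Surjective ((EtCoh.stalk ξ).map f)) :
    IsZero ((EtCoh.stalk ξ).obj (cokernel f)) := by
  haveI : Subsingleton ((EtCoh.stalk ξ).obj (cokernel f)) := by
    have hπ : Function.Surjective ((EtCoh.stalk ξ).map (cokernel.π f)) :=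
      (Groth.Agent.S0622.hepi (cokernel.π f)).1 inferInstance Ω ξ
    have h0 : (EtCoh.stalk ξ).map f ≫ (EtCoh.stalk ξ).map (cokernel.π f) = 0 := by
      rw [← Functor.map_comp, cokernel.condition, Functor.map_zero]
    have hz : ∀ a : (EtCoh.stalk ξ).obj (cokernel f), a = 0 := by
      intro a
      obtain ⟨b, rfl⟩ := hπ a
      obtain ⟨c, rfl⟩ := h b
      exact congrArg (fun k => k c) h0
    exact ⟨fun a b => (hz a).trans (hz b).symm⟩
  exact AddCommGrpCat.isZero_of_subsingleton _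

open Groth.Agent.S0622 in
lemma injective_of_isZero_stalk_kernel (h : IsZero ((EtCoh.stalk ξ).obj (kernel f))) :
    Function.Injective ((EtCoh.stalk ξ).map f) := by
  let S : ShortComplex (EtCoh.Ab Y) := ShortComplex.mk (kernel.ι f) f (kernel.condition f)
  have hS : S.Exact := ShortComplex.exact_of_f_is_kernel S (kernelIsKernel f)
  have hS' := ((Groth.Agent.S0622.result S f).1.1 hS) Ω ξ
  rw [ShortComplex.ab_exact_iff] at hS'
  rw [injective_iff_map_eq_zero]
  intro a ha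
  obtain ⟨k, hk⟩ := hS' a ha
  have hsub : Subsingleton ((S.map (EtCoh.stalk ξ)).X₁) :=
    AddCommGrpCat.subsingleton_of_isZero h
  have hk0 : k = 0 := hsub.elim _ _
  rw [← hk, hk0]
  exact map_zero _

open Groth.Agent.S0622 in
lemma surjective_of_isZero_stalk_cokernel (h : IsZero ((EtCoh.stalk ξ).obj (cokernel f))) :
    Function.Surjective ((EtCoh.stalk ξ).map f) := by
  let S : ShortComplex (EtCoh.Ab Y) := ShortComplex.mk f (cokernel.π f) (cokernel.condition f)
  have hS : S.Exact := ShortComplex.exact_of_g_is_cokernel S (cokernelIsCokernel f)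
  have hS' := ((Groth.Agent.S0622.result S f).1.1 hS) Ω ξ
  rw [ShortComplex.ab_exact_iff] at hS'
  intro b
  have hsub : Subsingleton ((S.map (EtCoh.stalk ξ)).X₃) :=
    AddCommGrpCat.subsingleton_of_isZero h
  exact hS' b (hsub.elim _ _)

end Exact

section Pull

variable {T Y : Scheme.{u}} (g : T ⟶ Y) {Ω : Type u} [Field Ω] [IsSepClosed Ω]
  (η' : Spec (CommRingCat.of Ω) ⟶ T)

lemma injective_stalk_pull_iff {A A' : EtCoh.Ab Y} (φ : A ⟶ A') :
    Function.Injective ((EtCoh.stalk η').map ((EtCoh.pull g).map φ)) ↔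
      Function.Injective ((EtCoh.stalk (η' ≫ g)).map φ) := by
  haveI := FinBC0.isIso_stk_unit g η' A
  haveI := FinBC0.isIso_stk_unit g η' A'
  have h := StalkSurj.stk_unit_naturality g η' φ
  have hb : Function.Bijective (FinBC0.stk g η' (FinBC0.unitG g A)) :=
    ConcreteCategory.bijective_of_isIso _
  have hb' : Function.Bijective (FinBC0.stk g η' (FinBC0.unitG g A')) :=
    ConcreteCategory.bijective_of_isIso _
  have h1 : ∀ z, ((EtCoh.stalk η').map ((EtCoh.pull g).map φ))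
      (FinBC0.stk g η' (FinBC0.unitG g A) z) =
      FinBC0.stk g η' (FinBC0.unitG g A') (((EtCoh.stalk (η' ≫ g)).map φ) z) := fun z =>
    congrArg (fun k => k z) h
  constructor
  · intro hs y y' hyy'
    apply hb.1
    apply hs
    rw [h1, h1, hyy']
  · intro hs w w' hww'
    obtain ⟨z, rfl⟩ := hb.2 w
    obtain ⟨z', rfl⟩ := hb.2 w'
    rw [h1, h1] at hww'
    rw [hs (hb'.1 hww')]

end Pull

section Main

open Groth.Agent.Lib.Helper23.SurjLocus Groth.Agent.Lib.Helper23.ConstrNoeth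

lemma flc_const (Y : Scheme.{u}) (M : AddCommGrpCat.{u + 1}) (hM : Finite M) :
    EtCoh.IsFiniteLocallyConstant ((C Y).obj M) := by
  rw [flc_iff_locTriv]
  intro y
  refine ⟨EtCoh.top Y, y, rfl, ?_⟩
  exact Triv.pull _ ⟨M, hM, ⟨Iso.refl _⟩⟩

lemma isIndConstructible_of_isConstructible {A : Type*} [TopologicalSpace A] {E : Set A}
    (hE : IsConstructible E) : ProCons.IsIndConstructible E := by
  intro x
  refine ⟨Set.univ, isOpen_univ, trivial, {Subtype.val ⁻¹' E}, ?_, by simp⟩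
  intro T hT
  rw [Set.mem_singleton_iff] at hT
  subst hT
  exact (hE.preimage_of_isOpenEmbedding
    isOpen_univ.isOpenEmbedding_subtypeVal).isLocallyConstructible

set_option backward.isDefEq.respectTransparency.types false in
set_option backward.isDefEq.respectTransparency false in
set_option maxHeartbeats 1600000 in
/-- if all specialization maps into `ζ` are isomorphisms, a constructible sheaf is constant near
the point of `ζ` -/
theorem exists_triv_of_taut (F : EtCoh.Ab X) (hF : EtPBC.IsConstructible F) (Y : X.Etale)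
    [IsAffine Y.left] {Ω : Type u} [Field Ω] [IsSepClosed Ω]
    (ζ : Spec (CommRingCat.of Ω) ⟶ Y.left)
    (s' : Mst F (ζ ≫ Y.hom) ⟶ F.obj.obj (op Y))
    (hs : s' ≫ (Scheme.pointSmallEtale (ζ ≫ Y.hom)).toPresheafFiber Y (taut Y ζ) F.obj = 𝟙 _)
    (hfinM : Finite (Mst F (ζ ≫ Y.hom)))
    (hiso : ∀ (Ω' : Type u) [Field Ω'] [IsSepClosed Ω'] (ξ' : Spec (CommRingCat.of Ω') ⟶ X)
      (φ : Scheme.pointSmallEtale ξ' ⟶ Scheme.pointSmallEtale (ζ ≫ Y.hom)),
      IsIso ((GrothendieckTopology.Point.Hom.sheafFiber (A := AddCommGrpCat.{u + 1}) φ).app F)) :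
    ∃ A₁ : Y.left.Opens, ζ default ∈ A₁ ∧
      Triv ((EtCoh.pull A₁.ι).obj ((EtCoh.pull Y.hom).obj F)) := by
  let Yl : Scheme.{u} := Y.left
  let M := Mst F (ζ ≫ Y.hom)
  let P : (C Yl).obj M ⟶ Hres F Y := phi F (ζ ≫ Y.hom) Y s'
  have hbij : ∀ (Ω' : Type u) [Field Ω'] [IsSepClosed Ω'] (ζ' : Spec (CommRingCat.of Ω') ⟶ Yl),
      ζ' default ⤳ ζ default → Function.Bijective ((EtCoh.stalk ζ').map P) := by
    intro Ω' _ _ ζ' hsp
    obtain ⟨ψ⟩ := SpecArrow.exists_arrow ζ ζ' hsp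
    exact bijective_stalk_phi F Y ζ ζ' s' hs (pushArrow Y.hom ζ ζ' ψ) (pushArrow_taut Y ζ ζ' ψ)
      hfinM (hiso _ _ _)
  have hCM : EtPBC.IsConstructible ((C Yl).obj M) :=
    constructible_of_flc _ (flc_const Yl M hfinM)
  have hH : EtPBC.IsConstructible (Hres F Y) :=
    Strata.constructible_of_iso ((EtRestr.pullIsoRestr Y.hom).app F)
      (Groth.Agent.S0127.result Y.hom F hF)
  obtain ⟨hK, hQ⟩ := Strata.constructible_kernel_cokernel P hCM hH
  have hEK := isConstructible_stalkZero (X := Yl) (kernel P) hK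
  have hEQ := isConstructible_stalkZero (X := Yl) (cokernel P) hQ
  let E : Set Yl := {z | StalkZeroAt (kernel P) z} ∩ {z | StalkZeroAt (cokernel P) z}
  have hE : IsConstructible E := hEK.inter hEQ
  have hgen : ∀ z : Yl, z ⤳ ζ default → z ∈ E := by
    intro z hz
    constructor
    · intro Ω' _ _ ζ' hζ'
      have h1 : ζ' default = z := default_of_range ζ' hζ'
      exact isZero_stalk_kernel P ζ' (hbij Ω' ζ' (h1 ▸ hz)).1
    · intro Ω' _ _ ζ' hζ'
      have h1 : ζ' default = z := default_of_range ζ' hζ'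
      exact isZero_stalk_cokernel P ζ' (hbij Ω' ζ' (h1 ▸ hz)).2
  have hint : ζ default ∈ interior E :=
    (Groth.Agent.S3403.result Yl E (isIndConstructible_of_isConstructible hE) (ζ default)).2 hgen
  let A₁ : Yl.Opens := ⟨interior E, isOpen_interior⟩
  refine ⟨A₁, hint, ?_⟩
  have hptE : ∀ {Ω' : Type u} [Field Ω'] (a : Spec (CommRingCat.of Ω') ⟶ (A₁ : Scheme.{u})),
      (a ≫ A₁.ι) default ∈ E := by
    intro Ω' _ a
    have h1 : A₁.ι (a default) ∈ Set.range A₁.ι := ⟨_, rfl⟩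
    rw [Scheme.Opens.range_ι] at h1
    exact interior_subset h1
  have hmono : Mono ((EtCoh.pull A₁.ι).map P) := by
    rw [Groth.Agent.S0622.hmono]
    intro Ω' _ _ a
    rw [injective_stalk_pull_iff A₁.ι a P]
    apply injective_of_isZero_stalk_kernel
    exact (hptE a).1 Ω' (a ≫ A₁.ι) (range_of_default _ rfl)
  have hepi : Epi ((EtCoh.pull A₁.ι).map P) := by
    rw [Groth.Agent.S0622.hepi]
    intro Ω' _ _ a
    rw [StalkSurj.surjective_stalk_pull_iff A₁.ι a P]
    apply surjective_of_isZero_stalk_cokernel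
    exact (hptE a).2 Ω' (a ≫ A₁.ι) (range_of_default _ rfl)
  haveI : IsIso ((EtCoh.pull A₁.ι).map P) := isIso_of_mono_of_epi _
  have h0 : Triv ((EtCoh.pull A₁.ι).obj ((C Yl).obj M)) :=
    Triv.pull A₁.ι ⟨M, hfinM, ⟨Iso.refl _⟩⟩
  exact h0.of_iso (asIso ((EtCoh.pull A₁.ι).map P) ≪≫
    (EtCoh.pull A₁.ι).mapIso ((EtRestr.pullIsoRestr Y.hom).app F).symm)

set_option backward.isDefEq.respectTransparency.types false in
set_option backward.isDefEq.respectTransparency false in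
lemma exists_triv_aux (F : EtCoh.Ab X) (hF : EtPBC.IsConstructible F)
    {Ω : Type u} [Field Ω] [IsSepClosed Ω] (ξ : Spec (CommRingCat.of Ω) ⟶ X) (Y : X.Etale)
    [IsAffine Y.left] (yl : Spec (CommRingCat.of Ω) ⟶ Y.left) (hylξ : yl ≫ Y.hom = ξ)
    (s' : Mst F ξ ⟶ F.obj.obj (op Y))
    (hs : s' ≫ (Scheme.pointSmallEtale ξ).toPresheafFiber Y (Over.homMk yl hylξ) F.obj = 𝟙 _)
    (hfinM : Finite (Mst F ξ))
    (hiso : ∀ (Ω' : Type u) [Field Ω'] [IsSepClosed Ω'] (ξ' : Spec (CommRingCat.of Ω') ⟶ X)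
      (φ : Scheme.pointSmallEtale ξ' ⟶ Scheme.pointSmallEtale ξ),
      IsIso ((GrothendieckTopology.Point.Hom.sheafFiber (A := AddCommGrpCat.{u + 1}) φ).app F)) :
    ∃ A₁ : Y.left.Opens, yl default ∈ A₁ ∧
      Triv ((EtCoh.pull A₁.ι).obj ((EtCoh.pull Y.hom).obj F)) := by
  subst hylξ
  exact exists_triv_of_taut F hF Y yl s' hs hfinM hiso

set_option backward.isDefEq.respectTransparency.types false in
set_option backward.isDefEq.respectTransparency false in
set_option maxHeartbeats 1600000 in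
/-- a constructible sheaf all of whose specialization maps into `ξ` are isomorphisms is constant
on an etale neighbourhood of `ξ` -/
theorem exists_triv_of_sp_iso (F : EtCoh.Ab X) (hF : EtPBC.IsConstructible F)
    {Ω : Type u} [Field Ω] [IsSepClosed Ω] (ξ : Spec (CommRingCat.of Ω) ⟶ X)
    (hfinξ : Finite ((EtCoh.stalk ξ).obj F))
    (hiso : ∀ (Ω' : Type u) [Field Ω'] [IsSepClosed Ω'] (ξ' : Spec (CommRingCat.of Ω') ⟶ X)
      (φ : Scheme.pointSmallEtale ξ' ⟶ Scheme.pointSmallEtale ξ),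
      IsIso ((GrothendieckTopology.Point.Hom.sheafFiber (A := AddCommGrpCat.{u + 1}) φ).app F)) :
    ∃ (U' : X.Etale) (u' : U'.left), U'.hom u' = ξ default ∧
      Triv ((EtCoh.pull U'.hom).obj F) := by
  let Φ₀ := Scheme.pointSmallEtale ξ
  haveI hfinM : Finite (ToType (Φ₀.presheafFiber.obj F.obj)) := hfinξ
  obtain ⟨W, w, s, hs⟩ := GermLift.exists_additive_lift ξ F
  let Wl : Scheme.{u} := W.left
  let f : Wl ⟶ X := W.hom
  haveI : Etale f := W.prop
  let wl : Spec (CommRingCat.of Ω) ⟶ Wl := w.left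
  let w₀ : Wl := wl default
  have hwl : wl ≫ f = ξ := Over.w w
  obtain ⟨Y₀, hY₀, hw₀Y₀, -⟩ := exists_isAffineOpen_mem_and_subset (x := w₀) (U := ⊤) trivial
  have hYe : EtCoh.etaleMP (Y₀.ι ≫ f) := (inferInstance : Etale (Y₀.ι ≫ f))
  let Y : X.Etale := MorphismProperty.Over.mk ⊤ (Y₀.ι ≫ f) hYe
  let k : Y ⟶ W := MorphismProperty.Over.homMk Y₀.ι rfl trivial
  have hrange : Set.range wl ⊆ Set.range Y₀.ι := by
    rintro _ ⟨a, rfl⟩
    rw [Subsingleton.elim a default, Scheme.Opens.range_ι]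
    exact hw₀Y₀
  let yl : Spec (CommRingCat.of Ω) ⟶ (Y₀ : Scheme.{u}) := IsOpenImmersion.lift Y₀.ι wl hrange
  have hyl : yl ≫ Y₀.ι = wl := IsOpenImmersion.lift_fac _ _ _
  have hylξ : yl ≫ (Y₀.ι ≫ f) = ξ := by rw [← Category.assoc, hyl, hwl]
  let y : Φ₀.fiber.obj Y := Over.homMk yl hylξ
  have hky : Φ₀.fiber.map k y = w := by
    apply Over.OverMorphism.ext
    exact hyl
  let s' : Φ₀.presheafFiber.obj F.obj ⟶ F.obj.obj (op Y) := s ≫ F.obj.map k.op
  have hs' : s' ≫ Φ₀.toPresheafFiber Y y F.obj = 𝟙 _ := by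
    rw [Category.assoc, Φ₀.toPresheafFiber_w, hky, hs]
  haveI : IsAffine Y.left := hY₀
  obtain ⟨A₁, hA₁, hT⟩ := exists_triv_aux F hF ξ Y yl hylξ s' hs' hfinM hiso
  have hVe : EtCoh.etaleMP A₁.ι := (inferInstance : Etale A₁.ι)
  let V : Y.left.Etale := MorphismProperty.Over.mk ⊤ A₁.ι hVe
  have hv : yl default ∈ Set.range A₁.ι := by
    rw [Scheme.Opens.range_ι]
    exact hA₁
  obtain ⟨v, hv⟩ := hv
  obtain ⟨U', u', hu', hU'⟩ := exists_of_trans Y V v
  refine ⟨U', u', ?_, hU' F hT⟩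
  rw [hu']
  change (Y₀.ι ≫ f) (A₁.ι v) = ξ default
  rw [hv]
  change (yl ≫ (Y₀.ι ≫ f)) default = ξ default
  rw [hylξ]

end Main

end Groth.Agent.Lib.Helper23.SpecIso
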