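import Groth.Agent.Lib.Helper23.StrataRefine
import Groth.Agent.Lib.Helper23.SpecIso
import Mathlib.CategoryTheory.Limits.Constructions.FiniteProductsOfBinaryProducts

/-!
# Finite direct sums of constructible sheaves
-/

set_option autoImplicit false
universe u

namespace Groth.Agent.Lib.Helper23.ConstrSum

open CategoryTheory CategoryTheory.Limits AlgebraicGeometry Opposite
open Groth.Agent.Lib.Helper23.Strata Groth.Agent.Lib.Helper23.FlcLoc

variable {X : Scheme.{u}}

lemma constructible_of_isZero {Z : EtCoh.Ab X} (hZ : IsZero Z) : EtPBC.IsConstructible Z := by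
  let M : AddCommGrpCat.{u + 1} := AddCommGrpCat.of PUnit.{u + 2}
  have hM : Finite M := inferInstanceAs (Finite PUnit.{u + 2})
  have hC : EtPBC.IsConstructible ((C X).obj M) :=
    ConstrNoeth.constructible_of_flc _ (SpecIso.flc_const X M hM)
  have h := (constructible_kernel_cokernel (𝟙 ((C X).obj M)) hC hC).2
  have hz : IsZero (cokernel (𝟙 ((C X).obj M))) := isZero_cokernel_of_epi _
  exact constructible_of_iso (hz.iso hZ) h

lemma constructible_biprod {F G : EtCoh.Ab X} (hF : EtPBC.IsConstructible F)
    (hG : EtPBC.IsConstructible G) : EtPBC.IsConstructible (F ⊞ G) := by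
  let S : ShortComplex (EtCoh.Ab X) := ShortComplex.mk (biprod.inl : F ⟶ F ⊞ G) biprod.snd (by simp)
  have hS : S.ShortExact := by
    refine ShortComplex.Splitting.shortExact ?_
    exact { r := biprod.fst, s := biprod.inr, f_r := by simp [S], s_g := by simp [S],
            id := by simp [S] }
  exact constructible_extension hS hF hG

theorem constructible_biproduct : ∀ (n : ℕ) (F : Fin n → EtCoh.Ab X),
    (∀ i, EtPBC.IsConstructible (F i)) → EtPBC.IsConstructible (⨁ F)
  | 0, F, _ => by
    apply constructible_of_isZero
    rw [IsZero.iff_id_eq_zero]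
    apply biproduct.hom_ext
    intro i
    exact i.elim0
  | n + 1, F, h => by
    have ih := constructible_biproduct n (fun i => F i.succ) (fun i => h i.succ)
    have h2 := constructible_biprod (h 0) ih
    let c₁ : Fan (fun i : Fin n => F i.succ) := (biproduct.bicone (fun i : Fin n => F i.succ)).toCone
    have hc₁ : IsLimit c₁ := biproduct.isLimit _
    let c₂ : BinaryFan (F 0) c₁.pt := (BinaryBiproduct.bicone (F 0) (⨁ fun i : Fin n => F i.succ)).toCone
    have hc₂ : IsLimit c₂ := BinaryBiproduct.isLimit _ _
    have hl := extendFanIsLimit F hc₁ hc₂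
    have e : (F 0 ⊞ ⨁ fun i : Fin n => F i.succ) ≅ ⨁ F :=
      hl.conePointUniqueUpToIso (biproduct.isLimit F)
    exact constructible_of_iso e h2

end Groth.Agent.Lib.Helper23.ConstrSum
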