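import Groth.Agent.Lib.Helper23.SpecIso

/-!
# Specialization maps of locally constant sheaves are isomorphisms
-/

set_option autoImplicit false
universe u

namespace Groth.Agent.Lib.Helper23.SpecIso2

open CategoryTheory CategoryTheory.Limits AlgebraicGeometry Opposite GrothendieckTopology Topology
open Groth.Agent.Lib.Helper23.FlcLoc Groth.Agent.Lib.Helper23.GenConst EtGlue EtCore
open Groth.Agent.Lib.Helper23.CardTriv Groth.Agent.Lib.Helper23.SpecPush

variable {X : Scheme.{u}}

section Beta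

variable (F : EtCoh.Ab X) (Y : X.Etale) (B : AddCommGrpCat.{u + 1})
  (a : (C Y.left).obj B ≅ Hres F Y)

/-- the constant sections of a sheaf which is constant over `Y` -/
noncomputable def sig (b : B) :
    F.obj.obj (op ((EtShriek.compEtale Y.hom).obj (EtCoh.top Y.left))) :=
  a.hom.hom.app (op (EtCoh.top Y.left)) (ts B (EtCoh.top Y.left) b)

variable {Ω : Type u} [Field Ω] [IsSepClosed Ω] (ξ : Spec (CommRingCat.of Ω) ⟶ X)
  (q : (Scheme.pointSmallEtale ξ).fiber.obj ((EtShriek.compEtale Y.hom).obj (EtCoh.top Y.left)))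

/-- the germs of the constant sections -/
noncomputable def beta (b : B) : (EtCoh.stalk ξ).obj F :=
  (Scheme.pointSmallEtale ξ).toPresheafFiber _ q F.obj (sig F Y B a b)

set_option backward.isDefEq.respectTransparency.types false in
set_option backward.isDefEq.respectTransparency false in
set_option maxHeartbeats 1600000 in
lemma beta_injective : Function.Injective (beta F Y B a ξ q) := by
  let Φ := Scheme.pointSmallEtale ξ
  intro b b' hbb
  have h0 : Φ.toPresheafFiber _ q F.obj (sig F Y B a b) =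
      Φ.toPresheafFiber _ q F.obj (sig F Y B a b') := hbb
  rw [Φ.toPresheafFiber_eq_iff'] at h0
  obtain ⟨V', k, q', hq', hk⟩ := h0
  obtain ⟨W'', g', e, he, hesurj⟩ := exists_lift_etale Y (EtCoh.top Y.left) V' k
  have h1 : ∀ c : B, F.obj.map ((EtShriek.compEtale Y.hom).map g').op (sig F Y B a c) =
      a.hom.hom.app (op W'') (ts B W'' c) := by
    intro c
    change (Hres F Y).obj.map g'.op (a.hom.hom.app (op (EtCoh.top Y.left))
      (ts B (EtCoh.top Y.left) c)) = _
    rw [← nat_apply, ts_map_apply]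
  have h2 : a.hom.hom.app (op W'') (ts B W'' b) = a.hom.hom.app (op W'') (ts B W'' b') := by
    rw [← h1, ← h1, he, map_comp_apply, map_comp_apply, hk]
  have h3 : ts B W'' b = ts B W'' b' := by
    have h4 : ∀ t : ((C Y.left).obj B).obj.obj (op W''),
        a.inv.hom.app (op W'') (a.hom.hom.app (op W'') t) = t := by
      intro t
      have := congrArg (fun m => m.hom.app (op W'')) a.hom_inv_id
      exact congrArg (fun m => m t) this
    rw [← h4 (ts B W'' b), h2, h4]
  let q'l : Spec (CommRingCat.of Ω) ⟶ V'.left := q'.left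
  obtain ⟨p, -⟩ := hesurj (q'l default)
  exact ts_injective B W'' p h3

set_option backward.isDefEq.respectTransparency.types false in
set_option backward.isDefEq.respectTransparency false in
set_option maxHeartbeats 1600000 in
include a q in
lemma nonempty_stalk_iso :
    Nonempty ((EtCoh.stalk ξ).obj F ≅ B) := by
  let ql : Spec (CommRingCat.of Ω) ⟶ Y.left := q.left
  have hq : ql ≫ Y.hom = ξ := by
    have h1 : ql ≫ (𝟙 Y.left ≫ Y.hom) = ξ := Over.w q
    rwa [Category.id_comp] at h1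
  have e1 : (EtCoh.stalk ql).obj ((C Y.left).obj B) ≅ B :=
    PointConst.sheafFiberConstIso (Scheme.pointSmallEtale ql) B
  haveI := FinBC0.isIso_stk_unit Y.hom ql F
  have e2 : (EtCoh.stalk ql).obj (Hres F Y) ≅ (EtCoh.stalk (ql ≫ Y.hom)).obj F :=
    (EtCoh.stalk ql).mapIso ((EtRestr.pullIsoRestr Y.hom).app F).symm ≪≫
      (asIso (FinBC0.stk Y.hom ql (FinBC0.unitG Y.hom F))).symm
  have e3 : (EtCoh.stalk (ql ≫ Y.hom)).obj F ≅ B :=
    e2.symm ≪≫ (EtCoh.stalk ql).mapIso a.symm ≪≫ e1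
  exact hq ▸ ⟨e3⟩

lemma beta_bijective (hB : Finite B) : Function.Bijective (beta F Y B a ξ q) := by
  obtain ⟨e⟩ := nonempty_stalk_iso F Y B a ξ q
  haveI : Finite ((EtCoh.stalk ξ).obj F) :=
    Finite.of_equiv _ e.addCommGroupIsoToAddEquiv.toEquiv.symm
  exact (beta_injective F Y B a ξ q).bijective_of_nat_card_le
    (by rw [CardLocus.card_eq_of_iso e])

end Beta

set_option backward.isDefEq.respectTransparency.types false in
set_option backward.isDefEq.respectTransparency false in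
set_option maxHeartbeats 1600000 in
/-- if `F` is constant over an etale neighbourhood `Y` of `ξ`, every specialization map into `ξ`
is an isomorphism -/
theorem isIso_sp_of_triv (F : EtCoh.Ab X) (Y : X.Etale) (hT : Triv ((EtCoh.pull Y.hom).obj F))
    {Ω Ω' : Type u} [Field Ω] [IsSepClosed Ω] [Field Ω'] [IsSepClosed Ω']
    (ξ : Spec (CommRingCat.of Ω) ⟶ X) (ξ' : Spec (CommRingCat.of Ω') ⟶ X)
    (φ : Scheme.pointSmallEtale ξ' ⟶ Scheme.pointSmallEtale ξ)
    (y : (Scheme.pointSmallEtale ξ).fiber.obj Y) :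
    IsIso ((GrothendieckTopology.Point.Hom.sheafFiber (A := AddCommGrpCat.{u + 1}) φ).app F) := by
  obtain ⟨B, hB, ⟨a₀⟩⟩ := hT
  let a : (C Y.left).obj B ≅ Hres F Y := a₀.symm ≪≫ (EtRestr.pullIsoRestr Y.hom).app F
  let yl : Spec (CommRingCat.of Ω) ⟶ Y.left := y.left
  have hyl : yl ≫ Y.hom = ξ := Over.w y
  have hq0 : yl ≫ ((EtShriek.compEtale Y.hom).obj (EtCoh.top Y.left)).hom = ξ := by
    change yl ≫ (𝟙 Y.left ≫ Y.hom) = ξ
    rw [Category.id_comp, hyl]
  let q : (Scheme.pointSmallEtale ξ).fiber.obj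
      ((EtShriek.compEtale Y.hom).obj (EtCoh.top Y.left)) := Over.homMk yl hq0
  let q' := φ.hom.app ((EtShriek.compEtale Y.hom).obj (EtCoh.top Y.left)) q
  have hb := beta_bijective F Y B a ξ q hB
  have hb' := beta_bijective F Y B a ξ' q' hB
  have hcomp : ∀ b : B,
      (GrothendieckTopology.Point.Hom.sheafFiber (A := AddCommGrpCat.{u + 1}) φ).app F
        (beta F Y B a ξ q b) = beta F Y B a ξ' q' b := fun b =>
    SpecMono.sp_germ φ F _ q (sig F Y B a b)
  rw [ConcreteCategory.isIso_iff_bijective]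
  constructor
  · intro c₁ c₂ h
    obtain ⟨b₁, rfl⟩ := hb.2 c₁
    obtain ⟨b₂, rfl⟩ := hb.2 c₂
    rw [hcomp, hcomp] at h
    rw [hb'.1 h]
  · intro c
    obtain ⟨b, rfl⟩ := hb'.2 c
    exact ⟨_, hcomp b⟩

set_option backward.isDefEq.respectTransparency.types false in
set_option backward.isDefEq.respectTransparency false in
/-- the stalk of a sheaf which is constant over an etale neighbourhood -/
lemma nonempty_stalk_iso_of_triv (F : EtCoh.Ab X) (Y : X.Etale)
    {Ω : Type u} [Field Ω] [IsSepClosed Ω] (ξ : Spec (CommRingCat.of Ω) ⟶ X)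
    (y : (Scheme.pointSmallEtale ξ).fiber.obj Y) (B : AddCommGrpCat.{u + 1})
    (a₀ : (EtCoh.pull Y.hom).obj F ≅ (C Y.left).obj B) :
    Nonempty ((EtCoh.stalk ξ).obj F ≅ B) := by
  let a : (C Y.left).obj B ≅ Hres F Y := a₀.symm ≪≫ (EtRestr.pullIsoRestr Y.hom).app F
  let yl : Spec (CommRingCat.of Ω) ⟶ Y.left := y.left
  have hyl : yl ≫ Y.hom = ξ := Over.w y
  have hq0 : yl ≫ ((EtShriek.compEtale Y.hom).obj (EtCoh.top Y.left)).hom = ξ := by
    change yl ≫ (𝟙 Y.left ≫ Y.hom) = ξ
    rw [Category.id_comp, hyl]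
  let q : (Scheme.pointSmallEtale ξ).fiber.obj
      ((EtShriek.compEtale Y.hom).obj (EtCoh.top Y.left)) := Over.homMk yl hq0
  exact nonempty_stalk_iso F Y B a ξ q

set_option backward.isDefEq.respectTransparency.types false in
set_option backward.isDefEq.respectTransparency false in
/-- a geometric point lifts to an etale neighbourhood of its image point -/
lemma exists_fiber_of_mem {Ω : Type u} [Field Ω] [IsSepClosed Ω]
    (ξ : Spec (CommRingCat.of Ω) ⟶ X) (Y : X.Etale) (y₀ : Y.left) (h : Y.hom y₀ = ξ default) :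
    Nonempty ((Scheme.pointSmallEtale ξ).fiber.obj Y) := by
  haveI : Etale Y.hom := Y.prop
  obtain ⟨l, hl, -⟩ := Scheme.exists_fac_of_etale_of_isSepClosed Y.hom ξ y₀ h
  exact ⟨Over.homMk l hl⟩

/-- finite locally constant sheaves have finite stalks -/
lemma finite_stalk_of_flc (G : EtCoh.Ab X) (hG : EtCoh.IsFiniteLocallyConstant G)
    {Ω : Type u} [Field Ω] [IsSepClosed Ω] (ξ : Spec (CommRingCat.of Ω) ⟶ X) :
    Finite ((EtCoh.stalk ξ).obj G) := by
  obtain ⟨U, u, hu, B, hB, ⟨a₀⟩⟩ := (flc_iff_locTriv G).1 hG (ξ default)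
  obtain ⟨y⟩ := exists_fiber_of_mem ξ U u hu
  obtain ⟨e⟩ := nonempty_stalk_iso_of_triv G U ξ y B a₀
  exact Finite.of_equiv _ e.addCommGroupIsoToAddEquiv.toEquiv.symm

/-- constructible sheaves have finite stalks -/
lemma finite_stalk_of_constructible (F : EtCoh.Ab X) (hF : EtPBC.IsConstructible F)
    {Ω : Type u} [Field Ω] [IsSepClosed Ω] (ξ : Spec (CommRingCat.of Ω) ⟶ X) :
    Finite ((EtCoh.stalk ξ).obj F) := by
  obtain ⟨V, T, g, hg, hxV, hr, hflc⟩ := ConstrNoeth.exists_flc_on_closure F hF (ξ default)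
  haveI := hg
  have hxr : ξ default ∈ Set.range g := by rw [hr]; exact ⟨hxV, subset_closure rfl⟩
  obtain ⟨tx, htx⟩ := hxr
  obtain ⟨ξ₁, rfl⟩ := SurjLocus.exists_lift_of_immersion g ξ tx htx.symm
  haveI := FinBC0.isIso_stk_unit g ξ₁ F
  have h0 := finite_stalk_of_flc _ hflc ξ₁
  exact @Finite.of_equiv _ _ h0
    (asIso (FinBC0.stk g ξ₁ (FinBC0.unitG g F))).addCommGroupIsoToAddEquiv.toEquiv.symm

set_option backward.isDefEq.respectTransparency.types false in
set_option backward.isDefEq.respectTransparency false in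
/-- a sheaf which is constant on an etale scheme is finite locally constant on its open image -/
theorem flc_on_range_of_triv {T : Scheme.{u}} (G : EtCoh.Ab T) (W₁ : T.Etale)
    (hT1 : Triv ((EtCoh.pull W₁.hom).obj G)) (T' : T.Opens)
    (hT' : (T' : Set T) = Set.range W₁.hom) :
    EtCoh.IsFiniteLocallyConstant ((EtCoh.pull T'.ι).obj G) := by
  haveI : Etale W₁.hom := W₁.prop
  rw [flc_iff_locTriv]
  intro t'
  obtain ⟨w, hw⟩ : (T'.ι t') ∈ Set.range W₁.hom := by
    rw [← hT']
    have h1 : T'.ι t' ∈ Set.range T'.ι := ⟨_, rfl⟩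
    rwa [Scheme.Opens.range_ι] at h1
  have hr : Set.range W₁.hom ⊆ Set.range T'.ι := by
    rw [Scheme.Opens.range_ι, hT']
  let k : W₁.left ⟶ T' := IsOpenImmersion.lift T'.ι W₁.hom hr
  have hk : k ≫ T'.ι = W₁.hom := IsOpenImmersion.lift_fac _ _ _
  have hke : EtCoh.etaleMP k := by
    have h1 : EtCoh.etaleMP (k ≫ T'.ι) := by rw [hk]; exact W₁.prop
    have h2 : EtCoh.etaleMP T'.ι := (inferInstance : Etale T'.ι)
    exact EtCoh.etaleMP.of_postcomp (W' := EtCoh.etaleMP) k T'.ι h2 h1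
  refine ⟨MorphismProperty.Over.mk ⊤ k hke, w, ?_, ?_⟩
  · apply T'.ι.isOpenEmbedding.injective
    change (k ≫ T'.ι) w = T'.ι t'
    rw [hk]
    exact hw
  · change Triv ((EtCoh.pull k).obj ((EtCoh.pull T'.ι).obj G))
    exact hT1.of_iso ((pullCongr hk.symm).app G ≪≫ (pullComp k T'.ι).app G)

end Groth.Agent.Lib.Helper23.SpecIso2
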