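import Groth.Agent.Lib.Helper23.GenConst
import Groth.Agent.S0622

/-!
# Local lifting of sections from surjectivity on one stalk
-/

set_option autoImplicit false
universe u

namespace Groth.Agent.Lib.Helper23.StalkLocal

open CategoryTheory CategoryTheory.Limits AlgebraicGeometry Opposite GrothendieckTopology
open Groth.Agent.Lib.Helper23.GenConst EtGlue

variable {X : Scheme.{u}}

/-- a morphism of sheaves every section of whose target locally lifts is an epimorphism -/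
lemma epi_of_local_lift {P Q : EtCoh.Ab X} (φ : P ⟶ Q)
    (h : ∀ (V : X.Etale) (s : Q.obj.obj (op V)) (v : V.left), ∃ (W : X.Etale) (g : W ⟶ V),
      v ∈ Set.range g.left ∧ ∃ t : P.obj.obj (op W), φ.hom.app (op W) t = Q.obj.map g.op s) :
    Epi φ := by
  rw [← Sheaf.isLocallySurjective_iff_epi' AddCommGrpCat.{u + 1} φ]
  refine ⟨fun {V} s => ?_⟩
  apply sieve_mem_of_forall_point
  intro v
  obtain ⟨W, g, hv, t, ht⟩ := h V s v
  exact ⟨W, g, ⟨t, ht⟩, hv⟩

set_option backward.isDefEq.respectTransparency.types false in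
set_option backward.isDefEq.respectTransparency false in
/-- if the map on the stalks at `ξ` is surjective, sections lift on etale neighbourhoods of `ξ` -/
lemma exists_local_lift {Ω : Type u} [Field Ω] [IsSepClosed Ω] (ξ : Spec (CommRingCat.of Ω) ⟶ X)
    {P Q : EtCoh.Ab X} (φ : P ⟶ Q) (hs : Function.Surjective ((EtCoh.stalk ξ).map φ))
    (V : X.Etale) (v : (Scheme.pointSmallEtale ξ).fiber.obj V) (s : Q.obj.obj (op V)) :
    ∃ (W : X.Etale) (g : W ⟶ V) (w : (Scheme.pointSmallEtale ξ).fiber.obj W),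
      (Scheme.pointSmallEtale ξ).fiber.map g w = v ∧
      ∃ t : P.obj.obj (op W), φ.hom.app (op W) t = Q.obj.map g.op s := by
  let Φ := Scheme.pointSmallEtale ξ
  obtain ⟨y, hy⟩ := hs (Φ.toPresheafFiber V v Q.obj s)
  obtain ⟨W₁, w₁, t₁, rfl⟩ := Φ.toPresheafFiber_jointly_surjective y
  have hy' : Φ.toPresheafFiber W₁ w₁ Q.obj (φ.hom.app (op W₁) t₁) =
      Φ.toPresheafFiber V v Q.obj s := by
    rw [← hy]
    exact (Φ.toPresheafFiber_naturality_apply φ.hom W₁ w₁ t₁).symm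
  -- a common refinement
  let e₁ : Φ.fiber.Elements := ⟨W₁, w₁⟩
  let e₂ : Φ.fiber.Elements := ⟨V, v⟩
  let e₀ := IsCofiltered.min e₁ e₂
  let f₁ : e₀ ⟶ e₁ := IsCofiltered.minToLeft e₁ e₂
  let f₂ : e₀ ⟶ e₂ := IsCofiltered.minToRight e₁ e₂
  have h1 : Φ.toPresheafFiber W₁ w₁ Q.obj (φ.hom.app (op W₁) t₁) =
      Φ.toPresheafFiber e₀.1 e₀.2 Q.obj (Q.obj.map f₁.1.op (φ.hom.app (op W₁) t₁)) := by
    rw [Φ.toPresheafFiber_w_apply, f₁.2]
  have h2 : Φ.toPresheafFiber V v Q.obj s =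
      Φ.toPresheafFiber e₀.1 e₀.2 Q.obj (Q.obj.map f₂.1.op s) := by
    rw [Φ.toPresheafFiber_w_apply, f₂.2]
  rw [h1, h2, Φ.toPresheafFiber_eq_iff'] at hy'
  obtain ⟨W, f, w, hw, hf⟩ := hy'
  refine ⟨W, f ≫ f₂.1, w, ?_, P.obj.map (f ≫ f₁.1).op t₁, ?_⟩
  · rw [Φ.fiber.map_comp]
    change Φ.fiber.map f₂.1 (Φ.fiber.map f w) = v
    rw [hw]
    exact f₂.2
  · rw [nat_apply, map_comp_apply, map_comp_apply]
    exact hf

end Groth.Agent.Lib.Helper23.StalkLocal
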