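import Groth.Agent.Lib.Helper23.SurjLocus
import Groth.Agent.S2285
import Groth.Agent.S0130
import Mathlib.AlgebraicGeometry.Noetherian

/-!
# Constructible sheaves on locally noetherian schemes: criterion through closures of points
-/

set_option autoImplicit false
universe u

namespace Groth.Agent.Lib.Helper23.ConstrNoeth

open CategoryTheory CategoryTheory.Limits AlgebraicGeometry Opposite Topology

/-- a constructible set containing a point contains a neighbourhood of it in its closure; one
not containing it misses such a neighbourhood -/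
lemma exists_nhd_of_constructible {Y : Type*} [TopologicalSpace Y] (x : Y) {s : Set Y}
    (hs : IsConstructible s) :
    (x ∈ s → ∃ V : Set Y, IsOpen V ∧ x ∈ V ∧ V ∩ closure {x} ⊆ s) ∧
    (x ∉ s → ∃ V : Set Y, IsOpen V ∧ x ∈ V ∧ V ∩ closure {x} ⊆ sᶜ) := by
  induction hs using IsConstructible.empty_union_induction with
  | open_retrocompact U hUo hUc =>
    refine ⟨fun hx => ⟨U, hUo, hx, Set.inter_subset_left⟩, fun hx => ⟨Set.univ, isOpen_univ,
      trivial, ?_⟩⟩
    rintro y ⟨-, hy⟩ hyU
    -- `y ∈ closure {x}` and `y ∈ U` open give `x ∈ U`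
    have := (mem_closure_iff.1 hy) U hUo hyU
    obtain ⟨z, hzU, hz⟩ := this
    rw [Set.mem_singleton_iff] at hz
    subst hz
    exact hx hzU
  | union s hs t ht hs' ht' =>
    constructor
    · rintro (hx | hx)
      · obtain ⟨V, hV, hxV, hVs⟩ := hs'.1 hx
        exact ⟨V, hV, hxV, hVs.trans Set.subset_union_left⟩
      · obtain ⟨V, hV, hxV, hVs⟩ := ht'.1 hx
        exact ⟨V, hV, hxV, hVs.trans Set.subset_union_right⟩
    · intro hx
      have hxs : x ∉ s := fun h => hx (Or.inl h)
      have hxt : x ∉ t := fun h => hx (Or.inr h)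
      obtain ⟨V, hV, hxV, hVs⟩ := hs'.2 hxs
      obtain ⟨V', hV', hxV', hVt⟩ := ht'.2 hxt
      refine ⟨V ∩ V', hV.inter hV', ⟨hxV, hxV'⟩, ?_⟩
      rintro y ⟨⟨hy1, hy2⟩, hy⟩
      rw [Set.compl_union]
      exact ⟨hVs ⟨hy1, hy⟩, hVt ⟨hy2, hy⟩⟩
  | compl s hs hs' =>
    constructor
    · intro hx
      exact hs'.2 hx
    · intro hx
      have hx' : x ∈ s := by
        by_contra h
        exact hx h
      rw [compl_compl]
      exact hs'.1 hx'

variable {X : Scheme.{u}}

/-- a morphism from a reduced scheme whose image lies in the image of an immersion factors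
through it -/
lemma exists_lift_of_isReduced {S T : Scheme.{u}} [IsReduced S] (h : S ⟶ X) (g : T ⟶ X)
    [IsImmersion g] (hr : Set.range h ⊆ Set.range g) : ∃ h' : S ⟶ T, h' ≫ g = h := by
  let p := pullback.fst h g
  have hr' : Set.range p = Set.univ := by
    rw [Scheme.Pullback.range_fst]
    ext a
    simp only [Set.mem_preimage, Set.mem_univ, iff_true]
    exact hr ⟨a, rfl⟩
  haveI : IsClosedImmersion p :=
    IsClosedImmersion.of_isPreimmersion p (by rw [hr']; exact isClosed_univ)
  haveI : Surjective p := ⟨fun a => by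
    have : a ∈ Set.range p := by rw [hr']; trivial
    exact this⟩
  haveI : IsIso p := isIso_of_isClosedImmersion_of_surjective p
  refine ⟨inv p ≫ pullback.snd h g, ?_⟩
  rw [Category.assoc, ← pullback.condition, IsIso.inv_hom_id_assoc]

/-- finite locally constant sheaves are constructible -/
lemma constructible_of_flc (F : EtCoh.Ab X) (hF : EtCoh.IsFiniteLocallyConstant F) :
    EtPBC.IsConstructible F := by
  intro U hU
  rw [Strata.adaptedStrata_iff]
  refine ⟨Unit, inferInstance, fun _ => U, fun _ => U.ι, fun _ => inferInstance, fun _ => ?_,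
    ?_, ?_, fun _ => Flc.flc_pull U.ι F hF⟩
  · have : U.ι ⁻¹' Set.range U.ι = Set.univ := by
      ext a
      simp
    rw [this]
    exact IsConstructible.univ
  · intro a b hab
    exact absurd (Subsingleton.elim a b) hab
  · ext a
    simp only [Set.mem_iUnion, exists_const]
    rw [Scheme.Opens.range_ι]

lemma isConstructible_of_isLocallyClosed {Y : Type*} [TopologicalSpace Y] [TopologicalSpace.NoetherianSpace Y]
    {s : Set Y} (hs : IsLocallyClosed s) : IsConstructible s := by
  have hret : ∀ t : Set Y, IsRetrocompact t := fun t V _ _ => TopologicalSpace.NoetherianSpace.isCompact _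
  obtain ⟨U, Z, hU, hZ, rfl⟩ := hs
  exact ((hret U).isConstructible hU).inter
    (isConstructible_compl.1 ((hret Zᶜ).isConstructible hZ.isOpen_compl))

theorem exists_flc_on_closure (F : EtCoh.Ab X) (hF : EtPBC.IsConstructible F) (x : X) :
    ∃ (V : X.Opens) (T : Scheme.{u}) (g : T ⟶ X), IsImmersion g ∧ x ∈ V ∧
      Set.range g = (V : Set X) ∩ closure {x} ∧
      EtCoh.IsFiniteLocallyConstant ((EtCoh.pull g).obj F) := by
  obtain ⟨U, hU, hxU, -⟩ := exists_isAffineOpen_mem_and_subset (x := x) (U := ⊤) trivial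
  obtain ⟨ι, hι, T, g, h1, h2, h3, h4, h5⟩ := (Strata.adaptedStrata_iff F U).1 (hF U hU)
  have hx' : x ∈ ⋃ i, Set.range (g i) := by rw [h4]; exact hxU
  obtain ⟨i, hi⟩ := Set.mem_iUnion.1 hx'
  let x' : (U : Scheme.{u}) := ⟨x, hxU⟩
  have hx'x : U.ι x' = x := rfl
  obtain ⟨V', hV'o, hxV', hV's⟩ := (exists_nhd_of_constructible x' (h2 i)).1
    (show x' ∈ U.ι ⁻¹' Set.range (g i) from hi)
  let V'o : (U : Scheme.{u}).Opens := ⟨V', hV'o⟩
  let V : X.Opens := U.ι ''ᵁ V'o
  have hVsub : (V : Set X) ∩ closure {x} ⊆ Set.range (g i) := by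
    rintro y ⟨⟨v, hv, rfl⟩, hy⟩
    have hv2 : v ∈ closure ({x'} : Set (U : Scheme.{u})) := by
      rw [U.ι.isOpenEmbedding.isInducing.closure_eq_preimage_closure_image, Set.image_singleton]
      exact hy
    exact hV's ⟨hv, hv2⟩
  have hlc : IsLocallyClosed ((V : Set X) ∩ closure {x}) :=
    V.isOpen.isLocallyClosed.inter isClosed_closure.isLocallyClosed
  obtain ⟨⟨T', j, hj1, hj2, hj3⟩, -⟩ := Groth.Agent.S2285.result X _ hlc
  have := hj1
  have := hj2
  have := h1 i
  obtain ⟨j', hj'⟩ := exists_lift_of_isReduced j (g i) (by rw [hj3]; exact hVsub)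
  refine ⟨V, T', j, hj1, ⟨x', hxV', rfl⟩, hj3, ?_⟩
  exact Strata.flcAlong_of_eq F hj' (Strata.flcAlong_comp F (g i) j' (h5 i))

theorem constructible_of_flc_on_closures [IsLocallyNoetherian X] (F : EtCoh.Ab X)
    (H : ∀ x : X, ∃ (V : X.Opens) (T : Scheme.{u}) (g : T ⟶ X), IsImmersion g ∧ x ∈ V ∧
      Set.range g = (V : Set X) ∩ closure {x} ∧
      EtCoh.IsFiniteLocallyConstant ((EtCoh.pull g).obj F)) :
    EtPBC.IsConstructible F := by
  intro U hU
  rw [Strata.adaptedStrata_iff]
  choose V T g h1 h2 h3 h4 using H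
  haveI : IsAffine (U : Scheme.{u}) := hU
  haveI : IsNoetherianRing Γ(X, U) :=
    IsLocallyNoetherian.component_noetherian (⟨U, hU⟩ : X.affineOpens)
  haveI : TopologicalSpace.NoetherianSpace U := noetherianSpace_of_isAffineOpen U hU
  haveI : ∀ x, IsImmersion (g x) := h1
  have hrange : ∀ y : U, Set.range (pullback.snd (g y.1) U.ι) =
      U.ι ⁻¹' ((V y.1 : Set X) ∩ closure {y.1}) := fun y => by
    rw [Scheme.Pullback.range_snd, h3]
  have hc : EtPBC.IsConstructible ((EtCoh.pull U.ι).obj F) := by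
    refine Groth.Agent.S0130.result (U : Scheme.{u}) ((EtCoh.pull U.ι).obj F) (ι := U)
      (fun y => pullback (g y.1) U.ι) (fun y => pullback.snd (g y.1) U.ι) (fun y => ?_) ?_
      (fun y => ?_)
    · exact isConstructible_of_isLocallyClosed (pullback.snd (g y.1) U.ι).isLocallyClosed_range
    · ext u
      simp only [Set.mem_iUnion, Set.mem_univ, iff_true]
      refine ⟨u, ?_⟩
      rw [hrange]
      exact ⟨h2 u.1, subset_closure rfl⟩
    · have e1 : (EtCoh.pull (pullback.snd (g y.1) U.ι)).obj ((EtCoh.pull U.ι).obj F) ≅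
          (EtCoh.pull (pullback.fst (g y.1) U.ι)).obj ((EtCoh.pull (g y.1)).obj F) :=
        ((EtCore.pullComp (pullback.snd (g y.1) U.ι) U.ι).app F).symm ≪≫
          (EtCore.pullCongr pullback.condition.symm).app F ≪≫
          (EtCore.pullComp (pullback.fst (g y.1) U.ι) (g y.1)).app F
      exact Strata.constructible_of_iso e1.symm
        (constructible_of_flc _ (Flc.flc_pull _ _ (h4 y.1)))
  have ad : Strata.Adapted ((EtCoh.pull U.ι).obj F) ⊤ :=
    (Strata.adaptedStrata_iff _ ⊤).1 ((Groth.Agent.S0128.result _ _).1 hc)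
  have := Strata.Adapted.of_open U ⊤ ad
  rwa [Scheme.Opens.ι_image_top] at this

end Groth.Agent.Lib.Helper23.ConstrNoeth
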