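import Groth.Agent.Lib.Helper23.ShriekGeom
import Groth.Agent.Lib.Helper23.ConstrNoeth
import Groth.Agent.Lib.Helper23.FlcSerre
import Groth.Agent.S0649
import Groth.Agent.S0130

/-!
# Extension by zero of a constant sheaf along a quasi-compact quasi-separated etale morphism is
constructible
-/

set_option autoImplicit false
universe u

namespace Groth.Agent.Lib.Helper23.ShriekConstr

open CategoryTheory CategoryTheory.Limits AlgebraicGeometry Opposite
open Groth.Agent.Lib.Helper23.FlcLoc Groth.Agent.Lib.Helper23.ShriekRep
open Groth.Agent.Lib.Helper23.ShriekGeom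

variable {U X : Scheme.{u}} (j : U ⟶ X) [Etale j]

set_option backward.isDefEq.respectTransparency.types false in
set_option backward.isDefEq.respectTransparency false in
/-- the inverse image of the extension by zero of a constant sheaf over a split base change -/
lemma triv_pull {T : Scheme.{u}} (g : T ⟶ X) {n : ℕ}
    (σ : ShriekSplit.Split (Scheme.Etale.mk (pullback.fst g j)) (Fin n))
    (B : AddCommGrpCat.{u + 1}) (hB : Finite B) :
    Triv ((EtCoh.pull g).obj ((EtShriek.extZero j).obj ((C U).obj B))) := by
  obtain ⟨e⟩ := Groth.Agent.S0649.result j g (pullback.fst g j) (pullback.snd g j)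
    (IsPullback.of_hasPullback g j)
  have e1 : (EtCoh.pull g).obj ((EtShriek.extZero j).obj ((C U).obj B)) ≅
      (EtShriek.extZero (pullback.fst g j)).obj ((EtCoh.pull (pullback.snd g j)).obj ((C U).obj B)) :=
    (e.app ((C U).obj B)).symm
  have e2 : (EtCoh.pull (pullback.snd g j)).obj ((C U).obj B) ≅ (C (pullback g j)).obj B :=
    (EtCore.pullConstIso (pullback.snd g j)).app B
  have e3 := e1 ≪≫ (EtShriek.extZero (pullback.fst g j)).mapIso e2
  exact Triv.of_iso e3.symm (ShriekSplit.triv_sh1 σ B hB)

variable [CompactSpace U] [QuasiSeparatedSpace U] [CompactSpace X] [QuasiSeparatedSpace X]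

set_option backward.isDefEq.respectTransparency.types false in
set_option backward.isDefEq.respectTransparency false in
theorem constructible_extZero_const (B : AddCommGrpCat.{u + 1}) (hB : Finite B) :
    EtPBC.IsConstructible ((EtShriek.extZero j).obj ((C U).obj B)) := by
  have H := fun x : X => exists_split j x
  choose Y gY h1 h2 h3 T r h4 h5 n h6 using H
  haveI : ∀ x, IsImmersion (gY x) := h1
  refine Groth.Agent.S0130.result X _ Y gY h2 ?_ (fun x => ?_)
  · rw [Set.eq_univ_iff_forall]
    intro x
    exact Set.mem_iUnion.2 ⟨x, h3 x⟩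
  · apply ConstrNoeth.constructible_of_flc
    rw [flc_iff_locTriv]
    intro y
    haveI : Etale (r x) := h4 x
    obtain ⟨t, ht⟩ := (h5 x).surj y
    obtain ⟨σ⟩ := h6 x
    refine ⟨Scheme.Etale.mk (r x), t, ht, ?_⟩
    have e : (EtCoh.pull (r x ≫ gY x)).obj ((EtShriek.extZero j).obj ((C U).obj B)) ≅
        (EtCoh.pull (r x)).obj ((EtCoh.pull (gY x)).obj ((EtShriek.extZero j).obj ((C U).obj B))) :=
      (EtCore.pullComp (r x) (gY x)).app _
    exact Triv.of_iso e (triv_pull j (r x ≫ gY x) σ B hB)

end Groth.Agent.Lib.Helper23.ShriekConstr
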