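import Groth.Agent.Lib.Helper23.ShriekConstr
import Groth.Agent.Lib.Helper23.ConstrSum
import Groth.Agent.Lib.Helper23.SpecIso2
import Groth.Agent.Lib.Helper23.StalkLocal
import Groth.Agent.S0182
import Groth.Agent.S0133

/-!
# Presentations of constructible sheaves by extensions by zero of constant sheaves
-/

set_option autoImplicit false
universe u

namespace Groth.Agent.Lib.Helper23.ShriekPres

open CategoryTheory CategoryTheory.Limits AlgebraicGeometry Opposite GrothendieckTopology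
open Groth.Agent.Lib.Helper23.FlcLoc Groth.Agent.Lib.Helper23.ShriekRep
open Groth.Agent.Lib.Helper23.SpecIso2 Groth.Agent.Lib.Helper23.EtGlue

variable {X : Scheme.{u}}

section Indep

variable {Ω Ω' : Type u} [Field Ω] [IsSepClosed Ω] [Field Ω'] [IsSepClosed Ω']
  (ξ : Spec (CommRingCat.of Ω) ⟶ X) (ξ' : Spec (CommRingCat.of Ω') ⟶ X)

lemma nonempty_stalk_iso_flc (G : EtCoh.Ab X) (hG : EtCoh.IsFiniteLocallyConstant G)
    (h : ξ default = ξ' default) :
    Nonempty ((EtCoh.stalk ξ).obj G ≅ (EtCoh.stalk ξ').obj G) := by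
  obtain ⟨U, u, hu, B, hB, ⟨a₀⟩⟩ := (flc_iff_locTriv G).1 hG (ξ default)
  obtain ⟨y⟩ := exists_fiber_of_mem ξ U u hu
  obtain ⟨y'⟩ := exists_fiber_of_mem ξ' U u (hu.trans h)
  obtain ⟨e⟩ := nonempty_stalk_iso_of_triv G U ξ y B a₀
  obtain ⟨e'⟩ := nonempty_stalk_iso_of_triv G U ξ' y' B a₀
  exact ⟨e ≪≫ e'.symm⟩

lemma nonempty_stalk_iso_constructible (F : EtCoh.Ab X) (hF : EtPBC.IsConstructible F)
    (h : ξ default = ξ' default) :
    Nonempty ((EtCoh.stalk ξ).obj F ≅ (EtCoh.stalk ξ').obj F) := by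
  obtain ⟨V, T, g, hg, hxV, hr, hflc⟩ := ConstrNoeth.exists_flc_on_closure F hF (ξ default)
  haveI := hg
  have hxr : ξ default ∈ Set.range g := by rw [hr]; exact ⟨hxV, subset_closure rfl⟩
  obtain ⟨tx, htx⟩ := hxr
  obtain ⟨ξ₁, rfl⟩ := SurjLocus.exists_lift_of_immersion g ξ tx htx.symm
  obtain ⟨ξ₁', rfl⟩ := SurjLocus.exists_lift_of_immersion g ξ' tx (h.symm.trans htx.symm)
  have h1 : ξ₁ default = tx := g.isEmbedding.injective htx.symm
  have h1' : ξ₁' default = tx := g.isEmbedding.injective (h.symm.trans htx.symm)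
  obtain ⟨e⟩ := nonempty_stalk_iso_flc ξ₁ ξ₁' _ hflc (h1.trans h1'.symm)
  have i1 := FinBC0.isIso_stk_unit g ξ₁ F
  have i2 := FinBC0.isIso_stk_unit g ξ₁' F
  have a1 : (EtCoh.stalk (ξ₁ ≫ g)).obj F ≅ (EtCoh.stalk ξ₁).obj ((EtCoh.pull g).obj F) :=
    @asIso _ _ _ _ _ i1
  have a2 : (EtCoh.stalk (ξ₁' ≫ g)).obj F ≅ (EtCoh.stalk ξ₁').obj ((EtCoh.pull g).obj F) :=
    @asIso _ _ _ _ _ i2
  exact ⟨a1 ≪≫ e ≪≫ a2.symm⟩

end Indep

section Gen

variable {Ω : Type u} [Field Ω] [IsSepClosed Ω] (ξ : Spec (CommRingCat.of Ω) ⟶ X)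

/-- the value group `ℤ/n` -/
abbrev Zn (n : ℕ) : AddCommGrpCat.{u + 1} := AddCommGrpCat.of (ULift.{u + 1} (ZMod n))

/-- the map out of `ℤ/n` given by a section killed by `n` -/
noncomputable def ofSection {A : AddCommGrpCat.{u + 1}} (n : ℕ) (s : A) (hs : n • s = 0) :
    Zn n ⟶ A :=
  AddCommGrpCat.ofHom (((ZMod.lift n) ⟨zmultiplesHom A s, (by
    rw [zmultiplesHom_apply, natCast_zsmul]; exact hs)⟩).comp
    AddEquiv.ulift.toAddMonoidHom)

lemma ofSection_one {A : AddCommGrpCat.{u + 1}} (n : ℕ) (s : A) (hs : n • s = 0) :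
    (ConcreteCategory.hom (ofSection n s hs)) (ULift.up 1) = s := by
  have hp : (zmultiplesHom A s) (n : ℤ) = 0 := by
    rw [zmultiplesHom_apply, natCast_zsmul]; exact hs
  change (ZMod.lift n ⟨zmultiplesHom A s, hp⟩) (1 : ZMod n) = s
  have h := ZMod.lift_coe n (⟨zmultiplesHom A s, hp⟩ : {f : ℤ →+ A // f n = 0}) 1
  simpa using h

set_option backward.isDefEq.respectTransparency.types false in
set_option backward.isDefEq.respectTransparency false in
/-- a germ killed by `n` is in the image of a map from an extension by zero of `ℤ/n` -/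
lemma exists_gen (F : EtCoh.Ab X) (γ : (EtCoh.stalk ξ).obj F) (n : ℕ) (hγ : n • γ = 0) :
    ∃ (W : X.Etale), IsAffine W.left ∧ ∃ ψ : sh2 W (Zn n) ⟶ F,
      γ ∈ Set.range ((EtCoh.stalk ξ).map ψ) := by
  let Φ := Scheme.pointSmallEtale ξ
  obtain ⟨W₀, w₀, s₀, rfl⟩ := Φ.toPresheafFiber_jointly_surjective γ
  have h0 : Φ.toPresheafFiber W₀ w₀ F.obj (n • s₀) = Φ.toPresheafFiber W₀ w₀ F.obj 0 := by
    rw [map_nsmul, map_zero]
    exact hγ
  rw [Φ.toPresheafFiber_eq_iff'] at h0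
  obtain ⟨W₁, f, w₁, hw₁, hf⟩ := h0
  -- shrink to an affine open neighbourhood
  let W₁l : Scheme.{u} := W₁.left
  let wl₁ : Spec (CommRingCat.of Ω) ⟶ W₁l := w₁.left
  let p : W₁l := wl₁ default
  obtain ⟨_, ⟨O₀, hO, rfl⟩, hpO, -⟩ := W₁l.isBasis_affineOpens.exists_subset_of_mem_open
    (Set.mem_univ p) isOpen_univ
  let O : W₁l.Opens := O₀
  let W : X.Etale := opn W₁ O
  let k : W ⟶ W₁ := opnι W₁ O
  have hr : Set.range wl₁ ⊆ Set.range O.ι := by
    rintro _ ⟨z, rfl⟩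
    rw [Subsingleton.elim z default, Scheme.Opens.range_ι]
    exact hpO
  let wl : Spec (CommRingCat.of Ω) ⟶ O := IsOpenImmersion.lift O.ι wl₁ hr
  have hwl : wl ≫ O.ι = wl₁ := IsOpenImmersion.lift_fac _ _ _
  let w : Φ.fiber.obj W := Over.homMk wl (by
    change wl ≫ O.ι ≫ W₁.hom = ξ
    rw [← Category.assoc, hwl]
    exact Over.w w₁)
  have hw : Φ.fiber.map k w = w₁ := by
    apply Over.OverMorphism.ext
    exact hwl
  let s : F.obj.obj (op W) := F.obj.map (k ≫ f).op s₀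
  have hs : n • s = 0 := by
    have h1 : F.obj.map k.op (F.obj.map f.op (n • s₀)) = F.obj.map k.op (F.obj.map f.op 0) := by
      rw [hf]
    rw [map_zero, map_zero, map_nsmul, map_nsmul] at h1
    simpa [s] using h1
  have hgerm : Φ.toPresheafFiber W w F.obj s = Φ.toPresheafFiber W₀ w₀ F.obj s₀ := by
    have := Φ.toPresheafFiber_w_apply (k ≫ f) w F.obj s₀
    rw [this, Φ.fiber.map_comp]
    change Φ.toPresheafFiber W₀ (Φ.fiber.map f (Φ.fiber.map k w)) F.obj s₀ = _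
    rw [hw, hw₁]
  refine ⟨W, hO, (rep2 W (Zn n) F).symm (ofSection n s hs), ?_⟩
  set ψ := (rep2 W (Zn n) F).symm (ofSection n s hs) with hψ
  have h1 : rep2 W (Zn n) F ψ = ofSection n s hs := Equiv.apply_symm_apply _ _
  have h2 := rep2_naturality W (Zn n) (𝟙 (sh2 W (Zn n))) ψ
  rw [Category.id_comp, h1] at h2
  let one : (sh2 W (Zn n)).obj.obj (op W) :=
    (ConcreteCategory.hom (rep2 W (Zn n) (sh2 W (Zn n)) (𝟙 _))) (ULift.up 1)
  have h3 : (ConcreteCategory.hom (ψ.hom.app (op W))) one = s := by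
    have := congrArg (fun m => (ConcreteCategory.hom m) (ULift.up 1)) h2
    rw [ofSection_one] at this
    exact this.symm
  refine ⟨Φ.toPresheafFiber W w (sh2 W (Zn n)).obj one, ?_⟩
  have e1 := Φ.toPresheafFiber_naturality_apply ψ.hom W w one
  have e2 : Φ.toPresheafFiber W w F.obj ((ConcreteCategory.hom (ψ.hom.app (op W))) one) =
      Φ.toPresheafFiber W w F.obj s := congrArg _ h3
  exact e1.trans (e2.trans hgerm)

end Gen

section Epi

/-- the surjectivity locus -/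
def SurjLoc {A F : EtCoh.Ab X} (ψ : A ⟶ F) : Set X :=
  {x : X | ∀ (Ω : Type u) [Field Ω] [IsSepClosed Ω] (ξ : Spec (CommRingCat.of Ω) ⟶ X),
    Set.range ξ = {x} → Function.Surjective ((EtCoh.stalk ξ).map ψ)}

/-- a finite family of affine etale schemes with positive integers in a given set -/
structure Fam (X : Scheme.{u}) (N : Set ℕ) where
  b : ℕ
  W : Fin b → X.Etale
  n : Fin b → ℕ
  hn : ∀ i, n i ∈ N ∧ 0 < n i
  aff : ∀ i, IsAffine (W i).left

variable {N : Set ℕ}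

/-- the direct sum of the extensions by zero of the family -/
noncomputable def Fam.sum (𝒜 : Fam X N) : EtCoh.Ab X := ⨁ fun i => sh2 (𝒜.W i) (Zn (𝒜.n i))

variable [CompactSpace X] [QuasiSeparatedSpace X]

lemma constructible_sh2_Zn (W : X.Etale) (hW : IsAffine W.left) (n : ℕ) (hn : 0 < n) :
    EtPBC.IsConstructible (sh2 W (Zn n)) := by
  haveI : NeZero n := ⟨hn.ne'⟩
  haveI := hW
  exact Groth.Agent.S0133.result X W (ZMod n)

lemma Fam.constructible (𝒜 : Fam X N) : EtPBC.IsConstructible 𝒜.sum :=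
  ConstrSum.constructible_biproduct _ _ (fun i =>
    constructible_sh2_Zn (𝒜.W i) (𝒜.aff i) (𝒜.n i) (𝒜.hn i).2)

/-- reindexing a descent morphism out of a biproduct -/
lemma desc_reindex {C : Type*} [Category C] [HasZeroMorphisms C] {I : Type*} (G : I → C) {B : ℕ}
    (e : Fin B ≃ I) [HasBiproduct (fun i => G (e i))] {Z : C} (f : ∀ a, G a ⟶ Z) (a : I) :
    ∃ θ : G a ⟶ ⨁ (fun i => G (e i)), θ ≫ biproduct.desc (fun i => f (e i)) = f a := by
  obtain ⟨i, rfl⟩ := e.surjective a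
  exact ⟨biproduct.ι (fun i => G (e i)) i, biproduct.ι_desc (fun i => f (e i)) i⟩

set_option backward.isDefEq.respectTransparency.types false in
set_option backward.isDefEq.respectTransparency false in
lemma exists_fam_at (F : EtCoh.Ab X) (hF : EtPBC.IsConstructible F)
    (hN : ∀ (Ω : Type u) [Field Ω] [IsSepClosed Ω] (ξ : Spec (CommRingCat.of Ω) ⟶ X)
      (γ : (EtCoh.stalk ξ).obj F), ∃ n ∈ N, 0 < n ∧ n • γ = 0) (x : X) :
    ∃ (𝒜 : Fam X N) (ψ : 𝒜.sum ⟶ F), x ∈ SurjLoc ψ := by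
  let Ω := AlgebraicClosure (X.residueField x)
  let ξ : Spec (CommRingCat.of Ω) ⟶ X := FlcConn.geomPt x
  have hξ : ξ default = x := FlcConn.geomPt_default x
  haveI := finite_stalk_of_constructible F hF ξ
  obtain ⟨b, ⟨e⟩⟩ := Finite.exists_equiv_fin ((EtCoh.stalk ξ).obj F)
  have H : ∀ i : Fin b, ∃ (n : ℕ) (W : X.Etale), (n ∈ N ∧ 0 < n) ∧ IsAffine W.left ∧
      ∃ ψ : sh2 W (Zn n) ⟶ F, e.symm i ∈ Set.range ((EtCoh.stalk ξ).map ψ) := fun i => by
    obtain ⟨n, hnN, hn0, hnγ⟩ := hN Ω ξ (e.symm i)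
    obtain ⟨W, hW, ψ, hψ⟩ := exists_gen ξ F (e.symm i) n hnγ
    exact ⟨n, W, ⟨hnN, hn0⟩, hW, ψ, hψ⟩
  choose n W hn hW ψ hψ using H
  let 𝒜 : Fam X N := ⟨b, W, n, hn, hW⟩
  let Ψ : 𝒜.sum ⟶ F := biproduct.desc ψ
  refine ⟨𝒜, Ψ, ?_⟩
  have hs : Function.Surjective ((EtCoh.stalk ξ).map Ψ) := by
    intro γ
    obtain ⟨z, hz⟩ := hψ (e γ)
    have hz' : (EtCoh.stalk ξ).map (ψ (e γ)) z = γ := hz.trans (e.symm_apply_apply γ)
    have h1 : biproduct.ι (fun i => sh2 (W i) (Zn (n i))) (e γ) ≫ Ψ = ψ (e γ) :=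
      biproduct.ι_desc _ _
    refine ⟨(EtCoh.stalk ξ).map (biproduct.ι (fun i => sh2 (W i) (Zn (n i))) (e γ)) z, ?_⟩
    have h2 : (EtCoh.stalk ξ).map (biproduct.ι (fun i => sh2 (W i) (Zn (n i))) (e γ) ≫ Ψ) =
        (EtCoh.stalk ξ).map (ψ (e γ)) := congrArg _ h1
    rw [Functor.map_comp] at h2
    exact (congrArg (fun k => (ConcreteCategory.hom k) z) h2).trans hz'
  have hQ : EtPBC.IsConstructible (cokernel Ψ) :=
    (Strata.constructible_kernel_cokernel Ψ 𝒜.constructible hF).2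
  have hz := SpecIso.isZero_stalk_cokernel (ξ := ξ) (f := Ψ) hs
  intro Ω' _ _ ξ' hξ'
  have hd : ξ default = ξ' default := hξ.trans (SurjLocus.default_of_range ξ' hξ').symm
  obtain ⟨i⟩ := nonempty_stalk_iso_constructible ξ ξ' (cokernel Ψ) hQ hd
  exact SpecIso.surjective_of_isZero_stalk_cokernel (ξ := ξ') (f := Ψ) (hz.of_iso i.symm)

set_option backward.isDefEq.respectTransparency.types false in
set_option backward.isDefEq.respectTransparency false in
/-- a constructible sheaf is a quotient of a finite direct sum of extensions by zero -/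
theorem exists_epi (F : EtCoh.Ab X) (hF : EtPBC.IsConstructible F)
    (hN : ∀ (Ω : Type u) [Field Ω] [IsSepClosed Ω] (ξ : Spec (CommRingCat.of Ω) ⟶ X)
      (γ : (EtCoh.stalk ξ).obj F), ∃ n ∈ N, 0 < n ∧ n • γ = 0) :
    ∃ (𝒜 : Fam X N) (ψ : 𝒜.sum ⟶ F), Epi ψ := by
  classical
  choose 𝒜 ψ hx using exists_fam_at F hF hN
  have hZ : ∀ x, Topology.IsConstructible (SurjLoc (ψ x)) := fun x =>
    Groth.Agent.S0182.result X (ψ x) (𝒜 x).constructible hF
  have hcov : (⋃ x, SurjLoc (ψ x)) = Set.univ :=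
    Set.eq_univ_iff_forall.2 (fun x => Set.mem_iUnion.2 ⟨x, hx x⟩)
  obtain ⟨t, ht⟩ := ConstrTop.exists_finite_cover (fun x => SurjLoc (ψ x)) hZ hcov
  let I := Σ x : {x // x ∈ t}, Fin (𝒜 x.1).b
  let e : Fin (Fintype.card I) ≃ I := (Fintype.equivFin I).symm
  let G : I → EtCoh.Ab X := fun a => sh2 ((𝒜 a.1.1).W a.2) (Zn ((𝒜 a.1.1).n a.2))
  let f : ∀ a, G a ⟶ F := fun a =>
    biproduct.ι (fun k => sh2 ((𝒜 a.1.1).W k) (Zn ((𝒜 a.1.1).n k))) a.2 ≫ ψ a.1.1
  let ℬ : Fam X N := ⟨Fintype.card I, fun i => (𝒜 (e i).1.1).W (e i).2,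
    fun i => (𝒜 (e i).1.1).n (e i).2, fun i => (𝒜 (e i).1.1).hn (e i).2,
    fun i => (𝒜 (e i).1.1).aff (e i).2⟩
  let Ψ : ℬ.sum ⟶ F := biproduct.desc (fun i => f (e i))
  refine ⟨ℬ, Ψ, ?_⟩
  rw [StalkSurj.epi_iff_surjAt]
  intro x'
  obtain ⟨x, hxt, hx'⟩ := ht x'
  have H := fun k : Fin (𝒜 x).b => desc_reindex G e f ⟨⟨x, hxt⟩, k⟩
  choose θ hθ using H
  let Θ : (𝒜 x).sum ⟶ ℬ.sum := biproduct.desc θ
  have hΘ : Θ ≫ Ψ = ψ x := by
    apply biproduct.hom_ext'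
    intro k
    rw [biproduct.ι_desc_assoc]
    exact hθ k
  have h1 : StalkSurj.SurjAt (Θ ≫ Ψ) x' := by
    rw [hΘ]
    intro Ω _ _ ξ hξ
    exact hx' Ω ξ (SurjLocus.range_of_default ξ hξ)
  exact StalkSurj.SurjAt.of_comp Θ Ψ h1

end Epi

section Pres

/-- an object is the cokernel of a map onto the kernel of an epimorphism onto it -/
noncomputable def cokerIso {C : Type*} [Category C] [Abelian C] {A A' F : C} (ψ : A ⟶ F) [Epi ψ]
    (ψ' : A' ⟶ kernel ψ) [Epi ψ'] : F ≅ cokernel (ψ' ≫ kernel.ι ψ) :=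
  ((cokernelIsCokernel (kernel.ι ψ)).coconePointUniqueUpToIso
    (Abelian.epiIsCokernelOfKernel (limit.cone (parallelPair ψ 0)) (limit.isLimit _))).symm ≪≫
    (cokernelEpiComp ψ' (kernel.ι ψ)).symm

/-- evaluation of morphisms of sheaves on an object, as a group homomorphism -/
def appHom {G G' : EtCoh.Ab X} (W : X.Etale) :
    (G ⟶ G') →+ (G.obj.obj (op W) ⟶ G'.obj.obj (op W)) where
  toFun φ := φ.hom.app (op W)
  map_zero' := rfl
  map_add' _ _ := rfl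

lemma nsmul_id_sh2 (W : X.Etale) (n : ℕ) : n • 𝟙 (sh2 W (Zn n)) = 0 := by
  apply (rep2 W (Zn n) (sh2 W (Zn n))).injective
  have h1 := rep2_naturality W (Zn n) (𝟙 (sh2 W (Zn n))) (n • 𝟙 (sh2 W (Zn n)))
  have h0 := rep2_naturality W (Zn n) (𝟙 (sh2 W (Zn n))) (0 : sh2 W (Zn n) ⟶ sh2 W (Zn n))
  rw [Category.id_comp] at h1 h0
  rw [h1, h0]
  have e1 : ((sheafSections (X.smallEtaleTopology.over W) AddCommGrpCat.{u + 1}).obj
      (op (Over.mk (𝟙 W)))).map ((X.smallEtaleTopology.overPullback AddCommGrpCat.{u + 1} W).map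
        (n • 𝟙 (sh2 W (Zn n)))) = n • 𝟙 _ := by
    change appHom W (n • 𝟙 (sh2 W (Zn n))) = _
    rw [map_nsmul]
    rfl
  have e0 : ((sheafSections (X.smallEtaleTopology.over W) AddCommGrpCat.{u + 1}).obj
      (op (Over.mk (𝟙 W)))).map ((X.smallEtaleTopology.overPullback AddCommGrpCat.{u + 1} W).map
        (0 : sh2 W (Zn n) ⟶ sh2 W (Zn n))) = 0 := by
    change appHom W (0 : sh2 W (Zn n) ⟶ sh2 W (Zn n)) = _
    rw [map_zero]
    rfl
  rw [e1, e0, Preadditive.comp_nsmul, Category.comp_id, Limits.comp_zero]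
  have hz : n • 𝟙 (Zn n) = 0 := by
    ext x
    change (n • x.down : ZMod n) = 0
    rw [nsmul_eq_mul, ZMod.natCast_self, zero_mul]
  have := congrArg (fun k => k ≫ rep2 W (Zn n) (sh2 W (Zn n)) (𝟙 _)) hz
  simpa [Preadditive.nsmul_comp] using this

lemma nsmul_id_biproduct {C : Type*} [Category C] [Preadditive C] {b : ℕ} (G : Fin b → C)
    [HasBiproduct G] (n : ℕ) (h : ∀ i, n • 𝟙 (G i) = 0) : n • 𝟙 (⨁ G) = 0 := by
  apply biproduct.hom_ext'
  intro i
  rw [Preadditive.comp_nsmul, Category.comp_id, Limits.comp_zero]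
  have h1 : n • biproduct.ι G i = (n • 𝟙 (G i)) ≫ biproduct.ι G i := by
    rw [Preadditive.nsmul_comp, Category.id_comp]
  rw [h1, h, zero_comp]

lemma nsmul_id_of_mono {C : Type*} [Category C] [Preadditive C] {A K : C} (i : K ⟶ A) [Mono i]
    (n : ℕ) (hA : n • 𝟙 A = 0) : n • 𝟙 K = 0 := by
  rw [← cancel_mono i, Preadditive.nsmul_comp, Category.id_comp, zero_comp]
  have h1 : n • i = i ≫ (n • 𝟙 A) := by rw [Preadditive.comp_nsmul, Category.comp_id]
  rw [h1, hA, comp_zero]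

lemma nsmul_germ_eq_zero (A : EtCoh.Ab X) (n : ℕ) (hA : n • 𝟙 A = 0) {Ω : Type u} [Field Ω]
    [IsSepClosed Ω] (ξ : Spec (CommRingCat.of Ω) ⟶ X) (γ : (EtCoh.stalk ξ).obj A) :
    n • γ = 0 := by
  have h1 : (EtCoh.stalk ξ).map (n • 𝟙 A) = n • 𝟙 _ := by
    rw [Functor.map_nsmul, CategoryTheory.Functor.map_id]
  rw [hA, Functor.map_zero] at h1
  have h2 := congrArg (fun k => (ConcreteCategory.hom k) γ) h1
  exact h2.symm

set_option backward.isDefEq.respectTransparency.types false in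
set_option backward.isDefEq.respectTransparency false in
lemma nsmul_germ_of_killedBy (F : EtCoh.Ab X) (n : ℕ) (hF : EtCoh.KilledBy n F) {Ω : Type u}
    [Field Ω] [IsSepClosed Ω] (ξ : Spec (CommRingCat.of Ω) ⟶ X) (γ : (EtCoh.stalk ξ).obj F) :
    n • γ = 0 := by
  obtain ⟨W₀, w₀, s₀, rfl⟩ := (Scheme.pointSmallEtale ξ).toPresheafFiber_jointly_surjective γ
  have h := congrArg (fun t => (Scheme.pointSmallEtale ξ).toPresheafFiber W₀ w₀ F.obj t) (hF W₀ s₀)
  simp only [map_nsmul, map_zero] at h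
  exact h

lemma Fam.nsmul_id_sum {N : Set ℕ} (𝒜 : Fam X N) (n : ℕ) (h : ∀ i, 𝒜.n i = n) :
    n • 𝟙 𝒜.sum = 0 := by
  apply nsmul_id_biproduct
  intro i
  rw [← h i]
  exact nsmul_id_sh2 _ _

end Pres

end Groth.Agent.Lib.Helper23.ShriekPres
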