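import Groth.Agent.S3508
import Groth.Agent.Lib.Helper23.ShriekPres
import Groth.Agent.Lib.Helper23.StalkSurj
import Groth.Agent.Lib.Helper23.ConstrSum
import Groth.Agent.Lib.Helper23.SpecIso2
import Mathlib.Algebra.Category.Grp.FilteredColimits

/-!
# Writing a sheaf as a filtered colimit of constructible sheaves with a given property
-/

set_option autoImplicit false
universe u

namespace Groth.Agent.Lib.Helper23.ColimConstr

open CategoryTheory CategoryTheory.Limits AlgebraicGeometry Opposite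
open Groth.Agent.Lib.Helper23.ShriekRep Groth.Agent.Lib.Helper23.ShriekPres
open ZeroObject

/-- presentation data of a constructible sheaf -/
structure Pres (X : Scheme.{u}) : Type (u + 1) where
  a : ℕ
  b : ℕ
  U : Fin a → X.Etale
  V : Fin b → X.Etale
  n : Fin a → ℕ
  m : Fin b → ℕ
  φ : (⨁ fun j => sh2 (V j) (Zn (m j))) ⟶ (⨁ fun i => sh2 (U i) (Zn (n i)))

/-- the sheaf presented -/
noncomputable def Pres.sheaf {X : Scheme.{u}} (p : Pres X) : EtCoh.Ab X := cokernel p.φ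

variable {X : Scheme.{u}}

/-- the conditions on the property -/
structure Good (P : EtCoh.Ab X → Prop) : Prop where
  constr : ∀ G, P G → EtPBC.IsConstructible G
  iso : ∀ {G G' : EtCoh.Ab X}, (G ≅ G') → P G → P G'
  zero : ∀ G : EtCoh.Ab X, IsZero G → P G
  biprod : ∀ {G G' : EtCoh.Ab X}, P G → P G' → P (G ⊞ G')
  coker : ∀ {G G' : EtCoh.Ab X} (h : G ⟶ G'), EtPBC.IsConstructible G → P G' → P (cokernel h)

variable (F : EtCoh.Ab X) (P : EtCoh.Ab X → Prop)

/-- the index category: presented sheaves with the property, mapping to `F` -/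
structure Obj : Type (u + 1) where
  p : Pres X
  a : p.sheaf ⟶ F
  hP : P p.sheaf

variable {F P}

/-- morphisms of the index category -/
@[ext] structure Hom (o₁ o₂ : Obj F P) : Type (u + 1) where
  h : o₁.p.sheaf ⟶ o₂.p.sheaf
  w : h ≫ o₂.a = o₁.a

noncomputable instance : Category.{u + 1} (Obj F P) where
  Hom := Hom
  id o := ⟨𝟙 _, Category.id_comp _⟩
  comp f g := ⟨f.h ≫ g.h, by rw [Category.assoc, g.w, f.w]⟩
  id_comp f := by apply Hom.ext; exact Category.id_comp _
  comp_id f := by apply Hom.ext; exact Category.comp_id _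
  assoc f g k := by apply Hom.ext; exact Category.assoc _ _ _

@[simp] lemma comp_h {o₁ o₂ o₃ : Obj F P} (f : o₁ ⟶ o₂) (g : o₂ ⟶ o₃) : (f ≫ g).h = f.h ≫ g.h := rfl

variable (F P)

/-- the diagram -/
noncomputable def D : Obj F P ⥤ EtCoh.Ab X where
  obj o := o.p.sheaf
  map f := f.h

/-- the cocone -/
noncomputable def cc : Cocone (D F P) where
  pt := F
  ι := { app := fun o => o.a
         naturality := fun o₁ o₂ f => by
          change f.h ≫ o₂.a = o₁.a ≫ 𝟙 F
          rw [f.w, Category.comp_id] }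

variable {F P}

section QC

variable [CompactSpace X] [QuasiSeparatedSpace X]

lemma exists_obj (hP : Good P) (G : EtCoh.Ab X) (hG : P G) (a : G ⟶ F) :
    ∃ (o : Obj F P) (e : G ≅ o.p.sheaf), e.hom ≫ o.a = a := by
  obtain ⟨a', b', U, V, n, m, -, -, φ, ⟨e⟩⟩ := (Groth.Agent.S3508.result X G).1 (hP.constr G hG)
  let p : Pres X := ⟨a', b', U, V, n, m, φ⟩
  have e' : G ≅ p.sheaf := e
  refine ⟨⟨p, e'.inv ≫ a, hP.iso e' hG⟩, e', ?_⟩
  rw [Iso.hom_inv_id_assoc]

theorem isFiltered (hP : Good P) : IsFiltered (Obj F P) := by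
  haveI : Nonempty (Obj F P) := by
    obtain ⟨o, -, -⟩ := exists_obj (F := F) hP 0 (hP.zero 0 (isZero_zero _)) 0
    exact ⟨o⟩
  haveI : IsFilteredOrEmpty (Obj F P) :=
    { cocone_objs := fun o₁ o₂ => by
        obtain ⟨o, e, he⟩ := exists_obj hP (o₁.p.sheaf ⊞ o₂.p.sheaf) (hP.biprod o₁.hP o₂.hP)
          (biprod.desc o₁.a o₂.a)
        refine ⟨o, ⟨biprod.inl ≫ e.hom, ?_⟩, ⟨biprod.inr ≫ e.hom, ?_⟩, trivial⟩
        · rw [Category.assoc, he, biprod.inl_desc]
        · rw [Category.assoc, he, biprod.inr_desc]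
      cocone_maps := fun o₁ o₂ f g => by
        have h0 : (f.h - g.h) ≫ o₂.a = 0 := by rw [Preadditive.sub_comp, f.w, g.w, sub_self]
        obtain ⟨o, e, he⟩ := exists_obj hP (cokernel (f.h - g.h))
          (hP.coker _ (hP.constr _ o₁.hP) o₂.hP) (cokernel.desc (f.h - g.h) o₂.a h0)
        refine ⟨o, ⟨cokernel.π _ ≫ e.hom, ?_⟩, ?_⟩
        · rw [Category.assoc, he, cokernel.π_desc]
        · apply Hom.ext
          change f.h ≫ cokernel.π _ ≫ e.hom = g.h ≫ cokernel.π _ ≫ e.hom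
          rw [← Category.assoc, ← Category.assoc, ← sub_eq_zero, ← Preadditive.sub_comp,
            ← Preadditive.sub_comp, cokernel.condition, zero_comp] }
  exact {}

section Stalk

variable {Ω : Type u} [Field Ω] [IsSepClosed Ω] (ξ : Spec (CommRingCat.of Ω) ⟶ X)

lemma exists_kernel_lift {G F : EtCoh.Ab X} (a : G ⟶ F) (g : (EtCoh.stalk ξ).obj G)
    (hg : (EtCoh.stalk ξ).map a g = 0) :
    ∃ k : (EtCoh.stalk ξ).obj (kernel a), (EtCoh.stalk ξ).map (kernel.ι a) k = g := by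
  let S : ShortComplex (EtCoh.Ab X) := ShortComplex.mk (kernel.ι a) a (kernel.condition a)
  have hS : S.Exact := ShortComplex.exact_of_f_is_kernel S (kernelIsKernel a)
  have hS' := ((Groth.Agent.S0622.result S a).1.1 hS) Ω ξ
  rw [ShortComplex.ab_exact_iff] at hS'
  exact hS' g hg

lemma exists_kill (hP : Good P) {G : EtCoh.Ab X} (hG : P G) (a : G ⟶ F)
    (g : (EtCoh.stalk ξ).obj G) (hg : (EtCoh.stalk ξ).map a g = 0) :
    ∃ (G' : EtCoh.Ab X) (_ : P G') (π : G ⟶ G') (a' : G' ⟶ F), π ≫ a' = a ∧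
      (EtCoh.stalk ξ).map π g = 0 := by
  obtain ⟨k, hk⟩ := exists_kernel_lift ξ a g hg
  haveI := SpecIso2.finite_stalk_of_constructible G (hP.constr G hG) ξ
  let n := Nat.card ((EtCoh.stalk ξ).obj G)
  have hn : 0 < n := Nat.card_pos
  have hinj : Function.Injective ((EtCoh.stalk ξ).map (kernel.ι a)) :=
    (Groth.Agent.S0622.hmono (kernel.ι a)).1 inferInstance Ω ξ
  have hnk : n • k = 0 := by
    apply hinj
    rw [map_nsmul, map_zero, hk]
    exact card_nsmul_eq_zero'
  obtain ⟨W, hW, φ, z, hz⟩ := exists_gen ξ (kernel a) k n hnk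
  let h : sh2 W (Zn n) ⟶ G := φ ≫ kernel.ι a
  have hh : h ≫ a = 0 := by rw [Category.assoc, kernel.condition, comp_zero]
  refine ⟨cokernel h, hP.coker h (constructible_sh2_Zn W hW n hn) hG, cokernel.π h,
    cokernel.desc h a hh, cokernel.π_desc _ _ _, ?_⟩
  have e1 : (EtCoh.stalk ξ).map h z = g := by
    have : (EtCoh.stalk ξ).map h = (EtCoh.stalk ξ).map φ ≫ (EtCoh.stalk ξ).map (kernel.ι a) :=
      Functor.map_comp _ _ _
    rw [this]
    exact (congrArg ((EtCoh.stalk ξ).map (kernel.ι a)) hz).trans hk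
  have e2 : (EtCoh.stalk ξ).map h ≫ (EtCoh.stalk ξ).map (cokernel.π h) = 0 := by
    rw [← Functor.map_comp, cokernel.condition, Functor.map_zero]
  rw [← e1]
  exact congrArg (fun m => (ConcreteCategory.hom m) z) e2

end Stalk

set_option backward.isDefEq.respectTransparency.types false in
set_option backward.isDefEq.respectTransparency false in
/-- the main theorem -/
theorem main (F : EtCoh.Ab X) (P : EtCoh.Ab X → Prop) (hP : Good P)
    (hgen : ∀ (Ω : Type u) [Field Ω] [IsSepClosed Ω] (ξ : Spec (CommRingCat.of Ω) ⟶ X)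
      (γ : (EtCoh.stalk ξ).obj F), ∃ G : EtCoh.Ab X, P G ∧ ∃ a : G ⟶ F,
        γ ∈ Set.range ((EtCoh.stalk ξ).map a)) :
    ∃ (J : Type (u + 1)) (_ : SmallCategory J) (_ : IsFiltered J) (D : J ⥤ EtCoh.Ab X)
      (c : Cocone D) (_ : IsColimit c), (∀ j, P (D.obj j)) ∧ Nonempty (c.pt ≅ F) := by
  haveI := isFiltered (F := F) hP
  let d : colimit (D F P) ⟶ F := colimit.desc (D F P) (cc F P)
  have hd : ∀ o : Obj F P, colimit.ι (D F P) o ≫ d = o.a := fun o => colimit.ι_desc _ _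
  have hrep : ∀ (Ω : Type u) [Field Ω] [IsSepClosed Ω] (ξ : Spec (CommRingCat.of Ω) ⟶ X)
      (z : (EtCoh.stalk ξ).obj (colimit (D F P))), ∃ (o : Obj F P) (g : (EtCoh.stalk ξ).obj o.p.sheaf),
        (EtCoh.stalk ξ).map (colimit.ι (D F P) o) g = z := by
    intro Ω _ _ ξ z
    have hcol : IsColimit ((EtCoh.stalk ξ).mapCocone (colimit.cocone (D F P))) :=
      isColimitOfPreserves (EtCoh.stalk ξ) (colimit.isColimit (D F P))
    obtain ⟨o, g, hg⟩ := Concrete.isColimit_exists_rep (D F P ⋙ EtCoh.stalk ξ) hcol z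
    exact ⟨o, g, hg⟩
  have hstalk : ∀ (Ω : Type u) [Field Ω] [IsSepClosed Ω] (ξ : Spec (CommRingCat.of Ω) ⟶ X)
      (o : Obj F P) (g : (EtCoh.stalk ξ).obj o.p.sheaf),
      (EtCoh.stalk ξ).map d ((EtCoh.stalk ξ).map (colimit.ι (D F P) o) g) =
        (EtCoh.stalk ξ).map o.a g := by
    intro Ω _ _ ξ o g
    have e : (EtCoh.stalk ξ).map (colimit.ι (D F P) o) ≫ (EtCoh.stalk ξ).map d =
        (EtCoh.stalk ξ).map o.a := by rw [← Functor.map_comp, hd]
    exact congrArg (fun m => (ConcreteCategory.hom m) g) e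
  haveI hmono : Mono d := by
    rw [Groth.Agent.S0622.hmono]
    intro Ω _ _ ξ
    rw [injective_iff_map_eq_zero]
    intro z hz
    obtain ⟨o, g, rfl⟩ := hrep Ω ξ z
    rw [hstalk] at hz
    obtain ⟨G', hG', π, a', hπa, hπg⟩ := exists_kill ξ hP o.hP o.a g hz
    obtain ⟨o', e, he⟩ := exists_obj hP G' hG' a'
    let f : o ⟶ o' := ⟨π ≫ e.hom, by rw [Category.assoc, he, hπa]⟩
    have hw : (D F P).map f ≫ colimit.ι (D F P) o' = colimit.ι (D F P) o := colimit.w (D F P) f
    have e1 : (EtCoh.stalk ξ).map (colimit.ι (D F P) o) =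
        (EtCoh.stalk ξ).map π ≫ (EtCoh.stalk ξ).map (e.hom ≫ colimit.ι (D F P) o') := by
      rw [← Functor.map_comp, ← hw]
      congr 1
    have e2 := congrArg (fun m => (ConcreteCategory.hom m) g) e1
    refine e2.trans ?_
    change (EtCoh.stalk ξ).map (e.hom ≫ colimit.ι (D F P) o') ((EtCoh.stalk ξ).map π g) = 0
    rw [hπg, map_zero]
  haveI hepi : Epi d := by
    rw [Groth.Agent.S0622.hepi]
    intro Ω _ _ ξ γ
    obtain ⟨G, hG, a, g, hg⟩ := hgen Ω ξ γ
    obtain ⟨o, e, he⟩ := exists_obj hP G hG a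
    refine ⟨(EtCoh.stalk ξ).map (colimit.ι (D F P) o) ((EtCoh.stalk ξ).map e.hom g), ?_⟩
    rw [hstalk]
    have e1 : (EtCoh.stalk ξ).map e.hom ≫ (EtCoh.stalk ξ).map o.a = (EtCoh.stalk ξ).map a := by
      rw [← Functor.map_comp, he]
    exact (congrArg (fun m => (ConcreteCategory.hom m) g) e1).trans hg
  haveI : IsIso d := isIso_of_mono_of_epi d
  haveI : IsIso ((colimit.isColimit (D F P)).desc (cc F P)) := inferInstanceAs (IsIso d)
  exact ⟨Obj F P, inferInstance, inferInstance, D F P, cc F P,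
    IsColimit.ofPointIso (colimit.isColimit (D F P)), fun o => o.hP, ⟨Iso.refl _⟩⟩

end QC

end Groth.Agent.Lib.Helper23.ColimConstr
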