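import Groth.Agent.Lib.Helper23.ColimConstr
import Groth.Agent.Lib.Helper23.ConstrClosure
import Groth.Agent.Lib.Helper23.SurjLocus
import Groth.Agent.S8526

/-!
# Supports, and killing finitely many germs of a constructible sheaf
-/

set_option autoImplicit false
universe u

namespace Groth.Agent.Lib.Helper23.ColimConstr2

open CategoryTheory CategoryTheory.Limits AlgebraicGeometry Opposite
open Groth.Agent.Lib.Helper23.ShriekRep Groth.Agent.Lib.Helper23.ShriekPres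
open Groth.Agent.Lib.Helper23.ColimConstr Groth.Agent.S0622

variable {X : Scheme.{u}}

section Supp

lemma supp_subset_of_iso {G G' : EtCoh.Ab X} (e : G ≅ G') : EtPBC.supp G' ⊆ EtPBC.supp G := by
  rintro x ⟨Ω, i1, i2, ξ, hr, hz⟩
  exact ⟨Ω, i1, i2, ξ, hr, fun h => hz (h.of_iso ((EtCoh.stalk ξ).mapIso e.symm))⟩

lemma supp_of_isZero {G : EtCoh.Ab X} (h : IsZero G) : EtPBC.supp G = ∅ := by
  ext x
  simp only [Set.mem_empty_iff_false, iff_false]
  rintro ⟨Ω, i1, i2, ξ, hr, hz⟩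
  exact hz ((EtCoh.stalk ξ).map_isZero h)

lemma supp_biprod_subset (G G' : EtCoh.Ab X) :
    EtPBC.supp (G ⊞ G') ⊆ EtPBC.supp G ∪ EtPBC.supp G' := by
  rintro x ⟨Ω, i1, i2, ξ, hr, hz⟩
  by_contra hcon
  rw [Set.mem_union, not_or] at hcon
  have h1 : IsZero ((EtCoh.stalk ξ).obj G) := by
    by_contra h
    exact hcon.1 ⟨Ω, i1, i2, ξ, hr, h⟩
  have h2 : IsZero ((EtCoh.stalk ξ).obj G') := by
    by_contra h
    exact hcon.2 ⟨Ω, i1, i2, ξ, hr, h⟩
  apply hz
  rw [IsZero.iff_id_eq_zero]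
  have e : 𝟙 (G ⊞ G') = biprod.fst ≫ biprod.inl + biprod.snd ≫ biprod.inr := biprod.total.symm
  rw [← CategoryTheory.Functor.map_id, e, Functor.map_add, Functor.map_comp, Functor.map_comp,
    h1.eq_of_src ((EtCoh.stalk ξ).map biprod.inl) 0, h2.eq_of_src ((EtCoh.stalk ξ).map biprod.inr) 0,
    comp_zero, comp_zero, add_zero]

lemma supp_cokernel_subset {G G' : EtCoh.Ab X} (h : G ⟶ G') :
    EtPBC.supp (cokernel h) ⊆ EtPBC.supp G' := by
  rintro x ⟨Ω, i1, i2, ξ, hr, hz⟩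
  refine ⟨Ω, i1, i2, ξ, hr, fun h0 => hz ?_⟩
  have hs := (hepi (cokernel.π h)).1 inferInstance Ω ξ
  haveI := AddCommGrpCat.subsingleton_of_isZero h0
  haveI : Subsingleton ((EtCoh.stalk ξ).obj (cokernel h)) := hs.subsingleton
  exact AddCommGrpCat.isZero_of_subsingleton _

lemma supp_subset_of_mono {G F : EtCoh.Ab X} (ι : G ⟶ F) [Mono ι] :
    EtPBC.supp G ⊆ EtPBC.supp F := by
  rintro x ⟨Ω, i1, i2, ξ, hr, hz⟩
  refine ⟨Ω, i1, i2, ξ, hr, fun h0 => hz ?_⟩
  have hi := (hmono ι).1 inferInstance Ω ξ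
  haveI := AddCommGrpCat.subsingleton_of_isZero h0
  haveI : Subsingleton ((EtCoh.stalk ξ).obj G) := hi.subsingleton
  exact AddCommGrpCat.isZero_of_subsingleton _

lemma notMem_supp (G : EtCoh.Ab X) (hG : EtPBC.IsConstructible G) {Ω : Type u} [Field Ω]
    [IsSepClosed Ω] (ξ : Spec (CommRingCat.of Ω) ⟶ X) (h : IsZero ((EtCoh.stalk ξ).obj G)) :
    ξ default ∉ EtPBC.supp G := by
  rintro ⟨Ω', i1, i2, ξ', hr, hz⟩
  have hd : ξ' default = ξ default := SurjLocus.default_of_range ξ' hr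
  obtain ⟨i⟩ := nonempty_stalk_iso_constructible ξ ξ' G hG hd.symm
  exact hz (h.of_iso i.symm)

lemma isZero_stalk_of_notMem_supp (F : EtCoh.Ab X) {Ω : Type u} [Field Ω]
    [IsSepClosed Ω] (ξ : Spec (CommRingCat.of Ω) ⟶ X) (h : ξ default ∉ EtPBC.supp F) :
    IsZero ((EtCoh.stalk ξ).obj F) := by
  by_contra hz
  exact h ⟨Ω, inferInstance, inferInstance, ξ, SurjLocus.range_of_default ξ rfl, hz⟩

lemma isConstructible_supp [CompactSpace X] [QuasiSeparatedSpace X] (G : EtCoh.Ab X)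
    (hG : EtPBC.IsConstructible G) : Topology.IsConstructible (EtPBC.supp G) :=
  (Groth.Agent.S8526.result G hG).isConstructible

end Supp

section Kill

variable [CompactSpace X] [QuasiSeparatedSpace X] {F : EtCoh.Ab X} {P : EtCoh.Ab X → Prop}
  {Ω : Type u} [Field Ω] [IsSepClosed Ω] (ξ : Spec (CommRingCat.of Ω) ⟶ X)

lemma exists_kill_epi (hP : Good P) {G : EtCoh.Ab X} (hG : P G) (a : G ⟶ F)
    (g : (EtCoh.stalk ξ).obj G) (hg : (EtCoh.stalk ξ).map a g = 0) :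
    ∃ (G' : EtCoh.Ab X) (_ : P G') (π : G ⟶ G') (_ : Epi π) (a' : G' ⟶ F), π ≫ a' = a ∧
      (EtCoh.stalk ξ).map π g = 0 := by
  obtain ⟨k, hk⟩ := exists_kernel_lift ξ a g hg
  haveI := SpecIso2.finite_stalk_of_constructible G (hP.constr G hG) ξ
  let n := Nat.card ((EtCoh.stalk ξ).obj G)
  have hn : 0 < n := Nat.card_pos
  have hinj : Function.Injective ((EtCoh.stalk ξ).map (kernel.ι a)) :=
    (hmono (kernel.ι a)).1 inferInstance Ω ξ
  have hnk : n • k = 0 := by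
    apply hinj
    rw [map_nsmul, map_zero, hk]
    exact card_nsmul_eq_zero'
  obtain ⟨W, hW, φ, z, hz⟩ := exists_gen ξ (kernel a) k n hnk
  let h : sh2 W (Zn n) ⟶ G := φ ≫ kernel.ι a
  have hh : h ≫ a = 0 := by rw [Category.assoc, kernel.condition, comp_zero]
  refine ⟨cokernel h, hP.coker h (constructible_sh2_Zn W hW n hn) hG, cokernel.π h, inferInstance,
    cokernel.desc h a hh, cokernel.π_desc _ _ _, ?_⟩
  have e1 : (EtCoh.stalk ξ).map h z = g := by
    have : (EtCoh.stalk ξ).map h = (EtCoh.stalk ξ).map φ ≫ (EtCoh.stalk ξ).map (kernel.ι a) :=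
      Functor.map_comp _ _ _
    rw [this]
    exact (congrArg ((EtCoh.stalk ξ).map (kernel.ι a)) hz).trans hk
  have e2 : (EtCoh.stalk ξ).map h ≫ (EtCoh.stalk ξ).map (cokernel.π h) = 0 := by
    rw [← Functor.map_comp, cokernel.condition, Functor.map_zero]
  rw [← e1]
  exact congrArg (fun m => (ConcreteCategory.hom m) z) e2

lemma exists_kill_finset (hP : Good P) {G : EtCoh.Ab X} (hG : P G) (a : G ⟶ F)
    (S : Finset ((EtCoh.stalk ξ).obj G)) (hS : ∀ g ∈ S, (EtCoh.stalk ξ).map a g = 0) :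
    ∃ (G' : EtCoh.Ab X) (_ : P G') (π : G ⟶ G') (_ : Epi π) (a' : G' ⟶ F), π ≫ a' = a ∧
      ∀ g ∈ S, (EtCoh.stalk ξ).map π g = 0 := by
  classical
  induction S using Finset.induction_on with
  | empty => exact ⟨G, hG, 𝟙 G, inferInstance, a, Category.id_comp a, by simp⟩
  | insert g₀ S _ ih =>
    obtain ⟨G₁, hG₁, π₁, hπ₁, a₁, h₁, hk₁⟩ :=
      ih (fun g hg => hS g (Finset.mem_insert_of_mem hg))
    have hcomp : ∀ g, (EtCoh.stalk ξ).map a₁ ((EtCoh.stalk ξ).map π₁ g) =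
        (EtCoh.stalk ξ).map a g := fun g => by
      have e : (EtCoh.stalk ξ).map π₁ ≫ (EtCoh.stalk ξ).map a₁ = (EtCoh.stalk ξ).map a := by
        rw [← Functor.map_comp, h₁]
      exact congrArg (fun m => (ConcreteCategory.hom m) g) e
    have h0 : (EtCoh.stalk ξ).map a₁ ((EtCoh.stalk ξ).map π₁ g₀) = 0 := by
      rw [hcomp]
      exact hS g₀ (Finset.mem_insert_self _ _)
    obtain ⟨G₂, hG₂, π₂, hπ₂, a₂, h₂, hk₂⟩ := exists_kill_epi ξ hP hG₁ a₁ _ h0
    haveI := hπ₁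
    haveI := hπ₂
    refine ⟨G₂, hG₂, π₁ ≫ π₂, epi_comp _ _, a₂, by rw [Category.assoc, h₂, h₁], ?_⟩
    intro g hg
    have e : (EtCoh.stalk ξ).map (π₁ ≫ π₂) g =
        (EtCoh.stalk ξ).map π₂ ((EtCoh.stalk ξ).map π₁ g) := by
      have e' : (EtCoh.stalk ξ).map (π₁ ≫ π₂) =
          (EtCoh.stalk ξ).map π₁ ≫ (EtCoh.stalk ξ).map π₂ := Functor.map_comp _ _ _
      exact congrArg (fun m => (ConcreteCategory.hom m) g) e'
    rw [e]
    rcases Finset.mem_insert.1 hg with rfl | hg'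
    · exact hk₂
    · rw [hk₁ g hg', map_zero]

/-- kill the whole stalk at a geometric point where the target has zero stalk -/
lemma exists_kill_stalk (hP : Good P) {G : EtCoh.Ab X} (hG : P G) (a : G ⟶ F)
    (hF : IsZero ((EtCoh.stalk ξ).obj F)) :
    ∃ (G' : EtCoh.Ab X) (_ : P G') (π : G ⟶ G') (_ : Epi π) (a' : G' ⟶ F), π ≫ a' = a ∧
      IsZero ((EtCoh.stalk ξ).obj G') := by
  classical
  haveI := SpecIso2.finite_stalk_of_constructible G (hP.constr G hG) ξ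
  haveI : Fintype ((EtCoh.stalk ξ).obj G) := Fintype.ofFinite _
  haveI := AddCommGrpCat.subsingleton_of_isZero hF
  obtain ⟨G', hG', π, hπ, a', h1, h2⟩ := exists_kill_finset ξ hP hG a Finset.univ
    (fun g _ => Subsingleton.elim _ _)
  refine ⟨G', hG', π, hπ, a', h1, ?_⟩
  haveI := hπ
  have hs := (hepi π).1 inferInstance Ω ξ
  haveI : Subsingleton ((EtCoh.stalk ξ).obj G') := by
    refine ⟨fun x y => ?_⟩
    obtain ⟨x', rfl⟩ := hs x
    obtain ⟨y', rfl⟩ := hs y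
    rw [h2 x' (Finset.mem_univ _), h2 y' (Finset.mem_univ _)]
  exact AddCommGrpCat.isZero_of_subsingleton _

end Kill

end Groth.Agent.Lib.Helper23.ColimConstr2
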