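import Mathlib.Algebra.Colimit.TensorProduct
import Mathlib.Algebra.Module.FinitePresentation
import Mathlib.LinearAlgebra.TensorProduct.RightExactness
import Mathlib.LinearAlgebra.TensorProduct.Pi
import Mathlib.RingTheory.TensorProduct.Finite

/-!
# Mittag-Leffler modules: approximation by finitely presented modules
-/

set_option autoImplicit false
universe u

open TensorProduct

namespace Groth.Agent.Lib.Helper23.ML

variable {R : Type u} [CommRing R]

/-- Stacks 059B-like: an element of `P ⊗ Q` killed in `M ⊗ Q` is already killed in `P' ⊗ Q` for a finitely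
presented `P'` through which `f : P → M` factors. -/
theorem approx {P M Q : Type u}
    [AddCommGroup P] [Module R P] [Module.FinitePresentation R P] [AddCommGroup M] [Module R M]
    [AddCommGroup Q] [Module R Q] (f : P →ₗ[R] M) (x : P ⊗[R] Q) (hx : f.rTensor Q x = 0) :
    ∃ (P' : Type u) (_ : AddCommGroup P') (_ : Module R P') (_ : Module.FinitePresentation R P')
      (f' : P →ₗ[R] P') (h : P' →ₗ[R] M), f = h ∘ₗ f' ∧ f'.rTensor Q x = 0 := by
  classical
  -- Step 1: a finitely generated submodule `N'` of `M` containing the range in which `x` dies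
  let I : Submodule R M := LinearMap.range f
  have hI : I.FG := by
    rw [← Module.Finite.iff_fg]
    exact Module.Finite.range f
  let f₀ : P →ₗ[R] I := f.rangeRestrict
  have h0 : I.subtype.rTensor Q (f₀.rTensor Q x) = I.subtype.rTensor Q 0 := by
    rw [← LinearMap.rTensor_comp_apply, map_zero]
    exact hx
  obtain ⟨N', hN', hle, h1⟩ := hI.exists_rTensor_fg_inclusion_eq h0
  rw [map_zero, ← LinearMap.rTensor_comp_apply] at h1
  haveI : Module.Finite R N' := Module.Finite.iff_fg.mpr hN'
  let f₁ : P →ₗ[R] N' := I.inclusion hle ∘ₗ f₀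
  have hf₁ : N'.subtype ∘ₗ f₁ = f := by
    ext p; rfl
  -- Step 2: a finite free cover
  obtain ⟨n, π₀, hπ₀⟩ := Module.Finite.exists_fin' R N'
  let π : P × (Fin n → R) →ₗ[R] N' := f₁.coprod π₀
  have hπ : Function.Surjective π := by
    intro y
    obtain ⟨c, rfl⟩ := hπ₀ y
    exact ⟨(0, c), by simp [π]⟩
  let K := LinearMap.ker π
  have hex : Function.Exact K.subtype π := LinearMap.exact_subtype_ker_map π
  let x' := (LinearMap.inl R P (Fin n → R)).rTensor Q x
  have hx' : π.rTensor Q x' = 0 := by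
    show π.rTensor Q ((LinearMap.inl R P (Fin n → R)).rTensor Q x) = 0
    rw [← LinearMap.rTensor_comp_apply]
    have : π ∘ₗ LinearMap.inl R P (Fin n → R) = f₁ := by
      ext p; simp [π]
    rw [this]
    exact h1
  obtain ⟨z, hz⟩ := (rTensor_exact Q hex hπ x').mp hx'
  obtain ⟨J, hJ, y, hy⟩ := Submodule.exists_fg_le_eq_rTensor_subtype z
  let K' : Submodule R (P × (Fin n → R)) := J.map K.subtype
  have hK' : K'.FG := hJ.map _
  have hK'K : K' ≤ LinearMap.ker π := by
    rintro _ ⟨k, _, rfl⟩
    exact k.2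
  haveI : Module.FinitePresentation R ((P × (Fin n → R)) ⧸ K') :=
    Module.finitePresentation_of_surjective K'.mkQ (Submodule.mkQ_surjective _)
      (by rw [Submodule.ker_mkQ]; exact hK')
  refine ⟨(P × (Fin n → R)) ⧸ K', inferInstance, inferInstance, inferInstance,
    K'.mkQ ∘ₗ LinearMap.inl R P (Fin n → R), N'.subtype ∘ₗ K'.liftQ π hK'K, ?_, ?_⟩
  · ext p
    simp only [LinearMap.comp_apply, Submodule.mkQ_apply, Submodule.liftQ_apply]
    have : π (LinearMap.inl R P (Fin n → R) p) = f₁ p := by simp [π]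
    rw [this]
    rfl
  · rw [LinearMap.rTensor_comp_apply]
    show K'.mkQ.rTensor Q x' = 0
    rw [← hz, hy, ← LinearMap.rTensor_comp_apply, ← LinearMap.rTensor_comp_apply]
    have : (K'.mkQ ∘ₗ K.subtype) ∘ₗ J.subtype = 0 := by
      ext j
      simp only [LinearMap.comp_apply, Submodule.subtype_apply, Submodule.mkQ_apply,
        LinearMap.zero_apply, Submodule.Quotient.mk_eq_zero]
      exact ⟨j.1, j.2, rfl⟩
    rw [this, LinearMap.rTensor_zero, LinearMap.zero_apply]

/-- `lTensor` version of `approx`. -/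
theorem approx' {P M Q : Type u}
    [AddCommGroup P] [Module R P] [Module.FinitePresentation R P] [AddCommGroup M] [Module R M]
    [AddCommGroup Q] [Module R Q] (f : P →ₗ[R] M) (x : Q ⊗[R] P) (hx : f.lTensor Q x = 0) :
    ∃ (P' : Type u) (_ : AddCommGroup P') (_ : Module R P') (_ : Module.FinitePresentation R P')
      (f' : P →ₗ[R] P') (h : P' →ₗ[R] M), f = h ∘ₗ f' ∧ f'.lTensor Q x = 0 := by
  have h0 : f.rTensor Q (TensorProduct.comm R Q P x) = 0 := by
    rw [LinearMap.rTensor_comm, hx, map_zero]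
  obtain ⟨P', i1, i2, i3, f', h, hf, hx'⟩ := approx f _ h0
  refine ⟨P', i1, i2, i3, f', h, hf, ?_⟩
  rw [LinearMap.rTensor_comm] at hx'
  exact (TensorProduct.comm R Q P').injective (by rw [hx', map_zero])

/-- Every element of `M ⊗ Q` comes from `M ⊗ F` for a finitely presented `F → Q`. -/
theorem exists_fp_lift {M Q : Type u} [AddCommGroup M] [Module R M] [AddCommGroup Q] [Module R Q]
    (y : M ⊗[R] Q) :
    ∃ (F : Type u) (_ : AddCommGroup F) (_ : Module R F) (_ : Module.FinitePresentation R F)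
      (u : F →ₗ[R] Q) (y₁ : M ⊗[R] F), u.lTensor M y₁ = y := by
  induction y with
  | zero => exact ⟨R, inferInstance, inferInstance, inferInstance, 0, 0, by simp⟩
  | tmul m q =>
    exact ⟨R, inferInstance, inferInstance, inferInstance, LinearMap.toSpanSingleton R Q q,
      m ⊗ₜ 1, by simp⟩
  | add y₁ y₂ ih₁ ih₂ =>
    obtain ⟨F₁, _, _, _, u₁, z₁, rfl⟩ := ih₁
    obtain ⟨F₂, _, _, _, u₂, z₂, rfl⟩ := ih₂
    refine ⟨F₁ × F₂, inferInstance, inferInstance, inferInstance, u₁.coprod u₂,
      (LinearMap.inl R F₁ F₂).lTensor M z₁ + (LinearMap.inr R F₁ F₂).lTensor M z₂, ?_⟩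
    rw [map_add, ← LinearMap.lTensor_comp_apply, ← LinearMap.lTensor_comp_apply,
      LinearMap.coprod_inl, LinearMap.coprod_inr]

/-- Stacks 059G: domination can be tested on finitely presented modules. -/
theorem dominates_of_fp {M N M' : Type u}
    [AddCommGroup M] [Module R M] [AddCommGroup N] [Module R N] [AddCommGroup M'] [Module R M']
    (f : M →ₗ[R] N) (g : M →ₗ[R] M')
    (H : ∀ (Q : Type u) [AddCommGroup Q] [Module R Q], Module.FinitePresentation R Q →
        LinearMap.ker (f.rTensor Q) ≤ LinearMap.ker (g.rTensor Q))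
    (Q : Type u) [AddCommGroup Q] [Module R Q] :
    LinearMap.ker (f.rTensor Q) ≤ LinearMap.ker (g.rTensor Q) := by
  intro y hy
  rw [LinearMap.mem_ker] at hy ⊢
  obtain ⟨F, _, _, _, u, y₁, rfl⟩ := exists_fp_lift y
  -- `w = (f ⊗ 1) y₁ ∈ N ⊗ F` dies in `N ⊗ Q`
  have hw : u.lTensor N (f.rTensor F y₁) = 0 := by
    rw [← LinearMap.comp_apply, LinearMap.lTensor_comp_rTensor, ← LinearMap.rTensor_comp_lTensor,
      LinearMap.comp_apply]
    exact hy
  obtain ⟨F', _, _, hF', g₁, h, hu, hg₁⟩ := approx' u _ hw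
  have h1 : f.rTensor F' (g₁.lTensor M y₁) = 0 := by
    rw [← LinearMap.comp_apply, LinearMap.rTensor_comp_lTensor, ← LinearMap.lTensor_comp_rTensor,
      LinearMap.comp_apply]
    exact hg₁
  have h2 : g.rTensor F' (g₁.lTensor M y₁) = 0 := H F' hF' h1
  rw [hu, LinearMap.lTensor_comp_apply, ← LinearMap.comp_apply, LinearMap.rTensor_comp_lTensor,
    ← LinearMap.lTensor_comp_rTensor, LinearMap.comp_apply, h2, map_zero]

end Groth.Agent.Lib.Helper23.ML
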