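import Mathlib
import Groth.Agent.S17539
import Groth.Agent.S17543
import Groth.Agent.S17545
import Groth.Agent.S6338
import Groth.Agent.S6347
import Groth.Agent.Lib.Helper23.ML

/-!
# Completion of a free module over a complete Noetherian ring: pure in the product, flat, Mittag-Leffler
-/

namespace Groth.Agent.Lib.Helper23.ComplFree

open TensorProduct W4c5adicflatcompl Function

universe u

variable {R : Type u} [CommRing R] [IsNoetherianRing R] (I : Ideal R) [IsAdicComplete I R] (α : Type u)

/-- the coordinate map -/
noncomputable def c : AdicCompletion I (α →₀ R) →ₗ[R] (α → AdicCompletion I R) :=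
  LinearMap.pi fun a => (AdicCompletion.map I (Finsupp.lapply (M := R) (R := R) a)).restrictScalars R

/-- `R ≃ R^` -/
noncomputable def e : R ≃ₗ[R] AdicCompletion I R := AdicCompletion.ofLinearEquiv I R

theorem mem_pow_smul_top_iff (n : ℕ) (x : AdicCompletion I R) :
    (e I).symm x ∈ (I ^ n • ⊤ : Submodule R R) ↔ x ∈ (I ^ n • ⊤ : Submodule R (AdicCompletion I R)) := by
  have h : ((I ^ n • ⊤ : Submodule R R)).map (e I).toLinearMap =
      (I ^ n • ⊤ : Submodule R (AdicCompletion I R)) := by
    rw [Submodule.map_smul'', Submodule.map_top, LinearEquiv.range]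
  rw [← h]
  constructor
  · intro hx
    exact ⟨_, hx, (e I).apply_symm_apply x⟩
  · rintro ⟨y, hy, rfl⟩
    rw [LinearEquiv.coe_coe, LinearEquiv.symm_apply_apply]
    exact hy

/-- coordinates with values in `R` -/
noncomputable def c' : AdicCompletion I (α →₀ R) →ₗ[R] (α → R) :=
  (LinearEquiv.piCongrRight fun _ : α => (e I).symm).toLinearMap ∘ₗ c I α

theorem c_injective : Injective (c I α) := by
  haveI : IsAdicComplete I (AdicCompletion I R) :=
    AdicCompletion.isAdicComplete (IsNoetherian.noetherian I)
  exact (Groth.Agent.S17539.result I α R).1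

theorem range_c : LinearMap.range (c I α) = decaying I α (AdicCompletion I R) := by
  haveI : IsAdicComplete I (AdicCompletion I R) :=
    AdicCompletion.isAdicComplete (IsNoetherian.noetherian I)
  exact (Groth.Agent.S17539.result I α R).2

theorem c'_injective : Injective (c' I α) :=
  (LinearEquiv.piCongrRight fun _ : α => (e I).symm).injective.comp (c_injective I α)

theorem c'_mem (x : AdicCompletion I (α →₀ R)) : c' I α x ∈ decaying I α R := by
  have hx : c I α x ∈ decaying I α (AdicCompletion I R) := by
    rw [← range_c]; exact ⟨x, rfl⟩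
  intro n
  refine (hx n).subset ?_
  intro a ha hmem
  apply ha
  show (e I).symm (c I α x a) ∈ _
  rw [mem_pow_smul_top_iff]
  exact hmem

theorem c'_surj (f : decaying I α R) : ∃ x, c' I α x = f := by
  have hf : (fun a => e I (f.1 a)) ∈ decaying I α (AdicCompletion I R) := by
    intro n
    refine (f.2 n).subset ?_
    intro a ha hmem
    apply ha
    show e I (f.1 a) ∈ _
    rw [← mem_pow_smul_top_iff, LinearEquiv.symm_apply_apply]
    exact hmem
  rw [← range_c] at hf
  obtain ⟨x, hx⟩ := hf
  refine ⟨x, ?_⟩
  funext a
  show (e I).symm (c I α x a) = f.1 a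
  rw [hx, LinearEquiv.symm_apply_apply]

/-- the completion of the free module is the module of decaying functions -/
noncomputable def ψ : AdicCompletion I (α →₀ R) ≃ₗ[R] decaying I α R :=
  LinearEquiv.ofBijective ((c' I α).codRestrict (decaying I α R) (c'_mem I α))
    ⟨fun x y h => c'_injective I α (congrArg Subtype.val h),
      fun f => by
        obtain ⟨x, hx⟩ := c'_surj I α f
        exact ⟨x, Subtype.ext hx⟩⟩

theorem subtype_comp_ψ : (decaying I α R).subtype ∘ₗ (ψ I α).toLinearMap = c' I α := by
  ext x; rfl

theorem lTensor_c_injective (Q : Type u) [AddCommGroup Q] [Module R Q] [Module.Finite R Q] :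
    Injective ((c I α).lTensor Q) := by
  have h1 := (Groth.Agent.S17543.result I α Q).1
  rw [LinearMap.coe_comp] at h1
  have h2 : Injective ((decaying I α R).subtype.lTensor Q) := Function.Injective.of_comp h1
  have h3 : Injective ((c' I α).lTensor Q) := by
    rw [← subtype_comp_ψ, LinearMap.lTensor_comp]
    exact h2.comp (LinearEquiv.lTensor Q (ψ I α)).injective
  unfold c' at h3
  rw [LinearMap.lTensor_comp, LinearMap.coe_comp] at h3
  exact Function.Injective.of_comp h3

theorem rTensor_c_injective_of_finite (Q : Type u) [AddCommGroup Q] [Module R Q] [Module.Finite R Q] :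
    Injective ((c I α).rTensor Q) := by
  intro x y h
  apply (TensorProduct.comm R _ Q).injective
  apply lTensor_c_injective I α Q
  have := congrArg (TensorProduct.comm R _ Q) h
  rwa [← LinearMap.lTensor_comm, ← LinearMap.lTensor_comm] at this

theorem c_universallyInjective : CAlgX.UniversallyInjective R (c I α) := by
  intro Q _ _
  have H := Groth.Agent.Lib.Helper23.ML.dominates_of_fp (c I α) LinearMap.id
    (fun Q' _ _ hfp => by
      haveI := hfp
      intro z hz
      rw [LinearMap.mem_ker] at hz ⊢
      have : z = 0 := rTensor_c_injective_of_finite I α Q' (by rw [hz, map_zero])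
      rw [this, map_zero]) Q
  intro x y hxy
  have hmem : x - y ∈ LinearMap.ker ((c I α).rTensor Q) := by
    rw [LinearMap.mem_ker, map_sub, hxy, sub_self]
  have := H hmem
  rw [LinearMap.mem_ker, LinearMap.rTensor_id, LinearMap.id_apply] at this
  exact sub_eq_zero.1 this

theorem flat_completion : Module.Flat R (AdicCompletion I (α →₀ R)) := by
  haveI : Module.Flat R (decaying I α R) := Groth.Agent.S17545.result I α
  exact Module.Flat.of_linearEquiv (ψ I α)

theorem ml_completion : CAlg.IsMittagLeffler R (AdicCompletion I (α →₀ R)) := by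
  have hP : CAlg.IsMittagLeffler R (α → R) := (Groth.Agent.S6347.result R α).2
  have hc' : CAlgX.UniversallyInjective R (c' I α) := by
    intro Q _ _
    unfold c'
    rw [LinearMap.rTensor_comp, LinearMap.coe_comp]
    exact (LinearEquiv.rTensor Q (LinearEquiv.piCongrRight fun _ : α => (e I).symm)).injective.comp
      (c_universallyInjective I α Q)
  exact Groth.Agent.S6338.result R (c' I α) hc' hP

end Groth.Agent.Lib.Helper23.ComplFree
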