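import Mathlib
import Groth.Agent.Lib.Helper23.ML

/-!
# `N → N^` is universally injective under a condition on associated primes (Stacks 38.?)
-/

namespace Groth.Agent.Lib.Helper23.ComplInj

open TensorProduct Function

universe u

variable {R S : Type u} [CommRing R] [CommRing S] [Algebra R S] [IsNoetherianRing R]
  [IsNoetherianRing S] (I : Ideal R)
  (N : Type u) [AddCommGroup N] [Module S N] [Module R N] [IsScalarTower R S N] [Module.Finite S N]

omit [IsNoetherianRing R] [IsNoetherianRing S] [Module.Finite S N] in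
theorem tmul_mem (Q : Type u) [AddCommGroup Q] [Module R Q] (n : ℕ) (m : N)
    (hm : m ∈ (I ^ n • ⊤ : Submodule R N)) (q : Q) :
    m ⊗ₜ[R] q ∈ ((I.map (algebraMap R S)) ^ n • ⊤ : Submodule S (N ⊗[R] Q)) := by
  refine Submodule.smul_induction_on (p := fun m : N =>
    m ⊗ₜ[R] q ∈ ((I.map (algebraMap R S)) ^ n • ⊤ : Submodule S (N ⊗[R] Q))) hm ?_ ?_
  · intro r hr m' _
    have h1 : (r • m') ⊗ₜ[R] q = (algebraMap R S r) • (m' ⊗ₜ[R] q) := by
      rw [TensorProduct.smul_tmul', algebraMap_smul]
    rw [h1]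
    refine Submodule.smul_mem_smul ?_ Submodule.mem_top
    rw [← Ideal.map_pow]
    exact Ideal.mem_map_of_mem _ hr
  · intro x y hx hy
    rw [add_tmul]
    exact Submodule.add_mem _ hx hy

omit [IsNoetherianRing R] [IsNoetherianRing S] [Module.Finite S N] in
theorem range_le (Q : Type u) [AddCommGroup Q] [Module R Q] (n : ℕ)
    (w : (I ^ n • ⊤ : Submodule R N) ⊗[R] Q) :
    (I ^ n • ⊤ : Submodule R N).subtype.rTensor Q w ∈
      ((I.map (algebraMap R S)) ^ n • ⊤ : Submodule S (N ⊗[R] Q)) := by
  induction w using TensorProduct.induction_on with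
  | zero => rw [map_zero]; exact Submodule.zero_mem _
  | add x y hx hy => rw [map_add]; exact Submodule.add_mem _ hx hy
  | tmul x q =>
    rw [LinearMap.rTensor_tmul]
    exact tmul_mem I N Q n x.1 x.2 q

theorem rTensor_of_injective (Q : Type u) [AddCommGroup Q] [Module R Q] [Module.Finite R Q]
    (h : ∀ q ∈ associatedPrimes S (N ⊗[R] Q), I.map (algebraMap R S) ⊔ q ≠ ⊤) :
    Injective ((AdicCompletion.of I N).rTensor Q) := by
  rw [injective_iff_map_eq_zero]
  intro z hz
  by_contra hne
  have h1 : ∀ n, z ∈ ((I.map (algebraMap R S)) ^ n • ⊤ : Submodule S (N ⊗[R] Q)) := by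
    intro n
    have h2 : (Submodule.mkQ (I ^ n • ⊤ : Submodule R N)).rTensor Q z = 0 := by
      have : (AdicCompletion.eval I N n).rTensor Q ((AdicCompletion.of I N).rTensor Q z) = 0 := by
        rw [hz, map_zero]
      rwa [← LinearMap.rTensor_comp_apply, AdicCompletion.eval_comp_of] at this
    have hex := rTensor_exact Q (LinearMap.exact_subtype_mkQ (I ^ n • ⊤ : Submodule R N))
      (Submodule.mkQ_surjective _)
    obtain ⟨w, rfl⟩ := (hex z).1 h2
    exact range_le I N Q n w
  have h3 : z ∈ (⨅ n : ℕ, (I.map (algebraMap R S)) ^ n • ⊤ : Submodule S (N ⊗[R] Q)) :=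
    (Submodule.mem_iInf _).2 h1
  haveI : Module.Finite S (N ⊗[R] Q) :=
    Module.Finite.equiv (AlgebraTensorModule.cancelBaseChange R S S N Q)
  obtain ⟨r, hr⟩ := (Ideal.mem_iInf_smul_pow_eq_bot_iff _ z).1 h3
  obtain ⟨P, hP, hle⟩ := exists_le_isAssociatedPrime_of_isNoetherianRing S z hne
  have h1r : (1 - (r : S)) ∈ P := hle (by
    rw [Submodule.mem_colon_singleton, sub_smul, one_smul, hr, sub_self]
    exact Submodule.zero_mem _)
  apply h P hP
  rw [Ideal.eq_top_iff_one]
  have : (1 : S) = (r : S) + (1 - (r : S)) := by ring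
  rw [this]
  exact Submodule.add_mem_sup r.2 h1r

theorem univInj
    (h : ∀ (Q : Type u) [AddCommGroup Q] [Module R Q], Module.Finite R Q →
      ∀ q ∈ associatedPrimes S (N ⊗[R] Q), I.map (algebraMap R S) ⊔ q ≠ ⊤)
    (Q : Type u) [AddCommGroup Q] [Module R Q] :
    Injective ((AdicCompletion.of I N).lTensor Q) := by
  have H := Groth.Agent.Lib.Helper23.ML.dominates_of_fp (AdicCompletion.of I N) LinearMap.id
    (fun Q' _ _ hfp => by
      haveI := hfp
      haveI : Module.Finite R Q' := inferInstance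
      intro z hz
      rw [LinearMap.mem_ker] at hz ⊢
      have : z = 0 := rTensor_of_injective I N Q' (h Q' inferInstance) (by rw [hz, map_zero])
      rw [this, map_zero]) Q
  have hr : Injective ((AdicCompletion.of I N).rTensor Q) := by
    intro x y hxy
    have hmem : x - y ∈ LinearMap.ker ((AdicCompletion.of I N).rTensor Q) := by
      rw [LinearMap.mem_ker, map_sub, hxy, sub_self]
    have := H hmem
    rw [LinearMap.mem_ker, LinearMap.rTensor_id, LinearMap.id_apply] at this
    exact sub_eq_zero.1 this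
  intro x y hxy
  apply (TensorProduct.comm R Q N).injective
  apply hr
  have := congrArg (TensorProduct.comm R Q _) hxy
  rwa [← LinearMap.rTensor_comm, ← LinearMap.rTensor_comm] at this

end Groth.Agent.Lib.Helper23.ComplInj
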