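import Mathlib
import Groth.Agent.Lib.Helper23.ML

/-!
# `B → B^` (adic completion along an ideal of `B`) is universally injective over `A`
under a condition on associated primes
-/

set_option autoImplicit false

namespace Groth.Agent.Lib.Helper23.ComplInjJ

open TensorProduct Function

universe u

variable {A B : Type u} [CommRing A] [CommRing B] [Algebra A B] [IsNoetherianRing B]
  (J : Ideal B) (Bh : Type u) [CommRing Bh] [Algebra B Bh] [Algebra A Bh] [IsScalarTower A B Bh]

omit [IsNoetherianRing B] in
theorem range_le (Q : Type u) [AddCommGroup Q] [Module A Q] (I : Ideal B)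
    (w : (I.restrictScalars A : Submodule A B) ⊗[A] Q) :
    (I.restrictScalars A : Submodule A B).subtype.rTensor Q w ∈
      (I • ⊤ : Submodule B (B ⊗[A] Q)) := by
  induction w using TensorProduct.induction_on with
  | zero => rw [map_zero]; exact Submodule.zero_mem _
  | add x y hx hy => rw [map_add]; exact Submodule.add_mem _ hx hy
  | tmul x q =>
    rw [LinearMap.rTensor_tmul]
    have : ((I.restrictScalars A : Submodule A B).subtype x) ⊗ₜ[A] q
        = (x : B) • ((1 : B) ⊗ₜ[A] q) := by
      rw [TensorProduct.smul_tmul', smul_eq_mul, mul_one]; rfl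
    rw [this]
    exact Submodule.smul_mem_smul x.2 Submodule.mem_top

theorem rTensor_injective (Q : Type u) [AddCommGroup Q] [Module A Q] [Module.Finite A Q]
    (hq : ∀ n : ℕ, Function.Bijective (Ideal.quotientMap ((J ^ n).map (algebraMap B Bh))
      (algebraMap B Bh) Ideal.le_comap_map))
    (h : ∀ P ∈ associatedPrimes B (B ⊗[A] Q), J ⊔ P ≠ ⊤) :
    Injective ((IsScalarTower.toAlgHom A B Bh).toLinearMap.rTensor Q) := by
  rw [injective_iff_map_eq_zero]
  intro z hz
  by_contra hne
  have h1 : ∀ n, z ∈ (J ^ n • ⊤ : Submodule B (B ⊗[A] Q)) := by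
    intro n
    let πn : B →ₗ[A] B ⧸ J ^ n := (Ideal.Quotient.mkₐ A (J ^ n)).toLinearMap
    let πn' : Bh →ₗ[A] Bh ⧸ (J ^ n).map (algebraMap B Bh) :=
      (Ideal.Quotient.mkₐ A ((J ^ n).map (algebraMap B Bh))).toLinearMap
    let gn : (B ⧸ J ^ n) →ₗ[A] Bh ⧸ (J ^ n).map (algebraMap B Bh) :=
      (Ideal.quotientMapₐ ((J ^ n).map (algebraMap B Bh)) (IsScalarTower.toAlgHom A B Bh)
        Ideal.le_comap_map).toLinearMap
    have hgn : Function.Bijective gn := hq n
    have hcomm : gn ∘ₗ πn = πn' ∘ₗ (IsScalarTower.toAlgHom A B Bh).toLinearMap := by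
      apply LinearMap.ext
      intro b
      rfl
    have h2 : πn.rTensor Q z = 0 := by
      have hinj : Injective (gn.rTensor Q) := by
        have := (TensorProduct.congr (LinearEquiv.ofBijective gn hgn)
          (LinearEquiv.refl A Q)).injective
        exact this
      apply hinj
      rw [map_zero, ← LinearMap.rTensor_comp_apply, hcomm, LinearMap.rTensor_comp_apply, hz,
        map_zero]
    have hexact : Function.Exact ((J ^ n).restrictScalars A : Submodule A B).subtype πn := by
      intro b
      constructor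
      · intro hb
        exact ⟨⟨b, Ideal.Quotient.eq_zero_iff_mem.mp hb⟩, rfl⟩
      · rintro ⟨x, rfl⟩
        exact Ideal.Quotient.eq_zero_iff_mem.mpr x.2
    have hsurj : Function.Surjective πn := Ideal.Quotient.mk_surjective
    have hex := rTensor_exact Q hexact hsurj
    obtain ⟨w, rfl⟩ := (hex z).1 h2
    exact range_le Q (J ^ n) w
  have h3 : z ∈ (⨅ n : ℕ, J ^ n • ⊤ : Submodule B (B ⊗[A] Q)) :=
    (Submodule.mem_iInf _).2 h1
  haveI : Module.Finite B (B ⊗[A] Q) := inferInstance
  obtain ⟨r, hr⟩ := (Ideal.mem_iInf_smul_pow_eq_bot_iff _ z).1 h3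
  obtain ⟨P, hP, hle⟩ := exists_le_isAssociatedPrime_of_isNoetherianRing B z hne
  have h1r : (1 - (r : B)) ∈ P := hle (by
    rw [Submodule.mem_colon_singleton, sub_smul, one_smul, hr, sub_self]
    exact Submodule.zero_mem _)
  apply h P hP
  rw [Ideal.eq_top_iff_one]
  have : (1 : B) = (r : B) + (1 - (r : B)) := by ring
  rw [this]
  exact Submodule.add_mem_sup r.2 h1r

theorem univInj
    (hq : ∀ n : ℕ, Function.Bijective (Ideal.quotientMap ((J ^ n).map (algebraMap B Bh))
      (algebraMap B Bh) Ideal.le_comap_map))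
    (h : ∀ (Q : Type u) [AddCommGroup Q] [Module A Q], Module.Finite A Q →
      ∀ P ∈ associatedPrimes B (B ⊗[A] Q), J ⊔ P ≠ ⊤)
    (Q : Type u) [AddCommGroup Q] [Module A Q] :
    Injective ((IsScalarTower.toAlgHom A B Bh).toLinearMap.lTensor Q) := by
  set f := (IsScalarTower.toAlgHom A B Bh).toLinearMap with hf
  have H := Groth.Agent.Lib.Helper23.ML.dominates_of_fp f LinearMap.id
    (fun Q' _ _ hfp => by
      haveI := hfp
      haveI : Module.Finite A Q' := inferInstance
      intro z hz
      rw [LinearMap.mem_ker] at hz ⊢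
      have : z = 0 := rTensor_injective J Bh Q' hq (h Q' inferInstance) (by rw [hz, map_zero])
      rw [this, map_zero]) Q
  have hr : Injective (f.rTensor Q) := by
    intro x y hxy
    have hmem : x - y ∈ LinearMap.ker (f.rTensor Q) := by
      rw [LinearMap.mem_ker, map_sub, hxy, sub_self]
    have := H hmem
    rw [LinearMap.mem_ker, LinearMap.rTensor_id, LinearMap.id_apply] at this
    exact sub_eq_zero.1 this
  intro x y hxy
  apply (TensorProduct.comm A Q B).injective
  apply hr
  have := congrArg (TensorProduct.comm A Q _) hxy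
  rwa [← LinearMap.rTensor_comm, ← LinearMap.rTensor_comm] at this

end Groth.Agent.Lib.Helper23.ComplInjJ
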