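import Mathlib
import Groth.Agent.Lib.Helper17.LocalFlat
import Groth.Agent.Lib.Helper21.FlatKit2

/-!
# Bases modulo a nilpotent ideal (Stacks 051G-like)
-/

namespace Groth.Agent.Lib.Helper23.NilBasis

open TensorProduct Function

universe u
variable {R : Type u} [CommRing R] (I : Ideal R) {M : Type u} [AddCommGroup M] [Module R M]
  {A : Type u} [DecidableEq A] (x : A → M)

/-- compatibility of the reduction of `linearCombination` -/
theorem lTensor_linearCombination (y : A →₀ (R ⧸ I)) :
    (Finsupp.linearCombination R x).lTensor (R ⧸ I)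
      ((TensorProduct.finsuppScalarRight R (R ⧸ I) (R ⧸ I) A).symm y) =
    Finsupp.linearCombination (R ⧸ I) (fun a => (1 : R ⧸ I) ⊗ₜ[R] x a) y := by
  induction y using Finsupp.induction_linear with
  | zero => simp
  | add f g hf hg => rw [map_add, map_add, map_add, hf, hg]
  | single a c =>
    rw [TensorProduct.finsuppScalarRight_symm_apply_single, LinearMap.lTensor_tmul,
      Finsupp.linearCombination_single, Finsupp.linearCombination_single, one_smul,
      TensorProduct.smul_tmul', smul_eq_mul, mul_one]

theorem basis_of_basis_mod (hI : IsNilpotent I)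
    (htor : Injective ((Submodule.subtype I).rTensor M))
    (hli : LinearIndependent (R ⧸ I) (fun a => (1 : R ⧸ I) ⊗ₜ[R] x a))
    (hsp : Submodule.span (R ⧸ I) (Set.range fun a => (1 : R ⧸ I) ⊗ₜ[R] x a) = ⊤) :
    LinearIndependent R x ∧ Submodule.span R (Set.range x) = ⊤ := by
  haveI : Module.Free (R ⧸ I) ((R ⧸ I) ⊗[R] M) := Module.Free.of_basis (Module.Basis.mk hli hsp.ge)
  haveI : Module.Flat R M := Groth.Agent.Lib.Helper17.LocalFlat.flat_of_nilpotent M hI htor
  set h := Finsupp.linearCombination R x with hh
  set e := (TensorProduct.finsuppScalarRight R (R ⧸ I) (R ⧸ I) A) with he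
  have hinj : Injective (h.lTensor (R ⧸ I)) := by
    intro u v huv
    have hu := lTensor_linearCombination I x (e u)
    have hv := lTensor_linearCombination I x (e v)
    rw [LinearEquiv.symm_apply_apply] at hu hv
    have : e u = e v := hli (by rw [← hu, ← hv, huv])
    exact e.injective this
  have hsurj : Surjective (h.lTensor (R ⧸ I)) := by
    intro z
    have hz : z ∈ LinearMap.range (Finsupp.linearCombination (R ⧸ I)
        (fun a => (1 : R ⧸ I) ⊗ₜ[R] x a)) := by
      rw [Finsupp.range_linearCombination, hsp]; trivial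
    obtain ⟨y, rfl⟩ := hz
    exact ⟨e.symm y, lTensor_linearCombination I x y⟩
  have hs : Surjective h :=
    Groth.Agent.Lib.Helper21.FlatKit.surjective_of_lTensor_quotient_surjective I hI h hsurj
  haveI : Subsingleton (M ⧸ LinearMap.range h) := by
    rw [Submodule.Quotient.subsingleton_iff, LinearMap.range_eq_top]
    exact hs
  haveI : Module.Flat (R ⧸ I) ((R ⧸ I) ⊗[R] (M ⧸ LinearMap.range h)) := inferInstance
  have hi : Injective h :=
    Groth.Agent.Lib.Helper21.FlatKit.injective_of_lTensor_quotient_injective hI h hinj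
  refine ⟨hi, ?_⟩
  rw [← Finsupp.range_linearCombination]
  exact LinearMap.range_eq_top.mpr hs

end Groth.Agent.Lib.Helper23.NilBasis
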