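import Mathlib
import Groth.Agent.Lib.Helper23.NilBasis

/-!
# Flat + projective modulo a nilpotent ideal ⇒ projective (Stacks 07LV-like)

Proof by the Eilenberg swindle and lifting of bases modulo a nilpotent ideal.
-/

namespace Groth.Agent.Lib.Helper23.NilProj

open TensorProduct Function

universe u

section prod

variable {R : Type*} [CommRing R] {M N : Type*} [AddCommGroup M] [Module R M]
  [AddCommGroup N] [Module R N]

theorem flat_prod [Module.Flat R M] [Module.Flat R N] : Module.Flat R (M × N) := by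
  rw [Module.Flat.iff_rTensor_injective']
  intro I
  have hM : Injective (I.subtype.rTensor M) :=
    Module.Flat.rTensor_preserves_injective_linearMap _ (Submodule.injective_subtype _)
  have hN : Injective (I.subtype.rTensor N) :=
    Module.Flat.rTensor_preserves_injective_linearMap _ (Submodule.injective_subtype _)
  have hcomm : ∀ z, TensorProduct.prodRight R R R M N (I.subtype.rTensor (M × N) z) =
      LinearMap.prodMap (I.subtype.rTensor M) (I.subtype.rTensor N)
        (TensorProduct.prodRight R R I M N z) := by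
    intro z
    induction z using TensorProduct.induction_on with
    | zero => rw [map_zero, map_zero, map_zero, map_zero]
    | add x y hx hy =>
      rw [map_add, map_add, map_add, map_add, hx, hy]
    | tmul i mn =>
      obtain ⟨m, n⟩ := mn
      rw [LinearMap.rTensor_tmul, TensorProduct.prodRight_tmul, TensorProduct.prodRight_tmul]
      rfl
  intro z₁ z₂ h
  apply (TensorProduct.prodRight R R I M N).injective
  have := congrArg (TensorProduct.prodRight R R R M N) h
  rw [hcomm, hcomm] at this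
  exact (Prod.map_injective.2 ⟨hM, hN⟩) this

end prod

section swindle

variable {S : Type u} [CommRing S]

/-- a split surjection decomposes the source -/
noncomputable def splitEquiv {F P : Type*} [AddCommGroup F] [Module S F] [AddCommGroup P] [Module S P]
    (π : F →ₗ[S] P) (s : P →ₗ[S] F) (h : π ∘ₗ s = LinearMap.id) : F ≃ₗ[S] P × LinearMap.ker π :=
  have hπs : ∀ p, π (s p) = p := fun p => LinearMap.congr_fun h p
  LinearEquiv.ofLinearMap
    (LinearMap.prod π ((LinearMap.id - s ∘ₗ π).codRestrict (LinearMap.ker π) (fun x => by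
        rw [LinearMap.mem_ker, LinearMap.sub_apply, map_sub, LinearMap.id_apply,
          LinearMap.comp_apply, hπs, sub_self])))
    (LinearMap.coprod s (LinearMap.ker π).subtype)
    (by
      apply LinearMap.ext
      rintro ⟨p, q⟩
      have hq : π q.1 = 0 := q.2
      apply Prod.ext
      · simp [hπs, hq]
      · apply Subtype.ext
        simp [hπs, hq])
    (by
      apply LinearMap.ext
      intro x
      simp)

/-- `ℕ →₀ S ≃ S × (ℕ →₀ S)` -/
noncomputable def natE : (ℕ →₀ S) ≃ₗ[S] S × (ℕ →₀ S) :=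
  (Finsupp.domLCongr (Equiv.natSumPUnitEquivNat.{0}).symm) ≪≫ₗ
    (Finsupp.sumFinsuppLEquivProdFinsupp S) ≪≫ₗ
    (LinearEquiv.prodComm S _ _) ≪≫ₗ
    (LinearEquiv.prodCongr (Finsupp.uniqueLinearEquiv S S (PUnit.unit : PUnit.{1})) (LinearEquiv.refl S _))

/-- countable direct sum functor -/
abbrev T (X : Type*) [AddCommGroup X] [Module S X] := (ℕ →₀ S) ⊗[S] X

noncomputable def shiftE (X : Type*) [AddCommGroup X] [Module S X] : T (S := S) X ≃ₗ[S] X × T (S := S) X :=
  (LinearEquiv.rTensor X natE) ≪≫ₗ (TensorProduct.prodLeft S S S (ℕ →₀ S) X) ≪≫ₗ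
    (LinearEquiv.prodCongr (TensorProduct.lid S X) (LinearEquiv.refl S _))

theorem swindle (P : Type u) [AddCommGroup P] [Module S P] [Module.Projective S P] :
    ∃ (κ : Type u), Nonempty ((P × (κ →₀ S)) ≃ₗ[S] (κ →₀ S)) := by
  obtain ⟨s, hs⟩ := (Module.projective_def' (R := S) (P := P)).1 inferInstance
  set π := Finsupp.linearCombination S (id : P → P) with hπ
  let Q := LinearMap.ker π
  let e₀ : (P →₀ S) ≃ₗ[S] P × Q := splitEquiv π s hs
  let e₁ : (P × T (S := S) (P →₀ S)) ≃ₗ[S] T (S := S) (P →₀ S) :=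
    (LinearEquiv.prodCongr (LinearEquiv.refl S P) (LinearEquiv.lTensor (ℕ →₀ S) e₀)) ≪≫ₗ
    (LinearEquiv.prodCongr (LinearEquiv.refl S P) (TensorProduct.prodRight S S (ℕ →₀ S) P Q)) ≪≫ₗ
    (LinearEquiv.prodAssoc S P (T (S := S) P) (T (S := S) Q)).symm ≪≫ₗ
    (LinearEquiv.prodCongr (shiftE (S := S) P).symm (LinearEquiv.refl S _)) ≪≫ₗ
    (TensorProduct.prodRight S S (ℕ →₀ S) P Q).symm ≪≫ₗ
    (LinearEquiv.lTensor (ℕ →₀ S) e₀).symm
  let b := Module.Free.chooseBasis S (T (S := S) (P →₀ S))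
  refine ⟨Module.Free.ChooseBasisIndex S (T (S := S) (P →₀ S)), ⟨?_⟩⟩
  exact (LinearEquiv.prodCongr (LinearEquiv.refl S P) b.repr.symm) ≪≫ₗ e₁ ≪≫ₗ b.repr

end swindle

section lift

variable {R : Type u} [CommRing R] (I : Ideal R)

theorem one_tmul_surjective (M : Type*) [AddCommGroup M] [Module R M] (z : (R ⧸ I) ⊗[R] M) :
    ∃ m : M, (1 : R ⧸ I) ⊗ₜ[R] m = z := by
  induction z using TensorProduct.induction_on with
  | zero => exact ⟨0, by simp⟩
  | add x y hx hy =>
    obtain ⟨m, rfl⟩ := hx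
    obtain ⟨n, rfl⟩ := hy
    exact ⟨m + n, by rw [tmul_add]⟩
  | tmul c m =>
    obtain ⟨r, rfl⟩ := Ideal.Quotient.mk_surjective c
    refine ⟨r • m, ?_⟩
    rw [← TensorProduct.smul_tmul, ← Ideal.Quotient.algebraMap_eq, Algebra.smul_def, mul_one]

theorem free_of_free_mod (hI : IsNilpotent I) (M : Type u) [AddCommGroup M] [Module R M]
    [Module.Flat R M] [Module.Free (R ⧸ I) ((R ⧸ I) ⊗[R] M)] : Module.Free R M := by
  classical
  let b := Module.Free.chooseBasis (R ⧸ I) ((R ⧸ I) ⊗[R] M)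
  choose x hx using fun a => one_tmul_surjective I M (b a)
  have hfun : (fun a => (1 : R ⧸ I) ⊗ₜ[R] x a) = b := funext hx
  have htor : Injective ((Submodule.subtype I).rTensor M) :=
    Module.Flat.rTensor_preserves_injective_linearMap _ (Submodule.injective_subtype _)
  obtain ⟨hli, hsp⟩ := Groth.Agent.Lib.Helper23.NilBasis.basis_of_basis_mod I x hI htor
    (by rw [hfun]; exact b.linearIndependent) (by rw [hfun]; exact b.span_eq)
  exact Module.Free.of_basis (Module.Basis.mk hli hsp.ge)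

theorem projective_of_projective_mod (hI : IsNilpotent I) (M : Type u) [AddCommGroup M] [Module R M]
    [Module.Flat R M] [Module.Projective (R ⧸ I) ((R ⧸ I) ⊗[R] M)] : Module.Projective R M := by
  classical
  obtain ⟨κ, ⟨e⟩⟩ := swindle (S := R ⧸ I) ((R ⧸ I) ⊗[R] M)
  haveI : Module.Flat R (M × (κ →₀ R)) := flat_prod
  let e' : ((R ⧸ I) ⊗[R] (M × (κ →₀ R))) ≃ₗ[R ⧸ I] (κ →₀ (R ⧸ I)) :=
    (TensorProduct.prodRight R (R ⧸ I) (R ⧸ I) M (κ →₀ R)) ≪≫ₗ
    (LinearEquiv.prodCongr (LinearEquiv.refl (R ⧸ I) _)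
      (TensorProduct.finsuppScalarRight R (R ⧸ I) (R ⧸ I) κ)) ≪≫ₗ e
  haveI : Module.Free (R ⧸ I) ((R ⧸ I) ⊗[R] (M × (κ →₀ R))) := Module.Free.of_equiv e'.symm
  haveI : Module.Free R (M × (κ →₀ R)) := free_of_free_mod I hI _
  exact Module.Projective.of_split (LinearMap.inl R M (κ →₀ R)) (LinearMap.fst R M (κ →₀ R))
    (by ext; simp)

end lift

end Groth.Agent.Lib.Helper23.NilProj
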