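import Mathlib
import Groth.Agent.Lib.Helper23.ComplFree
import Groth.Agent.Lib.Helper23.NilProj
import Groth.Agent.Lib.Helper9.Decaying

/-!
# Completion of a flat module with projective reduction is flat and Mittag-Leffler (Stacks 0AS?-type)
-/

namespace Groth.Agent.Lib.Helper23.ComplProj

open TensorProduct Function

universe u

section step

variable {R : Type*} [CommRing R] {F M : Type*} [AddCommGroup F] [Module R F]
  [AddCommGroup M] [Module R M]

/-- one step of the injectivity modulo powers -/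
theorem inj_step [Module.Flat R M] (h : F →ₗ[R] M) (I J : Ideal R) (hJ : J.FG)
    (h1 : ∀ m : M, ∃ ψ : F, m - h ψ ∈ (I • ⊤ : Submodule R M))
    (h2 : ∀ φ : F, h φ ∈ (I • ⊤ : Submodule R M) → φ ∈ (I • ⊤ : Submodule R F))
    (φ : F) (hφ : φ ∈ (J • ⊤ : Submodule R F))
    (hh : h φ ∈ ((J * I) • ⊤ : Submodule R M)) : φ ∈ ((J * I) • ⊤ : Submodule R F) := by
  classical
  obtain ⟨r, c, hc⟩ := Submodule.fg_iff_exists_fin_generating_family.1 hJ
  have hJc : J = Ideal.span (Set.range c) := hc.symm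
  rw [hJc] at hφ
  obtain ⟨φk, -, hφk⟩ :=
    Groth.Agent.Lib.Helper9.exists_sum_smul_of_mem_span_range_smul c ⊤ φ hφ
  rw [Submodule.mul_smul, hJc] at hh
  obtain ⟨y, hy, hhy⟩ :=
    Groth.Agent.Lib.Helper9.exists_sum_smul_of_mem_span_range_smul c (I • ⊤ : Submodule R M) (h φ) hh
  have hrel : ∑ k, c k • (h (φk k) - y k) = 0 := by
    simp only [smul_sub, Finset.sum_sub_distrib]
    rw [← hhy, hφk, map_sum]
    simp only [map_smul, sub_self]
  obtain ⟨k', a, z, hz0, ha⟩ := Module.Flat.isTrivialRelation_of_sum_smul_eq_zero hrel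
  have hz : ∀ i, h (φk i) - y i = ∑ j, a i j • z j := hz0
  choose ψ hψ using fun j => h1 (z j)
  have key : ∀ k, φk k - ∑ j, a k j • ψ j ∈ (I • ⊤ : Submodule R F) := by
    intro k
    apply h2
    have : h (φk k - ∑ j, a k j • ψ j) = y k + ∑ j, a k j • (z j - h (ψ j)) := by
      rw [map_sub, map_sum]
      simp only [map_smul, smul_sub, Finset.sum_sub_distrib]
      rw [← hz k]
      abel
    rw [this]
    refine Submodule.add_mem _ (hy k) (Submodule.sum_mem _ fun j _ => Submodule.smul_mem _ _ (hψ j))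
  have hdecomp : φ = ∑ k, c k • (φk k - ∑ j, a k j • ψ j) := by
    have h0 : ∑ k, c k • ∑ j, a k j • ψ j = 0 := by
      simp only [Finset.smul_sum, smul_smul]
      rw [Finset.sum_comm]
      refine Finset.sum_eq_zero fun j _ => ?_
      rw [← Finset.sum_smul, ha j, zero_smul]
    simp only [smul_sub, Finset.sum_sub_distrib]
    rw [h0, sub_zero, hφk]
  rw [hdecomp, Submodule.mul_smul, hJc]
  refine Submodule.sum_mem _ fun k _ => Submodule.smul_mem_smul (Ideal.subset_span ⟨k, rfl⟩) (key k)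

theorem inj_pow [IsNoetherianRing R] [Module.Flat R M] (h : F →ₗ[R] M) (I : Ideal R)
    (h1 : ∀ m : M, ∃ ψ : F, m - h ψ ∈ (I • ⊤ : Submodule R M))
    (h2 : ∀ φ : F, h φ ∈ (I • ⊤ : Submodule R M) → φ ∈ (I • ⊤ : Submodule R F)) (n : ℕ) :
    ∀ φ : F, h φ ∈ (I ^ n • ⊤ : Submodule R M) → φ ∈ (I ^ n • ⊤ : Submodule R F) := by
  induction n with
  | zero =>
    intro φ _
    rw [pow_zero, Ideal.one_eq_top, Submodule.top_smul]
    trivial
  | succ n ih =>
    intro φ hφ
    have hle : (I ^ (n + 1) • ⊤ : Submodule R M) ≤ I ^ n • ⊤ :=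
      Submodule.smul_mono_left (Ideal.pow_le_pow_right (Nat.le_succ n))
    have h3 := ih φ (hle hφ)
    rw [pow_succ] at hφ ⊢
    exact inj_step h I (I ^ n) (IsNoetherian.noetherian _) h1 h2 φ h3 hφ

/-- the completion of `h` is bijective -/
theorem map_bijective [IsNoetherianRing R] [Module.Flat R M] (h : F →ₗ[R] M) (I : Ideal R)
    (h1 : ∀ m : M, ∃ ψ : F, m - h ψ ∈ (I • ⊤ : Submodule R M))
    (h2 : ∀ φ : F, h φ ∈ (I • ⊤ : Submodule R M) → φ ∈ (I • ⊤ : Submodule R F)) :
    Bijective (AdicCompletion.map I h) := by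
  constructor
  · rw [injective_iff_map_eq_zero]
    intro x hx
    apply AdicCompletion.ext
    intro n
    have h4 : (AdicCompletion.map I h x).val n = 0 := by rw [hx]; rfl
    rw [AdicCompletion.map_val_apply] at h4
    obtain ⟨φ, hφ⟩ := Submodule.Quotient.mk_surjective _ (x.val n)
    rw [← hφ, LinearMap.reduceModIdeal_apply, Submodule.Quotient.mk_eq_zero] at h4
    rw [← hφ]
    show Submodule.Quotient.mk φ = 0
    rw [Submodule.Quotient.mk_eq_zero]
    exact inj_pow h I h1 h2 n φ h4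
  · apply AdicCompletion.map_surjective_of_mkQ_comp_surjective
    intro y
    obtain ⟨m, rfl⟩ := Submodule.Quotient.mk_surjective _ y
    obtain ⟨ψ, hψ⟩ := h1 m
    refine ⟨ψ, ?_⟩
    rw [LinearMap.comp_apply, Submodule.mkQ_apply, eq_comm, Submodule.Quotient.eq]
    exact hψ

end step

section main

variable {R : Type u} [CommRing R] (I : Ideal R)

theorem one_tmul_eq_zero_iff (M : Type*) [AddCommGroup M] [Module R M] (m : M) :
    (1 : R ⧸ I) ⊗ₜ[R] m = 0 ↔ m ∈ (I • ⊤ : Submodule R M) := by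
  rw [← (TensorProduct.quotTensorEquivQuotSMul M I).map_eq_zero_iff,
    TensorProduct.quotTensorEquivQuotSMul_mk_one_tmul, Submodule.Quotient.mk_eq_zero]

/-- a flat module with free reduction has completion isomorphic to the completion of a free module -/
theorem exists_equiv_of_free_mod [IsNoetherianRing R] (M : Type u) [AddCommGroup M] [Module R M]
    [Module.Flat R M] [Module.Free (R ⧸ I) ((R ⧸ I) ⊗[R] M)] :
    ∃ (A : Type u), Nonempty (AdicCompletion I (A →₀ R) ≃ₗ[R] AdicCompletion I M) := by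
  classical
  obtain ⟨A, ⟨b⟩⟩ : ∃ A : Type u, Nonempty (Module.Basis A (R ⧸ I) ((R ⧸ I) ⊗[R] M)) :=
    ⟨_, ⟨Module.Free.chooseBasis (R ⧸ I) ((R ⧸ I) ⊗[R] M)⟩⟩
  choose x hx using fun a => Groth.Agent.Lib.Helper23.NilProj.one_tmul_surjective I M (b a)
  have hfun : (fun a => (1 : R ⧸ I) ⊗ₜ[R] x a) = b := funext hx
  set h := Finsupp.linearCombination R x with hh
  set e := (TensorProduct.finsuppScalarRight R (R ⧸ I) (R ⧸ I) A) with he
  have hcomp : ∀ y, h.lTensor (R ⧸ I) (e.symm y) = b.repr.symm y := by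
    intro y
    rw [Groth.Agent.Lib.Helper23.NilBasis.lTensor_linearCombination I x y, hfun,
      Module.Basis.repr_symm_apply]
  have hbij : Bijective (h.lTensor (R ⧸ I)) := by
    constructor
    · intro u v huv
      have hu := hcomp (e u)
      have hv := hcomp (e v)
      rw [LinearEquiv.symm_apply_apply] at hu hv
      have : e u = e v := b.repr.symm.injective (by rw [← hu, ← hv, huv])
      exact e.injective this
    · intro z
      refine ⟨e.symm (b.repr z), ?_⟩
      rw [hcomp, LinearEquiv.symm_apply_apply]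
  have h1 : ∀ m : M, ∃ ψ : A →₀ R, m - h ψ ∈ (I • ⊤ : Submodule R M) := by
    intro m
    obtain ⟨w, hw⟩ := hbij.2 ((1 : R ⧸ I) ⊗ₜ[R] m)
    obtain ⟨ψ, rfl⟩ := Groth.Agent.Lib.Helper23.NilProj.one_tmul_surjective I (A →₀ R) w
    refine ⟨ψ, ?_⟩
    rw [← one_tmul_eq_zero_iff, tmul_sub, ← hw, LinearMap.lTensor_tmul, sub_self]
  have h2 : ∀ φ : A →₀ R, h φ ∈ (I • ⊤ : Submodule R M) → φ ∈ (I • ⊤ : Submodule R (A →₀ R)) := by
    intro φ hφ
    rw [← one_tmul_eq_zero_iff] at hφ ⊢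
    apply hbij.1
    rw [LinearMap.lTensor_tmul, hφ, map_zero]
  exact ⟨A, ⟨LinearEquiv.ofBijective ((AdicCompletion.map I h).restrictScalars R)
    (map_bijective h I h1 h2)⟩⟩

theorem flat_ml_of_retract {P N : Type u} [AddCommGroup P] [Module R P] [AddCommGroup N] [Module R N]
    (i : N →ₗ[R] P) (r : P →ₗ[R] N) (hri : r ∘ₗ i = LinearMap.id)
    (hP : Module.Flat R P ∧ CAlg.IsMittagLeffler R P) :
    Module.Flat R N ∧ CAlg.IsMittagLeffler R N := by
  haveI := hP.1
  refine ⟨Module.Flat.of_retract i r hri, ?_⟩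
  refine Groth.Agent.S6338.result R i ?_ hP.2
  intro Q _ _
  have : (r.rTensor Q) ∘ₗ (i.rTensor Q) = LinearMap.id := by
    rw [← LinearMap.rTensor_comp, hri, LinearMap.rTensor_id]
  exact Function.LeftInverse.injective (g := r.rTensor Q) fun z => LinearMap.congr_fun this z

theorem main [IsNoetherianRing R] [IsAdicComplete I R] (M : Type u) [AddCommGroup M] [Module R M]
    [Module.Flat R M] [Module.Projective (R ⧸ I) ((R ⧸ I) ⊗[R] M)] :
    Module.Flat R (AdicCompletion I M) ∧ CAlg.IsMittagLeffler R (AdicCompletion I M) := by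
  classical
  obtain ⟨κ, ⟨e⟩⟩ := Groth.Agent.Lib.Helper23.NilProj.swindle (S := R ⧸ I) ((R ⧸ I) ⊗[R] M)
  haveI : Module.Flat R (M × (κ →₀ R)) := Groth.Agent.Lib.Helper23.NilProj.flat_prod
  let e' : ((R ⧸ I) ⊗[R] (M × (κ →₀ R))) ≃ₗ[R ⧸ I] (κ →₀ (R ⧸ I)) :=
    (TensorProduct.prodRight R (R ⧸ I) (R ⧸ I) M (κ →₀ R)) ≪≫ₗ
    (LinearEquiv.prodCongr (LinearEquiv.refl (R ⧸ I) _)
      (TensorProduct.finsuppScalarRight R (R ⧸ I) (R ⧸ I) κ)) ≪≫ₗ e
  haveI : Module.Free (R ⧸ I) ((R ⧸ I) ⊗[R] (M × (κ →₀ R))) := Module.Free.of_equiv e'.symm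
  obtain ⟨A, ⟨ε⟩⟩ := exists_equiv_of_free_mod I (M × (κ →₀ R))
  have hF : Module.Flat R (AdicCompletion I (A →₀ R)) ∧
      CAlg.IsMittagLeffler R (AdicCompletion I (A →₀ R)) :=
    ⟨Groth.Agent.Lib.Helper23.ComplFree.flat_completion I A,
      Groth.Agent.Lib.Helper23.ComplFree.ml_completion I A⟩
  have hM' : Module.Flat R (AdicCompletion I (M × (κ →₀ R))) ∧
      CAlg.IsMittagLeffler R (AdicCompletion I (M × (κ →₀ R))) :=
    flat_ml_of_retract ε.symm.toLinearMap ε.toLinearMap (by ext z; simp) hF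
  refine flat_ml_of_retract
    ((AdicCompletion.map I (LinearMap.inl R M (κ →₀ R))).restrictScalars R)
    ((AdicCompletion.map I (LinearMap.fst R M (κ →₀ R))).restrictScalars R) ?_ hM'
  apply LinearMap.ext
  intro z
  show AdicCompletion.map I (LinearMap.fst R M (κ →₀ R))
    (AdicCompletion.map I (LinearMap.inl R M (κ →₀ R)) z) = z
  rw [AdicCompletion.map_comp_apply, LinearMap.fst_comp_inl, AdicCompletion.map_id]
  rfl

end main

end Groth.Agent.Lib.Helper23.ComplProj
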