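import Groth.Agent.Lib.Helper23.SecColim
import Groth.Agent.Lib.Helper23.ShriekPres
import Groth.Agent.S3508

/-!
# Constructible sheaves on a qcqs scheme are compact objects
-/

set_option autoImplicit false
universe u

namespace Groth.Agent.Lib.Helper23.ConstrCompact

open CategoryTheory CategoryTheory.Limits AlgebraicGeometry Opposite
open Groth.Agent.Lib.Helper23.ShriekRep Groth.Agent.Lib.Helper23.ShriekPres
open Groth.Agent.Lib.Helper23.SecColim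

variable {X : Scheme.{u}}

lemma Zn_hom_ext {A : AddCommGrpCat.{u + 1}} {n : ℕ} (h h' : Zn n ⟶ A)
    (e : (ConcreteCategory.hom h) (ULift.up 1) = (ConcreteCategory.hom h') (ULift.up 1)) :
    h = h' := by
  apply AddCommGrpCat.hom_ext
  apply AddMonoidHom.ext
  rintro ⟨y⟩
  obtain ⟨k, rfl⟩ := ZMod.intCast_surjective y
  have hk : (ULift.up (k : ZMod n) : ULift.{u + 1} (ZMod n)) = k • ULift.up 1 := by
    apply ULift.ext
    simp
  rw [hk, map_zsmul, map_zsmul]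
  exact congrArg _ e

lemma Zn_nsmul_one {A : AddCommGrpCat.{u + 1}} {n : ℕ} (h : Zn n ⟶ A) :
    n • (ConcreteCategory.hom h) (ULift.up 1) = 0 := by
  rw [← map_nsmul]
  have : n • (ULift.up 1 : ULift.{u + 1} (ZMod n)) = 0 := by
    apply ULift.ext
    simp
  rw [this, map_zero]

section One

variable {J : Type u} [SmallCategory J] [IsFiltered J] (D : J ⥤ EtCoh.Ab X)
  (W : X.Etale) [IsAffine W.left] (n : ℕ)

/-- the section classifying a map out of `j_! ℤ/n` -/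
noncomputable def sec {G : EtCoh.Ab X} (ψ : sh2 W (Zn n) ⟶ G) : G.obj.obj (op W) :=
  (ConcreteCategory.hom (rep2 W (Zn n) G ψ)) (ULift.up 1)

lemma sec_comp {G G' : EtCoh.Ab X} (ψ : sh2 W (Zn n) ⟶ G) (φ : G ⟶ G') :
    sec W n (ψ ≫ φ) = (ConcreteCategory.hom (φ.hom.app (op W))) (sec W n ψ) := by
  unfold sec
  rw [rep2_naturality]
  rfl

lemma sec_injective {G : EtCoh.Ab X} (ψ ψ' : sh2 W (Zn n) ⟶ G) (h : sec W n ψ = sec W n ψ') :
    ψ = ψ' := by
  apply (rep2 W (Zn n) G).injective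
  exact Zn_hom_ext _ _ h

lemma nsmul_sec {G : EtCoh.Ab X} (ψ : sh2 W (Zn n) ⟶ G) : n • sec W n ψ = 0 :=
  Zn_nsmul_one _

lemma exists_of_sec {G : EtCoh.Ab X} (σ : G.obj.obj (op W)) (hσ : n • σ = 0) :
    ∃ ψ : sh2 W (Zn n) ⟶ G, sec W n ψ = σ := by
  refine ⟨(rep2 W (Zn n) G).symm (ofSection n σ hσ), ?_⟩
  unfold sec
  rw [Equiv.apply_symm_apply]
  exact ofSection_one n σ hσ

lemma inj_one {j : J} (ψ ψ' : sh2 W (Zn n) ⟶ D.obj j)
    (h : ψ ≫ colimit.ι D j = ψ' ≫ colimit.ι D j) :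
    ∃ (k : J) (f : j ⟶ k), ψ ≫ D.map f = ψ' ≫ D.map f := by
  have h1 : (ConcreteCategory.hom ((colimit.ι D j).hom.app (op W))) (sec W n ψ - sec W n ψ') = 0 := by
    rw [map_sub, ← sec_comp, ← sec_comp, h, sub_self]
  obtain ⟨k, f, hk⟩ := sec_inj D j W _ h1
  refine ⟨k, f, sec_injective W n _ _ ?_⟩
  rw [sec_comp, sec_comp]
  rw [map_sub, sub_eq_zero] at hk
  exact hk

lemma surj_one (φ : sh2 W (Zn n) ⟶ colimit D) :
    ∃ (j : J) (ψ : sh2 W (Zn n) ⟶ D.obj j), ψ ≫ colimit.ι D j = φ := by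
  obtain ⟨j, τ, hτ⟩ := sec_surj D W (sec W n φ)
  have h0 : (ConcreteCategory.hom ((colimit.ι D j).hom.app (op W))) (n • τ) = 0 := by
    rw [map_nsmul, hτ]
    exact nsmul_sec W n φ
  obtain ⟨k, f, hk⟩ := sec_inj D j W _ h0
  rw [map_nsmul] at hk
  obtain ⟨ψ, hψ⟩ := exists_of_sec W n
    ((ConcreteCategory.hom ((D.map f).hom.app (op W))) τ) hk
  refine ⟨k, ψ, sec_injective W n _ _ ?_⟩
  rw [sec_comp, hψ, ι_map_apply]
  exact hτ

end One

section Sum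

variable {J : Type u} [SmallCategory J] [IsFiltered J] (D : J ⥤ EtCoh.Ab X)
  {a : ℕ} (U : Fin a → X.Etale) (hU : ∀ i, IsAffine (U i).left) (n : Fin a → ℕ)

/-- the sum -/
noncomputable abbrev Bsum : EtCoh.Ab X := ⨁ fun i => sh2 (U i) (Zn (n i))

include hU in
lemma inj_sum_aux {j : J} (ψ ψ' : Bsum U n ⟶ D.obj j)
    (h : ψ ≫ colimit.ι D j = ψ' ≫ colimit.ι D j) (s : Finset (Fin a)) :
    ∃ (k : J) (f : j ⟶ k), ∀ i ∈ s,
      biproduct.ι (fun i => sh2 (U i) (Zn (n i))) i ≫ ψ ≫ D.map f =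
        biproduct.ι (fun i => sh2 (U i) (Zn (n i))) i ≫ ψ' ≫ D.map f := by
  classical
  induction s using Finset.induction_on with
  | empty => exact ⟨j, 𝟙 j, fun i hi => absurd hi (Finset.notMem_empty i)⟩
  | insert i₀ s _ ih =>
    obtain ⟨k₁, f₁, h₁⟩ := ih
    haveI := hU i₀
    have h0 : (biproduct.ι (fun i => sh2 (U i) (Zn (n i))) i₀ ≫ ψ ≫ D.map f₁) ≫ colimit.ι D k₁ =
        (biproduct.ι (fun i => sh2 (U i) (Zn (n i))) i₀ ≫ ψ' ≫ D.map f₁) ≫ colimit.ι D k₁ := by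
      simp only [Category.assoc, colimit.w]
      rw [h]
    obtain ⟨k₂, f₂, h₂⟩ := inj_one D (U i₀) (n i₀) _ _ h0
    refine ⟨k₂, f₁ ≫ f₂, fun i hi => ?_⟩
    rw [Functor.map_comp]
    rcases Finset.mem_insert.1 hi with rfl | hi'
    · simpa only [Category.assoc] using h₂
    · have := congrArg (fun m => m ≫ D.map f₂) (h₁ i hi')
      simpa only [Category.assoc] using this

include hU in
lemma inj_sum {j : J} (ψ ψ' : Bsum U n ⟶ D.obj j)
    (h : ψ ≫ colimit.ι D j = ψ' ≫ colimit.ι D j) :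
    ∃ (k : J) (f : j ⟶ k), ψ ≫ D.map f = ψ' ≫ D.map f := by
  obtain ⟨k, f, hk⟩ := inj_sum_aux D U hU n ψ ψ' h Finset.univ
  exact ⟨k, f, biproduct.hom_ext' _ _ fun i => hk i (Finset.mem_univ i)⟩

include hU in
lemma surj_sum (φ : Bsum U n ⟶ colimit D) :
    ∃ (j : J) (ψ : Bsum U n ⟶ D.obj j), ψ ≫ colimit.ι D j = φ := by
  classical
  have H : ∀ i, ∃ (j : J) (ψ : sh2 (U i) (Zn (n i)) ⟶ D.obj j),
      ψ ≫ colimit.ι D j = biproduct.ι (fun i => sh2 (U i) (Zn (n i))) i ≫ φ := fun i => by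
    haveI := hU i
    exact surj_one D (U i) (n i) _
  choose j ψ hψ using H
  obtain ⟨j₀, hj₀⟩ := IsFiltered.sup_objs_exists (Finset.univ.image j)
  have hm : ∀ i, Nonempty (j i ⟶ j₀) := fun i =>
    hj₀ (Finset.mem_image_of_mem j (Finset.mem_univ i))
  let m : ∀ i, j i ⟶ j₀ := fun i => (hm i).some
  refine ⟨j₀, biproduct.desc (fun i => ψ i ≫ D.map (m i)), biproduct.hom_ext' _ _ fun i => ?_⟩
  rw [← Category.assoc, biproduct.ι_desc, Category.assoc, colimit.w, hψ]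

end Sum

section Main

variable [CompactSpace X] [QuasiSeparatedSpace X] {J : Type u} [SmallCategory J] [IsFiltered J]

theorem inj_constructible (D : J ⥤ EtCoh.Ab X) (F : EtCoh.Ab X) (hF : EtPBC.IsConstructible F)
    {j : J} (ψ ψ' : F ⟶ D.obj j) (h : ψ ≫ colimit.ι D j = ψ' ≫ colimit.ι D j) :
    ∃ (k : J) (f : j ⟶ k), ψ ≫ D.map f = ψ' ≫ D.map f := by
  obtain ⟨a, b, U, V, n, m, hU, hV, ρ, ⟨e⟩⟩ := (Groth.Agent.S3508.result X F).1 hF
  let π : Bsum U n ⟶ F := cokernel.π ρ ≫ e.inv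
  haveI : Epi π := epi_comp _ _
  have h0 : (π ≫ ψ) ≫ colimit.ι D j = (π ≫ ψ') ≫ colimit.ι D j :=
    (Category.assoc _ _ _).trans ((congrArg (fun z => π ≫ z) h).trans (Category.assoc _ _ _).symm)
  obtain ⟨k, f, hk⟩ := inj_sum D U (fun i => (hU i).2) n _ _ h0
  refine ⟨k, f, ?_⟩
  rw [Category.assoc, Category.assoc] at hk
  exact (cancel_epi π).1 hk

theorem surj_constructible (D : J ⥤ EtCoh.Ab X) (F : EtCoh.Ab X) (hF : EtPBC.IsConstructible F)
    (φ : F ⟶ colimit D) : ∃ (j : J) (ψ : F ⟶ D.obj j), ψ ≫ colimit.ι D j = φ := by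
  obtain ⟨a, b, U, V, n, m, hU, hV, ρ, ⟨e⟩⟩ := (Groth.Agent.S3508.result X F).1 hF
  let π : Bsum U n ⟶ F := cokernel.π ρ ≫ e.inv
  haveI : Epi π := epi_comp _ _
  obtain ⟨j, β, hβ⟩ := surj_sum D U (fun i => (hU i).2) n (π ≫ φ)
  have h0 : (ρ ≫ β) ≫ colimit.ι D j = (0 : Bsum V m ⟶ D.obj j) ≫ colimit.ι D j := by
    rw [Category.assoc, hβ, zero_comp]
    simp only [π]
    rw [← Category.assoc, ← Category.assoc, cokernel.condition, zero_comp, zero_comp]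
  obtain ⟨k, f, hk⟩ := inj_sum D V (fun i => (hV i).2) m _ _ h0
  rw [zero_comp, Category.assoc] at hk
  let ψ₀ : cokernel ρ ⟶ D.obj k := cokernel.desc ρ (β ≫ D.map f) hk
  refine ⟨k, e.hom ≫ ψ₀, ?_⟩
  apply (cancel_epi π).1
  simp only [π, ψ₀, Category.assoc, Iso.inv_hom_id_assoc]
  rw [← Category.assoc (cokernel.π ρ), cokernel.π_desc, Category.assoc, colimit.w, hβ]
  exact Category.assoc _ _ _

end Main

end Groth.Agent.Lib.Helper23.ConstrCompact
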