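import Groth.Agent.Lib.Helper23.ConstrDescent

/-!
# Descent of constructibility along finite jointly surjective families of qcqs schemes
-/

set_option autoImplicit false
universe u

namespace Groth.Agent.Lib.Helper23.ConstrDescentFam

open CategoryTheory CategoryTheory.Limits AlgebraicGeometry Opposite GrothendieckTopology
open Groth.Agent.Lib.Helper23

set_option backward.isDefEq.respectTransparency.types false in
set_option backward.isDefEq.respectTransparency false in
/-- if the inverse image of `T` along `f` is constructible, sections of `T` are locally torsion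
around points in the image of `f` -/
lemma torsion_at {X Y : Scheme.{u}} (f : X ⟶ Y) (T : EtCoh.Ab Y)
    (h : EtPBC.IsConstructible ((EtCoh.pull f).obj T)) (U : Y.Etale) (s : EtCoh.sect T U)
    (u : U.left) (x : X) (hx : f x = U.hom u) :
    ∃ (V : Y.Etale) (g : V ⟶ U),
      (∃ v : V.left, g.left.base v = u) ∧ IsOfFinAddOrder (T.obj.map g.op s) := by
  haveI : Etale U.hom := U.prop
  let xb := FlcConn.geomPt x
  let ξ := xb ≫ f
  have hξ : ξ default = U.hom u := by
    have : ξ default = f (xb default) := rfl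
    rw [this, FlcConn.geomPt_default, hx]
  let Ul : Scheme.{u} := U.left
  obtain ⟨l, hl, hlu⟩ := Scheme.exists_fac_of_etale_of_isSepClosed U.hom ξ u hξ.symm
  let Φ := Scheme.pointSmallEtale ξ
  let y : Φ.fiber.obj U := Over.homMk l hl
  haveI := FinBC0.isIso_stk_unit f xb T
  haveI h0 : Finite ((EtCoh.stalk xb).obj ((EtCoh.pull f).obj T)) :=
    SpecIso2.finite_stalk_of_constructible _ h xb
  haveI hfin : Finite ((EtCoh.stalk ξ).obj T) :=
    @Finite.of_equiv _ _ h0
      (asIso (FinBC0.stk f xb (FinBC0.unitG f T))).addCommGroupIsoToAddEquiv.toEquiv.symm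
  let n := Nat.card ((EtCoh.stalk ξ).obj T)
  have hn : 0 < n := Nat.card_pos
  have h1 : n • Φ.toPresheafFiber U y T.obj s = 0 :=
    card_nsmul_eq_zero' (G := (EtCoh.stalk ξ).obj T)
  have h2 : Φ.toPresheafFiber U y T.obj (n • s) = Φ.toPresheafFiber U y T.obj 0 := by
    rw [map_nsmul, h1, map_zero]
  obtain ⟨V, g, y', hy', hg⟩ := (Φ.toPresheafFiber_eq_iff' _ y _ _).1 h2
  let Vl : Scheme.{u} := V.left
  let yl : Spec (CommRingCat.of (AlgebraicClosure (X.residueField x))) ⟶ Vl := y'.left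
  refine ⟨V, g, ⟨yl default, ?_⟩, ?_⟩
  · have e1 : yl ≫ g.left = l := congrArg CommaMorphism.left hy'
    rw [← hlu, ← e1]
    rfl
  · rw [isOfFinAddOrder_iff_nsmul_eq_zero]
    refine ⟨n, hn, ?_⟩
    rw [map_nsmul, map_zero] at hg
    exact hg

variable {Y : Scheme.{u}} {ι : Type u} (W : ι → Scheme.{u}) (g : ∀ k, W k ⟶ Y)

include W in
lemma isTorsion_of_pull (hg : ⋃ k, Set.range (g k) = Set.univ) (T : EtCoh.Ab Y)
    (h : ∀ k, EtPBC.IsConstructible ((EtCoh.pull (g k)).obj T)) : EtCoh.IsTorsion T := by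
  intro U s u
  have hu : U.hom u ∈ ⋃ k, Set.range (g k) := by rw [hg]; trivial
  obtain ⟨k, x, hx⟩ := Set.mem_iUnion.1 hu
  exact torsion_at (g k) T (h k) U s u x hx

lemma exists_epi_of_pull [Finite ι] [CompactSpace Y] [QuasiSeparatedSpace Y]
    [∀ k, CompactSpace (W k)] [∀ k, QuasiSeparatedSpace (W k)]
    (hg : ⋃ k, Set.range (g k) = Set.univ) (T : EtCoh.Ab Y)
    (h : ∀ k, EtPBC.IsConstructible ((EtCoh.pull (g k)).obj T)) :
    ∃ (G : EtCoh.Ab Y) (_ : EtPBC.IsConstructible G) (a : G ⟶ T), Epi a := by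
  classical
  have hT := isTorsion_of_pull W g hg T h
  obtain ⟨J, _, _, D, c, hc, hD, ⟨e⟩⟩ := Groth.Agent.S0134.result Y T hT
  haveI : ∀ k, (EtCoh.pull (g k)).IsLeftAdjoint := fun k =>
    (EtCoh.pullPushAdj (g k)).isLeftAdjoint
  have hfac : ∀ k, ∃ (j : J) (ψ : (EtCoh.pull (g k)).obj T ⟶ (EtCoh.pull (g k)).obj (D.obj j)),
      ψ ≫ (EtCoh.pull (g k)).map (c.ι.app j) = (EtCoh.pull (g k)).map e.inv := fun k =>
    ConstrDescent.exists_factor (D ⋙ EtCoh.pull (g k)) ((EtCoh.pull (g k)).mapCocone c)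
      (isColimitOfPreserves (EtCoh.pull (g k)) hc) _ (h k) ((EtCoh.pull (g k)).map e.inv)
  choose jk ψk hψk using hfac
  haveI := Fintype.ofFinite ι
  obtain ⟨j, hj⟩ := IsFiltered.sup_objs_exists (Finset.univ.image jk)
  have hj' : ∀ k, Nonempty (jk k ⟶ j) := fun k =>
    hj (Finset.mem_image_of_mem jk (Finset.mem_univ k))
  let a : D.obj j ⟶ T := c.ι.app j ≫ e.hom
  refine ⟨D.obj j, hD j, a, ?_⟩
  have hepi : ∀ k, Epi ((EtCoh.pull (g k)).map a) := by
    intro k
    obtain ⟨t⟩ := hj' k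
    let ψ := ψk k ≫ (EtCoh.pull (g k)).map (D.map t)
    have hsplit : ψ ≫ (EtCoh.pull (g k)).map a = 𝟙 _ := by
      have h1 : (EtCoh.pull (g k)).map a =
          (EtCoh.pull (g k)).map (c.ι.app j) ≫ (EtCoh.pull (g k)).map e.hom :=
        (EtCoh.pull (g k)).map_comp _ _
      have h3 : (EtCoh.pull (g k)).map (D.map t) ≫ (EtCoh.pull (g k)).map (c.ι.app j) =
          (EtCoh.pull (g k)).map (c.ι.app (jk k)) := by
        rw [← Functor.map_comp, c.w t]
      have h2 : ψ ≫ (EtCoh.pull (g k)).map (c.ι.app j) = (EtCoh.pull (g k)).map e.inv := by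
        simp only [ψ, Category.assoc]
        rw [h3]
        exact hψk k
      rw [h1, ← Category.assoc, h2, ← Functor.map_comp, e.inv_hom_id,
        CategoryTheory.Functor.map_id]
    exact (IsSplitEpi.mk' ⟨ψ, hsplit⟩).epi _
  refine ConstrDescent.epi_of_surjective_family (ι := Σ k, W k)
    (Ω := fun i => AlgebraicClosure ((W i.1).residueField i.2))
    (fun i => FlcConn.geomPt i.2 ≫ g i.1) ?_ a ?_
  · apply Set.eq_univ_of_forall
    intro y
    have hy : y ∈ ⋃ k, Set.range (g k) := by rw [hg]; trivial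
    obtain ⟨k, x, hx⟩ := Set.mem_iUnion.1 hy
    refine Set.mem_iUnion.2 ⟨⟨k, x⟩, default, ?_⟩
    have : (FlcConn.geomPt x ≫ g k) default = g k (FlcConn.geomPt x default) := rfl
    rw [this, FlcConn.geomPt_default, hx]
  · rintro ⟨k, x⟩
    haveI := hepi k
    refine (StalkSurj.surjective_stalk_pull_iff (g k) (FlcConn.geomPt x) a).1 ?_
    exact (Groth.Agent.S0622.hepi _).1 inferInstance _ _

/-- descent of constructibility along a finite jointly surjective family of qcqs schemes -/
theorem constructible_of_pull [Finite ι] [CompactSpace Y] [QuasiSeparatedSpace Y]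
    [∀ k, CompactSpace (W k)] [∀ k, QuasiSeparatedSpace (W k)]
    (hg : ⋃ k, Set.range (g k) = Set.univ) (F : EtCoh.Ab Y)
    (h : ∀ k, EtPBC.IsConstructible ((EtCoh.pull (g k)).obj F)) : EtPBC.IsConstructible F := by
  obtain ⟨G, hG, a, ha⟩ := exists_epi_of_pull W g hg F h
  haveI := ha
  have hK : ∀ k, EtPBC.IsConstructible ((EtCoh.pull (g k)).obj (kernel a)) := by
    intro k
    haveI := FlcLoc.pull_pfl (g k)
    refine Strata.constructible_of_iso (PreservesKernel.iso (EtCoh.pull (g k)) a).symm ?_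
    exact (Strata.constructible_kernel_cokernel ((EtCoh.pull (g k)).map a)
      (Groth.Agent.S0127.result (g k) G hG) (h k)).1
  obtain ⟨H, hH, b, hb⟩ := exists_epi_of_pull W g hg (kernel a) hK
  haveI := hb
  refine Strata.constructible_of_iso (ShriekPres.cokerIso a b).symm ?_
  exact (Strata.constructible_kernel_cokernel (b ≫ kernel.ι a) hH hG).2

end Groth.Agent.Lib.Helper23.ConstrDescentFam
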