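import Groth.Agent.Lib.Helper23.ShriekGeom
import Groth.Agent.Lib.Helper23.ConstrTop
import Groth.Agent.Lib.Helper23.Strata

/-!
# Finite partitions of a qcqs scheme by locally closed constructible subschemes
-/

set_option autoImplicit false
universe u

namespace Groth.Agent.Lib.Helper23.ConstrPartition

open CategoryTheory CategoryTheory.Limits AlgebraicGeometry Opposite Topology

/-- the difference of two open subsets is the range of an immersion -/
lemma exists_immersion_sdiff {T : Scheme.{u}} (A B : Set T) (hA : IsOpen A) (hB : IsOpen B) :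
    ∃ (T' : Scheme.{u}) (i : T' ⟶ T), IsImmersion i ∧ Set.range i = A \ B := by
  let Ao : T.Opens := ⟨A, hA⟩
  let Cl : TopologicalSpace.Closeds Ao :=
    ⟨Ao.ι ⁻¹' Bᶜ, (hB.isClosed_compl).preimage Ao.ι.continuous⟩
  let I := Scheme.IdealSheafData.vanishingIdeal Cl
  refine ⟨I.subscheme, I.subschemeι ≫ Ao.ι, inferInstance, ?_⟩
  rw [Strata.range_comp', Scheme.IdealSheafData.range_subschemeι,
    Scheme.IdealSheafData.coe_support_vanishingIdeal]
  change Ao.ι '' (Ao.ι ⁻¹' Bᶜ) = _
  rw [Set.image_preimage_eq_range_inter, Scheme.Opens.range_ι]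
  rfl

section Top

variable {Z : Type*} [TopologicalSpace Z] [CompactSpace Z] [QuasiSeparatedSpace Z]

lemma isCompact_biInter {L : Type*} (c : L → Set Z) (ho : ∀ l, IsOpen (c l))
    (hc : ∀ l, IsCompact (c l)) (σ : Finset L) :
    IsCompact (⋂ l ∈ σ, c l) ∧ IsOpen (⋂ l ∈ σ, c l) := by
  classical
  induction σ using Finset.induction_on with
  | empty => simpa using isCompact_univ
  | insert a s _ ih =>
    rw [Finset.set_biInter_insert]
    exact ⟨QuasiSeparatedSpace.inter_isCompact _ _ (ho a) (hc a) ih.2 ih.1, (ho a).inter ih.2⟩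

end Top

variable {X : Scheme.{u}} [CompactSpace X] [QuasiSeparatedSpace X]

/-- A property of schemes over `X` which holds on constructible locally closed neighbourhoods of all
points, and is inherited by locally closed subschemes, holds on the members of a finite partition
of `X` by locally closed constructible subschemes. -/
theorem exists_partition (P : ∀ {T : Scheme.{u}}, (T ⟶ X) → Prop)
    (hP : ∀ {T T' : Scheme.{u}} (g : T ⟶ X) (i : T' ⟶ T), IsImmersion i → P g → P (i ≫ g))
    (h : ∀ x : X, ∃ (T : Scheme.{u}) (g : T ⟶ X), IsImmersion g ∧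
      IsConstructible (Set.range g) ∧ x ∈ Set.range g ∧ P g) :
    ∃ (n : ℕ) (T : Fin n → Scheme.{u}) (g : ∀ i, T i ⟶ X),
      (∀ i, IsImmersion (g i)) ∧ (∀ i, IsConstructible (Set.range (g i))) ∧
      Pairwise (fun i i' => Disjoint (Set.range (g i)) (Set.range (g i'))) ∧
      (⋃ i, Set.range (g i)) = Set.univ ∧ ∀ i, P (g i) := by
  classical
  choose T g hg hc hx hPg using h
  have hpiece : ∀ x : X, ∃ A B : Set X, IsOpen A ∧ IsCompact A ∧ IsOpen B ∧ IsCompact B ∧
      x ∈ A ∧ x ∉ B ∧ A \ B ⊆ Set.range (g x) := fun x =>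
    ShriekGeom.exists_piece _ (hc x) x (hx x)
  choose A B hAo hAc hBo hBc hxA hxB hAB using hpiece
  obtain ⟨t, ht⟩ := ConstrTop.exists_finite_cover (fun x : X => A x \ B x)
    (fun x => ((hAc x).isConstructible (hAo x)).sdiff ((hBc x).isConstructible (hBo x)))
    (Set.eq_univ_of_forall fun y => Set.mem_iUnion.2 ⟨y, hxA y, hxB y⟩)
  -- the labels
  let L : Type u := {x : X // x ∈ t} × Bool
  let c : L → Set X := fun l => if l.2 then A l.1.1 else B l.1.1
  have hco : ∀ l, IsOpen (c l) := fun l => by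
    simp only [c]; split_ifs
    · exact hAo _
    · exact hBo _
  have hcc : ∀ l, IsCompact (c l) := fun l => by
    simp only [c]; split_ifs
    · exact hAc _
    · exact hBc _
  let PA : Finset L → Set X := fun σ => ⋂ l ∈ σ, c l
  let PB : Finset L → Set X := fun σ => ⋃ l ∈ σᶜ, c l
  let At : Finset L → Set X := fun σ => PA σ \ PB σ
  have hPA : ∀ σ, IsCompact (PA σ) ∧ IsOpen (PA σ) := fun σ => isCompact_biInter c hco hcc σ
  have hPBo : ∀ σ, IsOpen (PB σ) := fun σ => isOpen_biUnion fun l _ => hco l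
  have hPBc : ∀ σ, IsCompact (PB σ) := fun σ => (σᶜ).isCompact_biUnion fun l _ => hcc l
  let sig : X → Finset L := fun y => Finset.univ.filter fun l => y ∈ c l
  have hmem_sig : ∀ y, y ∈ At (sig y) := fun y => by
    refine ⟨Set.mem_iInter₂.2 fun l hl => ?_, ?_⟩
    · exact (Finset.mem_filter.1 hl).2
    · intro hy
      obtain ⟨l, hl, hyl⟩ := Set.mem_iUnion₂.1 hy
      exact (Finset.mem_compl.1 hl) (Finset.mem_filter.2 ⟨Finset.mem_univ _, hyl⟩)
  have hsig_eq : ∀ σ y, y ∈ At σ → σ = sig y := fun σ y hy => by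
    ext l
    constructor
    · intro hl
      exact Finset.mem_filter.2 ⟨Finset.mem_univ _, Set.mem_iInter₂.1 hy.1 l hl⟩
    · intro hl
      by_contra hn
      exact hy.2 (Set.mem_iUnion₂.2 ⟨l, Finset.mem_compl.2 hn, (Finset.mem_filter.1 hl).2⟩)
  let Idx : Type u := {σ : Finset L // (At σ).Nonempty}
  have hsub : ∀ σ : Idx, ∃ x : X, At σ.1 ⊆ Set.range (g x) := fun σ => by
    obtain ⟨y, hy⟩ := σ.2
    obtain ⟨x, hxt, hyx⟩ := ht y
    refine ⟨x, fun z hz => hAB x ⟨?_, ?_⟩⟩
    · have h1 : ((⟨x, hxt⟩, true) : L) ∈ σ.1 := by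
        rw [hsig_eq σ.1 y hy]
        exact Finset.mem_filter.2 ⟨Finset.mem_univ _, by simpa [c] using hyx.1⟩
      have := Set.mem_iInter₂.1 hz.1 _ h1
      simpa [c] using this
    · intro hzB
      have h1 : ((⟨x, hxt⟩, false) : L) ∉ σ.1 := by
        rw [hsig_eq σ.1 y hy]
        intro hm
        have := (Finset.mem_filter.1 hm).2
        exact hyx.2 (by simpa [c] using this)
      exact hz.2 (Set.mem_iUnion₂.2 ⟨_, Finset.mem_compl.2 h1, by simpa [c] using hzB⟩)
  choose xs hxs using hsub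
  have himm : ∀ σ : Idx, ∃ (T' : Scheme.{u}) (i : T' ⟶ T (xs σ)), IsImmersion i ∧
      Set.range i = (g (xs σ)) ⁻¹' PA σ.1 \ (g (xs σ)) ⁻¹' PB σ.1 := fun σ =>
    exists_immersion_sdiff _ _ ((hPA σ.1).2.preimage (g (xs σ)).continuous)
      ((hPBo σ.1).preimage (g (xs σ)).continuous)
  choose T' i hi hri using himm
  have hrange : ∀ σ : Idx, Set.range (i σ ≫ g (xs σ)) = At σ.1 := fun σ => by
    rw [Strata.range_comp', hri, ← Set.preimage_diff, Set.image_preimage_eq_inter_range]
    exact Set.inter_eq_left.2 (hxs σ)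
  let e : Idx ≃ Fin (Fintype.card Idx) := Fintype.equivFin Idx
  refine ⟨Fintype.card Idx, fun k => T' (e.symm k), fun k => i (e.symm k) ≫ g (xs (e.symm k)),
    fun k => ?_, fun k => ?_, ?_, ?_, fun k => ?_⟩
  · haveI := hi (e.symm k)
    haveI := hg (xs (e.symm k))
    infer_instance
  · rw [hrange]
    exact ((hPA _).1.isConstructible (hPA _).2).sdiff ((hPBc _).isConstructible (hPBo _))
  · intro k k' hkk'
    rw [hrange, hrange, Set.disjoint_iff_forall_ne]
    rintro y hy _ hy' rfl
    have h1 := (hsig_eq _ y hy).trans (hsig_eq _ y hy').symm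
    exact hkk' (e.symm.injective (Subtype.ext h1))
  · refine Set.eq_univ_of_forall fun y => ?_
    let σ : Idx := ⟨sig y, ⟨y, hmem_sig y⟩⟩
    refine Set.mem_iUnion.2 ⟨e σ, ?_⟩
    rw [hrange, Equiv.symm_apply_apply]
    exact hmem_sig y
  · exact hP _ _ (hi _) (hPg _)

end Groth.Agent.Lib.Helper23.ConstrPartition
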