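import Mathlib.Topology.Constructible
import Mathlib.Data.Finset.Powerset

/-!
# Counting filtration attached to a finite family of retrocompact open sets
-/

set_option autoImplicit false

namespace Groth.Agent.Lib.Helper23.CountStrat

open Topology Classical

variable {A : Type*} [TopologicalSpace A]

/-- `E` is a union of atoms of the boolean algebra generated by `𝒰` -/
def Sat (𝒰 : Finset (Set A)) (E : Set A) : Prop :=
  ∀ x y : A, (∀ U ∈ 𝒰, x ∈ U ↔ y ∈ U) → (x ∈ E ↔ y ∈ E)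

lemma Sat.mono {𝒰 𝒱 : Finset (Set A)} (h : 𝒰 ⊆ 𝒱) {E : Set A} (hE : Sat 𝒰 E) : Sat 𝒱 E :=
  fun x y hxy => hE x y (fun U hU => hxy U (h hU))

/-- every constructible set is saturated for some finite family of retrocompact opens -/
lemma exists_sat {E : Set A} (hE : IsConstructible E) :
    ∃ 𝒰 : Finset (Set A), (∀ U ∈ 𝒰, IsOpen U ∧ IsRetrocompact U) ∧ Sat 𝒰 E := by
  induction hE using IsConstructible.empty_union_induction with
  | open_retrocompact U hUo hUc =>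
    refine ⟨{U}, fun V hV => ?_, fun x y hxy => hxy U (Finset.mem_singleton_self U)⟩
    rw [Finset.mem_singleton] at hV
    subst hV
    exact ⟨hUo, hUc⟩
  | union s hs t ht hs' ht' =>
    obtain ⟨𝒰, h𝒰, hs𝒰⟩ := hs'
    obtain ⟨𝒱, h𝒱, ht𝒱⟩ := ht'
    refine ⟨𝒰 ∪ 𝒱, fun V hV => ?_, fun x y hxy => ?_⟩
    · rcases Finset.mem_union.1 hV with h | h
      · exact h𝒰 V h
      · exact h𝒱 V h
    · have h1 := hs𝒰.mono (Finset.subset_union_left (s₂ := 𝒱)) x y hxy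
      have h2 := ht𝒱.mono (Finset.subset_union_right (s₁ := 𝒰)) x y hxy
      simp only [Set.mem_union, h1, h2]
  | compl s hs hs' =>
    obtain ⟨𝒰, h𝒰, hs𝒰⟩ := hs'
    exact ⟨𝒰, h𝒰, fun x y hxy => not_congr (hs𝒰 x y hxy)⟩

/-- a common family for finitely many constructible sets -/
lemma exists_sat_family {ι : Type*} [Finite ι] (E : ι → Set A) (hE : ∀ i, IsConstructible (E i)) :
    ∃ 𝒰 : Finset (Set A), (∀ U ∈ 𝒰, IsOpen U ∧ IsRetrocompact U) ∧ ∀ i, Sat 𝒰 (E i) := by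
  haveI := Fintype.ofFinite ι
  choose 𝒰 h1 h2 using fun i => exists_sat (hE i)
  refine ⟨Finset.univ.biUnion 𝒰, fun U hU => ?_, fun i => ?_⟩
  · obtain ⟨i, -, hi⟩ := Finset.mem_biUnion.1 hU
    exact h1 i U hi
  · exact (h2 i).mono (Finset.subset_biUnion_of_mem 𝒰 (Finset.mem_univ i))

variable (𝒰 : Finset (Set A))

/-- the members of `𝒰` containing `x` -/
noncomputable def typ (x : A) : Finset (Set A) := 𝒰.filter (fun U => x ∈ U)

/-- the number of members of `𝒰` containing `x` -/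
noncomputable def cnt (x : A) : ℕ := (typ 𝒰 x).card

lemma mem_typ {x : A} {U : Set A} : U ∈ typ 𝒰 x ↔ U ∈ 𝒰 ∧ x ∈ U := Finset.mem_filter

lemma typ_eq_iff {x y : A} : typ 𝒰 x = typ 𝒰 y ↔ ∀ U ∈ 𝒰, x ∈ U ↔ y ∈ U := by
  constructor
  · intro h U hU
    have := Finset.ext_iff.1 h U
    simp only [mem_typ, hU, true_and] at this
    exact this
  · intro h
    ext U
    simp only [mem_typ]
    constructor
    · rintro ⟨hU, hx⟩; exact ⟨hU, (h U hU).1 hx⟩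
    · rintro ⟨hU, hy⟩; exact ⟨hU, (h U hU).2 hy⟩

lemma cnt_le_card (x : A) : cnt 𝒰 x ≤ 𝒰.card := Finset.card_filter_le _ _

/-- the intersection of the members of `𝒰` containing `x` -/
def nb (x : A) : Set A := ⋂ U ∈ typ 𝒰 x, U

lemma mem_nb (x : A) : x ∈ nb 𝒰 x := by
  simp only [nb, Set.mem_iInter]
  intro U hU
  exact ((mem_typ 𝒰).1 hU).2

lemma isOpen_nb (h𝒰 : ∀ U ∈ 𝒰, IsOpen U) (x : A) : IsOpen (nb 𝒰 x) :=
  isOpen_biInter_finset (fun U hU => h𝒰 U ((mem_typ 𝒰).1 hU).1)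

lemma typ_subset_of_mem_nb {x y : A} (hy : y ∈ nb 𝒰 x) : typ 𝒰 x ⊆ typ 𝒰 y := by
  intro U hU
  simp only [nb, Set.mem_iInter] at hy
  exact (mem_typ 𝒰).2 ⟨((mem_typ 𝒰).1 hU).1, hy U hU⟩

lemma cnt_le_of_mem_nb {x y : A} (hy : y ∈ nb 𝒰 x) : cnt 𝒰 x ≤ cnt 𝒰 y :=
  Finset.card_le_card (typ_subset_of_mem_nb 𝒰 hy)

lemma typ_eq_of_mem_nb {x y : A} (hy : y ∈ nb 𝒰 x) (hc : cnt 𝒰 y ≤ cnt 𝒰 x) :
    typ 𝒰 y = typ 𝒰 x :=
  (Finset.eq_of_subset_of_card_le (typ_subset_of_mem_nb 𝒰 hy) hc).symm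

/-- the points lying in at least `r` members of `𝒰` form an open set -/
lemma isOpen_le_cnt (h𝒰 : ∀ U ∈ 𝒰, IsOpen U) (r : ℕ) : IsOpen {x : A | r ≤ cnt 𝒰 x} := by
  rw [isOpen_iff_forall_mem_open]
  intro x hx
  exact ⟨nb 𝒰 x, fun y hy => le_trans hx (cnt_le_of_mem_nb 𝒰 hy), isOpen_nb 𝒰 h𝒰 x, mem_nb 𝒰 x⟩

/-- the atom of a type -/
def atom (τ : Finset (Set A)) : Set A := (⋂ U ∈ τ, U) ∩ ⋂ U ∈ 𝒰 \ τ, Uᶜ

lemma mem_atom_typ (x : A) : x ∈ atom 𝒰 (typ 𝒰 x) := by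
  refine ⟨mem_nb 𝒰 x, ?_⟩
  simp only [Set.mem_iInter, Finset.mem_sdiff, Set.mem_compl_iff]
  rintro U ⟨hU, hUx⟩ hx
  exact hUx ((mem_typ 𝒰).2 ⟨hU, hx⟩)

lemma typ_eq_of_mem_atom {τ : Finset (Set A)} (hτ : τ ⊆ 𝒰) {y : A} (hy : y ∈ atom 𝒰 τ) :
    typ 𝒰 y = τ := by
  ext U
  simp only [mem_typ]
  obtain ⟨h1, h2⟩ := hy
  simp only [Set.mem_iInter, Finset.mem_sdiff, Set.mem_compl_iff] at h1 h2
  constructor
  · rintro ⟨hU, hyU⟩
    by_contra hUτ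
    exact h2 U ⟨hU, hUτ⟩ hyU
  · intro hU
    exact ⟨hτ hU, h1 U hU⟩

lemma isConstructible_atom (h𝒰 : ∀ U ∈ 𝒰, IsOpen U ∧ IsRetrocompact U) (τ : Finset (Set A))
    (hτ : τ ⊆ 𝒰) : IsConstructible (atom 𝒰 τ) := by
  refine IsConstructible.inter ?_ ?_
  · exact IsConstructible.biInter τ.finite_toSet
      (fun U hU => (h𝒰 U (hτ hU)).2.isConstructible (h𝒰 U (hτ hU)).1)
  · refine IsConstructible.biInter (𝒰 \ τ).finite_toSet (fun U hU => ?_)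
    have hU' : U ∈ 𝒰 := (Finset.mem_sdiff.1 hU).1
    exact ((h𝒰 U hU').2.isConstructible (h𝒰 U hU').1).compl

/-- saturated sets are constructible -/
lemma Sat.isConstructible (h𝒰 : ∀ U ∈ 𝒰, IsOpen U ∧ IsRetrocompact U) {E : Set A}
    (hE : Sat 𝒰 E) : IsConstructible E := by
  have he : E = ⋃ τ ∈ {τ ∈ 𝒰.powerset | ∃ x ∈ E, typ 𝒰 x = τ}, atom 𝒰 τ := by
    ext y
    simp only [Set.mem_iUnion, Finset.mem_filter, Finset.mem_powerset, exists_prop]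
    constructor
    · intro hy
      exact ⟨typ 𝒰 y, ⟨Finset.filter_subset _ _, y, hy, rfl⟩, mem_atom_typ 𝒰 y⟩
    · rintro ⟨τ, ⟨hτ, x, hx, rfl⟩, hy⟩
      have h1 := typ_eq_of_mem_atom 𝒰 hτ hy
      exact (hE x y ((typ_eq_iff 𝒰).1 h1.symm)).1 hx
  rw [he]
  refine IsConstructible.biUnion (Finset.finite_toSet _) (fun τ hτ => ?_)
  have hτ' : τ ⊆ 𝒰 := Finset.mem_powerset.1 (Finset.mem_filter.1 hτ).1
  exact isConstructible_atom 𝒰 h𝒰 τ hτ'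

lemma sat_cnt_eq (r : ℕ) : Sat 𝒰 {x : A | cnt 𝒰 x = r} := by
  intro x y hxy
  have h := (typ_eq_iff 𝒰).2 hxy
  simp only [Set.mem_setOf_eq, cnt, h]

lemma isConstructible_cnt_eq (h𝒰 : ∀ U ∈ 𝒰, IsOpen U ∧ IsRetrocompact U) (r : ℕ) :
    IsConstructible {x : A | cnt 𝒰 x = r} :=
  (sat_cnt_eq 𝒰 r).isConstructible 𝒰 h𝒰

end Groth.Agent.Lib.Helper23.CountStrat
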