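import Mathlib

/-!
# Finitely presented modules over rings with total divisibility are sums of cyclic modules
-/

universe u
open Submodule

namespace Helper23.Cyc

variable {R : Type u} [CommRing R]

/-- A finite nonempty family in a ring with total divisibility has an element dividing all. -/
theorem exists_dvd_all (h : ∀ a b : R, a ∣ b ∨ b ∣ a) {ι : Type*} [Finite ι] [Nonempty ι]
    (c : ι → R) : ∃ k, ∀ l, c k ∣ c l := by
  classical
  cases nonempty_fintype ι
  have key : ∀ s : Finset ι, s.Nonempty → ∃ k ∈ s, ∀ l ∈ s, c k ∣ c l := by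
    intro s hs
    induction hs using Finset.Nonempty.cons_induction with
    | singleton a =>
      exact ⟨a, Finset.mem_singleton_self a, fun l hl => by rw [Finset.mem_singleton.mp hl]⟩
    | cons a s ha hs ih =>
      obtain ⟨k, hk, hkl⟩ := ih
      rcases h (c a) (c k) with h1 | h1
      · refine ⟨a, Finset.mem_cons_self a s, fun l hl => ?_⟩
        rcases Finset.mem_cons.mp hl with rfl | hl
        · exact dvd_rfl
        · exact h1.trans (hkl l hl)
      · refine ⟨k, Finset.mem_cons.mpr (Or.inr hk), fun l hl => ?_⟩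
        rcases Finset.mem_cons.mp hl with rfl | hl
        · exact h1
        · exact hkl l hl
  obtain ⟨k, -, hk⟩ := key Finset.univ Finset.univ_nonempty
  exact ⟨k, fun l => hk l (Finset.mem_univ l)⟩

variable (R) in
/-- `M` is a finite product of cyclic modules `R/(f)`. -/
def IsCyc (M : Type u) [AddCommGroup M] [Module R M] : Prop :=
  ∃ (n : ℕ) (f : Fin n → R), Nonempty (M ≃ₗ[R] ((i : Fin n) → R ⧸ Ideal.span {f i}))

variable {M N : Type u} [AddCommGroup M] [Module R M] [AddCommGroup N] [Module R N]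

theorem IsCyc.of_equiv (e : M ≃ₗ[R] N) (h : IsCyc R N) : IsCyc R M := by
  obtain ⟨n, f, ⟨e'⟩⟩ := h
  exact ⟨n, f, ⟨e.trans e'⟩⟩

theorem isCyc_of_subsingleton [Subsingleton M] : IsCyc R M :=
  ⟨0, Fin.elim0, ⟨LinearEquiv.ofSubsingleton _ _⟩⟩

theorem IsCyc.cons (a : R) (h : IsCyc R M) : IsCyc R ((R ⧸ Ideal.span {a}) × M) := by
  obtain ⟨n, f, ⟨e⟩⟩ := h
  refine ⟨n + 1, Fin.cons a f, ⟨?_⟩⟩
  exact (LinearEquiv.prodCongr (LinearEquiv.refl R _) e).trans
    (Fin.consLinearEquiv R (fun i : Fin (n + 1) => R ⧸ Ideal.span {(Fin.cons a f : Fin (n + 1) → R) i}))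

/-- A retraction splits off a direct factor. -/
theorem exists_equiv_prod_of_retraction {A : Type u} [AddCommGroup A] [Module R A]
    (σ₀ : A →ₗ[R] M) (ρ : M →ₗ[R] A) (h : ρ ∘ₗ σ₀ = LinearMap.id) :
    Function.Bijective (LinearMap.prod ρ (LinearMap.range σ₀).mkQ) := by
  have hρσ : ∀ t, ρ (σ₀ t) = t := fun t => LinearMap.congr_fun h t
  constructor
  · rw [injective_iff_map_eq_zero]
    intro m hm
    have h1 : ρ m = 0 := congrArg Prod.fst hm
    have h2 : (LinearMap.range σ₀).mkQ m = 0 := congrArg Prod.snd hm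
    rw [Submodule.mkQ_apply, Submodule.Quotient.mk_eq_zero] at h2
    obtain ⟨t, rfl⟩ := h2
    rw [hρσ] at h1
    rw [h1, map_zero]
  · rintro ⟨t, y⟩
    obtain ⟨m, rfl⟩ := (LinearMap.range σ₀).mkQ_surjective y
    refine ⟨m - σ₀ (ρ m) + σ₀ t, ?_⟩
    have hq : ∀ t, (LinearMap.range σ₀).mkQ (σ₀ t) = 0 := fun t => by
      rw [Submodule.mkQ_apply, Submodule.Quotient.mk_eq_zero]
      exact ⟨t, rfl⟩
    apply Prod.ext
    · show ρ (m - σ₀ (ρ m) + σ₀ t) = t
      rw [map_add, map_sub, hρσ, hρσ, sub_self, zero_add]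
    · show (LinearMap.range σ₀).mkQ (m - σ₀ (ρ m) + σ₀ t) = (LinearMap.range σ₀).mkQ m
      rw [map_add, map_sub, hq, hq, sub_zero, add_zero]

/-- The inductive step: split off a cyclic factor and reduce the number of generators. -/
theorem step (h : ∀ a b : R, a ∣ b ∨ b ∣ a) [Module.FinitePresentation R M] {n : ℕ}
    (s : Fin (n + 1) → M) (hs : span R (Set.range s) = ⊤) :
    ∃ (a : R) (M' : Type u) (_ : AddCommGroup M') (_ : Module R M'),
      Module.FinitePresentation R M' ∧ (∃ s' : Fin n → M', span R (Set.range s') = ⊤) ∧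
        Nonempty (M ≃ₗ[R] (R ⧸ Ideal.span {a}) × M') := by
  classical
  set π : (Fin (n + 1) → R) →ₗ[R] M := Fintype.linearCombination R s with hπdef
  have hπ : Function.Surjective π := by
    rw [← LinearMap.range_eq_top, hπdef, Fintype.range_linearCombination, hs]
  have hK : (LinearMap.ker π).FG := Module.FinitePresentation.fg_ker π hπ
  obtain ⟨m, r, hr⟩ := Submodule.fg_iff_exists_fin_generating_family.mp hK
  let r₀ : Option (Fin m) → (Fin (n + 1) → R) := fun l => l.elim 0 r
  have hr₀K : ∀ l, r₀ l ∈ LinearMap.ker π := by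
    intro l
    cases l with
    | none => exact zero_mem _
    | some l =>
      rw [← hr]
      exact Submodule.subset_span ⟨l, rfl⟩
  obtain ⟨⟨k, j⟩, hkj⟩ := exists_dvd_all h (fun x : Option (Fin m) × Fin (n + 1) => r₀ x.1 x.2)
  set a : R := r₀ k j with ha
  have hdiv : ∀ l i, a ∣ r₀ l i := fun l i => hkj (l, i)
  choose q hq using hdiv
  let v : Fin (n + 1) → R := Function.update (q k) j 1
  have hvj : v j = 1 := Function.update_self j 1 (q k)
  have hav : a • v = r₀ k := by
    funext i
    by_cases hij : i = j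
    · subst hij
      rw [Pi.smul_apply, hvj, smul_eq_mul, mul_one]
    · have hvi : v i = q k i := Function.update_of_ne hij 1 (q k)
      rw [Pi.smul_apply, hvi, smul_eq_mul, ← hq]
  set x : M := π v with hx
  have hax : a • x = 0 := by
    rw [hx, ← map_smul, hav]
    exact hr₀K k
  have hKj : ∀ w ∈ LinearMap.ker π, a ∣ w j := by
    intro w hw
    rw [← hr] at hw
    induction hw using Submodule.span_induction with
    | mem w hw =>
      obtain ⟨l, rfl⟩ := hw
      exact hkj (some l, j)
    | zero => exact dvd_zero a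
    | add w₁ w₂ _ _ h₁ h₂ => exact dvd_add h₁ h₂
    | smul c w _ hw => exact Dvd.dvd.mul_left hw c
  -- the retraction `ρ`
  let ρ₀ : (Fin (n + 1) → R) →ₗ[R] R ⧸ Ideal.span {a} :=
    (Submodule.mkQ (Ideal.span {a})) ∘ₗ (LinearMap.proj j)
  have hρ₀ : LinearMap.ker π ≤ LinearMap.ker ρ₀ := by
    intro w hw
    rw [LinearMap.mem_ker, LinearMap.comp_apply, Submodule.mkQ_apply,
      Submodule.Quotient.mk_eq_zero]
    exact Ideal.mem_span_singleton.mpr (hKj w hw)
  let eπ := π.quotKerEquivOfSurjective hπ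
  let ρ : M →ₗ[R] R ⧸ Ideal.span {a} :=
    ((LinearMap.ker π).liftQ ρ₀ hρ₀) ∘ₗ eπ.symm.toLinearMap
  have hρπ : ∀ w, ρ (π w) = Submodule.Quotient.mk (w j) := by
    intro w
    have : eπ.symm (π w) = Submodule.Quotient.mk w := by
      rw [LinearEquiv.symm_apply_eq]
      exact (LinearMap.quotKerEquivOfSurjective_apply_mk π hπ w).symm
    simp only [ρ, LinearMap.comp_apply, LinearEquiv.coe_coe, this, Submodule.liftQ_apply]
    rfl
  -- the section `σ₀`
  have hσle : (Ideal.span {a} : Submodule R R) ≤ LinearMap.ker (LinearMap.toSpanSingleton R M x) := by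
    intro t ht
    obtain ⟨c, rfl⟩ := Ideal.mem_span_singleton'.mp ht
    rw [LinearMap.mem_ker, LinearMap.toSpanSingleton_apply, mul_smul, hax, smul_zero]
  let σ₀ : R ⧸ Ideal.span {a} →ₗ[R] M :=
    (Ideal.span {a} : Submodule R R).liftQ (LinearMap.toSpanSingleton R M x) hσle
  have hσmk : ∀ t : R, σ₀ (Submodule.Quotient.mk t) = t • x := fun t => by
    simp only [σ₀, Submodule.liftQ_apply, LinearMap.toSpanSingleton_apply]
  have hρσ : ρ ∘ₗ σ₀ = LinearMap.id := by
    apply Submodule.linearMap_qext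
    ext
    simp only [LinearMap.comp_apply, Submodule.mkQ_apply, LinearMap.id_apply]
    rw [hσmk, one_smul, hx, hρπ, hvj]
  have hbij := exists_equiv_prod_of_retraction σ₀ ρ hρσ
  refine ⟨a, M ⧸ LinearMap.range σ₀, inferInstance, inferInstance, ?_, ?_,
    ⟨LinearEquiv.ofBijective _ hbij⟩⟩
  · apply Module.finitePresentation_of_surjective (LinearMap.range σ₀).mkQ
      (LinearMap.range σ₀).mkQ_surjective
    rw [Submodule.ker_mkQ, LinearMap.range_eq_map]
    exact Submodule.FG.map σ₀ Module.Finite.fg_top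
  · refine ⟨fun i => (LinearMap.range σ₀).mkQ (s (j.succAbove i)), ?_⟩
    set Q := LinearMap.range σ₀ with hQ
    set T := span R (Set.range fun i => Q.mkQ (s (j.succAbove i))) with hT
    have hxQ : Q.mkQ x = 0 := by
      rw [Submodule.mkQ_apply, Submodule.Quotient.mk_eq_zero]
      exact ⟨Submodule.Quotient.mk 1, by rw [hσmk, one_smul]⟩
    have hne : ∀ i, i ≠ j → Q.mkQ (s i) ∈ T := by
      intro i hij
      obtain ⟨i', rfl⟩ := Fin.exists_succAbove_eq hij
      exact Submodule.subset_span ⟨i', rfl⟩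
    have hj : Q.mkQ (s j) ∈ T := by
      have h1 : x = s j + ∑ i : Fin n, v (j.succAbove i) • s (j.succAbove i) := by
        rw [hx, hπdef, Fintype.linearCombination_apply, Fin.sum_univ_succAbove _ j, hvj, one_smul]
      have h2 : s j = x - ∑ i : Fin n, v (j.succAbove i) • s (j.succAbove i) := by
        rw [h1]; abel
      rw [h2, map_sub, hxQ, zero_sub, map_sum]
      apply neg_mem
      apply sum_mem
      intro i _
      rw [map_smul]
      exact Submodule.smul_mem _ _ (Submodule.subset_span ⟨i, rfl⟩)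
    rw [eq_top_iff]
    rintro y -
    obtain ⟨m', rfl⟩ := Q.mkQ_surjective y
    have hm' : m' ∈ span R (Set.range s) := by rw [hs]; exact Submodule.mem_top
    induction hm' using Submodule.span_induction with
    | mem w hw =>
      obtain ⟨i, rfl⟩ := hw
      by_cases hij : i = j
      · rw [hij]; exact hj
      · exact hne i hij
    | zero => rw [map_zero]; exact zero_mem _
    | add w₁ w₂ _ _ h₁ h₂ => rw [map_add]; exact add_mem h₁ h₂
    | smul c w _ hw => rw [map_smul]; exact Submodule.smul_mem _ c hw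

/-- Finitely presented modules over a ring with total divisibility are products of cyclic
modules. -/
theorem isCyc_of_generators (h : ∀ a b : R, a ∣ b ∨ b ∣ a) :
    ∀ (n : ℕ) (M : Type u) [AddCommGroup M] [Module R M] [Module.FinitePresentation R M]
      (s : Fin n → M), span R (Set.range s) = ⊤ → IsCyc R M := by
  intro n
  induction n with
  | zero =>
    intro M _ _ _ s hs
    haveI : Subsingleton M := by
      have : (Set.range s) = ∅ := Set.range_eq_empty s
      rw [this, Submodule.span_empty] at hs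
      exact (Submodule.subsingleton_iff R).mp (subsingleton_of_bot_eq_top hs)
    exact isCyc_of_subsingleton
  | succ n ih =>
    intro M _ _ _ s hs
    obtain ⟨a, M', _, _, hfp, ⟨s', hs'⟩, ⟨e⟩⟩ := step h s hs
    exact IsCyc.of_equiv e (IsCyc.cons a (ih M' s' hs'))

theorem isCyc_of_finitePresentation (h : ∀ a b : R, a ∣ b ∨ b ∣ a) (M : Type u) [AddCommGroup M]
    [Module R M] [Module.FinitePresentation R M] : IsCyc R M := by
  obtain ⟨n, s, hs⟩ := Module.Finite.exists_fin (R := R) (M := M)
  exact isCyc_of_generators h n M s hs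

end Helper23.Cyc
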