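import Groth.Agent.Lib.Helper23.CycDecomp

/-!
# Rings that are locally of total divisibility: finitely presented modules are direct summands
of finite products of cyclic modules
-/

universe u
open Submodule

namespace Helper23.Cyc

variable {R : Type u} [CommRing R]

instance finitePresentation_quot_span_singleton (f : R) :
    Module.FinitePresentation R (R ⧸ Ideal.span {f}) := by
  apply Module.finitePresentation_of_surjective (Submodule.mkQ (Ideal.span {f}))
    (Submodule.mkQ_surjective _)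
  rw [Submodule.ker_mkQ]
  exact ⟨{f}, by simp [Ideal.span]⟩

/-- Local retraction: near a maximal ideal, `M` is a retract (up to a unit multiple) of a finite
product of cyclic modules. -/
theorem exists_local_retraction (m : Ideal R) [m.IsMaximal]
    (hm : ∀ a b : Localization.AtPrime m, a ∣ b ∨ b ∣ a)
    (M : Type u) [AddCommGroup M] [Module R M] [Module.FinitePresentation R M] :
    ∃ (n : ℕ) (f : Fin n → R) (φ : ((i : Fin n) → R ⧸ Ideal.span {f i}) →ₗ[R] M)
      (σ : M →ₗ[R] ((i : Fin n) → R ⧸ Ideal.span {f i})) (g : R),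
      g ∉ m ∧ φ ∘ₗ σ = g • LinearMap.id := by
  set Rₘ := Localization.AtPrime m with hRₘ
  set Mₘ := LocalizedModule m.primeCompl M with hMₘ
  obtain ⟨n, a, ⟨e⟩⟩ := isCyc_of_finitePresentation hm Mₘ
  have hsurj : ∀ i, ∃ (f : R) (s : m.primeCompl), a i * algebraMap R Rₘ s = algebraMap R Rₘ f := by
    intro i
    obtain ⟨⟨f, s⟩, h⟩ := IsLocalization.surj m.primeCompl (a i)
    exact ⟨f, s, h⟩
  choose f s hfs using hsurj
  let I' : ∀ i, Submodule Rₘ Rₘ := fun i =>
    (Ideal.span {f i} : Submodule R R).localized' Rₘ m.primeCompl (Algebra.linearMap R Rₘ)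
  have hI' : ∀ i, I' i = Ideal.span {a i} := by
    intro i
    have h1 : I' i = Submodule.span Rₘ ((Algebra.linearMap R Rₘ) '' {f i}) :=
      Submodule.localized'_span Rₘ m.primeCompl (Algebra.linearMap R Rₘ) {f i}
    rw [h1, Set.image_singleton, Algebra.linearMap_apply, ← hfs i]
    have hu : IsUnit (algebraMap R Rₘ (s i)) := IsLocalization.map_units Rₘ (s i)
    exact Ideal.span_singleton_mul_right_unit hu (a i)
  let locP : ((i : Fin n) → R ⧸ Ideal.span {f i}) →ₗ[R] ((i : Fin n) → Rₘ ⧸ I' i) :=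
    LinearMap.pi fun i => ((Ideal.span {f i} : Submodule R R).toLocalizedQuotient' Rₘ m.primeCompl
      (Algebra.linearMap R Rₘ)) ∘ₗ LinearMap.proj i
  haveI : IsLocalizedModule m.primeCompl locP := IsLocalizedModule.pi m.primeCompl _
  let E : ((i : Fin n) → Rₘ ⧸ Ideal.span {a i}) ≃ₗ[Rₘ] ((i : Fin n) → Rₘ ⧸ I' i) :=
    LinearEquiv.piCongrRight fun i => Submodule.quotEquivOfEq _ _ (hI' i).symm
  let θ : Mₘ ≃ₗ[R] ((i : Fin n) → Rₘ ⧸ I' i) := (e.trans E).restrictScalars R
  let locM := LocalizedModule.mkLinearMap m.primeCompl M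
  obtain ⟨σ, s₁, hσ⟩ := Module.FinitePresentation.exists_lift_of_isLocalizedModule m.primeCompl
    locP (θ.toLinearMap ∘ₗ locM)
  obtain ⟨φ, s₂, hφ⟩ := Module.FinitePresentation.exists_lift_of_isLocalizedModule m.primeCompl
    locM (θ.symm.toLinearMap ∘ₗ locP)
  have hcomp : locM ∘ₗ (φ ∘ₗ σ) = locM ∘ₗ (((s₂ : R) * (s₁ : R)) • LinearMap.id) := by
    ext y
    have h1 : locM (φ (σ y)) = (s₂ : R) • θ.symm (locP (σ y)) := LinearMap.congr_fun hφ (σ y)
    have h2 : locP (σ y) = (s₁ : R) • θ (locM y) := LinearMap.congr_fun hσ y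
    simp only [LinearMap.comp_apply, LinearMap.smul_apply, LinearMap.id_apply]
    rw [h1, h2, map_smul, LinearEquiv.symm_apply_apply, map_smul, mul_smul]
  obtain ⟨u, hu⟩ := Module.Finite.exists_smul_of_comp_eq_of_isLocalizedModule m.primeCompl locM
    _ _ hcomp
  refine ⟨n, f, (u : R) • φ, σ, (u : R) * ((s₂ : R) * (s₁ : R)), ?_, ?_⟩
  · exact (m.primeCompl.mul_mem u.2 (m.primeCompl.mul_mem s₂.2 s₁.2))
  · have : (u : R) • (φ ∘ₗ σ) = (u : R) • (((s₂ : R) * (s₁ : R)) • LinearMap.id) := hu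
    rw [LinearMap.smul_comp, this, smul_smul]

/-- Finitely presented modules over a ring whose localizations at maximal ideals have total
divisibility are direct summands of finite products of cyclic modules. -/
theorem exists_summand_decomp
    (h : ∀ (m : Ideal R) [m.IsMaximal], ∀ a b : Localization.AtPrime m, a ∣ b ∨ b ∣ a)
    (M : Type u) [AddCommGroup M] [Module R M] [Module.FinitePresentation R M] :
    ∃ (n : ℕ) (f : Fin n → R) (N : Type u) (_ : AddCommGroup N) (_ : Module R N),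
      Nonempty ((M × N) ≃ₗ[R] ((i : Fin n) → R ⧸ Ideal.span {f i})) := by
  classical
  have hA : ∀ m : MaximalSpectrum R,
      ∃ (n : ℕ) (f : Fin n → R) (φ : ((i : Fin n) → R ⧸ Ideal.span {f i}) →ₗ[R] M)
        (σ : M →ₗ[R] ((i : Fin n) → R ⧸ Ideal.span {f i})) (g : R),
        g ∉ m.asIdeal ∧ φ ∘ₗ σ = g • LinearMap.id := fun m =>
    haveI := m.isMaximal
    exists_local_retraction m.asIdeal (h m.asIdeal) M
  choose n f φ σ g hg hφσ using hA
  have htop : Ideal.span (Set.range g) = ⊤ := by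
    by_contra hne
    obtain ⟨m₀, hm₀, hle⟩ := Ideal.exists_le_maximal _ hne
    exact hg ⟨m₀, hm₀⟩ (hle (Ideal.subset_span ⟨⟨m₀, hm₀⟩, rfl⟩))
  have h1 : (1 : R) ∈ Ideal.span (Set.range g) := by rw [htop]; exact Submodule.mem_top
  obtain ⟨c, hc⟩ := (Finsupp.mem_span_range_iff_exists_finsupp).mp h1
  set t : Finset (MaximalSpectrum R) := c.support with ht
  let X := Σ m : ↥t, Fin (n m.1)
  let F : X → R := fun x => f x.1.1 x.2
  let P := (x : X) → R ⧸ Ideal.span {F x}
  let restr : ∀ m : ↥t, P →ₗ[R] ((i : Fin (n m.1)) → R ⧸ Ideal.span {f m.1 i}) := fun m =>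
    LinearMap.pi fun i => LinearMap.proj (⟨m, i⟩ : X)
  let Φ : P →ₗ[R] M := ∑ m : ↥t, (φ m.1) ∘ₗ (restr m)
  let Sg : M →ₗ[R] P := LinearMap.pi fun x : X => (c x.1.1) • (LinearMap.proj x.2 ∘ₗ σ x.1.1)
  have hrestr : ∀ (m : ↥t) (y : M), restr m (Sg y) = c m.1 • σ m.1 y := by
    intro m y
    funext i
    rfl
  have hΦS : Φ ∘ₗ Sg = LinearMap.id := by
    ext y
    simp only [Φ, LinearMap.comp_apply, LinearMap.sum_apply, LinearMap.id_apply]
    have : ∀ m : ↥t, (φ m.1) (restr m (Sg y)) = (c m.1 * g m.1) • y := by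
      intro m
      rw [hrestr, map_smul, ← LinearMap.comp_apply, hφσ, LinearMap.smul_apply,
        LinearMap.id_apply, smul_smul]
    rw [Finset.sum_congr rfl (fun m _ => this m), ← Finset.sum_smul,
      Finset.sum_coe_sort t (fun m => c m * g m)]
    have : ∑ m ∈ t, c m * g m = 1 := by
      rw [← hc, Finsupp.sum]
      rfl
    rw [this, one_smul]
  have hbij := exists_equiv_prod_of_retraction Sg Φ hΦS
  let e : X ≃ Fin (Fintype.card X) := Fintype.equivFin X
  refine ⟨Fintype.card X, fun j => F (e.symm j), P ⧸ LinearMap.range Sg, inferInstance,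
    inferInstance, ⟨?_⟩⟩
  exact (LinearEquiv.ofBijective _ hbij).symm.trans
    (LinearEquiv.piCongrLeft' R (fun x : X => R ⧸ Ideal.span {F x}) e)

end Helper23.Cyc
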