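import Mathlib.RingTheory.Polynomial.Cyclotomic.Roots
import Mathlib.RingTheory.Polynomial.Cyclotomic.Eval
import Mathlib.RingTheory.RootsOfUnity.Lemmas
import Mathlib.FieldTheory.KummerExtension
import Mathlib.RingTheory.AdjoinRoot
import Mathlib.RingTheory.LocalRing.MaximalIdeal.Basic

/-!
# Roots of the cyclotomic polynomial in a general commutative ring
-/

set_option autoImplicit false

namespace Groth.Agent.Lib.Helper23.CycUnits

open Polynomial Finset

variable {n : ℕ}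

section Universal

/-- the universal ring with a root of the cyclotomic polynomial -/
abbrev R₀ (n : ℕ) : Type := AdjoinRoot (cyclotomic n ℤ)

lemma prime_cyclotomic (hn : 0 < n) : Prime (cyclotomic n ℤ) :=
  (cyclotomic.irreducible hn).prime

instance isDomain_R₀ [NeZero n] : IsDomain (R₀ n) :=
  AdjoinRoot.isDomain_of_prime (prime_cyclotomic (NeZero.pos n))

lemma of_injective (hn : 0 < n) : Function.Injective (AdjoinRoot.of (cyclotomic n ℤ)) := by
  apply AdjoinRoot.of.injective_of_degree_ne_zero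
  rw [degree_cyclotomic]
  exact_mod_cast (Nat.totient_pos.2 hn).ne'

instance neZero_R₀ [NeZero n] : NeZero ((n : ℕ) : R₀ n) := by
  constructor
  intro h
  have h1 : AdjoinRoot.of (cyclotomic n ℤ) (n : ℤ) = AdjoinRoot.of (cyclotomic n ℤ) 0 := by
    rw [map_zero, map_natCast]
    exact h
  have := of_injective (NeZero.pos n) h1
  exact NeZero.ne n (by exact_mod_cast this)

lemma isPrimitiveRoot_root [NeZero n] : IsPrimitiveRoot (AdjoinRoot.root (cyclotomic n ℤ)) n := by
  rw [← isRoot_cyclotomic_iff, IsRoot.def]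
  have h1 : cyclotomic n (R₀ n) = (cyclotomic n ℤ).map (AdjoinRoot.of (cyclotomic n ℤ)) := by
    rw [map_cyclotomic]
  rw [h1, eval_map]
  exact AdjoinRoot.eval₂_root _

end Universal

variable {B : Type*} [CommRing B] {ζ : B} (hζ : aeval ζ (cyclotomic n ℤ) = 0)

/-- the classifying morphism -/
noncomputable def toB : R₀ n →+* B :=
  AdjoinRoot.lift (Int.castRingHom B) ζ (by rw [← hζ]; rfl)

lemma toB_root : toB hζ (AdjoinRoot.root (cyclotomic n ℤ)) = ζ :=
  AdjoinRoot.lift_root _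

include hζ

theorem pow_eq_one (hn : 0 < n) : ζ ^ n = 1 := by
  have : NeZero n := ⟨hn.ne'⟩
  have := (isPrimitiveRoot_root (n := n)).pow_eq_one
  have h2 := congrArg (toB hζ) this
  rwa [map_pow, toB_root, map_one] at h2

theorem prod_X_sub (hn : 0 < n) :
    (X ^ n - 1 : B[X]) = ∏ i ∈ range n, (X - C (ζ ^ i)) := by
  have : NeZero n := ⟨hn.ne'⟩
  have := X_pow_sub_C_eq_prod (isPrimitiveRoot_root (n := n)) hn (one_pow n)
  have h2 := congrArg (Polynomial.map (toB hζ)) this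
  simpa [Polynomial.map_prod, toB_root] using h2

theorem prod_sub_eq_zero (hn : 0 < n) {x : B} (hx : x ^ n = 1) :
    ∏ i ∈ range n, (x - ζ ^ i) = 0 := by
  have := congrArg (Polynomial.eval x) (prod_X_sub hζ hn)
  simp only [eval_sub, eval_pow, eval_X, eval_one, eval_prod, eval_C] at this
  rw [← this, hx, sub_self]

theorem prod_one_sub (hn : 0 < n) :
    ∏ k ∈ range (n - 1), (1 - ζ ^ (k + 1)) = n := by
  obtain ⟨m, rfl⟩ : ∃ m, n = m + 1 := ⟨n - 1, by omega⟩
  have := (isPrimitiveRoot_root (n := m + 1)).prod_one_sub_pow_eq_order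
  have h2 := congrArg (toB hζ) this
  simpa [toB_root] using h2

theorem isUnit_one_sub (hu : IsUnit (n : B)) {j : ℕ} (hj0 : 0 < j) (hjn : j < n) :
    IsUnit (1 - ζ ^ j) := by
  have hn : 0 < n := by omega
  have h1 := prod_one_sub hζ hn
  rw [← h1] at hu
  obtain ⟨k, rfl⟩ : ∃ k, j = k + 1 := ⟨j - 1, by omega⟩
  exact isUnit_of_dvd_unit (Finset.dvd_prod_of_mem (fun k => 1 - ζ ^ (k + 1))
    (Finset.mem_range.2 (by omega : k < n - 1))) hu

theorem isUnit_zeta (hn : 0 < n) : IsUnit ζ :=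
  IsUnit.of_pow_eq_one (pow_eq_one hζ hn) hn.ne'

theorem isUnit_pow_sub_pow (hu : IsUnit (n : B)) {k l : ℕ} (hk : k < n) (hl : l < n)
    (hkl : k ≠ l) : IsUnit (ζ ^ k - ζ ^ l) := by
  have hn : 0 < n := by omega
  wlog h : k < l generalizing k l
  · have := this hl hk (Ne.symm hkl) (by omega)
    rw [← neg_sub]
    exact this.neg
  · have e : ζ ^ k - ζ ^ l = ζ ^ k * (1 - ζ ^ (l - k)) := by
      rw [mul_sub, mul_one, ← pow_add, Nat.add_sub_cancel' h.le]
    rw [e]
    exact ((isUnit_zeta hζ hn).pow k).mul (isUnit_one_sub hζ hu (by omega) (by omega))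

omit hζ in
theorem exists_isUnit_prod_erase {L : Type*} [CommRing L] [IsLocalRing L] {ζ : L}
    (hζ : aeval ζ (cyclotomic n ℤ) = 0) (hu : IsUnit (n : L)) (hn : 0 < n) {a : L}
    (ha : a ^ n = 1) :
    ∃ k < n, IsUnit (∏ l ∈ (range n).erase k, (a - ζ ^ l)) := by
  have h0 := prod_sub_eq_zero hζ hn ha
  have h1 : ∃ k ∈ range n, ¬ IsUnit (a - ζ ^ k) := by
    by_contra hcon
    push Not at hcon
    have : IsUnit (∏ i ∈ range n, (a - ζ ^ i)) := IsUnit.prod_iff.2 hcon
    rw [h0] at this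
    exact not_isUnit_zero this
  obtain ⟨k, hk, hknu⟩ := h1
  refine ⟨k, mem_range.1 hk, IsUnit.prod_iff.2 ?_⟩
  intro l hl
  by_contra hl'
  have hlk : l ≠ k := (Finset.mem_erase.1 hl).1
  have hln : l < n := mem_range.1 (Finset.mem_erase.1 hl).2
  have h2 : (a - ζ ^ k) - (a - ζ ^ l) ∈ IsLocalRing.maximalIdeal L :=
    Ideal.sub_mem _ ((IsLocalRing.mem_maximalIdeal _).2 hknu) ((IsLocalRing.mem_maximalIdeal _).2 hl')
  have h3 : IsUnit (ζ ^ l - ζ ^ k) := isUnit_pow_sub_pow hζ hu hln (mem_range.1 hk) hlk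
  have h4 : (a - ζ ^ k) - (a - ζ ^ l) = ζ ^ l - ζ ^ k := by ring
  rw [h4] at h2
  exact (IsLocalRing.mem_maximalIdeal _).1 h2 h3

end Groth.Agent.Lib.Helper23.CycUnits
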