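import Groth.Prelude.Def_Algz

set_option autoImplicit false
universe u

namespace Groth.Agent.Lib.Helper23.DeltaZ

open Algz

variable {Y : Type u} [TopologicalSpace Y]

theorem codimPt_congr {w v w' v' : Y} (h : w ⤳ v) (hw : w = w') (hv : v = v') (h' : w' ⤳ v') :
    codimPt w v h = codimPt w' v' h' := by
  subst hw; subst hv; rfl

theorem codimPt_self (v : Y) (h : v ⤳ v) : codimPt v v h = 0 := by
  unfold codimPt
  rw [Order.height_eq_zero]
  intro b hb
  exact b.2

theorem one_le_codimPt {w v : Y} (h : w ⤳ v) (hne : ¬ v ⤳ w) : 1 ≤ codimPt w v h := by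
  unfold codimPt
  rw [Order.one_le_iff_pos, Order.height_pos]
  intro hmin
  have h1 : (⟨Specialization.toEquiv v, Set.mem_Ici.mpr (le_refl _)⟩ : Set.Ici (Specialization.toEquiv v)) ≤
      ⟨Specialization.toEquiv w, Specialization.toEquiv_le_toEquiv.mpr h⟩ :=
    Specialization.toEquiv_le_toEquiv.mpr h
  have h2 := hmin h1
  exact hne (Specialization.toEquiv_le_toEquiv.mp h2)

theorem codimPt_le_one {w v : Y} (h : w ⤳ v)
    (himm : ∀ z : Y, w ⤳ z → z ⤳ v → (z ⤳ w) ∨ (v ⤳ z)) : codimPt w v h ≤ 1 := by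
  unfold codimPt
  rw [Order.height_le_iff']
  intro p hlast
  by_contra hlen
  push Not at hlen
  have hlen2 : 2 ≤ p.length := by
    have : ((1 : ℕ) : ℕ∞) < (p.length : ℕ∞) := by exact_mod_cast hlen
    have := Nat.cast_lt.mp this
    omega
  -- consider p 0 < p 1 < p 2 ≤ last
  have h01 : p ⟨0, by omega⟩ < p ⟨1, by omega⟩ := p.strictMono (by simp [Fin.lt_def])
  have h1l : p ⟨1, by omega⟩ < p.last := by
    apply p.strictMono
    simp [Fin.lt_def, Fin.last]
    omega
  rw [hlast] at h1l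
  set z := Specialization.ofEquiv (p ⟨1, by omega⟩).1 with hz
  have hzv : z ⤳ v := (p ⟨1, by omega⟩).2
  have hwz : w ⤳ z := Specialization.toEquiv_le_toEquiv.mp h1l.le
  rcases himm z hwz hzv with hzw | hvz
  · exact absurd (Specialization.toEquiv_le_toEquiv.mpr hzw : Specialization.toEquiv w ≤ (p ⟨1, by omega⟩).1)
      (not_le_of_gt h1l)
  · have h0v : Specialization.toEquiv v ≤ (p ⟨0, by omega⟩).1 := (p ⟨0, by omega⟩).2
    have h1v : (p ⟨1, by omega⟩).1 ≤ Specialization.toEquiv v := by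
      change Specialization.toEquiv z ≤ Specialization.toEquiv v
      exact Specialization.toEquiv_le_toEquiv.mpr hvz
    exact absurd (h1v.trans h0v) (not_le_of_gt h01)

end Groth.Agent.Lib.Helper23.DeltaZ
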