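import Groth.Agent.Lib.Helper23.DeltaZ

set_option autoImplicit false
universe u

namespace Groth.Agent.Lib.Helper23.DeltaZ

open Algz

/-- The value of a system, as a function of the two sequences of codimensions. -/
noncomputable def val (k : ℕ) (c : Fin (k + 1) → ℕ∞) (b : Fin k → ℕ∞) : ℕ∞ :=
  (k : ℕ∞) + Finset.univ.sup fun i : Fin (k + 1) =>
    (∑ j ∈ Finset.univ.filter (fun j : Fin (k + 1) => i ≤ j), c j) -
      ∑ j ∈ Finset.univ.filter (fun j : Fin k => i.val ≤ j.val), b j

theorem delta_eq_val {Y : Type u} [TopologicalSpace Y] {Z : Set Y} {y : Y} {k : ℕ}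
    (S : DSystem Z y k) : S.delta = val k S.c S.b := rfl

theorem val_mono (k : ℕ) (c c' : Fin (k + 1) → ℕ∞) (b b' : Fin k → ℕ∞)
    (hc : ∀ j, c' j ≤ c j) (hb : ∀ j, b j ≤ b' j) : val k c' b' ≤ val k c b := by
  unfold val
  refine add_le_add_right ?_ _
  exact Finset.sup_mono_fun fun i _ =>
    tsub_le_tsub (Finset.sum_le_sum fun j _ => hc j) (Finset.sum_le_sum fun j _ => hb j)

theorem val_extend (k : ℕ) (c : Fin (k + 1) → ℕ∞) (b : Fin k → ℕ∞)
    (c' : Fin (k + 2) → ℕ∞) (b' : Fin (k + 1) → ℕ∞)
    (hc : ∀ i : Fin (k + 1), c' i.castSucc = c i) (hcl : c' (Fin.last (k + 1)) = 0)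
    (hb : ∀ j : Fin k, b' j.castSucc = b j) (hbl : 1 ≤ b' (Fin.last k))
    (hck : 1 ≤ c (Fin.last k)) : val (k + 1) c' b' ≤ val k c b := by
  unfold val
  set T : Fin (k + 1) → ℕ∞ := fun i =>
    (∑ j ∈ Finset.univ.filter (fun j : Fin (k + 1) => i ≤ j), c j) -
      ∑ j ∈ Finset.univ.filter (fun j : Fin k => i.val ≤ j.val), b j with hT
  set s : ℕ∞ := Finset.univ.sup T with hs
  have hs1 : 1 ≤ s := by
    have h1 : T (Fin.last k) ≤ s := Finset.le_sup (Finset.mem_univ _)
    refine le_trans ?_ h1
    have e1 : (∑ j ∈ Finset.univ.filter (fun j : Fin (k + 1) => Fin.last k ≤ j), c j)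
        = c (Fin.last k) := by
      have : Finset.univ.filter (fun j : Fin (k + 1) => Fin.last k ≤ j) = {Fin.last k} := by
        ext j
        simp [Fin.last_le_iff]
      rw [this, Finset.sum_singleton]
    have e2 : (∑ j ∈ Finset.univ.filter (fun j : Fin k => (Fin.last k).val ≤ j.val), b j) = 0 := by
      apply Finset.sum_eq_zero
      intro j hj
      simp only [Finset.mem_filter, Finset.mem_univ, true_and, Fin.val_last] at hj
      exact absurd j.2 (by omega)
    simp only [hT, e1, e2, tsub_zero]
    exact hck
  have hsup : (Finset.univ.sup fun i : Fin (k + 1 + 1) =>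
      (∑ j ∈ Finset.univ.filter (fun j : Fin (k + 1 + 1) => i ≤ j), c' j) -
        ∑ j ∈ Finset.univ.filter (fun j : Fin (k + 1) => i.val ≤ j.val), b' j) ≤ s - 1 := by
    apply Finset.sup_le
    intro i _
    refine Fin.lastCases ?_ (fun i₀ => ?_) i
    · have e1 : (∑ j ∈ Finset.univ.filter (fun j : Fin (k + 1 + 1) => Fin.last (k + 1) ≤ j), c' j)
          = 0 := by
        have : Finset.univ.filter (fun j : Fin (k + 1 + 1) => Fin.last (k + 1) ≤ j)
            = {Fin.last (k + 1)} := by
          ext j
          simp [Fin.last_le_iff]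
        rw [this, Finset.sum_singleton, hcl]
      rw [e1, zero_tsub]
      exact zero_le
    · have e1 : (∑ j ∈ Finset.univ.filter (fun j : Fin (k + 1 + 1) => i₀.castSucc ≤ j), c' j)
          = ∑ j ∈ Finset.univ.filter (fun j : Fin (k + 1) => i₀ ≤ j), c j := by
        rw [Finset.sum_filter, Finset.sum_filter, Fin.sum_univ_castSucc, hcl]
        simp only [ite_self, add_zero, Fin.castSucc_le_castSucc_iff, hc]
      have e2 : (∑ j ∈ Finset.univ.filter (fun j : Fin (k + 1) => i₀.castSucc.val ≤ j.val), b' j)
          = (∑ j ∈ Finset.univ.filter (fun j : Fin k => i₀.val ≤ j.val), b j) + b' (Fin.last k) := by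
        rw [Finset.sum_filter, Finset.sum_filter, Fin.sum_univ_castSucc]
        have hlast : (i₀.castSucc.val ≤ (Fin.last k).val) := by
          simp only [Fin.val_castSucc, Fin.val_last]
          exact Nat.lt_succ_iff.mp i₀.2
        rw [if_pos hlast]
        simp only [Fin.val_castSucc, hb]
      rw [e1, e2, ← tsub_tsub]
      have h1 : T i₀ ≤ s := Finset.le_sup (Finset.mem_univ _)
      exact (tsub_le_tsub_left hbl _).trans (tsub_le_tsub_right h1 _)
  calc ((k + 1 : ℕ) : ℕ∞) + _ ≤ ((k + 1 : ℕ) : ℕ∞) + (s - 1) := by gcongr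
    _ = (k : ℕ∞) + (1 + (s - 1)) := by push_cast; ring
    _ = (k : ℕ∞) + s := by rw [add_tsub_cancel_of_le hs1]

end Groth.Agent.Lib.Helper23.DeltaZ

namespace Groth.Agent.Lib.Helper23.DeltaZ

open Algz

variable {Y : Type u} [TopologicalSpace Y]

theorem codimPt_mono_base {w v v' : Y} (h : w ⤳ v) (hv : v ⤳ v') (h' : w ⤳ v') :
    codimPt w v h ≤ codimPt w v' h' := by
  unfold codimPt
  let F : Set.Ici (Specialization.toEquiv v) → Set.Ici (Specialization.toEquiv v') :=
    fun x => ⟨x.1, le_trans (Specialization.toEquiv_le_toEquiv.mpr hv) x.2⟩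
  have hF : StrictMono F := fun a b hab => hab
  exact Order.height_le_height_apply_of_strictMono F hF _

theorem specializes_of_codimPt_eq_zero {w v : Y} (h : w ⤳ v) (h0 : codimPt w v h = 0) : v ⤳ w := by
  unfold codimPt at h0
  rw [Order.height_eq_zero] at h0
  have h1 : (⟨Specialization.toEquiv v, Set.mem_Ici.mpr (le_refl _)⟩ :
      Set.Ici (Specialization.toEquiv v)) ≤
      ⟨Specialization.toEquiv w, Specialization.toEquiv_le_toEquiv.mpr h⟩ :=
    Specialization.toEquiv_le_toEquiv.mpr h
  exact Specialization.toEquiv_le_toEquiv.mp (h0 h1)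

/-- Case I: the last pair is degenerate; replace it by the closure of `y'`. -/
theorem exists_sys_case1 {Z : Set Y} (hZ : IsClosed Z) {y y' : Y} (h : y ⤳ y') {k : ℕ}
    (S : DSystem Z y k) (h0 : S.c (Fin.last k) = 0) :
    ∃ S' : DSystem Z y' k, S'.delta ≤ S.delta := by
  classical
  have hvw : S.v (Fin.last k) ⤳ S.w (Fin.last k) := specializes_of_codimPt_eq_zero _ h0
  have hvy' : S.v (Fin.last k) ⤳ y' := by
    refine hvw.trans ?_
    rw [S.last_eq]; exact h
  let S' : DSystem Z y' k :=
    { v := Function.update S.v (Fin.last k) y'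
      w := Function.update S.w (Fin.last k) y'
      spec := by
        intro i
        by_cases hi : i = Fin.last k
        · subst hi; rw [Function.update_self, Function.update_self]
        · rw [Function.update_of_ne hi, Function.update_of_ne hi]; exact S.spec i
      spec_succ := by
        intro j
        have hj : j.castSucc ≠ Fin.last k := (Fin.castSucc_lt_last j).ne
        rw [Function.update_of_ne hj]
        by_cases hs : j.succ = Fin.last k
        · rw [hs, Function.update_self]
          have := S.spec_succ j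
          rw [hs] at this
          exact this.trans hvy'
        · rw [Function.update_of_ne hs]; exact S.spec_succ j
      start_mem := by
        by_cases h0k : (0 : Fin (k + 1)) = Fin.last k
        · rw [h0k, Function.update_self]
          have hm := S.start_mem
          rw [h0k] at hm
          exact hZ.stableUnderSpecialization hvy' hm
        · rw [Function.update_of_ne h0k]; exact S.start_mem
      last_eq := Function.update_self _ _ _ }
  refine ⟨S', ?_⟩
  rw [delta_eq_val, delta_eq_val]
  apply val_mono
  · intro j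
    by_cases hj : j = Fin.last k
    · subst hj
      have e : S'.c (Fin.last k) = codimPt y' y' specializes_rfl := by
        change codimPt (Function.update S.w (Fin.last k) y' (Fin.last k))
          (Function.update S.v (Fin.last k) y' (Fin.last k)) _ = _
        exact codimPt_congr _ (Function.update_self _ _ _) (Function.update_self _ _ _) _
      rw [e, codimPt_self]
      exact zero_le
    · have e : S'.c j = S.c j := by
        change codimPt (Function.update S.w (Fin.last k) y' j)
          (Function.update S.v (Fin.last k) y' j) _ = _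
        exact codimPt_congr _ (Function.update_of_ne hj _ _) (Function.update_of_ne hj _ _) _
      rw [e]
  · intro j
    have hj : j.castSucc ≠ Fin.last k := (Fin.castSucc_lt_last j).ne
    by_cases hs : j.succ = Fin.last k
    · have hspec : S.w j.castSucc ⤳ S.v (Fin.last k) := by
        have := S.spec_succ j
        rw [hs] at this
        exact this
      have e : S'.b j = codimPt (S.w j.castSucc) y' (hspec.trans hvy') := by
        change codimPt (Function.update S.w (Fin.last k) y' j.castSucc)
          (Function.update S.v (Fin.last k) y' j.succ) _ = _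
        refine codimPt_congr _ (Function.update_of_ne hj _ _) ?_ _
        rw [hs, Function.update_self]
      have e2 : S.b j = codimPt (S.w j.castSucc) (S.v (Fin.last k)) hspec := by
        change codimPt (S.w j.castSucc) (S.v j.succ) _ = _
        exact codimPt_congr _ rfl (by rw [hs]) _
      rw [e, e2]
      exact codimPt_mono_base _ hvy' _
    · have e : S'.b j = S.b j := by
        change codimPt (Function.update S.w (Fin.last k) y' j.castSucc)
          (Function.update S.v (Fin.last k) y' j.succ) _ = _
        exact codimPt_congr _ (Function.update_of_ne hj _ _) (Function.update_of_ne hs _ _) _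
      rw [e]

/-- Case II: the last pair is nondegenerate; append the closure of `y'`. -/
theorem exists_sys_case2 {Z : Set Y} {y y' : Y} (h : y ⤳ y') (hne : ¬ y' ⤳ y) {k : ℕ}
    (S : DSystem Z y k) (h1 : 1 ≤ S.c (Fin.last k)) :
    ∃ S' : DSystem Z y' (k + 1), S'.delta ≤ S.delta := by
  classical
  let v' : Fin (k + 2) → Y := Fin.snoc (α := fun _ => Y) S.v y'
  let w' : Fin (k + 2) → Y := Fin.snoc (α := fun _ => Y) S.w y'
  have hv1 : ∀ j : Fin (k + 1), v' j.castSucc = S.v j :=
    fun j => Fin.snoc_castSucc (α := fun _ => Y) _ _ _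
  have hv2 : v' (Fin.last (k + 1)) = y' := Fin.snoc_last (α := fun _ => Y) _ _
  have hw1 : ∀ j : Fin (k + 1), w' j.castSucc = S.w j :=
    fun j => Fin.snoc_castSucc (α := fun _ => Y) _ _ _
  have hw2 : w' (Fin.last (k + 1)) = y' := Fin.snoc_last (α := fun _ => Y) _ _
  let S' : DSystem Z y' (k + 1) :=
    { v := v'
      w := w'
      spec := by
        intro i
        refine Fin.lastCases ?_ (fun j => ?_) i
        · rw [hv2, hw2]
        · rw [hv1, hw1]; exact S.spec j
      spec_succ := by
        intro j
        rw [hw1]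
        refine Fin.lastCases ?_ (fun j' => ?_) j
        · rw [Fin.succ_last, hv2, S.last_eq]; exact h
        · rw [← Fin.castSucc_succ, hv1]; exact S.spec_succ j'
      start_mem := by
        have : (0 : Fin (k + 2)) = (0 : Fin (k + 1)).castSucc := rfl
        rw [this, hv1]; exact S.start_mem
      last_eq := hw2 }
  refine ⟨S', ?_⟩
  rw [delta_eq_val, delta_eq_val]
  apply val_extend
  · intro i
    change codimPt (w' i.castSucc) (v' i.castSucc) _ = _
    exact codimPt_congr _ (hw1 i) (hv1 i) _
  · change codimPt (w' (Fin.last (k + 1))) (v' (Fin.last (k + 1))) _ = 0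
    rw [codimPt_congr _ hw2 hv2 specializes_rfl, codimPt_self]
  · intro j
    change codimPt (w' j.castSucc.castSucc) (v' j.castSucc.succ) _ = _
    refine codimPt_congr _ (hw1 _) ?_ _
    rw [← Fin.castSucc_succ, hv1]
  · change 1 ≤ codimPt (w' (Fin.last k).castSucc) (v' (Fin.last k).succ) _
    have e : codimPt (w' (Fin.last k).castSucc) (v' (Fin.last k).succ)
        (S'.spec_succ (Fin.last k)) = codimPt y y' h := by
      refine codimPt_congr _ ((hw1 _).trans S.last_eq) ?_ _
      rw [Fin.succ_last, hv2]
    rw [e]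
    exact one_le_codimPt h hne
  · exact h1

theorem deltaZ_le_of_specializes {Z : Set Y} (hZ : IsClosed Z) {y y' : Y} (h : y ⤳ y')
    (hne : ¬ y' ⤳ y) : deltaZ Z y' ≤ deltaZ Z y := by
  unfold deltaZ
  refine le_iInf fun k => le_iInf fun S => ?_
  by_cases h0 : S.c (Fin.last k) = 0
  · obtain ⟨S', hS'⟩ := exists_sys_case1 hZ h S h0
    exact (iInf_le_of_le k (iInf_le _ S')).trans hS'
  · have h1 : 1 ≤ S.c (Fin.last k) := Order.one_le_iff_pos.mpr (pos_iff_ne_zero.mpr h0)
    obtain ⟨S', hS'⟩ := exists_sys_case2 h hne S h1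
    exact (iInf_le_of_le (k + 1) (iInf_le _ S')).trans hS'

end Groth.Agent.Lib.Helper23.DeltaZ
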