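import Groth.Agent.Lib.Helper6.DerivedCatAdj
import Mathlib.Algebra.Homology.DerivedCategory.HomologySequence
import Mathlib.Algebra.Homology.ShortComplex.PreservesHomology
import Mathlib.CategoryTheory.Adjunction.FullyFaithful

/-!
# Fully faithful exact right adjoints on derived categories

For an adjunction `L ⊣ R` of exact additive functors between abelian categories with `R` fully
faithful (counit invertible), `R.mapDerivedCategory` is fully faithful and its essential image
consists of the objects `K` whose cohomology objects `H^n K` have invertible unit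
`H^n K ⟶ R L (H^n K)`.
-/

set_option autoImplicit false

universe w₁ w₂ v₁ v₂ u₁ u₂

open CategoryTheory Category Limits DerivedCategory

namespace Groth.Agent.Lib.Helper23.DerivedFF

open Groth.Agent.Lib.Helper6.DerivedCatAdj Groth.Agent.Lib.Helper6.DerivedAdj

variable {C₁ : Type u₁} [Category.{v₁} C₁] [Abelian C₁] [HasDerivedCategory.{w₁} C₁]
  {C₂ : Type u₂} [Category.{v₂} C₂] [Abelian C₂] [HasDerivedCategory.{w₂} C₂]
  {L : C₁ ⥤ C₂} {R : C₂ ⥤ C₁} (adj : L ⊣ R)
  [L.Additive] [PreservesFiniteLimits L] [PreservesFiniteColimits L]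
  [R.Additive] [PreservesFiniteLimits R] [PreservesFiniteColimits R]

lemma unit_app_Q (K : CochainComplex C₁ ℤ) :
    (mapDerivedCategoryAdj adj).unit.app (Q.obj K) =
      Q.map ((adjCx adj (ComplexShape.up ℤ)).unit.app K) ≫
        R.mapDerivedCategoryFactors.inv.app ((L.mapHomologicalComplex _).obj K) ≫
          R.mapDerivedCategory.map (L.mapDerivedCategoryFactors.inv.app K) := by
  letI : CatCommSq (L.mapHomologicalComplex (ComplexShape.up ℤ)) DerivedCategory.Q
      DerivedCategory.Q L.mapDerivedCategory := ⟨L.mapDerivedCategoryFactors.symm⟩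
  letI : CatCommSq (R.mapHomologicalComplex (ComplexShape.up ℤ)) DerivedCategory.Q
      DerivedCategory.Q R.mapDerivedCategory := ⟨R.mapDerivedCategoryFactors.symm⟩
  exact Adjunction.localization_unit_app (adjCx adj (ComplexShape.up ℤ)) DerivedCategory.Q
    (HomologicalComplex.quasiIso C₁ (ComplexShape.up ℤ)) DerivedCategory.Q
    (HomologicalComplex.quasiIso C₂ (ComplexShape.up ℤ)) L.mapDerivedCategory R.mapDerivedCategory K

lemma counit_app_Q (M : CochainComplex C₂ ℤ) :
    (mapDerivedCategoryAdj adj).counit.app (Q.obj M) =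
      L.mapDerivedCategory.map (R.mapDerivedCategoryFactors.hom.app M) ≫
        L.mapDerivedCategoryFactors.hom.app ((R.mapHomologicalComplex _).obj M) ≫
          Q.map ((adjCx adj (ComplexShape.up ℤ)).counit.app M) := by
  letI : CatCommSq (L.mapHomologicalComplex (ComplexShape.up ℤ)) DerivedCategory.Q
      DerivedCategory.Q L.mapDerivedCategory := ⟨L.mapDerivedCategoryFactors.symm⟩
  letI : CatCommSq (R.mapHomologicalComplex (ComplexShape.up ℤ)) DerivedCategory.Q
      DerivedCategory.Q R.mapDerivedCategory := ⟨R.mapDerivedCategoryFactors.symm⟩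
  exact Adjunction.localization_counit_app (adjCx adj (ComplexShape.up ℤ)) DerivedCategory.Q
    (HomologicalComplex.quasiIso C₁ (ComplexShape.up ℤ)) DerivedCategory.Q
    (HomologicalComplex.quasiIso C₂ (ComplexShape.up ℤ)) L.mapDerivedCategory R.mapDerivedCategory M

/-- the counit of the derived adjunction is invertible when the counit of `adj` is -/
lemma isIso_counit_app (hc : ∀ M, IsIso (adj.counit.app M)) (M : DerivedCategory C₂) :
    IsIso ((mapDerivedCategoryAdj adj).counit.app M) := by
  rw [← NatTrans.isIso_app_iff_of_iso _ (Q.objObjPreimageIso M)]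
  rw [counit_app_Q]
  haveI : IsIso ((adjCx adj (ComplexShape.up ℤ)).counit.app (Q.objPreimage M)) := by
    change IsIso ((counitCx adj (ComplexShape.up ℤ)).app (Q.objPreimage M))
    haveI : ∀ n, IsIso (((counitCx adj (ComplexShape.up ℤ)).app (Q.objPreimage M)).f n) := by
      intro n
      rw [counitCx_app_f]
      exact hc _
    exact HomologicalComplex.Hom.isIso_of_components _
  infer_instance

/-- `R.mapDerivedCategory` is fully faithful when `R` is (counit invertible) -/
noncomputable def fullyFaithful (hc : ∀ M, IsIso (adj.counit.app M)) :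
    R.mapDerivedCategory.FullyFaithful := by
  haveI : IsIso (mapDerivedCategoryAdj adj).counit := by
    haveI := isIso_counit_app adj hc
    exact NatIso.isIso_of_isIso_app _
  exact (mapDerivedCategoryAdj adj).fullyFaithfulROfIsIsoCounit

lemma full (hc : ∀ M, IsIso (adj.counit.app M)) : R.mapDerivedCategory.Full :=
  (fullyFaithful adj hc).full

lemma faithful (hc : ∀ M, IsIso (adj.counit.app M)) : R.mapDerivedCategory.Faithful :=
  (fullyFaithful adj hc).faithful

/-- the unit on `Q.obj K` is invertible iff the complex-level unit is a quasi-isomorphism -/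
lemma isIso_unit_app_Q_iff (K : CochainComplex C₁ ℤ) :
    IsIso ((mapDerivedCategoryAdj adj).unit.app (Q.obj K)) ↔
      QuasiIso ((unitCx adj (ComplexShape.up ℤ)).app K) := by
  rw [unit_app_Q, ← isIso_Q_map_iff_quasiIso]
  exact isIso_comp_right_iff (Q.map ((adjCx adj (ComplexShape.up ℤ)).unit.app K))
    (R.mapDerivedCategoryFactors.inv.app ((L.mapHomologicalComplex _).obj K) ≫
      R.mapDerivedCategory.map (L.mapDerivedCategoryFactors.inv.app K))

instance : PreservesFiniteLimits (L ⋙ R) := comp_preservesFiniteLimits L R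
instance : PreservesFiniteColimits (L ⋙ R) := comp_preservesFiniteColimits L R

set_option backward.isDefEq.respectTransparency.types false in
set_option backward.isDefEq.respectTransparency false in
lemma isIso_homologyMap_unitCx_iff (K : CochainComplex C₁ ℤ) (n : ℤ) :
    IsIso (HomologicalComplex.homologyMap ((unitCx adj (ComplexShape.up ℤ)).app K) n) ↔
      IsIso (adj.unit.app (K.homology n)) := by
  have h1 : HomologicalComplex.homologyMap ((unitCx adj (ComplexShape.up ℤ)).app K) n =
      ShortComplex.homologyMap ((K.sc n).mapNatTrans adj.unit) := rfl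
  rw [h1, ShortComplex.homologyMap_mapNatTrans]
  exact (isIso_comp_left_iff ((K.sc n).mapHomologyIso (𝟭 C₁)).hom
    (adj.unit.app (K.sc n).homology ≫ ((K.sc n).mapHomologyIso (L ⋙ R)).inv)).trans
    (isIso_comp_right_iff (adj.unit.app (K.sc n).homology) ((K.sc n).mapHomologyIso (L ⋙ R)).inv)

lemma quasiIso_unitCx_iff (K : CochainComplex C₁ ℤ) :
    QuasiIso ((unitCx adj (ComplexShape.up ℤ)).app K) ↔
      ∀ n : ℤ, IsIso (adj.unit.app (K.homology n)) := by
  rw [quasiIso_iff]
  refine forall_congr' (fun n => ?_)
  rw [quasiIsoAt_iff_isIso_homologyMap]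
  exact isIso_homologyMap_unitCx_iff adj K n

/-- essential image of `R.mapDerivedCategory` for a fully faithful exact right adjoint `R` -/
theorem essImage_iff (hc : ∀ M, IsIso (adj.counit.app M)) (K : DerivedCategory C₁) :
    R.mapDerivedCategory.essImage K ↔
      ∀ n : ℤ, IsIso (adj.unit.app ((homologyFunctor C₁ n).obj K)) := by
  haveI := full adj hc
  haveI := faithful adj hc
  rw [← (mapDerivedCategoryAdj adj).isIso_unit_app_iff_mem_essImage]
  let e : Q.obj (Q.objPreimage K) ≅ K := Q.objObjPreimageIso K
  rw [← NatTrans.isIso_app_iff_of_iso _ e, isIso_unit_app_Q_iff, quasiIso_unitCx_iff]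
  refine forall_congr' (fun n => ?_)
  let e' : (Q.objPreimage K).homology n ≅ (homologyFunctor C₁ n).obj K :=
    ((homologyFunctorFactors C₁ n).app (Q.objPreimage K)).symm ≪≫ (homologyFunctor C₁ n).mapIso e
  exact NatTrans.isIso_app_iff_of_iso adj.unit e'

end Groth.Agent.Lib.Helper23.DerivedFF
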