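import Groth.Agent.Lib.Helper23.DimZeroSplit
import Groth.Agent.Lib.Helper23.EtGlue2
import Groth.Prelude.Def_EtCore

/-!
# Global sections are exact on a zero-dimensional affine scheme with separably closed residue fields
-/

set_option autoImplicit false
universe u

namespace Groth.Agent.Lib.Helper23.DimZeroGamma

open CategoryTheory CategoryTheory.Limits AlgebraicGeometry Opposite GrothendieckTopology
open EtGlue EtSupp

variable {S : Scheme.{u}} [IsAffine S]

set_option backward.isDefEq.respectTransparency.types false in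
set_option backward.isDefEq.respectTransparency false in
/-- local lifts over clopen neighbourhoods -/
lemma exists_local_lift (h1 : ∀ s : S, IsClosed ({s} : Set S))
    (h2 : ∀ s : S, IsSepClosed (S.residueField s)) {F G : EtCoh.Ab S} (e : F ⟶ G) [Epi e]
    (t : G.obj.obj (op (EtCoh.top S))) (s : S) :
    ∃ (V : (EtCoh.top S).left.Opens) (r : F.obj.obj (op (opn (EtCoh.top S) V))),
      (s : (EtCoh.top S).left) ∈ V ∧ IsClosed (V : Set (EtCoh.top S).left) ∧
      e.hom.app (op (opn (EtCoh.top S) V)) r = G.obj.map (opnι (EtCoh.top S) V).op t := by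
  let T := EtCoh.top S
  haveI : Sheaf.IsLocallySurjective e :=
    (Sheaf.isLocallySurjective_iff_epi' AddCommGrpCat.{u+1} e).2 inferInstance
  have hmem := Presheaf.imageSieve_mem S.smallEtaleTopology e.hom t
  obtain ⟨W, g, ⟨rW, hrW⟩, ⟨w, hw⟩⟩ := exists_arrow_of_mem _ hmem (s : T.left)
  have hWs : W.hom w = s := by
    have h := Over.w g.hom
    have h' : g.left ≫ T.hom = W.hom := h
    have h3 : (g.left ≫ T.hom) w = g.left w := rfl
    have h4 : W.hom w = (g.left ≫ T.hom) w :=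
      congrArg (fun φ : W.left ⟶ S => (φ w : S)) h'.symm
    exact h4.trans (h3.trans hw)
  obtain ⟨A, hA, hwA, -⟩ := exists_isAffineOpen_mem_and_subset (x := w) (U := ⊤) trivial
  haveI : IsAffine (A : Scheme.{u}) := hA
  haveI : Etale W.hom := W.prop
  let f : (A : Scheme.{u}) ⟶ S := A.ι ≫ W.hom
  obtain ⟨O, hwO, hO⟩ := DimZeroSplit.exists_open_isOpenImmersion f h1 h2 ⟨w, hwA⟩
  let j : (O : Scheme.{u}) ⟶ S := O.ι ≫ f
  haveI : IsOpenImmersion j := hO
  let V₀ : S.Opens := j.opensRange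
  have hsV₀ : s ∈ V₀ := by
    refine ⟨⟨⟨w, hwA⟩, hwO⟩, ?_⟩
    change W.hom w = s
    exact hWs
  haveI := DimZeroSplit.t2Space_of_closed_points S h1
  obtain ⟨_, ⟨r₀, rfl⟩, hsr, hrV₀⟩ :=
    (TopologicalSpace.Opens.isBasis_iff_nbhd.1 (isBasis_basicOpen S)) hsV₀
  have hcl : IsClosed (S.basicOpen r₀ : Set S) :=
    ((isAffineOpen_top S).basicOpen r₀).isCompact.isClosed
  let V : T.left.Opens := S.basicOpen r₀
  let σl : (V : Scheme.{u}) ⟶ W.left := S.homOfLE hrV₀ ≫ j.isoOpensRange.inv ≫ O.ι ≫ A.ι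
  have hσl : σl ≫ W.hom = (opn T V).hom := by
    change (S.homOfLE hrV₀ ≫ j.isoOpensRange.inv ≫ O.ι ≫ A.ι) ≫ W.hom = V.ι ≫ 𝟙 S
    simp only [Category.assoc, Category.comp_id]
    have e1 : j.isoOpensRange.inv ≫ O.ι ≫ A.ι ≫ W.hom = V₀.ι := j.isoOpensRange_inv_comp
    rw [e1]
    exact S.homOfLE_ι hrV₀
  let σ : opn T V ⟶ W := MorphismProperty.Over.homMk σl hσl trivial
  have hσg : σ ≫ g = opnι T V := (EtCore.topIsTerminal S).hom_ext _ _
  refine ⟨V, F.obj.map σ.op rW, hsr, hcl, ?_⟩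
  have nat := NatTrans.naturality_apply e.hom σ.op rW
  rw [nat, hrW, ← hσg, op_comp, G.obj.map_comp, ConcreteCategory.comp_apply]


set_option backward.isDefEq.respectTransparency.types false in
set_option backward.isDefEq.respectTransparency false in
/-- global sections preserve epimorphisms -/
theorem gsec_surjective (h1 : ∀ s : S, IsClosed ({s} : Set S))
    (h2 : ∀ s : S, IsSepClosed (S.residueField s)) {F G : EtCoh.Ab S} (e : F ⟶ G) [Epi e]
    (t : G.obj.obj (op (EtCoh.top S))) :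
    ∃ r : F.obj.obj (op (EtCoh.top S)), e.hom.app (op (EtCoh.top S)) r = t := by
  classical
  let T := EtCoh.top S
  choose V r hsV hVc hr using exists_local_lift h1 h2 e t
  have hcov : (Set.univ : Set T.left) ⊆ ⋃ s : S, (V s : Set T.left) :=
    fun x _ => Set.mem_iUnion.2 ⟨x, hsV x⟩
  haveI : CompactSpace T.left := (inferInstance : CompactSpace S)
  obtain ⟨fs, hfs⟩ := isCompact_univ.elim_finite_subcover (fun s : S => (V s : Set T.left))
    (fun s => (V s).isOpen) hcov
  let μ := {s : S // s ∈ fs}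
  haveI : Fintype μ := Finset.fintypeCoeSort fs
  let idx : μ → Fin (Fintype.card μ) := Fintype.equivFin μ
  have hidx : Function.Injective idx := (Fintype.equivFin μ).injective
  let W' : μ → T.left.Opens := fun a =>
    ⟨(V a.1 : Set T.left) \ ⋃ b ∈ {b : μ | idx b < idx a}, (V b.1 : Set T.left),
      (V a.1).isOpen.sdiff ((Set.toFinite _).isClosed_biUnion fun b _ => hVc b.1)⟩
  have hle : ∀ a, W' a ≤ V a.1 := fun a z hz => hz.1
  have hdisj : ∀ a b, a ≠ b → Disjoint (W' a) (W' b) := by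
    intro a b hab
    rw [disjoint_iff, eq_bot_iff]
    rintro z ⟨hz, hz'⟩
    rcases lt_or_gt_of_ne (fun h => hab (hidx h)) with h | h
    · apply hz'.2
      simp only [Set.mem_iUnion, Set.mem_ofPred_eq, exists_prop]
      exact ⟨a, h, hz.1⟩
    · apply hz.2
      simp only [Set.mem_iUnion, Set.mem_ofPred_eq, exists_prop]
      exact ⟨b, h, hz'.1⟩
  have hex : ∀ z : T.left, ∃ a, z ∈ W' a := by
    intro z
    have hz := hfs (Set.mem_univ z)
    simp only [Set.mem_iUnion, exists_prop] at hz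
    obtain ⟨s₀, hs₀, hzs₀⟩ := hz
    have hne : {a : μ | z ∈ (V a.1 : Set T.left)}.Nonempty := ⟨⟨s₀, hs₀⟩, hzs₀⟩
    obtain ⟨a₀, ha₀, hmin⟩ := Set.exists_min_image {a : μ | z ∈ (V a.1 : Set T.left)} idx
      (Set.toFinite _) hne
    refine ⟨a₀, ha₀, ?_⟩
    simp only [Set.mem_iUnion, Set.mem_ofPred_eq, exists_prop, not_exists, not_and]
    intro b hb hmem
    exact absurd (hmin b hmem) (not_le.2 hb)
  have hcov' : (⨆ a, W' a) = ⊤ := by
    rw [_root_.eq_top_iff]
    intro z _
    obtain ⟨a, ha⟩ := hex z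
    rw [TopologicalSpace.Opens.mem_iSup]
    exact ⟨a, ha⟩
  let ρ : ∀ a : μ, opn T (W' a) ⟶ opn T (V a.1) := fun a =>
    MorphismProperty.Over.homMk (T.left.homOfLE (hle a)) (by
      change T.left.homOfLE (hle a) ≫ (V a.1).ι ≫ T.hom = (W' a).ι ≫ T.hom
      rw [← Category.assoc, Scheme.homOfLE_ι]) trivial
  have hρ : ∀ a, ρ a ≫ opnι T (V a.1) = opnι T (W' a) := fun a => by
    apply hom_ext_of_left
    exact T.left.homOfLE_ι (hle a)
  let x : ∀ a, (shOf F).obj.obj (op (opn T (W' a))) := fun a => F.obj.map (ρ a).op (r a.1)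
  obtain ⟨r₀, hr₀, -⟩ := existsUnique_glue_family (shOf F) T W' hdisj hcov' x
  refine ⟨r₀, ?_⟩
  apply eq_of_cover G T
  intro z
  obtain ⟨a, ha⟩ := hex z
  refine ⟨opn T (W' a), opnι T (W' a), ⟨⟨z, ha⟩, rfl⟩, ?_⟩
  have e1 : F.obj.map (opnι T (W' a)).op r₀ = F.obj.map (ρ a).op (r a.1) := hr₀ a
  have n1 := NatTrans.naturality_apply e.hom (opnι T (W' a)).op r₀
  have n2 := NatTrans.naturality_apply e.hom (ρ a).op (r a.1)
  rw [← n1, e1, n2, hr a.1, ← hρ a, op_comp, G.obj.map_comp, ConcreteCategory.comp_apply]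

end Groth.Agent.Lib.Helper23.DimZeroGamma
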