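import Groth.Agent.Lib.Helper23.EtSupp
import Groth.Agent.Lib.Helper23.PropCInt
import Groth.Agent.Lib.Helper4.DimZeroT2
import Mathlib.AlgebraicGeometry.Morphisms.FlatMono
import Mathlib.FieldTheory.IsSepClosed

/-!
# Etale schemes over a zero-dimensional affine scheme with separably closed residue fields
-/

set_option autoImplicit false
universe u

namespace Groth.Agent.Lib.Helper23.DimZeroSplit

open CategoryTheory CategoryTheory.Limits AlgebraicGeometry Opposite

set_option backward.isDefEq.respectTransparency.types false in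
set_option backward.isDefEq.respectTransparency false in
/-- points of an etale scheme over a scheme with closed points are closed -/
lemma isClosed_singleton_of_etale {U S : Scheme.{u}} (f : U ⟶ S) [Etale f]
    (h1 : ∀ s : S, IsClosed ({s} : Set S)) (u : U) : IsClosed ({u} : Set U) := by
  haveI := PropCInt.locallyQuasiFinite_of_etale f
  have hd := (f.isDiscrete_preimage_singleton (f u)).to_subtype
  have ho : IsOpen ({⟨u, rfl⟩}ᶜ : Set ↥(f ⁻¹' {f u})) := isOpen_discrete _
  obtain ⟨O, hO, hOe⟩ := isOpen_induced_iff.mp ho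
  have hfib : IsClosed (f ⁻¹' {f u}) := (h1 (f u)).preimage f.continuous
  have : ({u} : Set U)ᶜ = O ∪ (f ⁻¹' {f u})ᶜ := by
    ext x
    simp only [Set.mem_compl_iff, Set.mem_singleton_iff, Set.mem_union, Set.mem_preimage]
    constructor
    · intro hx
      by_cases hfx : f x = f u
      · left
        have : (⟨x, hfx⟩ : ↥(f ⁻¹' {f u})) ∈ Subtype.val ⁻¹' O := by
          rw [hOe]
          intro h
          exact hx (congrArg Subtype.val h)
        exact this
      · right
        exact hfx
    · rintro (hx | hx) rfl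
      · have : (⟨x, rfl⟩ : ↥(f ⁻¹' {f x})) ∈ Subtype.val ⁻¹' O := hx
        rw [hOe] at this
        exact this rfl
      · exact hx rfl
  rw [← isOpen_compl_iff, this]
  exact hO.union hfib.isOpen_compl

set_option backward.isDefEq.respectTransparency.types false in
set_option backward.isDefEq.respectTransparency false in
/-- an affine scheme whose points are closed is Hausdorff -/
lemma t2Space_of_closed_points (U : Scheme.{u}) [IsAffine U]
    (h1 : ∀ u : U, IsClosed ({u} : Set U)) : T2Space U := by
  let e : U ≃ₜ PrimeSpectrum Γ(U, ⊤) := TopCat.homeoOfIso (Scheme.forgetToTop.mapIso U.isoSpec)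
  haveI : Ring.KrullDimLE 0 Γ(U, ⊤) := by
    rw [Ring.krullDimLE_zero_iff]
    intro I hI
    let x : PrimeSpectrum Γ(U, ⊤) := ⟨I, hI⟩
    have hx : IsClosed ({x} : Set (PrimeSpectrum Γ(U, ⊤))) := by
      have h := (h1 (e.symm x))
      have h2 : ({x} : Set (PrimeSpectrum Γ(U, ⊤))) = e.symm ⁻¹' {e.symm x} := by
        ext y
        simp only [Set.mem_singleton_iff, Set.mem_preimage, EmbeddingLike.apply_eq_iff_eq]
      rw [h2]
      exact h.preimage e.symm.continuous
    exact (PrimeSpectrum.isClosed_singleton_iff_isMaximal x).1 hx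
  haveI : T2Space (PrimeSpectrum Γ(U, ⊤)) := Groth.Agent.Lib.Helper4.DimZeroT2.t2_spec
  exact e.isEmbedding.t2Space


set_option backward.isDefEq.respectTransparency.types false in
set_option backward.isDefEq.respectTransparency false in
/-- an etale scheme over a zero-dimensional affine scheme with separably closed residue fields is
locally an open subscheme of the base -/
theorem exists_open_isOpenImmersion {U S : Scheme.{u}} [IsAffine U] [IsAffine S] (f : U ⟶ S)
    [Etale f] (h1 : ∀ s : S, IsClosed ({s} : Set S))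
    (h2 : ∀ s : S, IsSepClosed (S.residueField s)) (u : U) :
    ∃ O : U.Opens, u ∈ O ∧ IsOpenImmersion (O.ι ≫ f) := by
  have hU1 := isClosed_singleton_of_etale f h1
  haveI := t2Space_of_closed_points U hU1
  have hres : ∀ (V : Scheme.{u}) (g : V ⟶ S) [Etale g] (x : V),
      Function.Surjective (g.residueFieldMap x).hom := by
    intro V g _ x
    haveI := h2 (g x)
    letI : Algebra (S.residueField (g x)) (V.residueField x) :=
      (g.residueFieldMap x).hom.toAlgebra
    haveI : Algebra.IsSeparable (S.residueField (g x)) (V.residueField x) := inferInstance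
    exact IsSepClosed.algebraMap_surjective (S.residueField (g x)) (V.residueField x)
  have hsep : ∀ u' : U, u' ≠ u → ∃ O : Set U, IsClopen O ∧ u ∈ O ∧ u' ∉ O := by
    intro u' hne
    obtain ⟨A, A', hA, hA', huA, hu'A', hdisj⟩ := t2_separation hne.symm
    have huA' : u ∈ (⟨A, hA⟩ : U.Opens) := huA
    obtain ⟨_, ⟨r, rfl⟩, hur, hrA⟩ :=
      (TopologicalSpace.Opens.isBasis_iff_nbhd.1 (isBasis_basicOpen U)) huA'
    refine ⟨U.basicOpen r, ⟨?_, (U.basicOpen r).isOpen⟩, hur,
      fun h => Set.disjoint_left.1 hdisj (hrA h) hu'A'⟩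
    exact ((isAffineOpen_top U).basicOpen r).isCompact.isClosed
  let P := pullback f f
  let D : Set P := Set.range (pullback.diagonal f)
  have hDo : IsOpen D := (pullback.diagonal f).isOpenEmbedding.isOpen_range
  have hC : IsCompact Dᶜ := hDo.isClosed_compl.isCompact
  have hz : ∀ z : P, z ∈ Dᶜ → ∃ O : Set U, IsClopen O ∧ u ∈ O ∧
      ¬ (pullback.fst f f z ∈ O ∧ pullback.snd f f z ∈ O) := by
    intro z hzD
    by_cases h1z : pullback.fst f f z = u
    · by_cases h2z : pullback.snd f f z = u
      · exfalso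
        apply hzD
        exact EtSupp.mem_range_diagonal f z (h1z.trans h2z.symm) (fun x _ => hres U f x)
      · obtain ⟨O, hO, huO, hnO⟩ := hsep _ h2z
        exact ⟨O, hO, huO, fun h => hnO h.2⟩
    · obtain ⟨O, hO, huO, hnO⟩ := hsep _ h1z
      exact ⟨O, hO, huO, fun h => hnO h.1⟩
  choose Oz hOz huOz hnOz using fun z : ↥Dᶜ => hz z.1 z.2
  let T : ↥Dᶜ → Set P := fun z =>
    (pullback.fst f f ⁻¹' Oz z ∩ pullback.snd f f ⁻¹' Oz z)ᶜ
  have hTo : ∀ z, IsOpen (T z) := fun z =>
    (((hOz z).isClosed.preimage (pullback.fst f f).continuous).inter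
      ((hOz z).isClosed.preimage (pullback.snd f f).continuous)).isOpen_compl
  have hcov : Dᶜ ⊆ ⋃ z, T z := fun z hzD => Set.mem_iUnion.2 ⟨⟨z, hzD⟩, hnOz ⟨z, hzD⟩⟩
  obtain ⟨t, ht⟩ := hC.elim_finite_subcover T hTo hcov
  let O : Set U := ⋂ z ∈ t, Oz z
  have hOo : IsOpen O := isOpen_biInter_finset fun z _ => (hOz z).isOpen
  have huO : u ∈ O := Set.mem_iInter₂.2 fun z _ => huOz z
  have key : ∀ z : P, pullback.fst f f z ∈ O → pullback.snd f f z ∈ O → z ∈ D := by
    intro z hz1 hz2
    by_contra hzD
    have := ht hzD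
    simp only [Set.mem_iUnion, exists_prop] at this
    obtain ⟨i, hit, hzi⟩ := this
    exact hzi ⟨Set.mem_iInter₂.1 hz1 i hit, Set.mem_iInter₂.1 hz2 i hit⟩
  let Oo : U.Opens := ⟨O, hOo⟩
  let g : (Oo : Scheme.{u}) ⟶ S := Oo.ι ≫ f
  haveI : Mono g := by
    rw [← pullback.isIso_diagonal_iff, isIso_iff_isOpenImmersion_and_surjective]
    refine ⟨inferInstance, ⟨fun z' => ?_⟩⟩
    let m : pullback g g ⟶ P :=
      pullback.lift (pullback.fst g g ≫ Oo.ι) (pullback.snd g g ≫ Oo.ι) (by
        rw [Category.assoc, Category.assoc]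
        exact pullback.condition)
    have hm1 : pullback.fst f f (m z') = Oo.ι (pullback.fst g g z') := by
      rw [← Scheme.Hom.comp_apply, ← Scheme.Hom.comp_apply, pullback.lift_fst]
    have hm2 : pullback.snd f f (m z') = Oo.ι (pullback.snd g g z') := by
      rw [← Scheme.Hom.comp_apply, ← Scheme.Hom.comp_apply, pullback.lift_snd]
    have hD : m z' ∈ D := key (m z') (by rw [hm1]; exact (pullback.fst g g z').2)
      (by rw [hm2]; exact (pullback.snd g g z').2)
    obtain ⟨u'', hu''⟩ := hD
    have e1 : pullback.fst f f (m z') = pullback.snd f f (m z') := by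
      rw [← hu'', ← Scheme.Hom.comp_apply, ← Scheme.Hom.comp_apply, pullback.diagonal_fst,
        pullback.diagonal_snd]
    have h12 : pullback.fst g g z' = pullback.snd g g z' := by
      apply Oo.ι.injective
      rw [← hm1, ← hm2, e1]
    exact EtSupp.mem_range_diagonal g z' h12 (fun x _ => hres _ g x)
  exact ⟨Oo, huO, IsOpenImmersion.of_flat_of_mono g⟩

end Groth.Agent.Lib.Helper23.DimZeroSplit
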