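import Groth.Agent.Lib.Helper23.PullConstComp
import Groth.Agent.Lib.Helper23.EtGlue2
import Groth.Agent.S0101
import Mathlib.CategoryTheory.Sites.LocallyBijective

/-!
# Sections over an etale object and global sections after inverse image; constant sheaves
-/

set_option autoImplicit false
universe u

namespace Groth.Agent.Lib.Helper23.FlcLoc

open CategoryTheory CategoryTheory.Limits AlgebraicGeometry Opposite EtCore
open PullConstComp

variable {Y : Scheme.{u}}

/-- the constant sheaf functor -/
noncomputable abbrev C (Y : Scheme.{u}) : AddCommGrpCat.{u + 1} ⥤ EtCoh.Ab Y :=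
  constantSheaf Y.smallEtaleTopology AddCommGrpCat.{u + 1}

instance : PreservesFiniteLimits (C Y) := by
  change PreservesFiniteLimits (Functor.const Y.Etaleᵒᵖ ⋙
    presheafToSheaf Y.smallEtaleTopology AddCommGrpCat.{u + 1})
  infer_instance

instance : PreservesFiniteColimits (C Y) :=
  have : PreservesColimitsOfSize.{0, 0} (C Y) := (constAdj Y).leftAdjoint_preservesColimits
  PreservesColimitsOfSize.preservesFiniteColimits _

/-- the constant sections -/
noncomputable def ts (B : AddCommGrpCat.{u + 1}) (V : Y.Etale) :
    B ⟶ ((C Y).obj B).obj.obj (op V) :=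
  (toSheafify Y.smallEtaleTopology ((Functor.const Y.Etaleᵒᵖ).obj B)).app (op V)

lemma ts_map (B : AddCommGrpCat.{u + 1}) {V W : Y.Etale} (g : W ⟶ V) :
    ts B V ≫ ((C Y).obj B).obj.map g.op = ts B W := by
  have h := (toSheafify Y.smallEtaleTopology ((Functor.const Y.Etaleᵒᵖ).obj B)).naturality g.op
  simp only [Functor.const_obj_obj, Functor.const_obj_map, Category.id_comp] at h
  exact h.symm

lemma unit_eq_ts (B : AddCommGrpCat.{u + 1}) :
    (constAdj Y).unit.app B = ts B (EtCoh.top Y) := rfl

lemma ts_naturality {A B : AddCommGrpCat.{u + 1}} (h : A ⟶ B) (V : Y.Etale) :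
    ts A V ≫ ((C Y).map h).hom.app (op V) = h ≫ ts B V := by
  have e := toSheafify_naturality Y.smallEtaleTopology ((Functor.const Y.Etaleᵒᵖ).map h)
  have e2 := congrArg (fun t => t.app (op V)) e
  exact e2.symm

section Loc

variable (V : Y.Etale)

instance : Etale V.hom := V.prop

/-- the diagonal, as a morphism of the small etale site of `V` -/
noncomputable def delta : EtCoh.top V.left ⟶ (EtCoh.bc V.hom).obj V :=
  MorphismProperty.Over.homMk (pullback.lift (𝟙 V.left) (𝟙 V.left) rfl) (by
    dsimp [EtCoh.bc]
    exact pullback.lift_snd _ _ _) trivial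

/-- sections over `V` give global sections of the inverse image to `V` -/
noncomputable def loc (Q : EtCoh.Ab Y) :
    Q.obj.obj (op V) ⟶ (gsec V.left).obj ((EtCoh.pull V.hom).obj Q) :=
  ((EtCoh.pullPushAdj V.hom).unit.app Q).hom.app (op V) ≫
    ((EtCoh.pull V.hom).obj Q).obj.map (delta V).op

set_option backward.isDefEq.respectTransparency.types false in
set_option backward.isDefEq.respectTransparency false in
lemma loc_naturality {Q Q' : EtCoh.Ab Y} (φ : Q ⟶ Q') :
    φ.hom.app (op V) ≫ loc V Q' = loc V Q ≫ (gsec V.left).map ((EtCoh.pull V.hom).map φ) := by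
  have h1 := (EtCoh.pullPushAdj V.hom).unit.naturality φ
  have h2 : φ.hom.app (op V) ≫ ((EtCoh.pullPushAdj V.hom).unit.app Q').hom.app (op V) =
      ((EtCoh.pullPushAdj V.hom).unit.app Q).hom.app (op V) ≫
        ((EtCoh.pull V.hom).map φ).hom.app (op ((EtCoh.bc V.hom).obj V)) :=
    congrArg (fun t => t.hom.app (op V)) h1
  have h3 := ((EtCoh.pull V.hom).map φ).hom.naturality (delta V).op
  rw [loc, loc, ← Category.assoc, h2, Category.assoc, Category.assoc]
  congr 1
  exact h3.symm

set_option backward.isDefEq.respectTransparency.types false in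
set_option backward.isDefEq.respectTransparency false in
/-- on restrictions of global sections, `loc` is the canonical map on global sections -/
lemma map_loc (Q : EtCoh.Ab Y) :
    Q.obj.map ((topIsTerminal Y).from V).op ≫ loc V Q = sharp V.hom Q := by
  have h1 : Q.obj.map ((topIsTerminal Y).from V).op ≫
      ((EtCoh.pullPushAdj V.hom).unit.app Q).hom.app (op V) =
      ((EtCoh.pullPushAdj V.hom).unit.app Q).hom.app (op (EtCoh.top Y)) ≫
        ((EtCoh.pull V.hom).obj Q).obj.map
          ((EtCoh.bc V.hom).map ((topIsTerminal Y).from V)).op :=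
    ((EtCoh.pullPushAdj V.hom).unit.app Q).hom.naturality ((topIsTerminal Y).from V).op
  have h2 : delta V ≫ (EtCoh.bc V.hom).map ((topIsTerminal Y).from V) = (bcTopIso V.hom).inv :=
    (bcTopIsTerminal V.hom).hom_ext _ _
  rw [loc, ← Category.assoc, h1, Category.assoc, ← Functor.map_comp, ← op_comp, h2]
  rfl

/-- the constant sections go to the unit sections -/
lemma loc_ts (B : AddCommGrpCat.{u + 1}) :
    ts B V ≫ loc V ((C Y).obj B) ≫ (gsec V.left).map ((pullConstIso V.hom).hom.app B) =
      (constAdj V.left).unit.app B := by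
  rw [← ts_map B ((topIsTerminal Y).from V), Category.assoc, ← Category.assoc
    (((C Y).obj B).obj.map ((topIsTerminal Y).from V).op), map_loc, ← unit_eq_ts]
  exact unit_sharp_pullConst V.hom B

end Loc

end Groth.Agent.Lib.Helper23.FlcLoc
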