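import Groth.Agent.Lib.Helper23.EtJCont
import Groth.Agent.Lib.Helper23.FlcLoc
import Groth.Prelude.Def_PBC

/-!
# The functor corepresented by the extension by zero of a constant sheaf
-/

set_option autoImplicit false
universe u

namespace Groth.Agent.Lib.Helper23.ShriekRep

open CategoryTheory CategoryTheory.Limits AlgebraicGeometry Opposite
open Groth.Agent.Lib.Helper23.FlcLoc

variable {X : Scheme.{u}} (W : X.Etale)

instance : Etale W.hom := W.prop

/-- the object `(W → W → X)` of the small etale site of `X` -/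
noncomputable abbrev W' : X.Etale := (EtShriek.compEtale W.hom).obj (EtCoh.top W.left)

/-- extension by zero of a constant sheaf, first form -/
noncomputable abbrev sh1 (B : AddCommGrpCat.{u + 1}) : EtCoh.Ab X :=
  (EtShriek.extZero W.hom).obj ((C W.left).obj B)

/-- R1 -/
noncomputable def rep1 (B : AddCommGrpCat.{u + 1}) (G : EtCoh.Ab X) :
    (sh1 W B ⟶ G) ≃ (B ⟶ (EtCore.gsec W.left).obj ((EtShriek.restrAlong W.hom).obj G)) :=
  ((EtShriek.extZeroAdj W.hom).homEquiv _ _).trans ((EtCore.constAdj W.left).homEquiv _ _)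

lemma rep1_naturality (B : AddCommGrpCat.{u + 1}) {G G' : EtCoh.Ab X} (f : sh1 W B ⟶ G)
    (φ : G ⟶ G') :
    rep1 W B G' (f ≫ φ) =
      rep1 W B G f ≫ (EtCore.gsec W.left).map ((EtShriek.restrAlong W.hom).map φ) := by
  unfold rep1
  simp only [Equiv.trans_apply]
  rw [Adjunction.homEquiv_naturality_right, Adjunction.homEquiv_naturality_right]

/-- the iso `(W → W → X) ≅ W` -/
noncomputable def e₀ : W' W ≅ W :=
  MorphismProperty.Over.isoMk (Iso.refl _) rfl

/-- R1, with sections over `W` -/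
noncomputable def rep1' (B : AddCommGrpCat.{u + 1}) (G : EtCoh.Ab X) :
    (sh1 W B ⟶ G) ≃ (B ⟶ G.obj.obj (op W)) :=
  (rep1 W B G).trans ((G.obj.mapIso (e₀ W).symm.op).homToEquiv)

lemma rep1'_apply (B : AddCommGrpCat.{u + 1}) (G : EtCoh.Ab X) (f : sh1 W B ⟶ G) :
    rep1' W B G f = rep1 W B G f ≫ G.obj.map (e₀ W).inv.op := rfl

lemma rep1'_naturality (B : AddCommGrpCat.{u + 1}) {G G' : EtCoh.Ab X} (f : sh1 W B ⟶ G)
    (φ : G ⟶ G') :
    rep1' W B G' (f ≫ φ) = rep1' W B G f ≫ φ.hom.app (op W) := by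
  rw [rep1'_apply, rep1'_apply, rep1_naturality]
  have h : (EtCore.gsec W.left).map ((EtShriek.restrAlong W.hom).map φ) ≫
      G'.obj.map (e₀ W).inv.op = G.obj.map (e₀ W).inv.op ≫ φ.hom.app (op W) :=
    (φ.hom.naturality (e₀ W).inv.op).symm
  simp only [Category.assoc]
  rw [h]
  rfl

/-- extension by zero of a constant sheaf, second form (over-site) -/
noncomputable abbrev sh2 (B : AddCommGrpCat.{u + 1}) : EtCoh.Ab X :=
  (EtPBC.extZero W).obj
    ((constantSheaf (X.smallEtaleTopology.over W) AddCommGrpCat.{u + 1}).obj B)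

/-- R2 -/
noncomputable def rep2 (B : AddCommGrpCat.{u + 1}) (G : EtCoh.Ab X) :
    (sh2 W B ⟶ G) ≃ (B ⟶ ((sheafSections (X.smallEtaleTopology.over W) AddCommGrpCat.{u + 1}).obj
      (op (Over.mk (𝟙 W)))).obj ((X.smallEtaleTopology.overPullback AddCommGrpCat.{u + 1} W).obj G)) :=
  ((EtPBC.extZeroAdj W).homEquiv _ _).trans
    ((constantSheafAdj (X.smallEtaleTopology.over W) AddCommGrpCat.{u + 1}
      (Over.mkIdTerminal (X := W))).homEquiv _ _)

lemma rep2_naturality (B : AddCommGrpCat.{u + 1}) {G G' : EtCoh.Ab X} (f : sh2 W B ⟶ G)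
    (φ : G ⟶ G') :
    rep2 W B G' (f ≫ φ) = rep2 W B G f ≫
      ((sheafSections (X.smallEtaleTopology.over W) AddCommGrpCat.{u + 1}).obj
        (op (Over.mk (𝟙 W)))).map ((X.smallEtaleTopology.overPullback AddCommGrpCat.{u + 1} W).map φ) := by
  unfold rep2
  simp only [Equiv.trans_apply]
  rw [Adjunction.homEquiv_naturality_right, Adjunction.homEquiv_naturality_right]

/-- the two forms of the extension by zero of a constant sheaf agree -/
noncomputable def shIso (B : AddCommGrpCat.{u + 1}) : sh2 W B ≅ sh1 W B :=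
  (Coyoneda.ext (sh1 W B) (sh2 W B)
    (fun {Z} f => (rep2 W B Z).symm (rep1' W B Z f))
    (fun {Z} f => (rep1' W B Z).symm (rep2 W B Z f))
    (fun f => by simp) (fun f => by simp)
    (fun {Z Z'} f g => by
      apply (rep1' W B Z').injective
      rw [Equiv.apply_symm_apply, rep2_naturality, rep1'_naturality, Equiv.apply_symm_apply]
      rfl)).symm

end Groth.Agent.Lib.Helper23.ShriekRep
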