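import Mathlib.AlgebraicGeometry.Morphisms.FormallyUnramified
import Mathlib.AlgebraicGeometry.Morphisms.Etale
import Mathlib.AlgebraicGeometry.Morphisms.Separated

/-!
# The locus where two morphisms into an unramified scheme agree is open
-/

set_option autoImplicit false

universe u

namespace Groth.Agent.Lib.Helper23.EtEqLocus

open CategoryTheory Limits AlgebraicGeometry

set_option backward.isDefEq.respectTransparency false in
/-- The equalizer of two `S`-morphisms into a formally unramified `S`-scheme locally of finite type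
is an open immersion. -/
lemma isOpenImmersion_equalizer_ι_left {S : Scheme.{u}} {X Y : Over S} [FormallyUnramified Y.hom]
    [LocallyOfFiniteType Y.hom] (f g : X ⟶ Y) : IsOpenImmersion (equalizer.ι f g).left := by
  refine MorphismProperty.of_isPullback
    ((Limits.isPullback_equalizer_prod f g).map (Over.forget _)).flip ?_
  rw [← MorphismProperty.cancel_right_of_respectsIso @IsOpenImmersion _
    (Over.prodLeftIsoPullback Y Y).hom]
  convert! (inferInstance : IsOpenImmersion (pullback.diagonal Y.hom))
  ext1 <;> simp [← Over.comp_left]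

/-- The open locus where two `S`-morphisms into an unramified `S`-scheme agree. -/
lemma exists_open_eqLocus {S A B : Scheme.{u}} (a : A ⟶ S) (b : B ⟶ S) [FormallyUnramified b]
    [LocallyOfFiniteType b] (g₁ g₂ : A ⟶ B) (h₁ : g₁ ≫ b = a) (h₂ : g₂ ≫ b = a) :
    ∃ O : A.Opens, O.ι ≫ g₁ = O.ι ≫ g₂ ∧
      ∀ (T : Scheme.{u}) (h : T ⟶ A), h ≫ g₁ = h ≫ g₂ → Set.range h ⊆ (O : Set A) := by
  let A' : Over S := Over.mk a
  let B' : Over S := Over.mk b
  let g₁' : A' ⟶ B' := Over.homMk g₁ h₁
  let g₂' : A' ⟶ B' := Over.homMk g₂ h₂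
  haveI : FormallyUnramified B'.hom := ‹_›
  haveI : LocallyOfFiniteType B'.hom := ‹_›
  haveI := isOpenImmersion_equalizer_ι_left g₁' g₂'
  let e : (equalizer g₁' g₂').left ⟶ A := (equalizer.ι g₁' g₂').left
  have he : e ≫ g₁ = e ≫ g₂ := congrArg (fun φ => φ.left) (equalizer.condition g₁' g₂')
  refine ⟨e.opensRange, ?_, ?_⟩
  · have hr : Set.range e.opensRange.ι ⊆ Set.range e := by
      rw [Scheme.Opens.range_ι]; exact subset_rfl
    rw [← IsOpenImmersion.lift_fac e e.opensRange.ι hr, Category.assoc, Category.assoc, he]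
  · intro T h hh
    let T' : Over S := Over.mk (h ≫ a)
    let h' : T' ⟶ A' := Over.homMk h rfl
    have hh' : h' ≫ g₁' = h' ≫ g₂' := by
      apply Over.OverMorphism.ext
      exact hh
    have hfac : (equalizer.lift h' hh').left ≫ e = h :=
      congrArg (fun φ => φ.left) (equalizer.lift_ι h' hh')
    rintro _ ⟨t, rfl⟩
    refine ⟨(equalizer.lift h' hh').left t, ?_⟩
    rw [← Scheme.Hom.comp_apply, hfac]

end Groth.Agent.Lib.Helper23.EtEqLocus
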