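import Groth.Agent.S0633
import Groth.Agent.Lib.Helper23.EtEqLocus
import Groth.Agent.Lib.Helper23.EtGlue2

/-!
# For a closed immersion `i : Z → X`, base change `X.Etale ⥤ Z.Etale` is a dense subsite
-/

set_option autoImplicit false

universe u

namespace Groth.Agent.Lib.Helper23.EtClosedDense

open CategoryTheory Limits Opposite AlgebraicGeometry GrothendieckTopology
open Groth.Agent.Lib.Helper23.EtSite Groth.Agent.Lib.Helper23.EtGlue
open Groth.Agent.Lib.Helper23.EtEqLocus

variable {Z X : Scheme.{u}} (i : Z ⟶ X)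

/-- the first projection `U ×_X Z → U` -/
noncomputable abbrev pr (U : X.Etale) : ((EtCoh.bc i).obj U).left ⟶ U.left :=
  pullback.fst U.hom i

set_option backward.isDefEq.respectTransparency.types false in
set_option backward.isDefEq.respectTransparency false in
lemma range_bc_map {U U' : X.Etale} (t : U' ⟶ U) :
    Set.range ((EtCoh.bc i).map t).left = (pr i U) ⁻¹' (Set.range t.left) := by
  have sq := EtCoh.isPullback_bc_map i t
  ext p
  constructor
  · rintro ⟨q, rfl⟩
    refine ⟨pr i U' q, ?_⟩
    have := congrArg (fun φ : ((EtCoh.bc i).obj U').left ⟶ U.left => φ q) sq.w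
    simp only [Scheme.Hom.comp_apply] at this
    exact this.symm
  · rintro ⟨v, hv⟩
    obtain ⟨z, hz1, -⟩ := Scheme.Pullback.exists_preimage_pullback
      (f := pr i U) (g := t.left) p v hv.symm
    refine ⟨sq.isoPullback.inv z, ?_⟩
    rw [← hz1, ← Scheme.Hom.comp_apply, IsPullback.isoPullback_inv_fst]


set_option backward.isDefEq.respectTransparency.types false in
set_option backward.isDefEq.respectTransparency false in
/-- Every open subset of `U ×_X Z` is the restriction of an open subscheme of `U`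
(`Z → X` a closed immersion). -/
lemma exists_open_lift [IsClosedImmersion i] (U : X.Etale) (E : ((EtCoh.bc i).obj U).left.Opens) :
    ∃ (U' : X.Etale) (t : U' ⟶ U), Set.range ((EtCoh.bc i).map t).left = (E : Set _) := by
  haveI : IsClosedImmersion (pr i U) := inferInstanceAs (IsClosedImmersion (pullback.fst U.hom i))
  have hcl : IsClosed ((pr i U) '' (E : Set _)ᶜ) :=
    (pr i U).isClosedEmbedding.isClosedMap _ E.isOpen.isClosed_compl
  let W : U.left.Opens := ⟨((pr i U) '' (E : Set _)ᶜ)ᶜ, hcl.isOpen_compl⟩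
  refine ⟨opn U W, opnι U W, ?_⟩
  rw [range_bc_map]
  have hr : Set.range (opnι U W).left = (W : Set U.left) := Scheme.Opens.range_ι W
  rw [hr]
  ext p
  simp only [Set.mem_preimage]
  change (pr i U) p ∈ ((pr i U) '' (E : Set _)ᶜ)ᶜ ↔ p ∈ (E : Set _)
  rw [Set.mem_compl_iff, Function.Injective.mem_set_image (pr i U).isClosedEmbedding.injective]
  simp


set_option backward.isDefEq.respectTransparency.types false in
set_option backward.isDefEq.respectTransparency false in
instance isLocallyFaithful [IsClosedImmersion i] :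
    (EtCoh.bc i).IsLocallyFaithful Z.smallEtaleTopology where
  functorPushforward_equalizer_mem {U V} f₁ f₂ e := by
    haveI : Etale V.hom := V.prop
    obtain ⟨O, hO1, hO2⟩ := exists_open_eqLocus (S := X) (A := U.left) (B := V.left)
      U.hom V.hom f₁.left f₂.left (Over.w f₁.hom) (Over.w f₂.hom)
    let t := opnι U O
    have ht : t ≫ f₁ = t ≫ f₂ := hom_ext_of_left _ _ hO1
    have hsurj : Function.Surjective ((EtCoh.bc i).map t).left := by
      rw [← Set.range_eq_univ, range_bc_map]
      have hr : Set.range t.left = (O : Set U.left) := Scheme.Opens.range_ι O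
      rw [hr]
      have hsub := hO2 _ (pr i U) (by
        have e1 := (EtCoh.isPullback_bc_map i f₁).w
        have e2 := (EtCoh.isPullback_bc_map i f₂).w
        rw [← e1, ← e2, e])
      ext p
      simp only [Set.mem_preimage, Set.mem_univ, iff_true]
      exact hsub ⟨p, rfl⟩
    refine Z.smallEtaleTopology.superset_covering ?_
      (generate_singleton_mem ((EtCoh.bc i).map t) hsurj)
    rintro Y g ⟨_, a, _, ⟨_⟩, rfl⟩
    exact ⟨_, t, a, ht, rfl⟩


set_option backward.isDefEq.respectTransparency.types false in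
set_option backward.isDefEq.respectTransparency false in
/-- The graph of a `Z`-morphism `U_Z → V_Z`, as a morphism `U_Z → (U ×_X V)_Z`. -/
lemma exists_graph (U V : X.Etale) (f : (EtCoh.bc i).obj U ⟶ (EtCoh.bc i).obj V) :
    ∃ (Q : X.Etale) (p₁ : Q ⟶ U) (p₂ : Q ⟶ V) (γ : (EtCoh.bc i).obj U ⟶ (EtCoh.bc i).obj Q),
      γ ≫ (EtCoh.bc i).map p₁ = 𝟙 _ ∧ γ ≫ (EtCoh.bc i).map p₂ = f := by
  let Q : X.Etale := Scheme.Etale.mk (pullback.fst U.hom V.hom ≫ U.hom)
  let p₁ : Q ⟶ U := MorphismProperty.Over.homMk (pullback.fst U.hom V.hom) rfl trivial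
  let p₂ : Q ⟶ V := MorphismProperty.Over.homMk (pullback.snd U.hom V.hom)
    (pullback.condition).symm trivial
  have hf : f.left ≫ pullback.snd V.hom i = pullback.snd U.hom i := Over.w f.hom
  have c1 : pr i U ≫ U.hom = (f.left ≫ pr i V) ≫ V.hom := by
    rw [Category.assoc, pullback.condition, pullback.condition, ← Category.assoc, hf]
  let a : ((EtCoh.bc i).obj U).left ⟶ Q.left := pullback.lift (pr i U) (f.left ≫ pr i V) c1
  have c2 : a ≫ Q.hom = pullback.snd U.hom i ≫ i := by
    change a ≫ pullback.fst U.hom V.hom ≫ U.hom = _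
    rw [← Category.assoc, pullback.lift_fst, pullback.condition]
  let γl : ((EtCoh.bc i).obj U).left ⟶ ((EtCoh.bc i).obj Q).left :=
    pullback.lift a (pullback.snd U.hom i) c2
  let γ : (EtCoh.bc i).obj U ⟶ (EtCoh.bc i).obj Q :=
    MorphismProperty.Over.homMk γl (pullback.lift_snd _ _ _) trivial
  have w1 := (EtCoh.isPullback_bc_map i p₁).w
  have w2 := (EtCoh.isPullback_bc_map i p₂).w
  have s1 : ((EtCoh.bc i).map p₁).left ≫ pullback.snd U.hom i = pullback.snd Q.hom i :=
    Over.w ((EtCoh.bc i).map p₁).hom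
  have s2 : ((EtCoh.bc i).map p₂).left ≫ pullback.snd V.hom i = pullback.snd Q.hom i :=
    Over.w ((EtCoh.bc i).map p₂).hom
  refine ⟨Q, p₁, p₂, γ, ?_, ?_⟩
  · apply hom_ext_of_left
    change γl ≫ ((EtCoh.bc i).map p₁).left = 𝟙 _
    apply pullback.hom_ext
    · rw [Category.assoc, w1, ← Category.assoc, pullback.lift_fst, Category.id_comp]
      exact pullback.lift_fst _ _ _
    · rw [Category.assoc, s1, pullback.lift_snd, Category.id_comp]
  · apply hom_ext_of_left
    change γl ≫ ((EtCoh.bc i).map p₂).left = f.left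
    apply pullback.hom_ext
    · rw [Category.assoc, w2, ← Category.assoc, pullback.lift_fst]
      exact pullback.lift_snd _ _ _
    · rw [Category.assoc, s2, pullback.lift_snd, hf]


set_option backward.isDefEq.respectTransparency.types false in
set_option backward.isDefEq.respectTransparency false in
instance isLocallyFull [IsClosedImmersion i] :
    (EtCoh.bc i).IsLocallyFull Z.smallEtaleTopology where
  functorPushforward_imageSieve_mem {U V} f := by
    obtain ⟨Q, p₁, p₂, γ, hγ1, hγ2⟩ := exists_graph i U V f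
    haveI : Etale ((EtCoh.bc i).obj V).hom := ((EtCoh.bc i).obj V).prop
    obtain ⟨O, hO1, hO2⟩ := exists_open_eqLocus (S := Z) (A := ((EtCoh.bc i).obj Q).left)
      (B := ((EtCoh.bc i).obj V).left) ((EtCoh.bc i).obj Q).hom ((EtCoh.bc i).obj V).hom
      ((EtCoh.bc i).map p₂).left ((EtCoh.bc i).map p₁ ≫ f).left
      (Over.w ((EtCoh.bc i).map p₂).hom) (Over.w ((EtCoh.bc i).map p₁ ≫ f).hom)
    obtain ⟨Q', t, ht⟩ := exists_open_lift i Q O
    have hl : (EtCoh.bc i).map (t ≫ p₂) = (EtCoh.bc i).map (t ≫ p₁) ≫ f := by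
      rw [Functor.map_comp, Functor.map_comp, Category.assoc]
      apply hom_ext_of_left
      have hr : Set.range ((EtCoh.bc i).map t).left ⊆ Set.range O.ι := by
        rw [ht, Scheme.Opens.range_ι]
      have hfac := IsOpenImmersion.lift_fac O.ι ((EtCoh.bc i).map t).left hr
      change ((EtCoh.bc i).map t).left ≫ ((EtCoh.bc i).map p₂).left =
        ((EtCoh.bc i).map t).left ≫ ((EtCoh.bc i).map p₁ ≫ f).left
      rw [← hfac, Category.assoc, Category.assoc, hO1]
    have hsurj : Function.Surjective ((EtCoh.bc i).map (t ≫ p₁)).left := by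
      intro p
      have hsub := hO2 _ γ.left (by
        have e1 : γ ≫ (EtCoh.bc i).map p₂ = γ ≫ ((EtCoh.bc i).map p₁ ≫ f) := by
          rw [hγ2, ← Category.assoc, hγ1, Category.id_comp]
        exact congrArg (fun φ => φ.left) e1)
      have hq : γ.left p ∈ (O : Set _) := hsub ⟨p, rfl⟩
      rw [← ht] at hq
      obtain ⟨q', hq'⟩ := hq
      refine ⟨q', ?_⟩
      have e2 : ((EtCoh.bc i).map (t ≫ p₁)).left =
          ((EtCoh.bc i).map t).left ≫ ((EtCoh.bc i).map p₁).left := by
        rw [Functor.map_comp]; rfl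
      rw [e2, Scheme.Hom.comp_apply, hq', ← Scheme.Hom.comp_apply]
      have e3 : γ.left ≫ ((EtCoh.bc i).map p₁).left = 𝟙 _ := congrArg (fun φ => φ.left) hγ1
      rw [e3]
      rfl
    refine Z.smallEtaleTopology.superset_covering ?_
      (generate_singleton_mem ((EtCoh.bc i).map (t ≫ p₁)) hsurj)
    rintro Y g ⟨_, a, _, ⟨_⟩, rfl⟩
    exact ⟨_, t ≫ p₁, a, ⟨t ≫ p₂, hl⟩, rfl⟩


set_option backward.isDefEq.respectTransparency.types false in
set_option backward.isDefEq.respectTransparency false in
instance isCoverDense [IsClosedImmersion i] :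
    (EtCoh.bc i).IsCoverDense Z.smallEtaleTopology where
  is_cover V := by
    obtain ⟨κ, Vj, h, h1, h2, h3⟩ := Groth.Agent.S0633.result i V
    apply sieve_mem_of_forall_point
    intro v
    obtain ⟨j, y, hy⟩ := h3 v
    let m : (EtCoh.bc i).obj (Vj j) ⟶ V := MorphismProperty.Over.homMk (h j) (h1 j) trivial
    exact ⟨(EtCoh.bc i).obj (Vj j), m, Presieve.in_coverByImage (EtCoh.bc i) m, y, hy⟩

/-- The topology on `X.Etale` induced from `Z.Etale` along base change. -/
noncomputable abbrev Jind : GrothendieckTopology X.Etale :=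
  (EtCoh.bc i).inducedTopology Z.smallEtaleTopology

instance isDenseSubsite [IsClosedImmersion i] :
    (EtCoh.bc i).IsDenseSubsite (Jind i) Z.smallEtaleTopology := inferInstance

end Groth.Agent.Lib.Helper23.EtClosedDense
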