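import Groth.Agent.Lib.Helper23.EtClosedDense

/-!
# Sheaves for the topology induced from a closed subscheme
-/

set_option autoImplicit false

universe u w

namespace Groth.Agent.Lib.Helper23.EtClosedDense

open CategoryTheory Limits Opposite AlgebraicGeometry GrothendieckTopology
open Groth.Agent.Lib.Helper23.EtSite Groth.Agent.Lib.Helper23.EtGlue

variable {Z X : Scheme.{u}} (i : Z ⟶ X)

set_option backward.isDefEq.respectTransparency.types false in
set_option backward.isDefEq.respectTransparency false in
lemma isEmpty_bc_of_hom {T T' : X.Etale} (k : T' ⟶ T) [IsEmpty ((EtCoh.bc i).obj T).left] :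
    IsEmpty ((EtCoh.bc i).obj T').left :=
  ⟨fun q => IsEmpty.false (((EtCoh.bc i).map k).left q)⟩

lemma mem_Jind_iff [IsClosedImmersion i] {U : X.Etale} (S : Sieve U) :
    S ∈ Jind i U ↔ S.functorPushforward (EtCoh.bc i) ∈ Z.smallEtaleTopology ((EtCoh.bc i).obj U) :=
  Functor.mem_inducedTopology_iff_of_isCoverDense _ _ S


set_option backward.isDefEq.respectTransparency.types false in
set_option backward.isDefEq.respectTransparency false in
/-- Enlarging a `Jind`-covering sieve by all arrows from objects not meeting `Z` gives an etale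
covering sieve. -/
lemma enlarge_mem [IsClosedImmersion i] {U : X.Etale} (S : Sieve U) (hS : S ∈ Jind i U) :
    ∃ S' : Sieve U, S' ∈ X.smallEtaleTopology U ∧
      ∀ {T : X.Etale} (h : T ⟶ U), S' h ↔ (S h ∨ IsEmpty ((EtCoh.bc i).obj T).left) := by
  let S' : Sieve U :=
    { arrows := fun T h => S h ∨ IsEmpty ((EtCoh.bc i).obj T).left
      downward_closed := by
        rintro T T' h (hh | hh) k
        · exact Or.inl (S.downward_closed hh k)
        · exact Or.inr (isEmpty_bc_of_hom i k) }
  refine ⟨S', ?_, fun h => Iff.rfl⟩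
  rw [mem_Jind_iff] at hS
  haveI : IsClosedImmersion (pr i U) := inferInstanceAs (IsClosedImmersion (pullback.fst U.hom i))
  apply sieve_mem_of_forall_point
  intro x
  by_cases hx : x ∈ Set.range (pr i U)
  · obtain ⟨p, rfl⟩ := hx
    obtain ⟨T, m, hm, t, ht⟩ := exists_arrow_of_mem _ hS p
    obtain ⟨V, g, a, hg, rfl⟩ := hm
    refine ⟨V, g, Or.inl hg, pr i V (a.left t), ?_⟩
    have hw := (EtCoh.isPullback_bc_map i g).w
    have h1 := congrArg (fun φ : ((EtCoh.bc i).obj V).left ⟶ U.left => φ (a.left t)) hw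
    simp only [Scheme.Hom.comp_apply] at h1
    exact h1.symm.trans (congrArg (pr i U) ht)
  · have hcl : IsClosed (Set.range (pr i U)) := (pr i U).isClosedEmbedding.isClosed_range
    let W : U.left.Opens := ⟨(Set.range (pr i U))ᶜ, hcl.isOpen_compl⟩
    refine ⟨opn U W, opnι U W, Or.inr ⟨fun q => ?_⟩, ⟨x, hx⟩, rfl⟩
    have hw := (EtCoh.isPullback_bc_map i (opnι U W)).w
    have h1 := congrArg (fun φ : ((EtCoh.bc i).obj (opn U W)).left ⟶ U.left => φ q) hw
    simp only [Scheme.Hom.comp_apply] at h1
    have h2 : (opnι U W).left (pr i (opn U W) q) ∈ (W : Set U.left) := (pr i (opn U W) q).2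
    have h3 := Set.mem_of_eq_of_mem h1 h2
    exact h3 ⟨_, rfl⟩

set_option backward.isDefEq.respectTransparency.types false in
set_option backward.isDefEq.respectTransparency false in
/-- An etale sheaf whose sections over objects not meeting `Z` are singletons is a sheaf for the
induced topology. -/
lemma isSheaf_Jind_of_unique [IsClosedImmersion i] (P : X.Etaleᵒᵖ ⥤ Type w)
    (hP : Presieve.IsSheaf X.smallEtaleTopology P)
    (hU : ∀ T : X.Etale, IsEmpty ((EtCoh.bc i).obj T).left → Nonempty (Unique (P.obj (op T)))) :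
    Presieve.IsSheaf (Jind i) P := by
  classical
  intro U S hS
  obtain ⟨S', hS', hiff⟩ := enlarge_mem i S hS
  have hsh := hP S' hS'
  intro x hx
  have hsub : ∀ {T : X.Etale} (h : T ⟶ U), S' h → ¬ S h → Subsingleton (P.obj (op T)) := by
    intro T h hh hn
    rcases (hiff h).1 hh with h1 | h1
    · exact (hn h1).elim
    · obtain ⟨u⟩ := hU T h1
      exact u.instSubsingleton
  let x' : Presieve.FamilyOfElements P S'.arrows := fun T h hh =>
    if hs : S h then x h hs else
      (hU T (((hiff h).1 hh).resolve_left hs)).some.default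
  have hx' : x'.Compatible := by
    intro T₁ T₂ Y g₁ g₂ h₁ h₂ hh₁ hh₂ hcomm
    by_cases hs₁ : S h₁
    · by_cases hs₂ : S h₂
      · simp only [x', dif_pos hs₁, dif_pos hs₂]
        exact hx g₁ g₂ hs₁ hs₂ hcomm
      · haveI : IsEmpty ((EtCoh.bc i).obj T₂).left := ((hiff h₂).1 hh₂).resolve_left hs₂
        haveI := isEmpty_bc_of_hom i g₂
        obtain ⟨uY⟩ := hU Y inferInstance
        exact uY.instSubsingleton.elim _ _
    · haveI : IsEmpty ((EtCoh.bc i).obj T₁).left := ((hiff h₁).1 hh₁).resolve_left hs₁
      haveI := isEmpty_bc_of_hom i g₁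
      obtain ⟨uY⟩ := hU Y inferInstance
      exact uY.instSubsingleton.elim _ _
  obtain ⟨y, hy, hyu⟩ := hsh x' hx'
  refine ⟨y, ?_, ?_⟩
  · intro T h hh
    have := hy h ((hiff h).2 (Or.inl hh))
    simpa only [x', dif_pos hh] using this
  · intro y' hy'
    apply hyu
    intro T h hh
    by_cases hs : S h
    · simp only [x', dif_pos hs]
      exact hy' h hs
    · exact (hsub h hh hs).elim _ _

end Groth.Agent.Lib.Helper23.EtClosedDense
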