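import Groth.Prelude.Def_EtBaseX
import Mathlib.RingTheory.Etale.StandardEtale
import Mathlib.AlgebraicGeometry.Morphisms.Etale
import Mathlib.RingTheory.Polynomial.Basic
import Mathlib.Algebra.Polynomial.Lifts
import Mathlib.RingTheory.RingHom.Etale
import Mathlib.FieldTheory.Separable

set_option autoImplicit false
universe u

namespace Groth.Agent.Lib.Helper23.EtLocalRing

open CategoryTheory CategoryTheory.Limits AlgebraicGeometry Opposite GrothendieckTopology

instance i1 : PreservesFilteredColimitsOfSize.{u,u} (forget CommRingCat.{u}) := inferInstance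

variable {X : Scheme.{u}} {Ω : Type u} [Field Ω] [IsSepClosed Ω] (ξ : Spec (CommRingCat.of Ω) ⟶ X)

/-- the germ map -/
noncomputable abbrev germ (U : X.Etale) (u : (Scheme.pointSmallEtale ξ).fiber.obj U) :
    (EtBase.OO X).obj (op U) ⟶ EtBase.etaleLocalRing ξ :=
  (Scheme.pointSmallEtale ξ).toPresheafFiber U u (EtBase.OO X)

/-- evaluation at the point of a neighbourhood -/
noncomputable def evAt (U : X.Etale) (u : (Scheme.pointSmallEtale ξ).fiber.obj U) :
    (EtBase.OO X).obj (op U) ⟶ CommRingCat.of Ω :=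
  (u.left : Spec (CommRingCat.of Ω) ⟶ U.left).appTop ≫ (Scheme.ΓSpecIso (CommRingCat.of Ω)).hom

set_option backward.isDefEq.respectTransparency.types false in
set_option backward.isDefEq.respectTransparency false in
lemma evAt_w {U V : X.Etale} (f : U ⟶ V) (x : (Scheme.pointSmallEtale ξ).fiber.obj U) :
    (EtBase.OO X).map f.op ≫ evAt ξ U x = evAt ξ V ((Scheme.pointSmallEtale ξ).fiber.map f x) := by
  dsimp only [evAt]
  rw [← Category.assoc]
  congr 1

/-- evaluation of germs at the geometric point -/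
noncomputable def ev : EtBase.etaleLocalRing ξ ⟶ CommRingCat.of Ω :=
  (Scheme.pointSmallEtale ξ).presheafFiberDesc (evAt ξ) (fun _ _ f x => evAt_w ξ f x)

@[reassoc]
lemma germ_ev (U : X.Etale) (u : (Scheme.pointSmallEtale ξ).fiber.obj U) :
    germ ξ U u ≫ ev ξ = evAt ξ U u :=
  (Scheme.pointSmallEtale ξ).toPresheafFiber_presheafFiberDesc _ _ U u

lemma germ_ev_apply (U : X.Etale) (u : (Scheme.pointSmallEtale ξ).fiber.obj U) (s) :
    ev ξ (germ ξ U u s) = evAt ξ U u s := by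
  rw [← germ_ev]; rfl

lemma germ_surj (a : EtBase.etaleLocalRing ξ) :
    ∃ (U : X.Etale) (u : (Scheme.pointSmallEtale ξ).fiber.obj U) (s : (EtBase.OO X).obj (op U)),
      germ ξ U u s = a :=
  (Scheme.pointSmallEtale ξ).toPresheafFiber_jointly_surjective a

lemma germ_w {U V : X.Etale} (f : U ⟶ V) (x : (Scheme.pointSmallEtale ξ).fiber.obj U) (s) :
    germ ξ U x ((EtBase.OO X).map f.op s) = germ ξ V ((Scheme.pointSmallEtale ξ).fiber.map f x) s :=
  (Scheme.pointSmallEtale ξ).toPresheafFiber_w_apply f x (EtBase.OO X) s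

section Affine

/-- the neighbourhood attached to affine data -/
noncomputable abbrev nb (R : CommRingCat.{u}) (h : Spec R ⟶ X) [Etale h] : X.Etale := Scheme.Etale.mk h

/-- the point of the neighbourhood attached to affine data -/
noncomputable abbrev pt (R : CommRingCat.{u}) (h : Spec R ⟶ X) [Etale h]
    (θ : R ⟶ CommRingCat.of Ω) (hθ : Spec.map θ ≫ h = ξ) :
    (Scheme.pointSmallEtale ξ).fiber.obj (nb R h) :=
  Over.homMk (Spec.map θ) hθ

/-- the germ map on affine data -/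
noncomputable def γ (R : CommRingCat.{u}) (h : Spec R ⟶ X) [Etale h]
    (θ : R ⟶ CommRingCat.of Ω) (hθ : Spec.map θ ≫ h = ξ) : R ⟶ EtBase.etaleLocalRing ξ :=
  (Scheme.ΓSpecIso R).inv ≫ germ ξ (nb R h) (pt ξ R h θ hθ)

set_option backward.isDefEq.respectTransparency.types false in
set_option backward.isDefEq.respectTransparency false in
lemma γ_ev (R : CommRingCat.{u}) (h : Spec R ⟶ X) [Etale h]
    (θ : R ⟶ CommRingCat.of Ω) (hθ : Spec.map θ ≫ h = ξ) : γ ξ R h θ hθ ≫ ev ξ = θ := by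
  dsimp only [γ]
  rw [Category.assoc, germ_ev]
  dsimp only [evAt]
  change (Scheme.ΓSpecIso R).inv ≫ (Spec.map θ).appTop ≫ (Scheme.ΓSpecIso (CommRingCat.of Ω)).hom = θ
  rw [Scheme.ΓSpecIso_naturality, Iso.inv_hom_id_assoc]

lemma γ_ev_apply (R : CommRingCat.{u}) (h : Spec R ⟶ X) [Etale h]
    (θ : R ⟶ CommRingCat.of Ω) (hθ : Spec.map θ ≫ h = ξ) (r : R) : ev ξ (γ ξ R h θ hθ r) = θ r :=
  congrArg (fun f : R ⟶ CommRingCat.of Ω => f.hom r) (γ_ev ξ R h θ hθ)

set_option backward.isDefEq.respectTransparency.types false in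
set_option backward.isDefEq.respectTransparency false in
lemma γ_map (R : CommRingCat.{u}) (h : Spec R ⟶ X) [Etale h]
    (θ : R ⟶ CommRingCat.of Ω) (hθ : Spec.map θ ≫ h = ξ)
    (R' : CommRingCat.{u}) (φ : R ⟶ R') [Etale (Spec.map φ ≫ h)] (θ' : R' ⟶ CommRingCat.of Ω)
    (hφ : φ ≫ θ' = θ) :
    ∃ hθ' : Spec.map θ' ≫ Spec.map φ ≫ h = ξ,
      γ ξ R h θ hθ = φ ≫ γ ξ R' (Spec.map φ ≫ h) θ' hθ' := by
  have hθ' : Spec.map θ' ≫ Spec.map φ ≫ h = ξ := by
    rw [← Category.assoc, ← Spec.map_comp, hφ, hθ]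
  refine ⟨hθ', ?_⟩
  let k : nb R' (Spec.map φ ≫ h) ⟶ nb R h := MorphismProperty.Over.homMk (Spec.map φ) rfl trivial
  have hk : (Scheme.pointSmallEtale ξ).fiber.map k (pt ξ R' (Spec.map φ ≫ h) θ' hθ') = pt ξ R h θ hθ := by
    apply Over.OverMorphism.ext
    change Spec.map θ' ≫ Spec.map φ = Spec.map θ
    rw [← Spec.map_comp, hφ]
  have e1 : germ ξ (nb R h) (pt ξ R h θ hθ) =
      (EtBase.OO X).map k.op ≫ germ ξ (nb R' (Spec.map φ ≫ h)) (pt ξ R' (Spec.map φ ≫ h) θ' hθ') := by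
    rw [← hk]
    exact ((Scheme.pointSmallEtale ξ).toPresheafFiber_w k (pt ξ R' (Spec.map φ ≫ h) θ' hθ')
      (EtBase.OO X)).symm
  dsimp only [γ]
  rw [e1]
  change _ = φ ≫ (Scheme.ΓSpecIso R').inv ≫ _
  rw [Scheme.ΓSpecIso_inv_naturality_assoc]
  rfl

end Affine

section Refine

set_option backward.isDefEq.respectTransparency.types false in
set_option backward.isDefEq.respectTransparency false in
lemma exists_affine (U : X.Etale) (u : (Scheme.pointSmallEtale ξ).fiber.obj U) :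
    ∃ (R : CommRingCat.{u}) (h : Spec R ⟶ X) (_ : Etale h) (θ : R ⟶ CommRingCat.of Ω)
      (hθ : Spec.map θ ≫ h = ξ) (ψ : (EtBase.OO X).obj (op U) ⟶ R),
      germ ξ U u = ψ ≫ γ ξ R h θ hθ := by
  haveI : Etale U.hom := U.prop
  obtain ⟨R, j, _, hj, _⟩ := Scheme.exists_affine_mem_range_and_range_subset
    (x := (u.left : Spec (CommRingCat.of Ω) ⟶ U.left) (default : Spec (CommRingCat.of Ω))) (U := (⊤ : U.left.Opens)) (by simp)
  have hrange : Set.range (u.left : Spec (CommRingCat.of Ω) ⟶ U.left) ⊆ Set.range j := by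
    rintro _ ⟨a, rfl⟩
    have ha : a = (default : Spec (CommRingCat.of Ω)) :=
      @Subsingleton.elim (Spec (CommRingCat.of Ω)) inferInstance a default
    rw [ha]
    exact hj
  let u' : Spec (CommRingCat.of Ω) ⟶ Spec R := IsOpenImmersion.lift j u.left hrange
  have hu' : u' ≫ j = u.left := IsOpenImmersion.lift_fac j u.left hrange
  let θ : R ⟶ CommRingCat.of Ω := Spec.preimage u'
  have hθ0 : Spec.map θ = u' := Spec.map_preimage _
  have hθ : Spec.map θ ≫ j ≫ U.hom = ξ := by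
    rw [hθ0, ← Category.assoc, hu']
    exact Over.w u
  refine ⟨R, j ≫ U.hom, inferInstance, θ, hθ, j.appTop ≫ (Scheme.ΓSpecIso R).hom, ?_⟩
  let k : nb R (j ≫ U.hom) ⟶ U := MorphismProperty.Over.homMk j rfl trivial
  have hk : (Scheme.pointSmallEtale ξ).fiber.map k (pt ξ R (j ≫ U.hom) θ hθ) = u := by
    apply Over.OverMorphism.ext
    change Spec.map θ ≫ j = u.left
    rw [hθ0, hu']
  dsimp only [γ]
  rw [Category.assoc, Iso.hom_inv_id_assoc, ← hk]
  exact ((Scheme.pointSmallEtale ξ).toPresheafFiber_w k (pt ξ R (j ≫ U.hom) θ hθ)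
      (EtBase.OO X)).symm

set_option backward.isDefEq.respectTransparency.types false in
set_option backward.isDefEq.respectTransparency false in
lemma exists_affine_finset (S : Finset (EtBase.etaleLocalRing ξ)) :
    ∃ (R : CommRingCat.{u}) (h : Spec R ⟶ X) (_ : Etale h) (θ : R ⟶ CommRingCat.of Ω)
      (hθ : Spec.map θ ≫ h = ξ), ∀ a ∈ S, ∃ r : R, γ ξ R h θ hθ r = a := by
  classical
  induction S using Finset.induction_on with
  | empty =>
    obtain ⟨R, h, hE, θ, hθ, ψ, -⟩ := exists_affine ξ (EtCoh.top X)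
      (Over.homMk ξ (Category.comp_id _))
    exact ⟨R, h, hE, θ, hθ, fun a ha => absurd ha (Finset.notMem_empty a)⟩
  | insert a S _ ih =>
    obtain ⟨R₂, h₂, hE₂, θ₂, hθ₂, hS⟩ := ih
    obtain ⟨U₁, u₁, s₁, rfl⟩ := germ_surj ξ a
    let A : (Scheme.pointSmallEtale ξ).fiber.Elements := ⟨U₁, u₁⟩
    let B : (Scheme.pointSmallEtale ξ).fiber.Elements := ⟨nb R₂ h₂, pt ξ R₂ h₂ θ₂ hθ₂⟩
    let M := IsCofiltered.min A B
    let f₁ : M ⟶ A := IsCofiltered.minToLeft A B
    let f₂ : M ⟶ B := IsCofiltered.minToRight A B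
    obtain ⟨R, h, hE, θ, hθ, ψ, hψ⟩ := exists_affine ξ M.1 M.2
    refine ⟨R, h, hE, θ, hθ, ?_⟩
    intro b hb
    rcases Finset.mem_insert.1 hb with rfl | hb
    · refine ⟨ψ ((EtBase.OO X).map f₁.1.op s₁), ?_⟩
      have h1 := germ_w ξ f₁.1 M.2 s₁
      rw [f₁.2] at h1
      rw [← h1, hψ]
      rfl
    · obtain ⟨r₂, rfl⟩ := hS b hb
      refine ⟨ψ ((EtBase.OO X).map f₂.1.op ((Scheme.ΓSpecIso R₂).inv r₂)), ?_⟩
      have h1 := germ_w ξ f₂.1 M.2 ((Scheme.ΓSpecIso R₂).inv r₂)
      rw [f₂.2] at h1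
      change _ = germ ξ (nb R₂ h₂) (pt ξ R₂ h₂ θ₂ hθ₂) ((Scheme.ΓSpecIso R₂).inv r₂)
      rw [← h1, hψ]
      rfl

end Refine

section Local

lemma exists_affine_single (a : EtBase.etaleLocalRing ξ) :
    ∃ (R : CommRingCat.{u}) (h : Spec R ⟶ X) (_ : Etale h) (θ : R ⟶ CommRingCat.of Ω)
      (hθ : Spec.map θ ≫ h = ξ) (r : R), γ ξ R h θ hθ r = a := by
  obtain ⟨R, h, hE, θ, hθ, H⟩ := exists_affine_finset ξ {a}
  obtain ⟨r, hr⟩ := H a (Finset.mem_singleton_self a)
  exact ⟨R, h, hE, θ, hθ, r, hr⟩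

set_option backward.isDefEq.respectTransparency.types false in
set_option backward.isDefEq.respectTransparency false in
lemma isUnit_of_ev_ne_zero (a : EtBase.etaleLocalRing ξ) (ha : ev ξ a ≠ 0) : IsUnit a := by
  obtain ⟨R, h, hE, θ, hθ, r, rfl⟩ := exists_affine_single ξ a
  rw [γ_ev_apply] at ha
  have hu : IsUnit (θ.hom r) := isUnit_iff_ne_zero.2 ha
  let φ : R ⟶ CommRingCat.of (Localization.Away r) :=
    CommRingCat.ofHom (algebraMap R (Localization.Away r))
  let θ' : CommRingCat.of (Localization.Away r) ⟶ CommRingCat.of Ω :=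
    CommRingCat.ofHom (IsLocalization.Away.lift r hu)
  have hφ : φ ≫ θ' = θ := by
    ext x
    exact IsLocalization.Away.lift_eq r hu x
  haveI : IsOpenImmersion (Spec.map φ) := inferInstance
  haveI : Etale (Spec.map φ ≫ h) := inferInstance
  obtain ⟨hθ', e⟩ := γ_map ξ R h θ hθ _ φ θ' hφ
  rw [e]
  have : IsUnit (φ.hom r) := IsLocalization.Away.algebraMap_isUnit r
  exact this.map (γ ξ _ (Spec.map φ ≫ h) θ' hθ').hom

lemma isUnit_iff (a : EtBase.etaleLocalRing ξ) : IsUnit a ↔ ev ξ a ≠ 0 :=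
  ⟨fun h => (h.map (ev ξ).hom).ne_zero, isUnit_of_ev_ne_zero ξ a⟩

instance : Nontrivial (EtBase.etaleLocalRing ξ) :=
  ⟨⟨0, 1, fun h => by
    have := congrArg (ev ξ).hom h
    simp at this⟩⟩

instance isLocalRing : IsLocalRing (EtBase.etaleLocalRing ξ) :=
  IsLocalRing.of_nonunits_add (fun a b ha hb => by
    simp only [mem_nonunits_iff, isUnit_iff, not_not] at ha hb ⊢
    rw [map_add, ha, hb, add_zero])

lemma mem_maximalIdeal_iff (a : EtBase.etaleLocalRing ξ) :
    a ∈ IsLocalRing.maximalIdeal (EtBase.etaleLocalRing ξ) ↔ ev ξ a = 0 := by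
  rw [IsLocalRing.mem_maximalIdeal, mem_nonunits_iff, isUnit_iff, not_not]

end Local

section Root

open Polynomial

set_option backward.isDefEq.respectTransparency.types false in
set_option backward.isDefEq.respectTransparency false in
/-- Key lifting lemma: a simple root in `Ω` of the image of a monic polynomial over the etale
local ring lifts to a root in the etale local ring. -/
lemma exists_root (f : (EtBase.etaleLocalRing ξ)[X]) (hf : f.Monic) (α : Ω)
    (h0 : (f.map (ev ξ).hom).eval α = 0) (h1 : (f.map (ev ξ).hom).derivative.eval α ≠ 0) :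
    ∃ a : EtBase.etaleLocalRing ξ, f.eval a = 0 ∧ ev ξ a = α := by
  classical
  obtain ⟨R, h, hE, θ, hθ, H⟩ := exists_affine_finset ξ
    (Finset.image f.coeff (Finset.range (f.natDegree + 1)))
  have hl : f ∈ lifts (γ ξ R h θ hθ).hom := by
    rw [lifts_iff_coeff_lifts]
    intro n
    by_cases hn : n < f.natDegree + 1
    · obtain ⟨r, hr⟩ := H (f.coeff n) (Finset.mem_image_of_mem _ (Finset.mem_range.2 hn))
      exact ⟨r, hr⟩
    · refine ⟨0, ?_⟩
      rw [map_zero, coeff_eq_zero_of_natDegree_lt (by omega)]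
  obtain ⟨fR, hfR, -, hmonic⟩ := lifts_and_degree_eq_and_monic hl hf
  let P : StandardEtalePair R :=
    { f := fR, monic_f := hmonic, g := derivative fR, cond := ⟨1, 0, 1, by simp⟩ }
  letI : Algebra R Ω := θ.hom.toAlgebra
  have hθγ : θ.hom = (ev ξ).hom.comp (γ ξ R h θ hθ).hom :=
    (congrArg CommRingCat.Hom.hom (γ_ev ξ R h θ hθ)).symm
  have hmapf : fR.map θ.hom = f.map (ev ξ).hom := by
    rw [hθγ, ← Polynomial.map_map, hfR]
  have hmap : P.HasMap α := by
    constructor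
    · change aeval α fR = 0
      rw [aeval_def, ← eval_map]
      change eval α (fR.map θ.hom) = 0
      rw [hmapf]; exact h0
    · change IsUnit (aeval α (derivative fR))
      rw [aeval_def, ← eval_map]
      change IsUnit (eval α ((derivative fR).map θ.hom))
      rw [← derivative_map, hmapf]
      exact isUnit_iff_ne_zero.2 h1
  let ρ : P.Ring →ₐ[R] Ω := P.lift α hmap
  let φ : R ⟶ CommRingCat.of P.Ring := CommRingCat.ofHom (algebraMap R P.Ring)
  let θ' : CommRingCat.of P.Ring ⟶ CommRingCat.of Ω := CommRingCat.ofHom ρ.toRingHom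
  have hφ : φ ≫ θ' = θ := by
    ext x
    exact ρ.commutes x
  haveI : Etale (Spec.map φ) := by
    rw [HasRingHomProperty.Spec_iff (P := @Etale)]
    exact RingHom.etale_algebraMap.2 inferInstance
  haveI : Etale (Spec.map φ ≫ h) := inferInstance
  obtain ⟨hθ', e⟩ := γ_map ξ R h θ hθ _ φ θ' hφ
  refine ⟨γ ξ _ (Spec.map φ ≫ h) θ' hθ' P.X, ?_, ?_⟩
  · rw [← hfR, e]
    change eval _ (fR.map ((γ ξ _ (Spec.map φ ≫ h) θ' hθ').hom.comp φ.hom)) = 0
    rw [eval_map, ← hom_eval₂]
    have : eval₂ φ.hom P.X fR = 0 := P.hasMap_X.1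
    rw [this, map_zero]
  · rw [γ_ev_apply]
    exact P.lift_X α hmap

end Root

section Hensel

open Polynomial

instance henselian : HenselianLocalRing (EtBase.etaleLocalRing ξ) where
  is_henselian f hf a₀ h0 h1 := by
    have h0' : (f.map (ev ξ).hom).eval (ev ξ a₀) = 0 := by
      rw [eval_map]
      change eval₂ (ev ξ).hom ((ev ξ).hom a₀) f = 0
      rw [eval₂_at_apply]
      exact (mem_maximalIdeal_iff ξ _).1 h0
    have h1' : (f.map (ev ξ).hom).derivative.eval (ev ξ a₀) ≠ 0 := by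
      rw [derivative_map, eval_map]
      change eval₂ (ev ξ).hom ((ev ξ).hom a₀) (derivative f) ≠ 0
      rw [eval₂_at_apply]
      exact (isUnit_iff ξ _).1 h1
    obtain ⟨a, ha, hα⟩ := exists_root ξ f hf (ev ξ a₀) h0' h1'
    refine ⟨a, ha, (mem_maximalIdeal_iff ξ _).2 ?_⟩
    rw [map_sub, hα, sub_self]

instance isLocalHom_ev : IsLocalHom (ev ξ).hom :=
  ⟨fun a ha => (isUnit_iff ξ a).2 ha.ne_zero⟩

instance isSepClosed_residueField : IsSepClosed (IsLocalRing.ResidueField (EtBase.etaleLocalRing ξ)) := by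
  let k := IsLocalRing.ResidueField (EtBase.etaleLocalRing ξ)
  let evb : k →+* Ω := IsLocalRing.ResidueField.lift (ev ξ).hom
  have hev : (ev ξ).hom = evb.comp (IsLocalRing.residue _) := RingHom.ext fun _ => rfl
  apply IsSepClosed.of_exists_root
  intro p hp hirr hsep
  obtain ⟨q, hq⟩ := Polynomial.map_surjective (IsLocalRing.residue (EtBase.etaleLocalRing ξ))
    IsLocalRing.residue_surjective p
  obtain ⟨f, hfp, -, hfm⟩ := lifts_and_degree_eq_and_monic ((mem_lifts p).2 ⟨q, hq⟩) hp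
  have hmap : f.map (ev ξ).hom = p.map evb := by
    rw [hev, ← Polynomial.map_map, hfp]
  have hsep' : (p.map evb).Separable := hsep.map
  have hdeg : (p.map evb).degree ≠ 0 := by
    rw [degree_map]
    exact (degree_pos_of_irreducible hirr).ne'
  obtain ⟨α, hα⟩ := IsSepClosed.exists_root (p.map evb) hdeg hsep'
  have hα0 : (p.map evb).eval α = 0 := hα
  have hα1 : (p.map evb).derivative.eval α ≠ 0 := by
    have := hsep'.eval₂_derivative_ne_zero (RingHom.id Ω) (x := α) (by simpa using hα0)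
    simpa using this
  obtain ⟨a, ha, -⟩ := exists_root ξ f hfm α (by rw [hmap]; exact hα0) (by rw [hmap]; exact hα1)
  refine ⟨IsLocalRing.residue _ a, ?_⟩
  rw [← hfp, eval_map]
  change eval₂ (IsLocalRing.residue _) (IsLocalRing.residue _ a) f = 0
  rw [eval₂_at_apply, ha, map_zero]

end Hensel

end Groth.Agent.Lib.Helper23.EtLocalRing
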