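import Groth.Prelude.Def_SixF1
import Groth.Agent.S0100
import Groth.Agent.Lib.Helper23.PointStalk
import Groth.Agent.Lib.Helper23.PointIso
import Mathlib.CategoryTheory.Sites.EpiMono

/-!
# Stalks of sheaves of `Λ`-modules on the small etale site; exactness of `EtModW.pull`
-/

set_option autoImplicit false

universe u

namespace Groth.Agent.Lib.Helper23.EtModStalk

open CategoryTheory Limits Opposite AlgebraicGeometry GrothendieckTopology

variable (Λ : Type (u + 1)) [CommRing Λ]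

instance i1 : PreservesFilteredColimitsOfSize.{u,u} (forget (ModuleCat.{u+1} Λ)) :=
  preservesFilteredColimitsOfSize_shrink.{u, u+1, u, u+1} _

instance i0 : HasLimitsOfSize.{u,u} (ModuleCat.{u+1} Λ) :=
  hasLimitsOfSizeShrink.{u, u, u+1, u+1} _

instance i0' : HasColimitsOfSize.{u,u} (ModuleCat.{u+1} Λ) :=
  hasColimitsOfSizeShrink.{u, u, u+1, u+1} _

instance i2 : AB5OfSize.{u,u} (ModuleCat.{u+1} Λ) :=
  AB5OfSize_shrink.{u, u, u+1, u+1} (ModuleCat.{u+1} Λ)

/-- The stalk functor on sheaves of modules. -/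
noncomputable abbrev stalk {X : Scheme.{u}} {Ω : Type u} [Field Ω] [IsSepClosed Ω]
    (ξ : Spec (CommRingCat.of Ω) ⟶ X) : EtModW.Mod Λ X ⥤ ModuleCat.{u+1} Λ :=
  (Scheme.pointSmallEtale ξ).sheafFiber

instance i3 {X : Scheme.{u}} {Ω : Type u} [Field Ω] [IsSepClosed Ω]
    (ξ : Spec (CommRingCat.of Ω) ⟶ X) : (stalk Λ ξ).Additive :=
  Functor.additive_of_preserves_binary_products _

lemma key (X : Scheme.{u}) (Φ : (ObjectProperty.ofObj (fun (s : X) ↦ Scheme.pointSmallEtale
      ((Scheme.SpecToEquivOfField (SeparableClosure (X.residueField s)) _).2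
        ⟨s, CommRingCat.ofHom (algebraMap (X.residueField s) _)⟩))).FullSubcategory) :
      ∃ (Ω : Type u) (_ : Field Ω) (_ : IsSepClosed Ω) (ξ : Spec (CommRingCat.of Ω) ⟶ X),
        Φ.obj = Scheme.pointSmallEtale ξ := by
  obtain ⟨Φ, ⟨s⟩⟩ := Φ
  exact ⟨SeparableClosure (X.residueField s), inferInstance, inferInstance, _, rfl⟩

lemma hmono {X : Scheme.{u}} {F G : EtModW.Mod Λ X} (a : F ⟶ G) :
    Mono a ↔ ∀ (Ω : Type u) [Field Ω] [IsSepClosed Ω] (ξ : Spec (CommRingCat.of Ω) ⟶ X),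
      Function.Injective ((stalk Λ ξ).map a) := by
  have hP := Scheme.isConservativeFamilyOfPoints_pointSmallEtale' X
  refine ⟨fun hv Ω _ _ ξ => ?_, fun h => ?_⟩
  · have h1 : Mono a.hom := inferInstanceAs (Mono ((sheafToPresheaf _ _).map a))
    have h2 : ∀ U, Function.Injective (a.hom.app U) := fun U =>
      (ModuleCat.mono_iff_injective _).1 inferInstance
    have := Presheaf.isLocallyInjective_of_injective X.smallEtaleTopology a.hom h2
    exact (Scheme.pointSmallEtale ξ).toPresheafFiber_map_injective a.hom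
  · have : Presheaf.IsLocallyInjective X.smallEtaleTopology a.hom :=
      Groth.Agent.Lib.Helper23.PointStalk.isLocallyInjective_of_fibers hP a.hom (fun Φ => by
        obtain ⟨Ω, _, _, ξ, hΦ⟩ := key X Φ
        rw [hΦ]
        exact h Ω ξ)
    exact Sheaf.mono_of_isLocallyInjective a

lemma hepi {X : Scheme.{u}} {F G : EtModW.Mod Λ X} (a : F ⟶ G) :
    Epi a ↔ ∀ (Ω : Type u) [Field Ω] [IsSepClosed Ω] (ξ : Spec (CommRingCat.of Ω) ⟶ X),
      Function.Surjective ((stalk Λ ξ).map a) := by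
  have hP := Scheme.isConservativeFamilyOfPoints_pointSmallEtale' X
  refine ⟨fun hv Ω _ _ ξ => ?_, fun h => ?_⟩
  · have : Sheaf.IsLocallySurjective a :=
      (Sheaf.isLocallySurjective_iff_epi' (ModuleCat.{u+1} Λ) a).2 hv
    exact (Scheme.pointSmallEtale ξ).toPresheafFiber_map_surjective a.hom
  · have : Presheaf.IsLocallySurjective X.smallEtaleTopology a.hom :=
      Groth.Agent.Lib.Helper23.PointStalk.isLocallySurjective_of_fibers hP a.hom (fun Φ => by
        obtain ⟨Ω, _, _, ξ, hΦ⟩ := key X Φ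
        rw [hΦ]
        exact h Ω ξ)
    exact (Sheaf.isLocallySurjective_iff_epi' (ModuleCat.{u+1} Λ) a).1 this

lemma isZero_of_stalks {X : Scheme.{u}} (Z : EtModW.Mod Λ X)
    (h : ∀ (Ω : Type u) [Field Ω] [IsSepClosed Ω] (ξ : Spec (CommRingCat.of Ω) ⟶ X),
      IsZero ((stalk Λ ξ).obj Z)) : IsZero Z := by
  have : Epi (0 : Z ⟶ Z) := by
    rw [hepi]
    intro Ω _ _ ξ b
    have := ModuleCat.subsingleton_of_isZero (h Ω ξ)
    exact ⟨0, Subsingleton.elim _ _⟩
  exact IsZero.of_epi_eq_zero (0 : Z ⟶ Z) rfl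

lemma exact_iff {X : Scheme.{u}} (S : ShortComplex (EtModW.Mod Λ X)) :
    S.Exact ↔ ∀ (Ω : Type u) [Field Ω] [IsSepClosed Ω] (ξ : Spec (CommRingCat.of Ω) ⟶ X),
      (S.map (stalk Λ ξ)).Exact := by
  refine ⟨fun hS Ω _ _ ξ => hS.map (stalk Λ ξ), fun h => ?_⟩
  rw [ShortComplex.exact_iff_isZero_homology]
  apply isZero_of_stalks
  intro Ω _ _ ξ
  have := (h Ω ξ)
  rw [ShortComplex.exact_iff_isZero_homology] at this
  exact this.of_iso (S.mapHomologyIso (stalk Λ ξ)).symm

set_option backward.isDefEq.respectTransparency.types false in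
set_option backward.isDefEq.respectTransparency false in
/-- `pull f ⋙ stalk ξ` is the fibre functor of a point, hence exact. -/
lemma stalk_pull_exact {X Y : Scheme.{u}} (f : X ⟶ Y) {Ω : Type u} [Field Ω] [IsSepClosed Ω]
    (ξ : Spec (CommRingCat.of Ω) ⟶ X) (S : ShortComplex (EtModW.Mod Λ Y)) (hS : S.ShortExact) :
    ((S.map (EtModW.pull Λ f)).map (stalk Λ ξ)).Exact ∧
      Function.Injective ((stalk Λ ξ).map ((EtModW.pull Λ f).map S.f)) := by
  let Φ := Scheme.pointSmallEtale ξ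
  haveI : InitiallySmall.{u} (EtCoh.bc f ⋙ Φ.fiber).Elements :=
    Groth.Agent.Lib.Helper23.PointIso.initiallySmall_elements_of_iso (Groth.Agent.S0100.fiberIso f ξ)
  have hF := EtCoh.coverPreserving_bc f
  let Φ' := Φ.comap (EtCoh.bc f) hF
  let e1 : Φ'.sheafFiber ≅ EtModW.pull Λ f ⋙ stalk Λ ξ :=
    Φ.sheafFiberComapIso (EtCoh.bc f) hF (ModuleCat.{u+1} Λ)
  haveI : (Φ'.sheafFiber (A := ModuleCat.{u+1} Λ)).Additive :=
    Functor.additive_of_preserves_binary_products _
  have h1 : (S.map (Φ'.sheafFiber (A := ModuleCat.{u+1} Λ))).ShortExact := hS.map_of_exact _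
  constructor
  · have e : S.map (Φ'.sheafFiber (A := ModuleCat.{u+1} Λ)) ≅
        (S.map (EtModW.pull Λ f)).map (stalk Λ ξ) :=
      S.mapNatIso e1
    exact (ShortComplex.exact_iff_of_iso e).1 h1.exact
  · have hm : Mono ((Φ'.sheafFiber (A := ModuleCat.{u+1} Λ)).map S.f) := h1.mono_f
    have hm2 : Mono ((EtModW.pull Λ f ⋙ stalk Λ ξ).map S.f) := by
      have := NatIso.naturality_2 e1.symm S.f
      rw [← this]
      infer_instance
    exact (ModuleCat.mono_iff_injective _).1 hm2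

/-- Inverse image of sheaves of modules on small etale sites is exact. -/
theorem pull_preservesFiniteLimits {X Y : Scheme.{u}} (f : X ⟶ Y) :
    PreservesFiniteLimits (EtModW.pull Λ f) := by
  haveI : (EtModW.pull Λ f).Additive := EtSix.additive_pullMod Λ f
  rw [Functor.preservesFiniteLimits_iff_forall_exact_map_and_mono]
  intro S hS
  constructor
  · exact (exact_iff Λ (S.map (EtModW.pull Λ f))).2
      (fun Ω _ _ ξ => (stalk_pull_exact Λ f ξ S hS).1)
  · exact (hmono Λ _).2 (fun Ω _ _ ξ => (stalk_pull_exact Λ f ξ S hS).2)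

end Groth.Agent.Lib.Helper23.EtModStalk
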