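import Mathlib.Algebra.Homology.ShortComplex.ExactFunctor
import Mathlib.CategoryTheory.Abelian.Basic

/-!
# A pair of exact functors that jointly detect zero objects detects monos, epis and exactness
-/

set_option autoImplicit false

namespace Groth.Agent.Lib.Helper23.JointExact

open CategoryTheory Limits

variable {A B₁ B₂ : Type*} [Category A] [Abelian A] [Category B₁] [Abelian B₁]
  [Category B₂] [Abelian B₂]
  (Φ : A ⥤ B₁) (Ψ : A ⥤ B₂) [Φ.Additive] [Ψ.Additive]
  [PreservesFiniteLimits Φ] [PreservesFiniteColimits Φ]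
  [PreservesFiniteLimits Ψ] [PreservesFiniteColimits Ψ]
  (hJC : ∀ C : A, IsZero (Φ.obj C) → IsZero (Ψ.obj C) → IsZero C)

include hJC

lemma mono_of {X Y : A} (f : X ⟶ Y) (h1 : Mono (Φ.map f)) (h2 : Mono (Ψ.map f)) : Mono f := by
  have hK : IsZero (kernel f) := by
    apply hJC
    · have h : Φ.map (kernel.ι f) = 0 := by
        rw [← cancel_mono (Φ.map f), ← Φ.map_comp, kernel.condition, Φ.map_zero, zero_comp]
      exact IsZero.of_mono_eq_zero (Φ.map (kernel.ι f)) h
    · have h : Ψ.map (kernel.ι f) = 0 := by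
        rw [← cancel_mono (Ψ.map f), ← Ψ.map_comp, kernel.condition, Ψ.map_zero, zero_comp]
      exact IsZero.of_mono_eq_zero (Ψ.map (kernel.ι f)) h
  exact Preadditive.mono_of_kernel_zero (hK.eq_of_src _ _)

lemma epi_of {X Y : A} (f : X ⟶ Y) (h1 : Epi (Φ.map f)) (h2 : Epi (Ψ.map f)) : Epi f := by
  have hK : IsZero (cokernel f) := by
    apply hJC
    · have h : Φ.map (cokernel.π f) = 0 := by
        rw [← cancel_epi (Φ.map f), ← Φ.map_comp, cokernel.condition, Φ.map_zero, comp_zero]
      exact IsZero.of_epi_eq_zero (Φ.map (cokernel.π f)) h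
    · have h : Ψ.map (cokernel.π f) = 0 := by
        rw [← cancel_epi (Ψ.map f), ← Ψ.map_comp, cokernel.condition, Ψ.map_zero, comp_zero]
      exact IsZero.of_epi_eq_zero (Ψ.map (cokernel.π f)) h
  exact Preadditive.epi_of_cokernel_zero (hK.eq_of_tgt _ _)

lemma exact_of (S : ShortComplex A) (h1 : (S.map Φ).Exact) (h2 : (S.map Ψ).Exact) : S.Exact := by
  rw [ShortComplex.exact_iff_isZero_homology]
  apply hJC
  · rw [ShortComplex.exact_iff_isZero_homology] at h1
    exact h1.of_iso (S.mapHomologyIso Φ).symm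
  · rw [ShortComplex.exact_iff_isZero_homology] at h2
    exact h2.of_iso (S.mapHomologyIso Ψ).symm

lemma isIso_of {X Y : A} (f : X ⟶ Y) (h1 : IsIso (Φ.map f)) (h2 : IsIso (Ψ.map f)) : IsIso f := by
  haveI := mono_of Φ Ψ hJC f inferInstance inferInstance
  haveI := epi_of Φ Ψ hJC f inferInstance inferInstance
  exact isIso_of_mono_of_epi f

end Groth.Agent.Lib.Helper23.JointExact
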