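import Groth.Agent.S0068
import Groth.Agent.S0101
import Groth.Agent.S0651
import Groth.Agent.Lib.Helper23.EtRestr
import Groth.Agent.Lib.Helper23.JointExact

/-!
# Open/closed decomposition for abelian etale sheaves: restriction to the open part and inverse
image to the closed part are jointly conservative exact functors
-/

set_option autoImplicit false

universe u

namespace Groth.Agent.Lib.Helper23.EtRecoll

open CategoryTheory Limits Opposite AlgebraicGeometry GrothendieckTopology
open Groth.Agent.Lib.Helper23.EtRestr Groth.Agent.Lib.Helper23.EtClosedDense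

variable {Z X U : Scheme.{u}} (i : Z ⟶ X) [IsClosedImmersion i] (j : U ⟶ X) [IsOpenImmersion j]
  [EtShriek.JCont j] (hZU : Set.range j.base = (Set.range i.base)ᶜ)

/-- sections of a zero sheaf are zero -/
lemma isZero_sections {Y : Scheme.{u}} (A : EtCoh.Ab Y) (hA : IsZero A) (V : Y.Etale) :
    IsZero (A.obj.obj (op V)) := by
  rw [IsZero.iff_id_eq_zero]
  have h : 𝟙 A = 0 := (IsZero.iff_id_eq_zero A).1 hA
  have h2 := congrArg (fun φ : A ⟶ A => φ.hom.app (op V)) h
  exact h2

include hZU in
set_option backward.isDefEq.respectTransparency.types false in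
set_option backward.isDefEq.respectTransparency false in
lemma isEmpty_bc_compEtale (V : U.Etale) :
    IsEmpty ((EtCoh.bc i).obj ((EtShriek.compEtale j).obj V)).left := by
  rw [Groth.Agent.S0068.isEmpty_bc_iff, Set.disjoint_left]
  rintro x ⟨v, rfl⟩ hx
  have h1 : (V.hom ≫ j) v ∈ Set.range j.base := ⟨V.hom v, rfl⟩
  rw [hZU] at h1
  exact h1 hx

include hZU in
/-- `j^{-1} i_* = 0` -/
lemma isZero_restr_push (G : EtCoh.Ab Z) :
    IsZero ((EtShriek.restrAlong j).obj ((EtCoh.push i).obj G)) := by
  have h : ∀ V : U.Etale, IsZero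
      (((EtShriek.restrAlong j).obj ((EtCoh.push i).obj G)).obj.obj (op V)) := fun V => by
    haveI := isEmpty_bc_compEtale i j hZU V
    exact Groth.Agent.S0068.isZero_of_isEmpty G ((EtCoh.bc i).obj ((EtShriek.compEtale j).obj V))
  rw [IsZero.iff_id_eq_zero]
  apply Sheaf.hom_ext
  ext V : 2
  exact (h V.unop).eq_of_src _ _


include hZU in
set_option backward.isDefEq.respectTransparency.types false in
set_option backward.isDefEq.respectTransparency false in
/-- every etale `X`-scheme not meeting `Z` comes from `U` -/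
lemma exists_iso_compEtale (T : X.Etale) (hT : IsEmpty ((EtCoh.bc i).obj T).left) :
    ∃ V : U.Etale, Nonempty ((EtShriek.compEtale j).obj V ≅ T) := by
  have hd := (Groth.Agent.S0068.isEmpty_bc_iff i T).1 hT
  have hr : Set.range T.hom ⊆ Set.range j := by
    intro x hx
    change x ∈ Set.range j.base
    rw [hZU]
    exact fun hx' => Set.disjoint_left.1 hd hx hx'
  let l : T.left ⟶ U := IsOpenImmersion.lift j T.hom hr
  have hl : l ≫ j = T.hom := IsOpenImmersion.lift_fac j T.hom hr
  haveI : AlgebraicGeometry.Etale T.hom := T.prop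
  haveI : AlgebraicGeometry.Etale (l ≫ j) := by rw [hl]; infer_instance
  haveI : AlgebraicGeometry.Etale l :=
    EtCoh.etaleMP.of_postcomp (W' := EtCoh.etaleMP) l j inferInstance inferInstance
  exact ⟨Scheme.Etale.mk l,
    ⟨MorphismProperty.Over.isoMk (Iso.refl _) ((Category.id_comp _).trans hl.symm)⟩⟩

include hZU in
/-- restriction to the open part and inverse image to the closed complement are jointly
conservative on objects -/
lemma isZero_of_restr_pull (C : EtCoh.Ab X) (h1 : IsZero ((EtShriek.restrAlong j).obj C))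
    (h2 : IsZero ((EtCoh.pull i).obj C)) : IsZero C := by
  have hess : (EtCoh.push i).essImage C := by
    rw [Groth.Agent.S0068.result]
    intro T hT
    obtain ⟨V, ⟨e⟩⟩ := exists_iso_compEtale i j hZU T ((Groth.Agent.S0068.isEmpty_bc_iff i T).2 hT)
    exact (isZero_sections _ h1 V).of_iso (C.obj.mapIso e.op)
  obtain ⟨G, ⟨e⟩⟩ := hess
  obtain ⟨hfull, hfaith⟩ := Groth.Agent.S0067.result i
  haveI : IsIso ((EtCoh.pullPushAdj i).counit.app G) := inferInstance
  have hG : IsZero G :=
    (h2.of_iso ((EtCoh.pull i).mapIso e)).of_iso (asIso ((EtCoh.pullPushAdj i).counit.app G)).symm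
  exact ((EtCoh.push i).map_isZero hG).of_iso e.symm


instance restr_additive : (EtShriek.restrAlong j).Additive :=
  (restrPushAdj j).left_adjoint_additive

instance restr_preservesFiniteLimits : PreservesFiniteLimits (EtShriek.restrAlong j) := by
  have := (EtShriek.extZeroAdj j).rightAdjoint_preservesLimits
  infer_instance

instance restr_preservesFiniteColimits : PreservesFiniteColimits (EtShriek.restrAlong j) := by
  have := (restrPushAdj j).leftAdjoint_preservesColimits
  infer_instance

instance pull_additive : (EtCoh.pull i).Additive :=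
  (EtCoh.pullPushAdj i).left_adjoint_additive

instance pull_preservesFiniteLimits : PreservesFiniteLimits (EtCoh.pull i) :=
  Groth.Agent.S0101.result i

instance pull_preservesFiniteColimits : PreservesFiniteColimits (EtCoh.pull i) :=
  ⟨fun _ _ _ => (EtCoh.pullPushAdj i).leftAdjoint_preservesColimits.preservesColimitsOfShape⟩

include hZU in
/-- every morphism `j_! A → i_* G` vanishes -/
lemma extZero_to_push_eq_zero {A : EtCoh.Ab U} {G : EtCoh.Ab Z}
    (φ : (EtShriek.extZero j).obj A ⟶ (EtCoh.push i).obj G) : φ = 0 := by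
  apply ((EtShriek.extZeroAdj j).homEquiv _ _).injective
  exact (isZero_restr_push i j hZU G).eq_of_tgt _ _

include hZU in
/-- `i^{-1} j_! = 0` -/
lemma isZero_pull_extZero (A : EtCoh.Ab U) :
    IsZero ((EtCoh.pull i).obj ((EtShriek.extZero j).obj A)) := by
  rw [IsZero.iff_id_eq_zero]
  apply ((EtCoh.pullPushAdj i).homEquiv _ _).injective
  rw [extZero_to_push_eq_zero i j hZU (((EtCoh.pullPushAdj i).homEquiv _ _) (𝟙 _)),
    extZero_to_push_eq_zero i j hZU (((EtCoh.pullPushAdj i).homEquiv _ _) 0)]

/-- `j^{-1}` of the counit `j_! j^{-1} F → F` is an isomorphism -/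
lemma isIso_restr_counit (F : EtCoh.Ab X) :
    IsIso ((EtShriek.restrAlong j).map ((EtShriek.extZeroAdj j).counit.app F)) := by
  have h := (EtShriek.extZeroAdj j).right_triangle_components F
  haveI : IsIso ((EtShriek.extZeroAdj j).unit.app ((EtShriek.restrAlong j).obj F)) :=
    (Groth.Agent.S0651.result j ((EtShriek.restrAlong j).obj F)).2
  haveI : IsIso ((EtShriek.extZeroAdj j).unit.app ((EtShriek.restrAlong j).obj F) ≫
      (EtShriek.restrAlong j).map ((EtShriek.extZeroAdj j).counit.app F)) := by
    rw [h]; exact IsIso.id _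
  exact IsIso.of_isIso_comp_left ((EtShriek.extZeroAdj j).unit.app ((EtShriek.restrAlong j).obj F)) _

/-- `i^{-1}` of the unit `F → i_* i^{-1} F` is an isomorphism -/
lemma isIso_pull_unit (F : EtCoh.Ab X) :
    IsIso ((EtCoh.pull i).map ((EtCoh.pullPushAdj i).unit.app F)) := by
  have h := (EtCoh.pullPushAdj i).left_triangle_components F
  obtain ⟨hfull, hfaith⟩ := Groth.Agent.S0067.result i
  haveI : IsIso ((EtCoh.pullPushAdj i).counit.app ((EtCoh.pull i).obj F)) := inferInstance
  haveI : IsIso ((EtCoh.pull i).map ((EtCoh.pullPushAdj i).unit.app F) ≫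
      (EtCoh.pullPushAdj i).counit.app ((EtCoh.pull i).obj F)) := by
    rw [h]; exact IsIso.id _
  exact IsIso.of_isIso_comp_right _ ((EtCoh.pullPushAdj i).counit.app ((EtCoh.pull i).obj F))

end Groth.Agent.Lib.Helper23.EtRecoll
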