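import Groth.Prelude.Def_SGA4b
import Mathlib.CategoryTheory.Sites.EpiMono

/-!
# Small helper lemmas on the small etale site (sheaves of sets / abelian groups one universe up)
-/

set_option autoImplicit false

namespace Groth.Agent.Lib.Helper23.EtSite

open CategoryTheory Limits Opposite AlgebraicGeometry GrothendieckTopology

universe u

set_option backward.isDefEq.respectTransparency.types false in
/-- A surjective morphism of the small etale site generates a covering sieve. -/
lemma generate_singleton_mem {X : Scheme.{u}} {T U : X.Etale} (k : T ⟶ U)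
    (hk : Function.Surjective k.left) :
    Sieve.ofArrows (fun _ : Unit => T) (fun _ => k) ∈ X.smallEtaleTopology U := by
  rw [Scheme.ofArrows_mem_smallEtaleTopology_iff]
  ext t
  simp only [Set.mem_iUnion, Set.mem_range, Set.mem_univ, iff_true]
  obtain ⟨a, ha⟩ := hk t
  exact ⟨(), a, ha⟩

lemma mono_iff_injective {X : Scheme.{u}} {F G : EtDesc.Sh X} (φ : F ⟶ G) :
    Mono φ ↔ ∀ U, Function.Injective (φ.hom.app U) := by
  constructor
  · intro h U
    have h1 : Mono φ.hom := inferInstanceAs (Mono ((sheafToPresheaf _ _).map φ))
    have h2 : Mono (φ.hom.app U) := inferInstance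
    exact (CategoryTheory.mono_iff_injective (φ.hom.app U)).1 h2
  · intro h
    exact Sheaf.mono_of_injective φ h

lemma epi_iff_isLocallySurjective {X : Scheme.{u}} {F G : EtDesc.Sh X} (φ : F ⟶ G) :
    Epi φ ↔ Sheaf.IsLocallySurjective φ :=
  (Sheaf.isLocallySurjective_iff_epi φ).symm

/-- Two sections agreeing after restriction along a surjective map of the site are equal. -/
lemma eq_of_restrict_eq {X : Scheme.{u}} (F : EtDesc.Sh X) {T U : X.Etale} (k : T ⟶ U)
    (hk : Function.Surjective k.left) (s s' : F.obj.obj (op U))
    (h : F.obj.map k.op s = F.obj.map k.op s') : s = s' := by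
  have hsep := ((isSheaf_iff_isSheaf_of_type _ _).1 F.2).isSeparated _
    (generate_singleton_mem k hk)
  apply hsep.ext
  rintro Y g ⟨_, a, _, ⟨_⟩, rfl⟩
  simp only [op_comp, Functor.map_comp]
  change F.obj.map a.op (F.obj.map k.op s) = F.obj.map a.op (F.obj.map k.op s')
  rw [h]

end Groth.Agent.Lib.Helper23.EtSite
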