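import Mathlib.CategoryTheory.Sites.Point.Skyscraper

/-!
# Generalized skyscraper presheaves (attached to an arbitrary functor `Ψ : C ⥤ Type w`) and their
decomposition when `Ψ` is a disjoint union of functors
-/

set_option autoImplicit false

namespace Groth.Agent.Lib.Helper23.GenSky

open CategoryTheory Limits Opposite

universe w v' v u' u

variable {C : Type u} [Category.{v} C] {A : Type u'} [Category.{v'} A] [HasProducts.{w} A]

/-- generalized skyscraper presheaf functor attached to `Ψ : C ⥤ Type w` -/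
noncomputable def sky (Ψ : C ⥤ Type w) : A ⥤ Cᵒᵖ ⥤ A :=
  Functor.flip (Ψ.op ⋙ piFunctor.{w}.flip)
noncomputable abbrev skyP (Ψ : C ⥤ Type w) (M : A) : Cᵒᵖ ⥤ A := (sky Ψ).obj M

/-- projection -/
noncomputable def skyπ (Ψ : C ⥤ Type w) (M : A) (V : Cᵒᵖ) (x : Ψ.obj V.unop) :
    (skyP Ψ M).obj V ⟶ M :=
  Pi.π (fun _ : Ψ.obj V.unop => M) x

/-- lift -/
noncomputable def skyLift (Ψ : C ⥤ Type w) (M : A) (V : Cᵒᵖ) {X : A}
    (f : Ψ.obj V.unop → (X ⟶ M)) : X ⟶ (skyP Ψ M).obj V :=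
  Pi.lift f

@[reassoc (attr := simp)]
lemma skyLift_π (Ψ : C ⥤ Type w) (M : A) (V : Cᵒᵖ) {X : A}
    (f : Ψ.obj V.unop → (X ⟶ M)) (x : Ψ.obj V.unop) :
    skyLift Ψ M V f ≫ skyπ Ψ M V x = f x :=
  Pi.lift_π _ _

lemma sky_hom_ext (Ψ : C ⥤ Type w) (M : A) (V : Cᵒᵖ) {X : A} (f g : X ⟶ (skyP Ψ M).obj V)
    (h : ∀ x, f ≫ skyπ Ψ M V x = g ≫ skyπ Ψ M V x) : f = g :=
  Pi.hom_ext _ _ h

set_option backward.isDefEq.respectTransparency.types false in
set_option backward.isDefEq.respectTransparency false in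
@[reassoc]
lemma skyP_map_π (Ψ : C ⥤ Type w) (M : A) {V W : Cᵒᵖ} (g : V ⟶ W) (x : Ψ.obj W.unop) :
    (skyP Ψ M).map g ≫ skyπ Ψ M W x = skyπ Ψ M V (Ψ.map g.unop x) := by
  dsimp [skyP, sky, skyπ]
  simp

set_option backward.isDefEq.respectTransparency.types false in
set_option backward.isDefEq.respectTransparency false in
@[reassoc]
lemma sky_map_app_π (Ψ : C ⥤ Type w) {M N : A} (f : M ⟶ N) (V : Cᵒᵖ) (x : Ψ.obj V.unop) :
    ((sky Ψ).map f).app V ≫ skyπ Ψ N V x = skyπ Ψ M V x ≫ f := by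
  dsimp [sky, skyπ]
  simp

/-- functoriality in `Ψ` (contravariant) -/
noncomputable def skyMap {Ψ' Ψ : C ⥤ Type w} (τ : Ψ' ⟶ Ψ) (M : A) : skyP Ψ M ⟶ skyP Ψ' M where
  app V := skyLift Ψ' M V (fun x => skyπ Ψ M V (τ.app V.unop x))
  naturality V W g := by
    apply sky_hom_ext
    intro x
    rw [Category.assoc, Category.assoc, skyLift_π, skyP_map_π, skyP_map_π, skyLift_π]
    congr 1
    exact (NatTrans.naturality_apply τ g.unop x).symm

@[reassoc (attr := simp)]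
lemma skyMap_app_π {Ψ' Ψ : C ⥤ Type w} (τ : Ψ' ⟶ Ψ) (M : A) (V : Cᵒᵖ) (x : Ψ'.obj V.unop) :
    (skyMap τ M).app V ≫ skyπ Ψ' M V x = skyπ Ψ M V (τ.app V.unop x) :=
  skyLift_π _ _ _ _ _

lemma sky_map_skyMap {Ψ' Ψ : C ⥤ Type w} (τ : Ψ' ⟶ Ψ) {M N : A} (f : M ⟶ N) :
    (sky Ψ).map f ≫ skyMap τ N = skyMap τ M ≫ (sky Ψ').map f := by
  ext V
  apply sky_hom_ext
  intro x
  rw [NatTrans.comp_app, NatTrans.comp_app, Category.assoc, Category.assoc, skyMap_app_π,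
    sky_map_app_π, sky_map_app_π, skyMap_app_π_assoc]

section Sigma

variable {L : Type*} {Ψ : C ⥤ Type w} (Ψs : L → (C ⥤ Type w)) (τ : ∀ u, Ψs u ⟶ Ψ)
  (hbij : ∀ V : C, Function.Bijective (fun x : Σ u, (Ψs u).obj V => (τ x.1).app V x.2))

include hbij in
lemma hom_ext_of_sigma {P : Cᵒᵖ ⥤ A} {M : A} (a a' : P ⟶ skyP Ψ M)
    (h : ∀ u, a ≫ skyMap (τ u) M = a' ≫ skyMap (τ u) M) : a = a' := by
  ext V
  apply sky_hom_ext
  intro x
  obtain ⟨⟨u, y⟩, rfl⟩ := (hbij V.unop).2 x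
  have := congrArg (fun φ => φ.app V ≫ skyπ (Ψs u) M V y) (h u)
  simp only [NatTrans.comp_app, Category.assoc, skyMap_app_π] at this
  exact this

/-- the inverse of the bijection `hbij` -/
noncomputable def sigmaInv (V : C) (x : Ψ.obj V) : Σ u, (Ψs u).obj V :=
  (Equiv.ofBijective _ (hbij V)).symm x

lemma τ_sigmaInv (V : C) (x : Ψ.obj V) :
    (τ (sigmaInv Ψs τ hbij V x).1).app V (sigmaInv Ψs τ hbij V x).2 = x :=
  (Equiv.ofBijective _ (hbij V)).apply_symm_apply x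

lemma sigmaInv_τ (V : C) (u : L) (y : (Ψs u).obj V) :
    sigmaInv Ψs τ hbij V ((τ u).app V y) = ⟨u, y⟩ :=
  (Equiv.ofBijective _ (hbij V)).symm_apply_apply ⟨u, y⟩

lemma sigmaInv_map {V W : C} (g : W ⟶ V) (x : Ψ.obj W) :
    sigmaInv Ψs τ hbij V (Ψ.map g x) =
      ⟨(sigmaInv Ψs τ hbij W x).1, (Ψs _).map g (sigmaInv Ψs τ hbij W x).2⟩ := by
  conv_lhs => rw [← τ_sigmaInv Ψs τ hbij W x]
  have := NatTrans.naturality_apply (τ (sigmaInv Ψs τ hbij W x).1) g (sigmaInv Ψs τ hbij W x).2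
  rw [← this, sigmaInv_τ]

/-- component of a family of morphisms at a point of the disjoint union -/
noncomputable def comp' {P : Cᵒᵖ ⥤ A} {M : A} (b : ∀ u, P ⟶ skyP (Ψs u) M) (V : Cᵒᵖ)
    (s : Σ u, (Ψs u).obj V.unop) : P.obj V ⟶ M :=
  (b s.1).app V ≫ skyπ (Ψs s.1) M V s.2

/-- gluing a family of morphisms to the skyscrapers of the summands -/
noncomputable def glue {P : Cᵒᵖ ⥤ A} {M : A} (b : ∀ u, P ⟶ skyP (Ψs u) M) : P ⟶ skyP Ψ M where
  app V := skyLift Ψ M V (fun x => comp' Ψs b V (sigmaInv Ψs τ hbij V.unop x))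
  naturality V W g := by
    apply sky_hom_ext
    intro x
    rw [Category.assoc, Category.assoc, skyLift_π, skyP_map_π, skyLift_π, sigmaInv_map]
    dsimp only [comp']
    rw [← skyP_map_π, ← Category.assoc, ← Category.assoc, (b _).naturality g]

lemma glue_skyMap {P : Cᵒᵖ ⥤ A} {M : A} (b : ∀ u, P ⟶ skyP (Ψs u) M) (u : L) :
    glue Ψs τ hbij b ≫ skyMap (τ u) M = b u := by
  ext V
  apply sky_hom_ext
  intro y
  rw [NatTrans.comp_app, Category.assoc, skyMap_app_π]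
  dsimp only [glue]
  rw [skyLift_π, sigmaInv_τ]
  rfl

/-- morphisms to the skyscraper of a disjoint union = families of morphisms to the skyscrapers of
the summands -/
noncomputable def homEquivSigma (P : Cᵒᵖ ⥤ A) (M : A) :
    (P ⟶ skyP Ψ M) ≃ (∀ u, P ⟶ skyP (Ψs u) M) where
  toFun a u := a ≫ skyMap (τ u) M
  invFun b := glue Ψs τ hbij b
  left_inv a := by
    apply hom_ext_of_sigma Ψs τ hbij
    intro u
    rw [glue_skyMap]
  right_inv b := by
    funext u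
    exact glue_skyMap Ψs τ hbij b u

end Sigma

end Groth.Agent.Lib.Helper23.GenSky
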