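import Groth.Prelude.Def_EtShriek2
import Groth.Agent.Lib.Helper23.GenSky
import Mathlib.AlgebraicGeometry.Sites.EtalePoint

/-!
# Stalks of the extension by zero along an etale morphism (via skyscraper sheaves and Yoneda)
-/

set_option autoImplicit false
set_option linter.unusedSectionVars false

namespace Groth.Agent.Lib.Helper23.EtStalkShriek

open CategoryTheory Limits Opposite AlgebraicGeometry GrothendieckTopology
open Groth.Agent.Lib.Helper23.GenSky

universe u

variable {U X : Scheme.{u}} (j : U ⟶ X) [Etale j] {Ω : Type u} [Field Ω] [IsSepClosed Ω]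
  (ξ : Spec (CommRingCat.of Ω) ⟶ X)

/-- lifts of the geometric point -/
abbrev Lifts := {u : Spec (CommRingCat.of Ω) ⟶ U // u ≫ j = ξ}

/-- fiber functor of the generalized point -/
noncomputable abbrev Ψ : U.Etale ⥤ Type u :=
  EtShriek.compEtale j ⋙ (Scheme.pointSmallEtale ξ).fiber

set_option backward.isDefEq.respectTransparency.types false in
set_option backward.isDefEq.respectTransparency false in
noncomputable def τapp (u : Lifts j ξ) (V : U.Etale) (v : (Scheme.pointSmallEtale u.1).fiber.obj V) :
    (Ψ j ξ).obj V :=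
  Over.homMk v.left (by
    have := Over.w v
    dsimp at this ⊢
    rw [← Category.assoc, this, u.2])

set_option backward.isDefEq.respectTransparency.types false in
set_option backward.isDefEq.respectTransparency false in
noncomputable def τ (u : Lifts j ξ) : (Scheme.pointSmallEtale u.1).fiber ⟶ Ψ j ξ where
  app V := TypeCat.ofHom (fun v => τapp j ξ u V v)
  naturality V W g := by
    ext v
    apply Over.OverMorphism.ext
    rfl

set_option backward.isDefEq.respectTransparency.types false in
set_option backward.isDefEq.respectTransparency false in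
lemma τ_bij (V : U.Etale) :
    Function.Bijective (fun x : Σ u : Lifts j ξ, (Scheme.pointSmallEtale u.1).fiber.obj V =>
      (τ j ξ x.1).app V x.2) := by
  constructor
  · rintro ⟨u, v⟩ ⟨u', v'⟩ h
    have h1 : v.left = v'.left := congrArg (fun φ : (Ψ j ξ).obj V => φ.left) h
    have hu : u = u' := by
      apply Subtype.ext
      have e1 := Over.w v
      have e2 := Over.w v'
      dsimp at e1 e2
      rw [← e1, ← e2, h1]
    subst hu
    have : v = v' := Over.OverMorphism.ext h1
    rw [this]
  · intro w
    have hw := Over.w w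
    dsimp at hw
    refine ⟨⟨⟨w.left ≫ V.hom, by rw [Category.assoc]; exact hw⟩, Over.homMk w.left rfl⟩, ?_⟩
    apply Over.OverMorphism.ext
    rfl

variable [EtShriek.JCont j] (F : EtCoh.Ab U)

/-- the point of `X` -/
noncomputable abbrev pt : (X.smallEtaleTopology).Point := Scheme.pointSmallEtale ξ
/-- the points of `U` above it -/
noncomputable abbrev qt (u : Lifts j ξ) : (U.smallEtaleTopology).Point := Scheme.pointSmallEtale u.1

set_option backward.isDefEq.respectTransparency.types false in
set_option backward.isDefEq.respectTransparency false in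
noncomputable def e3 (M : AddCommGrpCat.{u+1}) :
    (F ⟶ (EtShriek.restrAlong j).obj ((pt ξ).skyscraperSheafFunctor.obj M)) ≃
      (F.obj ⟶ skyP (Ψ j ξ) M) :=
  (fullyFaithfulSheafToPresheaf _ _).homEquiv

set_option backward.isDefEq.respectTransparency.types false in
set_option backward.isDefEq.respectTransparency false in
noncomputable def e5 (M : AddCommGrpCat.{u+1}) (u : Lifts j ξ) :
    (F ⟶ (qt j ξ u).skyscraperSheafFunctor.obj M) ≃
      (F.obj ⟶ skyP (qt j ξ u).fiber M) :=
  (fullyFaithfulSheafToPresheaf _ _).homEquiv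

/-- the full chain of bijections -/
noncomputable def E (M : AddCommGrpCat.{u+1}) :
    ((pt ξ).sheafFiber.obj ((EtShriek.extZero j).obj F) ⟶ M) ≃
      ((∐ fun u : Lifts j ξ => (qt j ξ u).sheafFiber.obj F) ⟶ M) :=
  ((pt ξ).skyscraperSheafAdjunction.homEquiv _ _).trans <|
  ((EtShriek.extZeroAdj j).homEquiv _ _).trans <|
  (e3 j ξ F M).trans <|
  (homEquivSigma (fun u : Lifts j ξ => (qt j ξ u).fiber) (τ j ξ) (τ_bij j ξ) F.obj M).trans <|
  (Equiv.piCongrRight (fun u => (e5 j ξ F M u).symm.trans
    ((qt j ξ u).skyscraperSheafAdjunction.homEquiv F M).symm)).trans <|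
  { toFun := fun c => Sigma.desc c
    invFun := fun d u => Sigma.ι (fun u : Lifts j ξ => (qt j ξ u).sheafFiber.obj F) u ≫ d
    left_inv := fun c => by funext u; simp
    right_inv := fun d => by ext; simp }

set_option backward.isDefEq.respectTransparency.types false in
set_option backward.isDefEq.respectTransparency false in
lemma e3_nat {M M' : AddCommGrpCat.{u+1}} (g : M ⟶ M')
    (a : F ⟶ (EtShriek.restrAlong j).obj ((pt ξ).skyscraperSheafFunctor.obj M)) :
    e3 j ξ F M' (a ≫ (EtShriek.restrAlong j).map ((pt ξ).skyscraperSheafFunctor.map g)) =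
      e3 j ξ F M a ≫ (sky (Ψ j ξ)).map g := rfl

set_option backward.isDefEq.respectTransparency.types false in
set_option backward.isDefEq.respectTransparency false in
lemma e5_symm_nat {M M' : AddCommGrpCat.{u+1}} (g : M ⟶ M') (u : Lifts j ξ)
    (b : F.obj ⟶ skyP (qt j ξ u).fiber M) :
    (e5 j ξ F M' u).symm (b ≫ (sky (qt j ξ u).fiber).map g) =
      (e5 j ξ F M u).symm b ≫ (qt j ξ u).skyscraperSheafFunctor.map g := rfl

lemma E_nat {M M' : AddCommGrpCat.{u+1}} (g : M ⟶ M')
    (f : (pt ξ).sheafFiber.obj ((EtShriek.extZero j).obj F) ⟶ M) :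
    E j ξ F M' (f ≫ g) = E j ξ F M f ≫ g := by
  dsimp only [E, Equiv.trans_apply, Equiv.coe_fn_mk]
  rw [Adjunction.homEquiv_naturality_right, Adjunction.homEquiv_naturality_right, e3_nat]
  apply Sigma.hom_ext
  intro u
  rw [Sigma.ι_desc, Sigma.ι_desc_assoc]
  generalize (e3 j ξ F M)
              (((EtShriek.extZeroAdj j).homEquiv F ((pt ξ).skyscraperSheafFunctor.obj M))
                (((pt ξ).skyscraperSheafAdjunction.homEquiv ((EtShriek.extZero j).obj F) M) f)) = a
  change ((qt j ξ u).skyscraperSheafAdjunction.homEquiv F M').symm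
      ((e5 j ξ F M' u).symm ((a ≫ (sky (Ψ j ξ)).map g) ≫ skyMap (τ j ξ u) M')) =
    ((qt j ξ u).skyscraperSheafAdjunction.homEquiv F M).symm
      ((e5 j ξ F M u).symm (a ≫ skyMap (τ j ξ u) M)) ≫ g
  rw [Category.assoc, sky_map_skyMap, ← Category.assoc, e5_symm_nat,
    Adjunction.homEquiv_naturality_right_symm]

theorem nonempty_stalk_extZero_iso :
    Nonempty ((EtCoh.stalk ξ).obj ((EtShriek.extZero j).obj F) ≅
      ∐ fun u : {u : Spec (CommRingCat.of Ω) ⟶ U // u ≫ j = ξ} => (EtCoh.stalk u.1).obj F) := by
  refine ⟨(Coyoneda.ext (∐ fun u : Lifts j ξ => (qt j ξ u).sheafFiber.obj F)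
    ((pt ξ).sheafFiber.obj ((EtShriek.extZero j).obj F))
    (fun {Z} d => (E j ξ F Z).symm d) (fun {Z} f => E j ξ F Z f) (fun d => by simp)
    (fun f => by simp) (fun f g => E_nat j ξ F g f)).symm⟩

end Groth.Agent.Lib.Helper23.EtStalkShriek
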