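import Mathlib.AlgebraicGeometry.Sites.Proetale
import Mathlib.AlgebraicGeometry.Sites.Etale
import Mathlib.CategoryTheory.Sites.Subcanonical
import Mathlib.CategoryTheory.Sites.SubcanonicalOver

open CategoryTheory AlgebraicGeometry Limits

universe u

namespace Groth.Agent.Lib.Helper23.EtSubcanonical

instance etaleTopology_subcanonical : Scheme.etaleTopology.{u}.Subcanonical :=
  .of_le Scheme.etaleTopology_le_proetaleTopology

set_option backward.isDefEq.respectTransparency.types false in
set_option backward.isDefEq.respectTransparency false in
instance forget_isContinuous (X : Scheme.{u}) :
    (MorphismProperty.Over.forget @Etale ⊤ X).IsContinuous X.smallEtaleTopology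
      (Scheme.etaleTopology.over X) := by
  have : PreservesFiniteLimits (MorphismProperty.Over.forget @Etale ⊤ X) := inferInstance
  have : RepresentablyFlat (MorphismProperty.Over.forget @Etale ⊤ X) :=
    flat_of_preservesFiniteLimits _
  rw [Functor.isContinuous_iff_coverPreserving]
  exact Functor.coverPreserving_restrictedTopology _ _

set_option backward.isDefEq.respectTransparency.types false in
set_option backward.isDefEq.respectTransparency false in
instance smallEtaleTopology_subcanonical (X : Scheme.{u}) : X.smallEtaleTopology.Subcanonical :=
  GrothendieckTopology.subcanonical_of_full_of_faithful (MorphismProperty.Over.forget @Etale ⊤ X) _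
    (Scheme.etaleTopology.over X)

end Groth.Agent.Lib.Helper23.EtSubcanonical
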