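import Groth.Agent.S0100
import Groth.Agent.S0622
import Groth.Agent.Lib.Helper23.EtGlue2

/-!
# The unit `F → f_* f^{-1} F` is locally injective: sections with equal pullbacks agree etale locally
-/

set_option autoImplicit false

universe u

namespace Groth.Agent.Lib.Helper23.EtUnit

open CategoryTheory Limits Opposite AlgebraicGeometry GrothendieckTopology
open Groth.Agent.Lib.Helper23.EtSite Groth.Agent.Lib.Helper23.EtGlue
open Groth.Agent.S0622

set_option backward.isDefEq.respectTransparency.types false in
set_option backward.isDefEq.respectTransparency false in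
/-- If the pulled back sections over `U ×_S T` agree then, around the image in `U` of every point of
`U ×_S T`, the sections agree on an etale neighbourhood. -/
lemma exists_nhd_of_unit_eq {S T : Scheme.{u}} (f : T ⟶ S) (F : EtCoh.Ab S) (U : S.Etale)
    (s t : EtCoh.sect F U)
    (h : ((EtCoh.pullPushAdj f).unit.app F).hom.app (op U) s =
          ((EtCoh.pullPushAdj f).unit.app F).hom.app (op U) t)
    (z : ((EtCoh.bc f).obj U).left) :
    ∃ (V : S.Etale) (k : V ⟶ U) (v : V.left),
      k.left v = (pullback.fst U.hom f : ((EtCoh.bc f).obj U).left ⟶ U.left) z ∧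
      F.obj.map k.op s = F.obj.map k.op t := by
  let P : Scheme.{u} := ((EtCoh.bc f).obj U).left
  let Ω := SeparableClosure (P.residueField z)
  let ζ : Spec (CommRingCat.of Ω) ⟶ P :=
    Spec.map (CommRingCat.ofHom (algebraMap (P.residueField z) Ω)) ≫ P.fromSpecResidueField z
  have hζ : ∀ a, ζ a = z := fun a => by
    change (P.fromSpecResidueField z) _ = z
    exact Scheme.fromSpecResidueField_apply z _
  let ξ : Spec (CommRingCat.of Ω) ⟶ T := ζ ≫ ((EtCoh.bc f).obj U).hom
  let Φ := Scheme.pointSmallEtale ξ
  haveI : InitiallySmall.{u} (EtCoh.bc f ⋙ Φ.fiber).Elements :=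
    Groth.Agent.Lib.Helper23.PointIso.initiallySmall_elements_of_iso (Groth.Agent.S0100.fiberIso f ξ)
  have hF := EtCoh.coverPreserving_bc f
  let Φ' := Φ.comap (EtCoh.bc f) hF
  let e1 := Φ.sheafFiberComapIso (EtCoh.bc f) hF AddCommGrpCat.{u+1}
  let x₀ : Φ'.fiber.obj U := Over.homMk ζ rfl
  have hg : Φ'.toPresheafFiber U x₀ F.obj s = Φ'.toPresheafFiber U x₀ F.obj t := by
    have hinj : Function.Injective (e1.hom.app F) :=
      ((ConcreteCategory.isIso_iff_bijective (e1.hom.app F)).1 inferInstance).1
    apply hinj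
    rw [Point.sheafFiberComapIso_hom_app]
    simp only [ConcreteCategory.comp_apply]
    have h1 : ∀ a : F.obj.obj (op U),
        (Φ'.sheafFiber.map ((EtCoh.pullPushAdj f).unit.app F))
          (Φ'.toPresheafFiber U x₀ F.obj a) =
        Φ'.toPresheafFiber U x₀ ((EtCoh.push f).obj ((EtCoh.pull f).obj F)).obj
          (((EtCoh.pullPushAdj f).unit.app F).hom.app (op U) a) := fun a =>
      Point.toPresheafFiber_naturality_apply Φ' ((EtCoh.pullPushAdj f).unit.app F).hom U x₀ a
    erw [h1 s, h1 t, h]
  rw [Point.toPresheafFiber_eq_iff'] at hg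
  obtain ⟨V, k, y, hy, hst⟩ := hg
  let yl : Spec (CommRingCat.of Ω) ⟶ ((EtCoh.bc f).obj V).left := y.left
  refine ⟨V, k, (yl ≫ (pullback.fst V.hom f : ((EtCoh.bc f).obj V).left ⟶ V.left))
    (default : Spec (CommRingCat.of Ω)), ?_, hst⟩
  have h1 : yl ≫ ((EtCoh.bc f).map k).left = ζ := congrArg (fun φ => φ.left) hy
  have h2 : (yl ≫ (pullback.fst V.hom f : ((EtCoh.bc f).obj V).left ⟶ V.left)) ≫ k.left =
      ζ ≫ (pullback.fst U.hom f : ((EtCoh.bc f).obj U).left ⟶ U.left) := by
    rw [Category.assoc, ← (EtCoh.isPullback_bc_map f k).w, ← Category.assoc, h1]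
  have h3 := congrArg (fun φ : Spec (CommRingCat.of Ω) ⟶ U.left =>
    φ (default : Spec (CommRingCat.of Ω))) h2
  simp only [Scheme.Hom.comp_apply] at h3
  rw [hζ] at h3
  exact h3

set_option backward.isDefEq.respectTransparency.types false in
set_option backward.isDefEq.respectTransparency false in
/-- For surjective `f`, the unit `F → f_* f^{-1} F` is injective on sections. -/
lemma unit_app_injective_of_surjective {S T : Scheme.{u}} (f : T ⟶ S) [Surjective f]
    (F : EtCoh.Ab S) (U : S.Etale) :
    Function.Injective (((EtCoh.pullPushAdj f).unit.app F).hom.app (op U)) := by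
  intro s t h
  let F' : EtDesc.Sh S := (sheafCompose _ (forget AddCommGrpCat.{u+1})).obj F
  let R : Sieve U :=
    { arrows := fun V k => F.obj.map k.op s = F.obj.map k.op t
      downward_closed := by
        intro V V' k hk a
        rw [op_comp, Functor.map_comp]
        simp only [ConcreteCategory.comp_apply]
        rw [hk] }
  have hR : R ∈ S.smallEtaleTopology U := by
    apply sieve_mem_of_forall_point
    intro u
    obtain ⟨x, hx⟩ := f.surjective (U.hom u)
    obtain ⟨z, hz1, hz2⟩ := Scheme.Pullback.exists_preimage_pullback (f := U.hom) (g := f) u x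
      hx.symm
    obtain ⟨V, k, v, hv, hst⟩ := exists_nhd_of_unit_eq f F U s t h z
    exact ⟨V, k, hst, v, hv.trans hz1⟩
  have hsep := ((isSheaf_iff_isSheaf_of_type _ _).1 F'.2).isSeparated _ hR
  apply hsep.ext
  intro V k hk
  exact hk

end Groth.Agent.Lib.Helper23.EtUnit
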