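import Mathlib.RingTheory.Smooth.StandardSmoothOfFree
import Mathlib.RingTheory.Extension.Presentation.Submersive
import Mathlib.RingTheory.Etale.Basic

/-!
# Lifting etale algebras along a surjection (weak form: an etale algebra surjecting onto it)
-/

set_option autoImplicit false
universe u

namespace Groth.Agent.Lib.Helper23.EtaleLiftQuot

open MvPolynomial

theorem exists_etale_lift {A A' B' : Type u} [CommRing A] [CommRing A'] [CommRing B']
    [Algebra A A'] [Algebra A' B'] [Algebra A B'] [IsScalarTower A A' B']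
    (hsurj : Function.Surjective (algebraMap A A')) [Algebra.Etale A' B'] :
    ∃ (B : Type u) (_ : CommRing B) (_ : Algebra A B) (_ : Algebra.Etale A B) (ψ : B →ₐ[A] B'),
      Function.Surjective ψ := by
  classical
  have h0 : Algebra.IsStandardSmoothOfRelativeDimension 0 A' B' :=
    Algebra.Etale.iff_isStandardSmoothOfRelativeDimension_zero.1 inferInstance
  obtain ⟨ι, σ, hσ, hι, P, hP⟩ := h0.out
  cases nonempty_fintype σ
  choose r hr using fun j => MvPolynomial.map_surjective (algebraMap A A') hsurj (P.relation j)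
  let C := MvPolynomial ι A ⧸ Ideal.span (Set.range r)
  let P₁ : Algebra.PreSubmersivePresentation A C ι σ :=
    Algebra.PreSubmersivePresentation.naive (v := r) P.map P.map_inj
  let Δ : C := P₁.jacobian
  let B := Localization.Away Δ
  let Q : Algebra.SubmersivePresentation C B Unit Unit :=
    Algebra.SubmersivePresentation.localizationAway B Δ
  let R₀ : Algebra.PreSubmersivePresentation A B (Unit ⊕ ι) (Unit ⊕ σ) :=
    Q.toPreSubmersivePresentation.comp P₁
  have hjac : IsUnit R₀.jacobian := by
    rw [Algebra.PreSubmersivePresentation.comp_jacobian_eq_jacobian_smul_jacobian,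
      Algebra.smul_def, IsUnit.mul_iff]
    exact ⟨IsLocalization.map_units _ (⟨Δ, 1, by simp⟩ : Submonoid.powers Δ), Q.jacobian_isUnit⟩
  let R₁ : Algebra.SubmersivePresentation A B (Unit ⊕ ι) (Unit ⊕ σ) := ⟨R₀, hjac⟩
  have hdim : R₁.dimension = 0 := by
    change (Q.toPreSubmersivePresentation.comp P₁).dimension = 0
    rw [Algebra.PreSubmersivePresentation.dimension_comp_eq_dimension_add_dimension]
    have h1 : Q.dimension = 0 := by simp [Algebra.Presentation.dimension]
    have h2 : P₁.dimension = 0 := hP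
    rw [h1, h2]
  haveI : Algebra.IsStandardSmoothOfRelativeDimension 0 A B :=
    R₁.isStandardSmoothOfRelativeDimension hdim
  have hB : Algebra.Etale A B :=
    Algebra.Etale.iff_isStandardSmoothOfRelativeDimension_zero.2 inferInstance
  -- the map to `B'`
  let ev : MvPolynomial ι A →ₐ[A] B' := MvPolynomial.aeval P.val
  have hev : ∀ p : MvPolynomial ι A,
      ev p = MvPolynomial.aeval P.val (MvPolynomial.map (algebraMap A A') p) :=
    fun p => (MvPolynomial.aeval_map_algebraMap A' P.val p).symm
  have hker : ∀ a ∈ Ideal.span (Set.range r), ev a = 0 := by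
    intro a ha
    have hle : Ideal.span (Set.range r) ≤ RingHom.ker ev.toRingHom := by
      rw [Ideal.span_le]
      rintro _ ⟨j, rfl⟩
      change ev (r j) = 0
      rw [hev, hr, P.aeval_val_relation]
    exact hle ha
  let ψ₁ : C →ₐ[A] B' := Ideal.Quotient.liftₐ _ ev hker
  have hψ₁ : ∀ p, ψ₁ (Ideal.Quotient.mk _ p) = ev p := fun p => rfl
  have hΔ : ψ₁ Δ = P.jacobian := by
    have e1 : Δ = Ideal.Quotient.mk _ P₁.jacobiMatrix.det := P₁.jacobian_eq_jacobiMatrix_det
    rw [e1, hψ₁, P.jacobian_eq_jacobiMatrix_det, Algebra.Generators.algebraMap_apply,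
      AlgHom.map_det, AlgHom.map_det]
    congr 1
    ext i j
    change ev (P₁.jacobiMatrix i j) = MvPolynomial.aeval P.val (P.jacobiMatrix i j)
    rw [Algebra.PreSubmersivePresentation.jacobiMatrix_apply,
      Algebra.PreSubmersivePresentation.jacobiMatrix_apply, hev]
    change (MvPolynomial.aeval P.val) ((MvPolynomial.map (algebraMap A A'))
      ((MvPolynomial.pderiv (P.map i)) (r j))) = _
    rw [← MvPolynomial.pderiv_map, hr]
  have hunit : ∀ y : Submonoid.powers Δ, IsUnit (ψ₁ y) := by
    rintro ⟨_, n, rfl⟩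
    change IsUnit (ψ₁ (Δ ^ n))
    rw [map_pow, hΔ]
    exact P.jacobian_isUnit.pow n
  let ψ : B →ₐ[A] B' := IsLocalization.liftAlgHom (M := Submonoid.powers Δ) (f := ψ₁) hunit
  refine ⟨B, inferInstance, inferInstance, hB, ψ, ?_⟩
  intro b'
  obtain ⟨p', hp'⟩ := P.aeval_val_surjective b'
  obtain ⟨p, rfl⟩ := MvPolynomial.map_surjective (algebraMap A A') hsurj p'
  refine ⟨algebraMap C B (Ideal.Quotient.mk _ p), ?_⟩
  change (IsLocalization.liftAlgHom (M := Submonoid.powers Δ) (f := ψ₁) hunit) _ = _
  rw [IsLocalization.liftAlgHom_apply, IsLocalization.lift_eq]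
  change ψ₁ (Ideal.Quotient.mk _ p) = _
  rw [hψ₁, hev, hp']

end Groth.Agent.Lib.Helper23.EtaleLiftQuot
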