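import Groth.Agent.Lib.Helper6.RDShift
import Mathlib.Algebra.Homology.DerivedCategory.Ext.MapBijective
import Mathlib.Algebra.Homology.DerivedCategory.Ext.EnoughInjectives
import Mathlib.Algebra.FiveLemma

/-!
# The adjunction map on `Ext` groups and its bijectivity on right-acyclic objects

For an adjunction `L ⊣ R` with `L` exact, `Ext^n(A, R F) → Ext^n(L A, F)` is bijective for all `n`
as soon as `R^q R (F) = 0` for all `q > 0` (degenerate Leray spectral sequence).
-/

set_option autoImplicit false

namespace Groth.Agent.Lib.Helper23.ExtAdj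

open CategoryTheory Limits Abelian
open Groth.Agent.Lib.Helper6.RDShift Groth.Agent.Lib.Helper6.DeltaCompare

universe w w' v v' u u'

variable {C : Type u} [Category.{v} C] [Abelian C] {D : Type u'} [Category.{v'} D] [Abelian D]
  {L : C ⥤ D} {R : D ⥤ C} (adj : L ⊣ R) [L.Additive] [PreservesFiniteLimits L]
  [PreservesFiniteColimits L] [HasExt.{w} C] [HasExt.{w'} D] [R.Additive]

/-- the adjunction map on Ext groups -/
noncomputable def extAdj (A : C) (F : D) (n : ℕ) : Ext A (R.obj F) n →+ Ext (L.obj A) F n :=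
  ((Ext.mk₀ (adj.counit.app F)).postcomp (L.obj A) (add_zero n)).comp (L.mapExtAddHom A (R.obj F) n)

lemma extAdj_apply (A : C) (F : D) (n : ℕ) (e : Ext A (R.obj F) n) :
    extAdj adj A F n e = (e.mapExactFunctor L).comp (Ext.mk₀ (adj.counit.app F)) (add_zero n) :=
  rfl

lemma extAdj_mk₀ (A : C) (F : D) (φ : A ⟶ R.obj F) :
    extAdj adj A F 0 (Ext.mk₀ φ) = Ext.mk₀ ((adj.homEquiv A F).symm φ) := by
  rw [extAdj_apply, Ext.mapExactFunctor_mk₀, Ext.mk₀_comp_mk₀, Adjunction.homEquiv_counit]

lemma extAdj_zero_bijective (A : C) (F : D) : Function.Bijective (extAdj adj A F 0) := by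
  constructor
  · intro x y h
    obtain ⟨φ, rfl⟩ := (Ext.mk₀_bijective _ _).2 x
    obtain ⟨ψ, rfl⟩ := (Ext.mk₀_bijective _ _).2 y
    rw [extAdj_mk₀, extAdj_mk₀] at h
    have := (Ext.mk₀_bijective _ _).1 h
    rw [(adj.homEquiv A F).symm.injective this]
  · intro y
    obtain ⟨ψ, rfl⟩ := (Ext.mk₀_bijective _ _).2 y
    refine ⟨Ext.mk₀ (adj.homEquiv A F ψ), ?_⟩
    rw [extAdj_mk₀, Equiv.symm_apply_apply]

lemma extAdj_naturality (A : C) {F G : D} (g : F ⟶ G) (n : ℕ) (e : Ext A (R.obj F) n) :
    extAdj adj A G n (e.comp (Ext.mk₀ (R.map g)) (add_zero n)) =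
      (extAdj adj A F n e).comp (Ext.mk₀ g) (add_zero n) := by
  rw [extAdj_apply, extAdj_apply, Ext.mapExactFunctor_comp, Ext.mapExactFunctor_mk₀,
    Ext.comp_assoc_of_third_deg_zero, Ext.comp_assoc_of_third_deg_zero, Ext.mk₀_comp_mk₀,
    Ext.mk₀_comp_mk₀]
  congr 2
  exact adj.counit.naturality g

set_option backward.isDefEq.respectTransparency.types false in
set_option backward.isDefEq.respectTransparency false in
lemma extAdj_extClass (A : C) {S : ShortComplex D} (hS : S.ShortExact)
    (hRS : (S.map R).ShortExact) (n : ℕ) (x : Ext A (R.obj S.X₃) n) :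
    extAdj adj A S.X₁ (n + 1) (x.comp hRS.extClass rfl) =
      (extAdj adj A S.X₃ n x).comp hS.extClass rfl := by
  rw [extAdj_apply, extAdj_apply, Ext.mapExactFunctor_comp, Ext.mapExactFunctor_extClass]
  let φ : (S.map R).map L ⟶ S :=
    { τ₁ := adj.counit.app S.X₁
      τ₂ := adj.counit.app S.X₂
      τ₃ := adj.counit.app S.X₃
      comm₁₂ := (adj.counit.naturality S.f).symm
      comm₂₃ := (adj.counit.naturality S.g).symm }
  have hnat := ShortComplex.ShortExact.extClass_naturality (hRS.map_of_exact L) hS φ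
  change ((hRS.map_of_exact L).extClass).comp (Ext.mk₀ (adj.counit.app S.X₁)) (add_zero 1) =
    (Ext.mk₀ (adj.counit.app S.X₃)).comp hS.extClass (zero_add 1) at hnat
  rw [Ext.comp_assoc_of_third_deg_zero, hnat, Ext.comp_assoc_of_second_deg_zero]

section Main

variable [EnoughInjectives D]

include adj in
lemma shortExact_map_R {S : ShortComplex D} (hS : S.ShortExact)
    (h1 : IsZero ((R.rightDerived 1).obj S.X₁)) : (S.map R).ShortExact := by
  haveI : PreservesFiniteLimits R := by
    have := adj.rightAdjoint_preservesLimits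
    infer_instance
  haveI := hS.mono_f
  obtain ⟨δ, w₀, w₁, w₂, e₀, e₁, e₂⟩ := rightDerived_les R hS 0
  haveI : Epi ((R.rightDerived 0).map S.g) := e₁.epi_f (h1.eq_of_tgt _ _)
  let e := R.rightDerivedZeroIsoSelf
  have hnat : R.map S.g = e.inv.app S.X₂ ≫ (R.rightDerived 0).map S.g ≫ e.hom.app S.X₃ := by
    rw [e.hom.naturality S.g, Iso.inv_hom_id_app_assoc]
  exact
    { exact := hS.exact.map_of_mono_of_preservesKernel R hS.mono_f inferInstance
      mono_f := inferInstanceAs (Mono (R.map S.f))
      epi_g := by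
        change Epi (R.map S.g)
        rw [hnat]
        infer_instance }

attribute [local instance] Ext.subsingleton_of_injective in
theorem extAdj_bijective (A : C) (n : ℕ) :
    ∀ (F : D), (∀ q, 0 < q → IsZero ((R.rightDerived q).obj F)) →
      Function.Bijective (extAdj adj A F n) := by
  induction n with
  | zero => exact fun F _ => extAdj_zero_bijective adj A F
  | succ n ih =>
    intro F hF
    let I : InjectivePresentation F := Classical.arbitrary _
    let S := ShortComplex.mk _ _ (cokernel.condition I.f)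
    have hS : S.ShortExact := { exact := ShortComplex.exact_cokernel I.f }
    haveI : Injective S.X₂ := I.injective
    have hRS : (S.map R).ShortExact := shortExact_map_R adj hS (hF 1 Nat.one_pos)
    haveI : Injective (S.map R).X₂ := adj.map_injective _ I.injective
    have hI : ∀ q, 0 < q → IsZero ((R.rightDerived q).obj S.X₂) := by
      intro q hq
      obtain ⟨m, rfl⟩ : ∃ m, q = m + 1 := ⟨q - 1, by omega⟩
      exact Functor.isZero_rightDerived_obj_injective_succ R m S.X₂
    have hsh := hasShift_rightDerived R S hS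
      (fun m => Functor.isZero_rightDerived_obj_injective_succ R m S.X₂)
    have hQ : ∀ q, 0 < q → IsZero ((R.rightDerived q).obj S.X₃) := by
      intro q hq
      obtain ⟨m, rfl⟩ : ∃ m, q = m + 1 := ⟨q - 1, by omega⟩
      obtain ⟨e⟩ := hsh.nonempty_iso_succ m
      exact (hF (m + 2) (by omega)).of_iso e
    exact AddMonoidHom.bijective_of_surjective_of_bijective_of_right_exact
      ((Ext.mk₀ (S.map R).g).postcomp A (add_zero n)) (hRS.extClass.postcomp A rfl)
      ((Ext.mk₀ S.g).postcomp (L.obj A) (add_zero n)) (hS.extClass.postcomp (L.obj A) rfl)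
      (extAdj adj A S.X₂ n) (extAdj adj A S.X₃ n) (extAdj adj A S.X₁ (n + 1))
      (by
        ext e
        exact (extAdj_naturality adj A S.g n e).symm)
      (by
        ext x
        exact (extAdj_extClass adj A hS hRS n x).symm)
      ((ShortComplex.ab_exact_iff_function_exact _).mp
        (Ext.covariant_sequence_exact₃' A hRS n (n + 1) rfl))
      ((ShortComplex.ab_exact_iff_function_exact _).mp
        (Ext.covariant_sequence_exact₃' (L.obj A) hS n (n + 1) rfl))
      (ih S.X₂ hI).surjective (ih S.X₃ hQ)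
      (fun x₁ ↦ Ext.covariant_sequence_exact₁ _ hRS x₁ (by subsingleton) rfl)
      (fun y₁ ↦ Ext.covariant_sequence_exact₁ _ hS y₁ (by subsingleton) rfl)

end Main

end Groth.Agent.Lib.Helper23.ExtAdj
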