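import Groth.Agent.Lib.Helper23.CountStrat
import Groth.Agent.Lib.Helper23.SpecIso2
import Groth.Agent.S0647
import Groth.Agent.S0648
import Groth.Agent.S0651
import Groth.Agent.S0652
import Groth.Agent.S0654

/-!
# Filtration of a constructible sheaf by extensions by zero
-/

set_option autoImplicit false
universe u

namespace Groth.Agent.Lib.Helper23.ExtFilt

open CategoryTheory CategoryTheory.Limits AlgebraicGeometry Opposite Topology EtCore
open Groth.Agent.Lib.Helper23.FlcLoc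

variable {X : Scheme.{u}}

section Basic

variable {U : Scheme.{u}} (a : U ⟶ X) [IsOpenImmersion a]

/-- restricting an extension by zero along an open immersion gives back the sheaf -/
noncomputable def pullExt (M : EtCoh.Ab U) :
    (EtCoh.pull a).obj ((EtShriek.extZero a).obj M) ≅ M :=
  haveI : IsIso ((EtShriek.extZeroAdj a).unit.app M) := (Groth.Agent.S0651.result a M).2
  (EtRestr.pullIsoRestr a).app _ ≪≫ (asIso ((EtShriek.extZeroAdj a).unit.app M)).symm

/-- a coproduct of zero objects is zero -/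
lemma isZero_sigma {C : Type*} [Category C] [HasZeroMorphisms C] {ι : Type*} (f : ι → C)
    [HasCoproduct f] (h : ∀ i, IsZero (f i)) : IsZero (∐ f) := by
  rw [IsZero.iff_id_eq_zero]
  apply Sigma.hom_ext
  intro i
  exact (h i).eq_of_src _ _

/-- the stalks of an extension by zero vanish outside the image -/
lemma isZero_stalk_extZero (M : EtCoh.Ab U) {Ω : Type u} [Field Ω] [IsSepClosed Ω]
    (ξ : Spec (CommRingCat.of Ω) ⟶ X) (hξ : ξ default ∉ Set.range a) :
    IsZero ((EtCoh.stalk ξ).obj ((EtShriek.extZero a).obj M)) := by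
  obtain ⟨e⟩ := Groth.Agent.S0647.result a M ξ
  refine IsZero.of_iso ?_ e
  haveI : IsEmpty {u : Spec (CommRingCat.of Ω) ⟶ U // u ≫ a = ξ} := by
    refine ⟨fun u => hξ ⟨u.1 default, ?_⟩⟩
    exact congrArg (fun k => k default) u.2
  exact isZero_sigma _ (fun i => isEmptyElim i)

/-- the stalks of an extension by zero of a sheaf with a zero stalk -/
lemma isZero_stalk_extZero_of_isZero (M : EtCoh.Ab U) {Ω : Type u} [Field Ω] [IsSepClosed Ω]
    (ξ : Spec (CommRingCat.of Ω) ⟶ X)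
    (h : ∀ u : Spec (CommRingCat.of Ω) ⟶ U, u ≫ a = ξ → IsZero ((EtCoh.stalk u).obj M)) :
    IsZero ((EtCoh.stalk ξ).obj ((EtShriek.extZero a).obj M)) := by
  obtain ⟨e⟩ := Groth.Agent.S0647.result a M ξ
  refine IsZero.of_iso ?_ e
  exact isZero_sigma _ (fun i => h i.1 i.2)

end Basic

section Nested

variable (F : EtCoh.Ab X) (O O' : X.Opens) (hOO' : O' ≤ O)

/-- the smaller open, inside the bigger one -/
abbrev inner : (O : Scheme.{u}).Opens := O.ι ⁻¹ᵁ O'

/-- the left term of the excision sequence on `O`, extended by zero to `X` -/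
noncomputable abbrev Lterm : EtCoh.Ab X :=
  (EtShriek.extZero O.ι).obj ((EtShriek.extZero (inner O O').ι).obj
    ((EtShriek.restrAlong (inner O O').ι).obj ((EtShriek.restrAlong O.ι).obj F)))

/-- the extension by zero of the restriction to an open -/
noncomputable abbrev EE (O : X.Opens) : EtCoh.Ab X :=
  (EtShriek.extZero O.ι).obj ((EtShriek.restrAlong O.ι).obj F)

include hOO' in
lemma range_inner : Set.range ((inner O O').ι ≫ O.ι) = (O' : Set X) := by
  rw [Scheme.Hom.comp_base, TopCat.coe_comp, Set.range_comp, Scheme.Opens.range_ι]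
  ext x
  constructor
  · rintro ⟨y, hy, rfl⟩
    exact hy
  · intro hx
    have h1 : x ∈ Set.range O.ι := by rw [Scheme.Opens.range_ι]; exact hOO' hx
    obtain ⟨y, rfl⟩ := h1
    exact ⟨y, hx, rfl⟩

include hOO' in
set_option maxHeartbeats 1600000 in
theorem nonempty_Lterm_iso : Nonempty (Lterm F O O' ≅ EE F O') := by
  let a := O.ι
  let b := (inner O O').ι
  let j := O'.ι
  apply Groth.Agent.S0652.result j ((EtShriek.restrAlong j).obj F) (Lterm F O O')
  · -- restriction
    have hr : Set.range j ⊆ Set.range (b ≫ a) := by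
      rw [range_inner O O' hOO', Scheme.Opens.range_ι]
    let e : (O' : Scheme.{u}) ⟶ (inner O O' : Scheme.{u}) := IsOpenImmersion.lift (b ≫ a) j hr
    have he : e ≫ (b ≫ a) = j := IsOpenImmersion.lift_fac _ _ _
    let N : EtCoh.Ab (inner O O' : Scheme.{u}) :=
      (EtShriek.restrAlong b).obj ((EtShriek.restrAlong a).obj F)
    let M : EtCoh.Ab (O : Scheme.{u}) := (EtShriek.extZero b).obj N
    have i1 : (EtShriek.restrAlong j).obj (Lterm F O O') ≅ (EtCoh.pull j).obj (Lterm F O O') :=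
      ((EtRestr.pullIsoRestr j).app _).symm
    have i2 : (EtCoh.pull j).obj (Lterm F O O') ≅
        (EtCoh.pull e).obj ((EtCoh.pull b).obj ((EtCoh.pull a).obj (Lterm F O O'))) :=
      (pullCongr he.symm).app _ ≪≫ (pullComp e (b ≫ a)).app _ ≪≫
        (EtCoh.pull e).mapIso ((pullComp b a).app _)
    have i3 : (EtCoh.pull e).obj ((EtCoh.pull b).obj ((EtCoh.pull a).obj (Lterm F O O'))) ≅
        (EtCoh.pull e).obj N :=
      (EtCoh.pull e).mapIso ((EtCoh.pull b).mapIso (pullExt a M) ≪≫ pullExt b N)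
    have i4 : N ≅ (EtCoh.pull b).obj ((EtCoh.pull a).obj F) :=
      ((EtRestr.pullIsoRestr b).app _).symm ≪≫
        (EtCoh.pull b).mapIso ((EtRestr.pullIsoRestr a).app F).symm
    have i5 : (EtCoh.pull e).obj ((EtCoh.pull b).obj ((EtCoh.pull a).obj F)) ≅
        (EtCoh.pull j).obj F :=
      ((pullCongr he.symm).app _ ≪≫ (pullComp e (b ≫ a)).app _ ≪≫
        (EtCoh.pull e).mapIso ((pullComp b a).app _)).symm
    exact ⟨i1 ≪≫ i2 ≪≫ i3 ≪≫ (EtCoh.pull e).mapIso i4 ≪≫ i5 ≪≫ (EtRestr.pullIsoRestr j).app F⟩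
  · -- vanishing stalks
    intro Ω _ _ ξ hξ
    apply isZero_stalk_extZero_of_isZero a
    intro u hu
    apply isZero_stalk_extZero b
    rintro ⟨v, hv⟩
    have h1 : ξ default ∈ Set.range j.base := by
      have h2 : ξ default = (b ≫ a) v := by
        rw [← hu]
        change a (u default) = a (b v)
        rw [hv]
      have h3 : (b ≫ a) v ∈ Set.range ((inner O O').ι ≫ O.ι) := ⟨v, rfl⟩
      rw [range_inner O O' hOO'] at h3
      rw [h2]
      change _ ∈ Set.range O'.ι
      rw [Scheme.Opens.range_ι]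
      exact h3
    exact hξ ⟨default, rfl⟩ h1

end Nested

section Step

/-- the data of one step of the filtration -/
def Step (A B : EtCoh.Ab X) : Prop :=
  ∃ (ι : A ⟶ B) (U W : Scheme.{u}) (j : U ⟶ X) (_ : IsOpenImmersion j) (c : W ⟶ U)
    (_ : IsClosedImmersion c) (G : EtCoh.Ab W)
    (π : B ⟶ (EtShriek.extZero j).obj ((EtCoh.push c).obj G)) (hz : ι ≫ π = 0),
    Topology.IsConstructible (Set.range (c ≫ j)) ∧ EtCoh.IsFiniteLocallyConstant G ∧
    (ShortComplex.mk ι π hz).ShortExact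

set_option maxHeartbeats 1600000 in
theorem step (F : EtCoh.Ab X) (O O' : X.Opens) (hOO' : O' ≤ O)
    (hcons : IsConstructible ((O : Set X) \ (O' : Set X)))
    (hflc : ∀ (W : Scheme.{u}) (q : W ⟶ X), IsImmersion q → IsReduced W →
      Set.range q = (O : Set X) \ (O' : Set X) → Strata.FlcAlong F q) :
    Step (EE F O') (EE F O) := by
  let U₁ : Scheme.{u} := O
  let a : U₁ ⟶ X := O.ι
  let H : EtCoh.Ab U₁ := (EtShriek.restrAlong a).obj F
  let O'' : U₁.Opens := inner O O'
  have hZ : IsClosed ((O'' : Set U₁)ᶜ) := O''.isOpen.isClosed_compl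
  obtain ⟨W, i, hi, hWred, hri⟩ := (Groth.Agent.S2285.result U₁ _ hZ.isLocallyClosed).1
  haveI := hi
  haveI := hWred
  haveI : IsClosedImmersion i := IsClosedImmersion.of_isPreimmersion i (by rw [hri]; exact hZ)
  have hU : (O'' : Set U₁) = (Set.range i.base)ᶜ := by
    change _ = (Set.range i)ᶜ
    rw [hri, compl_compl]
  obtain ⟨w, hSE⟩ := Groth.Agent.S0654.result i O'' hU H
  haveI := Groth.Agent.S0648.result a
  haveI : PreservesFiniteColimits (EtShriek.extZero a) := by
    haveI := (EtShriek.extZeroAdj a).leftAdjoint_preservesColimits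
    infer_instance
  haveI : (EtShriek.extZero a).Additive := Functor.additive_of_preserves_binary_products _
  have hSE' := hSE.map_of_exact (EtShriek.extZero a)
  obtain ⟨Φ⟩ := nonempty_Lterm_iso F O O' hOO'
  let f₀ := (EtShriek.extZeroAdj O''.ι).counit.app H
  let g₀ := (EtCoh.pullPushAdj i).unit.app H
  let ι : EE F O' ⟶ EE F O := Φ.inv ≫ (EtShriek.extZero a).map f₀
  let π : EE F O ⟶ (EtShriek.extZero a).obj ((EtCoh.push i).obj ((EtCoh.pull i).obj H)) :=
    (EtShriek.extZero a).map g₀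
  have hfg : (EtShriek.extZero a).map f₀ ≫ (EtShriek.extZero a).map g₀ = 0 := by
    rw [← Functor.map_comp, w, Functor.map_zero]
  have hz : ι ≫ π = 0 := by
    change (Φ.inv ≫ (EtShriek.extZero a).map f₀) ≫ (EtShriek.extZero a).map g₀ = 0
    rw [Category.assoc, hfg, comp_zero]
  have hq : Set.range (i ≫ a) = (O : Set X) \ (O' : Set X) := by
    rw [Scheme.Hom.comp_base, TopCat.coe_comp, Set.range_comp]
    change a '' (Set.range i) = _
    rw [hri]
    ext x
    constructor
    · rintro ⟨y, hy, rfl⟩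
      refine ⟨?_, hy⟩
      have h1 : a y ∈ Set.range O.ι := ⟨y, rfl⟩
      rwa [Scheme.Opens.range_ι] at h1
    · rintro ⟨hxO, hxO'⟩
      have h1 : x ∈ Set.range O.ι := by rw [Scheme.Opens.range_ι]; exact hxO
      obtain ⟨y, rfl⟩ := h1
      exact ⟨y, hxO', rfl⟩
  refine ⟨ι, U₁, W, a, inferInstance, i, inferInstance, (EtCoh.pull i).obj H, π, hz, ?_, ?_, ?_⟩
  · rw [hq]; exact hcons
  · have h1 : Strata.FlcAlong F (i ≫ a) := hflc W (i ≫ a) inferInstance hWred hq
    have e1 : (EtCoh.pull (i ≫ a)).obj F ≅ (EtCoh.pull i).obj H :=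
      (pullComp i a).app F ≪≫ (EtCoh.pull i).mapIso ((EtRestr.pullIsoRestr a).app F)
    exact Flc.flc_of_iso e1 h1
  · refine ShortComplex.shortExact_of_iso ?_ hSE'
    refine ShortComplex.isoMk Φ (Iso.refl _) (Iso.refl _) ?_ ?_
    · change Φ.hom ≫ (Φ.inv ≫ (EtShriek.extZero a).map f₀) = ((EtShriek.extZero a).map f₀) ≫ 𝟙 _
      rw [Category.comp_id, Iso.hom_inv_id_assoc]
    · change 𝟙 _ ≫ (EtShriek.extZero a).map g₀ = ((EtShriek.extZero a).map g₀) ≫ 𝟙 _
      rw [Category.comp_id, Category.id_comp]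

end Step

section Local

set_option backward.isDefEq.respectTransparency.types false in
set_option backward.isDefEq.respectTransparency false in
/-- being finite locally constant is local for the Zariski topology -/
lemma flc_of_open_nhds {W : Scheme.{u}} (G : EtCoh.Ab W)
    (h : ∀ t : W, ∃ N : W.Opens, t ∈ N ∧
      EtCoh.IsFiniteLocallyConstant ((EtCoh.pull N.ι).obj G)) :
    EtCoh.IsFiniteLocallyConstant G := by
  rw [flc_iff_locTriv]
  intro t
  obtain ⟨N, htN, hflc⟩ := h t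
  have htr : t ∈ Set.range N.ι := by rw [Scheme.Opens.range_ι]; exact htN
  obtain ⟨tN, htN'⟩ := htr
  obtain ⟨U₁, u₁, hu₁, hT⟩ := (flc_iff_locTriv _).1 hflc tN
  have hNe : EtCoh.etaleMP N.ι := (inferInstance : Etale N.ι)
  let NE : W.Etale := MorphismProperty.Over.mk ⊤ N.ι hNe
  obtain ⟨U', u', hu', hU'⟩ := exists_of_trans NE U₁ u₁
  refine ⟨U', u', ?_, hU' G hT⟩
  rw [hu', ← htN']
  change N.ι (U₁.hom u₁) = N.ι tN
  rw [hu₁]

open CountStrat in
/-- a sheaf adapted to strata saturated by `𝒰` is finite locally constant along every reduced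
immersion into a level set of the counting function -/
theorem flcAlong_of_cnt_eq (F : EtCoh.Ab X) {ι : Type} (T : ι → Scheme.{u}) (g : ∀ i, T i ⟶ X)
    (h1 : ∀ i, IsImmersion (g i)) (h4 : (⋃ i, Set.range (g i)) = Set.univ)
    (h5 : ∀ i, Strata.FlcAlong F (g i)) (𝒰 : Finset (Set X)) (h𝒰 : ∀ U ∈ 𝒰, IsOpen U)
    (hsat : ∀ i, Sat 𝒰 (Set.range (g i))) (r : ℕ)
    (W : Scheme.{u}) (q : W ⟶ X) [IsReduced W]
    (hq : Set.range q ⊆ {x : X | cnt 𝒰 x = r}) : Strata.FlcAlong F q := by
  apply flc_of_open_nhds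
  intro t
  have hx : q t ∈ ⋃ i, Set.range (g i) := by rw [h4]; trivial
  obtain ⟨i, hi⟩ := Set.mem_iUnion.1 hx
  haveI := h1 i
  let N : W.Opens := q ⁻¹ᵁ ⟨nb 𝒰 (q t), isOpen_nb 𝒰 h𝒰 (q t)⟩
  have htN : t ∈ N := mem_nb 𝒰 (q t)
  refine ⟨N, htN, ?_⟩
  have hr : Set.range (N.ι ≫ q) ⊆ Set.range (g i) := by
    rintro _ ⟨y, rfl⟩
    have hy1 : N.ι y ∈ Set.range N.ι := ⟨y, rfl⟩
    rw [Scheme.Opens.range_ι] at hy1
    have hy2 : q (N.ι y) ∈ nb 𝒰 (q t) := hy1
    have hc1 : cnt 𝒰 (q (N.ι y)) = r := hq ⟨_, rfl⟩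
    have hc2 : cnt 𝒰 (q t) = r := hq ⟨_, rfl⟩
    have htyp := typ_eq_of_mem_nb 𝒰 hy2 (by rw [hc1, hc2])
    exact (hsat i _ _ ((typ_eq_iff 𝒰).1 htyp)).2 hi
  obtain ⟨h, hh⟩ := ConstrNoeth.exists_lift_of_isReduced (N.ι ≫ q) (g i) hr
  have hfl : Strata.FlcAlong F (N.ι ≫ q) :=
    Strata.flcAlong_of_eq F hh (Strata.flcAlong_comp F (g i) h (h5 i))
  exact Flc.flc_of_iso ((pullComp N.ι q).app F) hfl

end Local

section Ends

set_option backward.isDefEq.respectTransparency.types false in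
set_option backward.isDefEq.respectTransparency false in
lemma nonempty_EE_top_iso (F : EtCoh.Ab X) : Nonempty (EE F (⊤ : X.Opens) ≅ F) := by
  obtain ⟨e⟩ := Groth.Agent.S0652.result (⊤ : X.Opens).ι
    ((EtShriek.restrAlong (⊤ : X.Opens).ι).obj F) F ⟨Iso.refl _⟩ (by
      intro Ω _ _ ξ hξ
      exfalso
      have h1 : ξ default ∈ Set.range ξ.base := ⟨default, rfl⟩
      have h2 : ξ default ∈ Set.range (⊤ : X.Opens).ι := by
        rw [Scheme.Opens.range_ι]; trivial
      exact hξ h1 h2)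
  exact ⟨e.symm⟩

lemma isZero_EE_of_empty (F : EtCoh.Ab X) (O : X.Opens) (hO : (O : Set X) = ∅) :
    IsZero (EE F O) := by
  apply Groth.Agent.S0622.isZero_of_stalks
  intro Ω _ _ ξ
  apply isZero_stalk_extZero
  rw [Scheme.Opens.range_ι, hO]
  exact Set.notMem_empty _

end Ends

end Groth.Agent.Lib.Helper23.ExtFilt
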