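import Mathlib.Algebra.Homology.DerivedCategory.Ext.Map
import Mathlib.Algebra.Homology.DerivedCategory.Ext.ExactSequences
import Mathlib.Algebra.Homology.DerivedCategory.Ext.EnoughInjectives

/-!
# Functoriality of `Ext.mapExactFunctor` in the functor (helper23)

`mapExactFunctor` is compatible with natural transformations of exact functors and with
composition of exact functors.  Proved by induction on the degree through injective presentations.
-/

set_option autoImplicit false

namespace Groth.Agent.Lib.Helper23.ExtFunct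

open CategoryTheory Limits Abelian

universe w w' w'' v v' v'' u u' u''

variable {C : Type u} [Category.{v} C] [Abelian C] [HasExt.{w} C] [EnoughInjectives C]
variable {D : Type u'} [Category.{v'} D] [Abelian D] [HasExt.{w'} D]
variable {E : Type u''} [Category.{v''} E] [Abelian E] [HasExt.{w''} E]

attribute [local instance] Ext.subsingleton_of_injective

/-- naturality of `mapExactFunctor` with respect to a natural transformation of exact functors -/
theorem mapExactFunctor_natTrans (F₁ F₂ : C ⥤ D) [F₁.Additive] [PreservesFiniteLimits F₁]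
    [PreservesFiniteColimits F₁] [F₂.Additive] [PreservesFiniteLimits F₂]
    [PreservesFiniteColimits F₂] (θ : F₁ ⟶ F₂) {X Y : C} {n : ℕ} (e : Ext.{w} X Y n) :
    (e.mapExactFunctor F₁).comp (Ext.mk₀ (θ.app Y)) (add_zero n) =
      (Ext.mk₀ (θ.app X)).comp (e.mapExactFunctor F₂) (zero_add n) := by
  induction n generalizing Y with
  | zero =>
    obtain ⟨f, rfl⟩ := (Ext.mk₀_bijective X Y).2 e
    rw [Ext.mapExactFunctor_mk₀, Ext.mapExactFunctor_mk₀, Ext.mk₀_comp_mk₀, Ext.mk₀_comp_mk₀,
      θ.naturality]
  | succ n ih =>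
    let I : InjectivePresentation Y := Classical.arbitrary _
    let S := ShortComplex.mk _ _ (cokernel.condition I.f)
    have : Injective S.X₂ := I.injective
    have hS : S.ShortExact := { exact := ShortComplex.exact_cokernel I.f }
    obtain ⟨e', rfl⟩ := Ext.covariant_sequence_exact₁ _ hS e (Subsingleton.elim _ _) rfl
    have hnat := ShortComplex.ShortExact.extClass_naturality (hS.map_of_exact F₁)
      (hS.map_of_exact F₂) (S.mapNatTrans θ)
    rw [Ext.mapExactFunctor_comp, Ext.mapExactFunctor_comp, Ext.mapExactFunctor_extClass,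
      Ext.mapExactFunctor_extClass, Ext.comp_assoc_of_third_deg_zero]
    refine (congrArg (fun t => (e'.mapExactFunctor F₁).comp t (rfl : n + 1 = n + 1)) hnat).trans ?_
    refine (Ext.comp_assoc_of_second_deg_zero (e'.mapExactFunctor F₁)
      (Ext.mk₀ (S.mapNatTrans θ).τ₃) (hS.map_of_exact F₂).extClass rfl).symm.trans ?_
    refine (congrArg (fun t => t.comp (hS.map_of_exact F₂).extClass (rfl : n + 1 = n + 1))
      (ih e')).trans ?_
    exact Ext.comp_assoc _ _ _ (zero_add n) rfl (by omega)

lemma comp_step (F : C ⥤ D) [F.Additive] [PreservesFiniteLimits F]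
    [PreservesFiniteColimits F] (G : D ⥤ E) [G.Additive] [PreservesFiniteLimits G]
    [PreservesFiniteColimits G] [PreservesFiniteLimits (F ⋙ G)]
    [PreservesFiniteColimits (F ⋙ G)] {X : C} {n : ℕ} (S : ShortComplex C) (hS : S.ShortExact)
    (e' : Ext.{w} X S.X₃ n)
    (ih : (e'.mapExactFunctor F).mapExactFunctor G = e'.mapExactFunctor (F ⋙ G)) :
    ((e'.comp hS.extClass rfl).mapExactFunctor F).mapExactFunctor G =
      (e'.comp hS.extClass rfl).mapExactFunctor (F ⋙ G) := by
  have hF : hS.extClass.mapExactFunctor F = (hS.map_of_exact F).extClass :=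
    Ext.mapExactFunctor_extClass F hS
  have hG : (hS.map_of_exact F).extClass.mapExactFunctor G =
      ((hS.map_of_exact F).map_of_exact G).extClass := Ext.mapExactFunctor_extClass G _
  have hFG : hS.extClass.mapExactFunctor (F ⋙ G) = (hS.map_of_exact (F ⋙ G)).extClass :=
    Ext.mapExactFunctor_extClass _ hS
  have key : (hS.extClass.mapExactFunctor F).mapExactFunctor G =
      hS.extClass.mapExactFunctor (F ⋙ G) := by
    rw [hFG]
    exact (congrArg (fun t => Ext.mapExactFunctor G t) hF).trans hG
  rw [Ext.mapExactFunctor_comp, Ext.mapExactFunctor_comp, Ext.mapExactFunctor_comp, ih, key]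

/-- `mapExactFunctor` along a composition of exact functors -/
theorem mapExactFunctor_mapExactFunctor (F : C ⥤ D) [F.Additive] [PreservesFiniteLimits F]
    [PreservesFiniteColimits F] (G : D ⥤ E) [G.Additive] [PreservesFiniteLimits G]
    [PreservesFiniteColimits G] [PreservesFiniteLimits (F ⋙ G)]
    [PreservesFiniteColimits (F ⋙ G)] {X Y : C} {n : ℕ} (e : Ext.{w} X Y n) :
    (e.mapExactFunctor F).mapExactFunctor G = e.mapExactFunctor (F ⋙ G) := by
  induction n generalizing Y with
  | zero =>
    obtain ⟨f, rfl⟩ := (Ext.mk₀_bijective X Y).2 e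
    rw [Ext.mapExactFunctor_mk₀, Ext.mapExactFunctor_mk₀, Ext.mapExactFunctor_mk₀]
    rfl
  | succ n ih =>
    let I : InjectivePresentation Y := Classical.arbitrary _
    let S := ShortComplex.mk _ _ (cokernel.condition I.f)
    have : Injective S.X₂ := I.injective
    have hS : S.ShortExact := { exact := ShortComplex.exact_cokernel I.f }
    obtain ⟨e', rfl⟩ := Ext.covariant_sequence_exact₁ _ hS e (Subsingleton.elim _ _) rfl
    exact comp_step F G S hS e' (ih e')

lemma id_step {X : C} {n : ℕ} (S : ShortComplex C) (hS : S.ShortExact)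
    (e' : Ext.{w} X S.X₃ n) (ih : e'.mapExactFunctor (𝟭 C) = e') :
    (e'.comp hS.extClass rfl).mapExactFunctor (𝟭 C) = e'.comp hS.extClass rfl := by
  have h1 : hS.extClass.mapExactFunctor (𝟭 C) = (hS.map_of_exact (𝟭 C)).extClass :=
    Ext.mapExactFunctor_extClass (𝟭 C) hS
  have h2 : hS.extClass.mapExactFunctor (𝟭 C) = hS.extClass := h1
  rw [Ext.mapExactFunctor_comp, ih, h2]

/-- `mapExactFunctor` along the identity functor -/
theorem mapExactFunctor_id {X Y : C} {n : ℕ} (e : Ext.{w} X Y n) :
    e.mapExactFunctor (𝟭 C) = e := by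
  induction n generalizing Y with
  | zero =>
    obtain ⟨f, rfl⟩ := (Ext.mk₀_bijective X Y).2 e
    rw [Ext.mapExactFunctor_mk₀]
    rfl
  | succ n ih =>
    let I : InjectivePresentation Y := Classical.arbitrary _
    let S := ShortComplex.mk _ _ (cokernel.condition I.f)
    have : Injective S.X₂ := I.injective
    have hS : S.ShortExact := { exact := ShortComplex.exact_cokernel I.f }
    obtain ⟨e', rfl⟩ := Ext.covariant_sequence_exact₁ _ hS e (Subsingleton.elim _ _) rfl
    exact id_step S hS e' (ih e')

end Groth.Agent.Lib.Helper23.ExtFunct
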