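import Groth.Agent.Lib.Helper23.FormalGlue3

/-!
# Lifting extensions by torsion modules along a flat map `R → S` with `R/I ≅ S/IS`
-/

universe u
open TensorProduct

namespace Helper23.EL

open Helper23.FG

variable {R S : Type u} [CommRing R] [CommRing S] [Algebra R S] {I : Ideal R}

theorem pow_smul_eq_zero_of_torsion {t : ℕ} (f : Fin t → R) (hI : Ideal.span (Set.range f) = I)
    {M : Type u} [AddCommGroup M] [Module R M] (m : M) (hm : m ∈ torsI I M) (i : Fin t) :
    ∃ k : ℕ, f i ^ k • m = 0 := by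
  obtain ⟨n, hn⟩ := hm
  refine ⟨n, hn _ (Ideal.pow_mem_pow ?_ n)⟩
  rw [← hI]
  exact Ideal.subset_span ⟨i, rfl⟩

/-- The quotient by the torsion submodule is torsion free. -/
theorem mem_torsI_of_mkQ_mem {t : ℕ} (f : Fin t → R) (hI : Ideal.span (Set.range f) = I)
    {X : Type u} [AddCommGroup X] [Module R X] (x : X)
    (hx : (torsI I X).mkQ x ∈ torsI I (X ⧸ torsI I X)) : x ∈ torsI I X := by
  apply mem_torsI_of_pow_smul f hI
  intro i
  obtain ⟨k, hk⟩ := pow_smul_eq_zero_of_torsion f hI _ hx i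
  rw [← map_smul, Submodule.mkQ_apply, Submodule.Quotient.mk_eq_zero] at hk
  obtain ⟨k', hk'⟩ := pow_smul_eq_zero_of_torsion f hI _ hk i
  exact ⟨k' + k, by rw [pow_add, mul_smul]; exact hk'⟩

section flat

variable [Module.Flat R S] {t : ℕ} (f : Fin t → R) (hI : Ideal.span (Set.range f) = I)
variable (hq : Function.Bijective
  (Ideal.quotientMap (I.map (algebraMap R S)) (algebraMap R S) Ideal.le_comap_map))

include hI in
/-- Torsion freeness is preserved by flat base change. -/
theorem eq_zero_of_torsionFree {X : Type u} [AddCommGroup X] [Module R X]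
    (hX : ∀ x ∈ torsI I X, x = 0) (z : S ⊗[R] X) (hz : ∀ i, ∃ k : ℕ, f i ^ k • z = 0) : z = 0 := by
  have hinj : Function.Injective (rho f X) := by
    rw [← LinearMap.ker_eq_bot, eq_bot_iff]
    intro x hx
    exact (Submodule.mem_bot R).mpr (hX x (ker_rho_le f X hI hx))
  have hinjS : Function.Injective ((rho f X).lTensor S) :=
    Module.Flat.lTensor_preserves_injective_linearMap _ hinj
  apply hinjS
  rw [map_zero]
  apply (TensorProduct.piRight R R S
    (fun i : Fin t => LocalizedModule (Submonoid.powers (f i)) X)).injective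
  funext i
  rw [piRight_apply_eq, map_zero, ← LinearMap.comp_apply, ← LinearMap.lTensor_comp]
  have hproj : LinearMap.proj i ∘ₗ rho f X =
      LocalizedModule.mkLinearMap (Submonoid.powers (f i)) X := rfl
  rw [hproj]
  obtain ⟨k, hk⟩ := hz i
  apply smul_lTensor_injective (f i ^ k)
    (IsLocalizedModule.map_units (LocalizedModule.mkLinearMap (Submonoid.powers (f i)) X)
      (⟨f i ^ k, k, rfl⟩ : Submonoid.powers (f i)))
  show f i ^ k • _ = f i ^ k • _
  rw [← map_smul, hk, map_zero, Pi.zero_apply, smul_zero]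

include hI hq in
/-- Torsion commutes with flat base change (element form). -/
theorem exists_torsion_of_pow_smul {X : Type u} [AddCommGroup X] [Module R X]
    (z : S ⊗[R] X) (hz : ∀ i, ∃ k : ℕ, f i ^ k • z = 0) :
    ∃ τ ∈ torsI I X, (1 : S) ⊗ₜ[R] τ = z := by
  set T := torsI I X with hT
  have h0 : T.mkQ.lTensor S z = 0 := by
    apply eq_zero_of_torsionFree f hI (X := X ⧸ T)
    · intro y hy
      obtain ⟨x, rfl⟩ := T.mkQ_surjective y
      rw [Submodule.mkQ_apply, Submodule.Quotient.mk_eq_zero]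
      exact mem_torsI_of_mkQ_mem f hI x hy
    · intro i
      obtain ⟨k, hk⟩ := hz i
      exact ⟨k, by rw [← map_smul, hk, map_zero]⟩
  have hex : Function.Exact (T.subtype.lTensor S) (T.mkQ.lTensor S) :=
    lTensor_exact S (LinearMap.exact_subtype_mkQ T) T.mkQ_surjective
  exact exists_of_mem_range_lTensor_torsI hq z ((hex z).mp h0)

end flat

section glue

variable [Module.Flat R S] {t : ℕ} (f : Fin t → R) (hI : Ideal.span (Set.range f) = I)
variable (hq : Function.Bijective
  (Ideal.quotientMap (I.map (algebraMap R S)) (algebraMap R S) Ideal.le_comap_map))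
variable {N : Type u} [AddCommGroup N] [Module R N]

include hI hq in
/-- Glueing of elements, with the cocycle condition phrased through the cokernel of `rho`. -/
theorem exists_glue' (x : S ⊗[R] N)
    (n : ∀ i : Fin t, LocalizedModule (Submonoid.powers (f i)) N)
    (hT : (LinearMap.range (rho f N)).mkQ n ∈
      torsI I ((∀ i : Fin t, LocalizedModule (Submonoid.powers (f i)) N) ⧸ LinearMap.range (rho f N)))
    (hE : (rho f N).lTensor S x = (1 : S) ⊗ₜ[R] n) :
    ∃ μ : N, (1 : S) ⊗ₜ[R] μ = x ∧ rho f N μ = n := by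
  have hQ0 : (1 : S) ⊗ₜ[R] ((LinearMap.range (rho f N)).mkQ n) = 0 := by
    have : (LinearMap.range (rho f N)).mkQ.lTensor S ((rho f N).lTensor S x) = 0 := by
      rw [← LinearMap.comp_apply, ← LinearMap.lTensor_comp, LinearMap.range_mkQ_comp,
        LinearMap.lTensor_zero, LinearMap.zero_apply]
    rw [hE, LinearMap.lTensor_tmul] at this
    exact this
  have hh0 := eq_zero_of_mem_torsI_of_tmul_eq_zero hq _ hT hQ0
  rw [Submodule.mkQ_apply, Submodule.Quotient.mk_eq_zero] at hh0
  obtain ⟨μ0, hμ0⟩ := hh0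
  have hz : (rho f N).lTensor S (x - (1 : S) ⊗ₜ[R] μ0) = 0 := by
    rw [map_sub, hE, LinearMap.lTensor_tmul, hμ0, sub_self]
  have hex := Module.Flat.lTensor_exact S (LinearMap.exact_subtype_ker_map (rho f N))
  obtain ⟨w, hw⟩ := (hex _).mp hz
  have hbij : Function.Bijective (TensorProduct.mk R S (LinearMap.ker (rho f N)) 1) :=
    mk_bijective_of_torsion hq (fun κ => by
      obtain ⟨n, hn⟩ := ker_rho_le f N hI κ.2
      exact ⟨n, fun a ha => Subtype.ext (hn a ha)⟩)
  obtain ⟨κ, rfl⟩ := hbij.2 w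
  refine ⟨μ0 + κ.1, ?_, ?_⟩
  · have : (1 : S) ⊗ₜ[R] (κ : N) = x - (1 : S) ⊗ₜ[R] μ0 := by
      rw [← hw]; simp
    rw [TensorProduct.tmul_add, this, add_sub_cancel]
  · rw [map_add, hμ0, LinearMap.mem_ker.mp κ.2, add_zero]

end glue

section smulSurj

variable {L : Type u} [AddCommGroup L] [Module R L]

theorem smul_lTensor_surjective (r : R) (hr : IsUnit (algebraMap R (Module.End R L) r)) :
    Function.Surjective (fun z : S ⊗[R] L => r • z) := by
  obtain ⟨u, hu⟩ := hr
  have huinv : ∀ y : L, r • ((↑u⁻¹ : Module.End R L) y) = y := by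
    intro y
    have h1 : r • ((↑u⁻¹ : Module.End R L) y) = (↑u : Module.End R L) ((↑u⁻¹ : Module.End R L) y) := by
      rw [hu]; rfl
    rw [h1, ← Module.End.mul_apply, Units.mul_inv, Module.End.one_apply]
  intro z
  refine ⟨(↑u⁻¹ : Module.End R L).lTensor S z, ?_⟩
  show r • (↑u⁻¹ : Module.End R L).lTensor S z = z
  induction z using TensorProduct.induction_on with
  | zero => simp
  | tmul s y => rw [LinearMap.lTensor_tmul, ← TensorProduct.tmul_smul, huinv]
  | add a b ha hb => rw [map_add, smul_add, ha, hb]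

end smulSurj

section main

variable {t : ℕ} (f : Fin t → R)
variable {N M : Type u} [AddCommGroup N] [Module R N] [AddCommGroup M] [Module R M]
variable {E' : Type u} [AddCommGroup E'] [Module R E']
  (iR : S ⊗[R] N →ₗ[R] E') (pR : E' →ₗ[R] S ⊗[R] M)

/-- The product of the localizations. -/
abbrev PP (f : Fin t → R) (N : Type u) [AddCommGroup N] [Module R N] : Type u :=
  ∀ i : Fin t, LocalizedModule (Submonoid.powers (f i)) N

/-- `e` and `n` agree in the `i`-th localization. -/
def Compat (i : Fin t) (e : E') (n : LocalizedModule (Submonoid.powers (f i)) N) : Prop :=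
  ∃ (k : ℕ) (x : S ⊗[R] N), f i ^ k • e = iR x ∧
    (LocalizedModule.mkLinearMap (Submonoid.powers (f i)) N).lTensor S x =
      f i ^ k • ((1 : S) ⊗ₜ[R] n)

theorem compat_zero (i : Fin t) : Compat f iR i 0 0 :=
  ⟨0, 0, by simp, by simp⟩

theorem compat_add (i : Fin t) {e₁ e₂ : E'} {n₁ n₂ : LocalizedModule (Submonoid.powers (f i)) N}
    (h₁ : Compat f iR i e₁ n₁) (h₂ : Compat f iR i e₂ n₂) : Compat f iR i (e₁ + e₂) (n₁ + n₂) := by
  obtain ⟨k₁, x₁, h11, h12⟩ := h₁
  obtain ⟨k₂, x₂, h21, h22⟩ := h₂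
  refine ⟨k₁ + k₂, f i ^ k₂ • x₁ + f i ^ k₁ • x₂, ?_, ?_⟩
  · rw [smul_add, map_add, map_smul, map_smul, ← h11, ← h21, smul_smul, smul_smul, ← pow_add,
      ← pow_add, add_comm k₂ k₁]
  · rw [map_add, map_smul, map_smul, h12, h22, TensorProduct.tmul_add, smul_add, smul_smul,
      smul_smul, ← pow_add, ← pow_add, add_comm k₂ k₁]

theorem compat_smul (i : Fin t) (c : R) {e : E'} {n : LocalizedModule (Submonoid.powers (f i)) N}
    (h : Compat f iR i e n) : Compat f iR i (c • e) (c • n) := by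
  obtain ⟨k, x, h1, h2⟩ := h
  refine ⟨k, c • x, ?_, ?_⟩
  · rw [map_smul, ← h1, smul_comm]
  · rw [map_smul, h2, TensorProduct.tmul_smul, smul_comm]

variable (I) in
/-- The glued extension module, as a submodule of `E' × ∏ N_{f_i}`. -/
def glued : Submodule R (E' × PP f N) where
  carrier := {y | (LinearMap.range (rho f N)).mkQ y.2 ∈
      torsI I (PP f N ⧸ LinearMap.range (rho f N)) ∧ ∀ i, Compat f iR i y.1 (y.2 i)}
  zero_mem' := ⟨by simp only [Prod.snd_zero, map_zero]; exact zero_mem _,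
    fun i => compat_zero f iR i⟩
  add_mem' := by
    rintro x y ⟨hx1, hx2⟩ ⟨hy1, hy2⟩
    refine ⟨?_, fun i => compat_add f iR i (hx2 i) (hy2 i)⟩
    simp only [Prod.snd_add, map_add]
    exact add_mem hx1 hy1
  smul_mem' := by
    rintro c x ⟨hx1, hx2⟩
    refine ⟨?_, fun i => compat_smul f iR i c (hx2 i)⟩
    simp only [Prod.smul_snd, map_smul]
    exact Submodule.smul_mem _ c hx1

theorem mem_glued (y : E' × PP f N) : y ∈ glued I f iR ↔
    (LinearMap.range (rho f N)).mkQ y.2 ∈ torsI I (PP f N ⧸ LinearMap.range (rho f N)) ∧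
      ∀ i, Compat f iR i y.1 (y.2 i) := Iff.rfl

/-- Equality in `S ⊗ ∏ N_{f_i}` can be checked componentwise. -/
theorem ext_SP {z₁ z₂ : S ⊗[R] PP f N}
    (h : ∀ i, (LinearMap.proj i).lTensor S z₁ = (LinearMap.proj i).lTensor S z₂) : z₁ = z₂ := by
  apply (TensorProduct.piRight R R S
    (fun i : Fin t => LocalizedModule (Submonoid.powers (f i)) N)).injective
  funext i
  rw [piRight_apply_eq, piRight_apply_eq]
  exact h i

theorem proj_lTensor_rho (i : Fin t) (x : S ⊗[R] N) :
    (LinearMap.proj i).lTensor S ((rho f N).lTensor S x) =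
      (LocalizedModule.mkLinearMap (Submonoid.powers (f i)) N).lTensor S x := by
  rw [← LinearMap.comp_apply, ← LinearMap.lTensor_comp]
  rfl

theorem isUnit_pow (i : Fin t) (k : ℕ) :
    IsUnit (algebraMap R (Module.End R (LocalizedModule (Submonoid.powers (f i)) N)) (f i ^ k)) :=
  IsLocalizedModule.map_units (LocalizedModule.mkLinearMap (Submonoid.powers (f i)) N)
    (⟨f i ^ k, k, rfl⟩ : Submonoid.powers (f i))

end main

section thm

variable [Module.Flat R S] {t : ℕ} (f : Fin t → R) (hI : Ideal.span (Set.range f) = I)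
variable (hq : Function.Bijective
  (Ideal.quotientMap (I.map (algebraMap R S)) (algebraMap R S) Ideal.le_comap_map))
variable {N M : Type u} [AddCommGroup N] [Module R N] [AddCommGroup M] [Module R M]
variable (hM : ∀ m : M, ∃ n : ℕ, ∀ a ∈ I ^ n, a • m = 0)
variable {E' : Type u} [AddCommGroup E'] [Module R E']
  (iR : S ⊗[R] N →ₗ[R] E') (pR : E' →ₗ[R] S ⊗[R] M)
  (hi : Function.Injective iR) (hp : Function.Surjective pR)
  (hex : LinearMap.range iR = LinearMap.ker pR)

include hI hq hM hi hp hex in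
theorem exists_extension :
    ∃ (i : N →ₗ[R] glued I f iR) (p : glued I f iR →ₗ[R] M),
      Function.Injective i ∧ Function.Surjective p ∧ LinearMap.range i = LinearMap.ker p ∧
      (∀ n : N, (i n).1.1 = iR ((1 : S) ⊗ₜ[R] n)) ∧
      (∀ e : glued I f iR, pR e.1.1 = (1 : S) ⊗ₜ[R] p e) := by
  let μM : M ≃ₗ[R] S ⊗[R] M :=
    LinearEquiv.ofBijective (TensorProduct.mk R S M 1) (mk_bijective_of_torsion hq hM)
  have hμM : ∀ m, μM m = (1 : S) ⊗ₜ[R] m := fun m => rfl
  have hpi : ∀ x, pR (iR x) = 0 := by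
    intro x
    have : iR x ∈ LinearMap.ker pR := by rw [← hex]; exact ⟨x, rfl⟩
    exact this
  let i : N →ₗ[R] glued I f iR :=
    LinearMap.codRestrict (glued I f iR)
      (LinearMap.prod (iR ∘ₗ TensorProduct.mk R S N 1) (rho f N)) (fun n => by
        refine ⟨?_, fun j => ⟨0, (1 : S) ⊗ₜ[R] n, ?_, ?_⟩⟩
        · have : (LinearMap.range (rho f N)).mkQ (rho f N n) = 0 := by
            rw [Submodule.mkQ_apply, Submodule.Quotient.mk_eq_zero]
            exact ⟨n, rfl⟩
          show (LinearMap.range (rho f N)).mkQ (rho f N n) ∈ _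
          rw [this]
          exact zero_mem _
        · simp
        · simp [rho_apply])
  let p : glued I f iR →ₗ[R] M :=
    μM.symm.toLinearMap ∘ₗ pR ∘ₗ LinearMap.fst R E' (PP f N) ∘ₗ (glued I f iR).subtype
  have hi1 : ∀ n : N, (i n).1.1 = iR ((1 : S) ⊗ₜ[R] n) := fun n => rfl
  have hi2 : ∀ n : N, (i n).1.2 = rho f N n := fun n => rfl
  have hpe : ∀ e : glued I f iR, pR e.1.1 = (1 : S) ⊗ₜ[R] p e := by
    intro e
    rw [← hμM]
    simp only [p, LinearMap.comp_apply, LinearEquiv.coe_coe, LinearEquiv.apply_symm_apply]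
    rfl
  refine ⟨i, p, ?_, ?_, ?_, hi1, hpe⟩
  · -- injectivity
    rw [injective_iff_map_eq_zero]
    intro n hn
    have h1 : iR ((1 : S) ⊗ₜ[R] n) = 0 := by rw [← hi1, hn]; rfl
    have h2 : rho f N n = 0 := by rw [← hi2, hn]; rfl
    exact eq_zero_of_rho_eq_zero f hI hq n (hi (h1.trans (map_zero iR).symm)) h2
  · -- surjectivity
    intro m
    obtain ⟨e', he'⟩ := hp ((1 : S) ⊗ₜ[R] m)
    obtain ⟨k, hk⟩ := hM m
    have hfk : ∀ j, f j ^ k • m = 0 := fun j => hk _ (Ideal.pow_mem_pow (by
      rw [← hI]; exact Ideal.subset_span ⟨j, rfl⟩) k)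
    have hx : ∀ j, ∃ x : S ⊗[R] N, iR x = f j ^ k • e' := by
      intro j
      have : f j ^ k • e' ∈ LinearMap.range iR := by
        rw [hex, LinearMap.mem_ker, map_smul, he', ← TensorProduct.tmul_smul, hfk,
          TensorProduct.tmul_zero]
      exact this
    choose x hx using hx
    have hξ : ∀ j, ∃ ξ : S ⊗[R] LocalizedModule (Submonoid.powers (f j)) N,
        f j ^ k • ξ = (LocalizedModule.mkLinearMap (Submonoid.powers (f j)) N).lTensor S (x j) :=
      fun j => smul_lTensor_surjective (f j ^ k) (isUnit_pow f j k) _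
    choose ξc hξc using hξ
    set ξ : S ⊗[R] PP f N := (TensorProduct.piRight R R S
      (fun i : Fin t => LocalizedModule (Submonoid.powers (f i)) N)).symm ξc with hξdef
    have hξi : ∀ j, (LinearMap.proj j).lTensor S ξ = ξc j := by
      intro j
      rw [← piRight_apply_eq, hξdef, LinearEquiv.apply_symm_apply]
    have hxx : ∀ a b, f a ^ k • x b = f b ^ k • x a := by
      intro a b
      apply hi
      rw [map_smul, map_smul, hx, hx, smul_comm]
    have hA : ∀ a, f a ^ k • ξ = (rho f N).lTensor S (x a) := by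
      intro a
      apply ext_SP f
      intro b
      rw [map_smul, hξi, proj_lTensor_rho]
      apply smul_lTensor_injective (f b ^ k) (isUnit_pow f b k)
      show f b ^ k • f a ^ k • ξc b = f b ^ k • _
      rw [smul_comm, hξc, ← map_smul, ← map_smul, hxx]
    set Q := PP f N ⧸ LinearMap.range (rho f N) with hQ
    set ξbar : S ⊗[R] Q := (LinearMap.range (rho f N)).mkQ.lTensor S ξ with hξbar
    have hξbar0 : ∀ a, ∃ k' : ℕ, f a ^ k' • ξbar = 0 := by
      intro a
      refine ⟨k, ?_⟩
      rw [hξbar, ← map_smul, hA, ← LinearMap.comp_apply, ← LinearMap.lTensor_comp,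
        LinearMap.range_mkQ_comp, LinearMap.lTensor_zero, LinearMap.zero_apply]
    obtain ⟨τ, hτ, hτξ⟩ := exists_torsion_of_pow_smul f hI hq ξbar hξbar0
    obtain ⟨h, rfl⟩ := (LinearMap.range (rho f N)).mkQ_surjective τ
    have hexQ : Function.Exact ((rho f N).lTensor S) ((LinearMap.range (rho f N)).mkQ.lTensor S) :=
      lTensor_exact S (LinearMap.exact_map_mkQ_range (rho f N))
        (LinearMap.range (rho f N)).mkQ_surjective
    have hker : (LinearMap.range (rho f N)).mkQ.lTensor S (ξ - (1 : S) ⊗ₜ[R] h) = 0 := by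
      rw [map_sub, LinearMap.lTensor_tmul, hτξ, sub_self]
    obtain ⟨x', hx'⟩ := (hexQ _).mp hker
    have hmem : ((e' - iR x', h) : E' × PP f N) ∈ glued I f iR := by
      refine ⟨hτ, fun j => ⟨k, x j - f j ^ k • x', ?_, ?_⟩⟩
      · show f j ^ k • (e' - iR x') = _
        rw [smul_sub, map_sub, map_smul, hx]
      · show _ = f j ^ k • ((1 : S) ⊗ₜ[R] h j)
        have e1 : (LinearMap.proj j).lTensor S ((rho f N).lTensor S x') =
            ξc j - (1 : S) ⊗ₜ[R] h j := by
          rw [hx', map_sub, hξi, LinearMap.lTensor_tmul]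
          rfl
        rw [map_sub, map_smul, ← hξc, ← proj_lTensor_rho, e1, smul_sub, sub_sub_cancel]
    refine ⟨⟨(e' - iR x', h), hmem⟩, ?_⟩
    show μM.symm (pR (e' - iR x')) = m
    rw [map_sub, hpi, sub_zero, he', LinearEquiv.symm_apply_eq, hμM]
  · -- exactness
    apply le_antisymm
    · rintro _ ⟨n, rfl⟩
      rw [LinearMap.mem_ker]
      show μM.symm (pR (i n).1.1) = 0
      rw [hi1, hpi, map_zero]
    · intro e he
      have he0 : pR e.1.1 = 0 := by
        rw [hpe, (LinearMap.mem_ker.mp he), TensorProduct.tmul_zero]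
      have hmem : e.1.1 ∈ LinearMap.range iR := by rw [hex]; exact he0
      obtain ⟨x₀, hx₀⟩ := hmem
      obtain ⟨hT, hC⟩ := e.2
      have hE : (rho f N).lTensor S x₀ = (1 : S) ⊗ₜ[R] e.1.2 := by
        apply ext_SP f
        intro j
        rw [proj_lTensor_rho, LinearMap.lTensor_tmul]
        obtain ⟨k, x, h1, h2⟩ := hC j
        have hxx : x = f j ^ k • x₀ := by
          apply hi
          rw [map_smul, hx₀, h1]
        apply smul_lTensor_injective (f j ^ k) (isUnit_pow f j k)
        show f j ^ k • _ = f j ^ k • _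
        rw [← map_smul, ← hxx, h2]
        rfl
      obtain ⟨μ, hμ1, hμ2⟩ := exists_glue' f hI hq x₀ e.1.2 hT hE
      refine ⟨μ, ?_⟩
      apply Subtype.ext
      apply Prod.ext
      · rw [hi1, hμ1, hx₀]
      · rw [hi2, hμ2]

end thm

end Helper23.EL
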