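import Mathlib.Algebra.Homology.DerivedCategory.Ext.Map
import Mathlib.Algebra.Homology.DerivedCategory.Ext.ExactSequences
import Mathlib.Algebra.Homology.DerivedCategory.Ext.EnoughInjectives

/-!
# Naturality of the map on `Ext` induced by exact functors

* `ext_induction`: induction principle on `Ext` classes in a category with enough injectives
  (degree zero classes and compositions with extension classes).
* `mapExactFunctor_natTrans`: naturality of `Ext.mapExactFunctor` with respect to natural
  transformations of exact functors.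
* `mapExactFunctor_comp_functor`, `mapExactFunctor_id`.
* `extAdjEquiv`: for an adjunction `L ⊣ R` of exact functors, `Ext^n(L A, F) ≃+ Ext^n(A, R F)`.
-/

set_option autoImplicit false

namespace Groth.Agent.Lib.Helper23.ExtNat

open CategoryTheory Limits Abelian

universe w w' w'' v v' v'' u u' u''

section Induction

variable {C : Type u} [Category.{v} C] [Abelian C] [HasExt.{w} C] [EnoughInjectives C]

attribute [local instance] Ext.subsingleton_of_injective in
/-- Induction principle for `Ext` classes (enough injectives): a property which holds for classes of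
degree zero and is stable under composition with extension classes holds for all classes. -/
theorem ext_induction {motive : ∀ {A B : C} {n : ℕ}, Ext.{w} A B n → Prop}
    (h0 : ∀ {A B : C} (φ : A ⟶ B), motive (Ext.mk₀ φ))
    (hS : ∀ {A : C} {n : ℕ} (S : ShortComplex C) (hS : S.ShortExact) (y : Ext.{w} A S.X₃ n),
      motive y → motive (y.comp hS.extClass rfl))
    {A B : C} {n : ℕ} (e : Ext.{w} A B n) : motive e := by
  induction n generalizing B with
  | zero =>
    obtain ⟨φ, rfl⟩ := (Ext.mk₀_bijective A B).2 e
    exact h0 φ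
  | succ n ih =>
    let I : InjectivePresentation B := Classical.arbitrary _
    let S := ShortComplex.mk _ _ (cokernel.condition I.f)
    have hSe : S.ShortExact := { exact := ShortComplex.exact_cokernel I.f }
    have : Injective S.X₂ := I.injective
    obtain ⟨y, hy⟩ := Ext.covariant_sequence_exact₁ A hSe e (by subsingleton) rfl
    rw [← hy]
    exact hS S hSe y (ih y)

end Induction

section NatTrans

variable {C : Type u} [Category.{v} C] [Abelian C] [HasExt.{w} C] [EnoughInjectives C]
  {D : Type u'} [Category.{v'} D] [Abelian D] [HasExt.{w'} D]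
  (G₁ G₂ : C ⥤ D) [G₁.Additive] [PreservesFiniteLimits G₁] [PreservesFiniteColimits G₁]
  [G₂.Additive] [PreservesFiniteLimits G₂] [PreservesFiniteColimits G₂] (τ : G₁ ⟶ G₂)

omit [EnoughInjectives C] in
lemma extClass_natTrans {S : ShortComplex C} (hS : S.ShortExact) :
    (hS.extClass.mapExactFunctor G₁).comp (Ext.mk₀ (τ.app S.X₁)) (add_zero 1) =
      (Ext.mk₀ (τ.app S.X₃)).comp (hS.extClass.mapExactFunctor G₂) (zero_add 1) := by
  rw [Ext.mapExactFunctor_extClass, Ext.mapExactFunctor_extClass]
  exact ShortComplex.ShortExact.extClass_naturality (hS.map_of_exact G₁)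
    (hS.map_of_exact G₂) (S.mapNatTrans τ)

/-- naturality of `mapExactFunctor` in the exact functor -/
theorem mapExactFunctor_natTrans {A B : C} {n : ℕ} (e : Ext.{w} A B n) :
    (e.mapExactFunctor G₁).comp (Ext.mk₀ (τ.app B)) (add_zero n) =
      (Ext.mk₀ (τ.app A)).comp (e.mapExactFunctor G₂) (zero_add n) := by
  refine ext_induction
    (motive := fun {A B n} (e : Ext.{w} A B n) =>
      (e.mapExactFunctor G₁).comp (Ext.mk₀ (τ.app B)) (add_zero n) =
        (Ext.mk₀ (τ.app A)).comp (e.mapExactFunctor G₂) (zero_add n)) ?_ ?_ e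
  · intro A B φ
    rw [Ext.mapExactFunctor_mk₀, Ext.mapExactFunctor_mk₀, Ext.mk₀_comp_mk₀, Ext.mk₀_comp_mk₀,
      τ.naturality]
  · intro A n S hS y ih
    rw [Ext.mapExactFunctor_comp, Ext.mapExactFunctor_comp,
      Ext.comp_assoc_of_third_deg_zero, extClass_natTrans G₁ G₂ τ hS,
      ← Ext.comp_assoc_of_second_deg_zero, ih]
    exact Ext.comp_assoc _ _ _ (zero_add n) rfl (by omega)

end NatTrans

section Comp

variable {C : Type u} [Category.{v} C] [Abelian C] [HasExt.{w} C] [EnoughInjectives C]
  {D : Type u'} [Category.{v'} D] [Abelian D] [HasExt.{w'} D]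
  {E : Type u''} [Category.{v''} E] [Abelian E] [HasExt.{w''} E]
  (G : C ⥤ D) [G.Additive] [PreservesFiniteLimits G] [PreservesFiniteColimits G]
  (H : D ⥤ E) [H.Additive] [PreservesFiniteLimits H] [PreservesFiniteColimits H]
  [PreservesFiniteLimits (G ⋙ H)] [PreservesFiniteColimits (G ⋙ H)]

omit [EnoughInjectives C] in
lemma extClass_comp_functor {S : ShortComplex C} (hS : S.ShortExact) :
    hS.extClass.mapExactFunctor (G ⋙ H) =
      (hS.extClass.mapExactFunctor G).mapExactFunctor H := by
  have h1 := Ext.mapExactFunctor_extClass (G ⋙ H) hS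
  have h2 := Ext.mapExactFunctor_extClass G hS
  have h3 := Ext.mapExactFunctor_extClass H (hS.map_of_exact G)
  rw [h1, h2]
  exact h3.symm

/-- `mapExactFunctor` of a composition of exact functors -/
theorem mapExactFunctor_comp_functor {A B : C} {n : ℕ} (e : Ext.{w} A B n) :
    e.mapExactFunctor (G ⋙ H) = (e.mapExactFunctor G).mapExactFunctor H := by
  refine ext_induction
    (motive := fun {A B n} (e : Ext.{w} A B n) =>
      e.mapExactFunctor (G ⋙ H) = (e.mapExactFunctor G).mapExactFunctor H) ?_ ?_ e
  · intro A B φ
    rw [Ext.mapExactFunctor_mk₀, Ext.mapExactFunctor_mk₀, Ext.mapExactFunctor_mk₀]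
    rfl
  · intro A n S hS y ih
    rw [Ext.mapExactFunctor_comp, Ext.mapExactFunctor_comp, Ext.mapExactFunctor_comp, ih,
      extClass_comp_functor G H hS]

omit [EnoughInjectives C] in
lemma extClass_id {S : ShortComplex C} (hS : S.ShortExact) :
    hS.extClass.mapExactFunctor (𝟭 C) = hS.extClass := by
  rw [Ext.mapExactFunctor_extClass]
  rfl

/-- `mapExactFunctor` of the identity functor -/
theorem mapExactFunctor_id {A B : C} {n : ℕ} (e : Ext.{w} A B n) :
    e.mapExactFunctor (𝟭 C) = e := by
  refine ext_induction
    (motive := fun {A B n} (e : Ext.{w} A B n) => e.mapExactFunctor (𝟭 C) = e) ?_ ?_ e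
  · intro A B φ
    rw [Ext.mapExactFunctor_mk₀]
    rfl
  · intro A n S hS y ih
    rw [Ext.mapExactFunctor_comp, ih, extClass_id hS]

end Comp

end Groth.Agent.Lib.Helper23.ExtNat
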