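import Groth.Agent.Lib.Helper23.ExtNat
import Groth.Agent.Lib.Helper23.ExtAdj
import Mathlib.CategoryTheory.Adjunction.Unique

/-!
# `Ext` and adjoint pairs of exact functors ("restriction contexts")

For an adjunction `L ⊣ R` of exact functors (think `L = j_!`, `R = j^*` for an open immersion `j`):

* `extAdj_bijective_of_exact`: `Ext^n(A, R F) → Ext^n(L A, F)` is bijective;
* `extAdj_hp`: the "pullback map" `e ↦ c⁻¹ ≫ R(e)` on `Ext(𝟙_X, F)` corresponds to precomposition
  with `ε : L 𝟙_U → 𝟙_X`;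
* `extAdj_hpVia`: the relative pullback map corresponds to precomposition with `ρ : L_W 𝟙_W → L 𝟙_U`;
* `rho_eps`: `ρ ≫ ε = ε_W` when the trivialisations of the unit objects are compatible;
* `rho_eq`: `ρ` is `L` applied to the relative `ε'` up to the canonical iso `L_W ≅ L' ⋙ L`.
-/

set_option autoImplicit false
set_option backward.isDefEq.respectTransparency false

namespace Groth.Agent.Lib.Helper23.ExtRestr

open CategoryTheory Limits Abelian
open Groth.Agent.Lib.Helper23.ExtNat Groth.Agent.Lib.Helper23.ExtAdj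

universe w w' w'' v v' v'' u u' u''

section Adj

variable {C : Type u} [Category.{v} C] [Abelian C] [HasExt.{w} C] [EnoughInjectives C]
  {D : Type u'} [Category.{v'} D] [Abelian D] [HasExt.{w'} D] [EnoughInjectives D]
  {L : C ⥤ D} {R : D ⥤ C} (adj : L ⊣ R)
  [L.Additive] [PreservesFiniteLimits L] [PreservesFiniteColimits L]
  [R.Additive] [PreservesFiniteLimits R] [PreservesFiniteColimits R]

/-- the inverse of `extAdj` for exact adjoint pairs -/
noncomputable def extAdjInv (A : C) (F : D) (n : ℕ) (x : Ext.{w'} (L.obj A) F n) :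
    Ext.{w} A (R.obj F) n :=
  (Ext.mk₀ (adj.unit.app A)).comp (x.mapExactFunctor R) (zero_add n)

/-- naturality of the counit on `Ext` classes -/
lemma map_map_comp_counit {A F : D} {n : ℕ} (x : Ext.{w'} A F n) :
    ((x.mapExactFunctor R).mapExactFunctor L).comp (Ext.mk₀ (adj.counit.app F)) (add_zero n) =
      (Ext.mk₀ (adj.counit.app A)).comp x (zero_add n) := by
  haveI : PreservesFiniteLimits (R ⋙ L) := comp_preservesFiniteLimits R L
  haveI : PreservesFiniteColimits (R ⋙ L) := comp_preservesFiniteColimits R L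
  have h := mapExactFunctor_natTrans (R ⋙ L) (𝟭 D) adj.counit x
  rw [mapExactFunctor_comp_functor, mapExactFunctor_id] at h
  exact h

/-- naturality of the unit on `Ext` classes -/
lemma unit_comp_map_map {A F : C} {n : ℕ} (y : Ext.{w} A F n) :
    (Ext.mk₀ (adj.unit.app A)).comp ((y.mapExactFunctor L).mapExactFunctor R) (zero_add n) =
      y.comp (Ext.mk₀ (adj.unit.app F)) (add_zero n) := by
  haveI : PreservesFiniteLimits (L ⋙ R) := comp_preservesFiniteLimits L R
  haveI : PreservesFiniteColimits (L ⋙ R) := comp_preservesFiniteColimits L R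
  have h := mapExactFunctor_natTrans (𝟭 C) (L ⋙ R) adj.unit y
  rw [mapExactFunctor_comp_functor, mapExactFunctor_id] at h
  exact h.symm

lemma extAdj_extAdjInv (A : C) (F : D) (n : ℕ) (x : Ext.{w'} (L.obj A) F n) :
    extAdj adj A F n (extAdjInv adj A F n x) = x := by
  rw [extAdj_apply, extAdjInv, Ext.mapExactFunctor_comp, Ext.mapExactFunctor_mk₀,
    Ext.comp_assoc_of_third_deg_zero, map_map_comp_counit, ← Ext.comp_assoc_of_second_deg_zero,
    Ext.mk₀_comp_mk₀, adj.left_triangle_components, Ext.mk₀_id_comp]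

lemma extAdjInv_extAdj (A : C) (F : D) (n : ℕ) (y : Ext.{w} A (R.obj F) n) :
    extAdjInv adj A F n (extAdj adj A F n y) = y := by
  rw [extAdj_apply, extAdjInv, Ext.mapExactFunctor_comp, Ext.mapExactFunctor_mk₀,
    ← Ext.comp_assoc_of_third_deg_zero, unit_comp_map_map, Ext.comp_assoc_of_third_deg_zero,
    Ext.mk₀_comp_mk₀, adj.right_triangle_components, Ext.comp_mk₀_id]

theorem extAdj_bijective_of_exact (A : C) (F : D) (n : ℕ) :
    Function.Bijective (extAdj adj A F n) :=
  Function.bijective_iff_has_inverse.2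
    ⟨extAdjInv adj A F n, extAdjInv_extAdj adj A F n, extAdj_extAdjInv adj A F n⟩

end Adj

section Basic

variable {C : Type u} [Category.{v} C] {D : Type u'} [Category.{v'} D]
  {L : C ⥤ D} {R : D ⥤ C} (adj : L ⊣ R) {oneX : D} {oneU : C} (c : R.obj oneX ≅ oneU)

/-- the canonical map `ε : L 𝟙_U → 𝟙_X` -/
def eps : L.obj oneU ⟶ oneX := L.map c.inv ≫ adj.counit.app oneX

lemma unit_map_eps : adj.unit.app oneU ≫ R.map (eps adj c) = c.inv := by
  rw [eps, ← adj.homEquiv_counit]
  exact (adj.homEquiv_unit ..).symm.trans (Equiv.apply_symm_apply _ _)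

end Basic

section Hp

variable {C : Type u} [Category.{v} C] [Abelian C] [HasExt.{w} C] [EnoughInjectives C]
  {D : Type u'} [Category.{v'} D] [Abelian D] [HasExt.{w'} D] [EnoughInjectives D]
  {L : C ⥤ D} {R : D ⥤ C} (adj : L ⊣ R)
  [L.Additive] [PreservesFiniteLimits L] [PreservesFiniteColimits L]
  [R.Additive] [PreservesFiniteLimits R] [PreservesFiniteColimits R]
  {oneX : D} {oneU : C} (c : R.obj oneX ≅ oneU)

/-- abstract pullback map on `Ext` out of the unit object -/
noncomputable def hp (F : D) (n : ℕ) (e : Ext.{w'} oneX F n) : Ext.{w} oneU (R.obj F) n :=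
  (Ext.mk₀ c.inv).comp (e.mapExactFunctor R) (zero_add n)

lemma extAdj_hp (F : D) (n : ℕ) (e : Ext.{w'} oneX F n) :
    extAdj adj oneU F n (hp c F n e) = (Ext.mk₀ (eps adj c)).comp e (zero_add n) := by
  rw [extAdj_apply, hp, Ext.mapExactFunctor_comp, Ext.mapExactFunctor_mk₀,
    Ext.comp_assoc_of_third_deg_zero, map_map_comp_counit, ← Ext.comp_assoc_of_second_deg_zero,
    Ext.mk₀_comp_mk₀]
  rfl

end Hp

section HpVia

variable {C : Type u} [Category.{v} C] [Abelian C] [HasExt.{w} C] [EnoughInjectives C]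
  {D : Type u'} [Category.{v'} D] [Abelian D] [HasExt.{w'} D] [EnoughInjectives D]
  {E : Type u''} [Category.{v''} E] [Abelian E] [HasExt.{w''} E]
  {L : C ⥤ D} {R : D ⥤ C} (adj : L ⊣ R)
  [L.Additive] [PreservesFiniteLimits L] [PreservesFiniteColimits L]
  [R.Additive] [PreservesFiniteLimits R] [PreservesFiniteColimits R]
  {R' : C ⥤ E} [R'.Additive] [PreservesFiniteLimits R'] [PreservesFiniteColimits R']
  {LW : E ⥤ D} {RW : D ⥤ E} (adjW : LW ⊣ RW)
  [LW.Additive] [PreservesFiniteLimits LW] [PreservesFiniteColimits LW]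
  [RW.Additive]
  (θ : R ⋙ R' ≅ RW)
  {oneU : C} {oneW : E} (c' : R'.obj oneU ≅ oneW)

/-- abstract relative pullback map on `Ext` -/
noncomputable def hpVia (F : D) (n : ℕ) (y : Ext.{w} oneU (R.obj F) n) :
    Ext.{w''} oneW (RW.obj F) n :=
  ((Ext.mk₀ c'.inv).comp (y.mapExactFunctor R') (zero_add n)).comp
    (Ext.mk₀ (θ.hom.app F)) (add_zero n)

/-- the mate `R' ⋙ L_W ⟶ L` of `θ` -/
def sigma : R' ⋙ LW ⟶ L where
  app A := LW.map (R'.map (adj.unit.app A) ≫ θ.hom.app (L.obj A)) ≫ adjW.counit.app (L.obj A)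
  naturality A B φ := by
    have h1 : R'.map φ ≫ R'.map (adj.unit.app B) ≫ θ.hom.app (L.obj B) =
        (R'.map (adj.unit.app A) ≫ θ.hom.app (L.obj A)) ≫ RW.map (L.map φ) := by
      have hθ := θ.hom.naturality (L.map φ)
      have hu := adj.unit.naturality φ
      simp only [Functor.comp_map, Functor.id_map, Functor.comp_obj, Functor.id_obj] at hθ hu
      rw [Category.assoc, ← hθ, ← R'.map_comp_assoc, ← R'.map_comp_assoc, hu]
    have h2 := adjW.counit.naturality (L.map φ)
    simp only [Functor.comp_map, Functor.id_map, Functor.comp_obj, Functor.id_obj] at h2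
    simp only [Functor.comp_map, Functor.comp_obj]
    rw [← LW.map_comp_assoc, h1, LW.map_comp_assoc, h2, Category.assoc]

/-- the canonical map `ρ : L_W 𝟙_W → L 𝟙_U` -/
def rho : LW.obj oneW ⟶ L.obj oneU := LW.map c'.inv ≫ (sigma adj adjW θ).app oneU

lemma sigma_counit (F : D) :
    (sigma adj adjW θ).app (R.obj F) ≫ adj.counit.app F =
      LW.map (θ.hom.app F) ≫ adjW.counit.app F := by
  have h2 := adjW.counit.naturality (adj.counit.app F)
  have hθ := θ.hom.naturality (adj.counit.app F)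
  simp only [Functor.comp_map, Functor.id_map, Functor.comp_obj, Functor.id_obj] at h2 hθ
  change (LW.map (R'.map (adj.unit.app (R.obj F)) ≫ θ.hom.app (L.obj (R.obj F))) ≫
    adjW.counit.app (L.obj (R.obj F))) ≫ adj.counit.app F = _
  rw [Category.assoc, ← h2, ← LW.map_comp_assoc, Category.assoc, ← hθ, ← R'.map_comp_assoc,
    adj.right_triangle_components]
  erw [R'.map_id, Category.id_comp]

lemma extAdj_hpVia (F : D) (n : ℕ) (y : Ext.{w} oneU (R.obj F) n) :
    extAdj adjW oneW F n (hpVia θ c' F n y) =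
      (Ext.mk₀ (rho adj adjW θ c')).comp (extAdj adj oneU F n y) (zero_add n) := by
  haveI : PreservesFiniteLimits (R' ⋙ LW) := comp_preservesFiniteLimits _ _
  haveI : PreservesFiniteColimits (R' ⋙ LW) := comp_preservesFiniteColimits _ _
  have hnat := mapExactFunctor_natTrans (R' ⋙ LW) L (sigma adj adjW θ) y
  rw [mapExactFunctor_comp_functor] at hnat
  have hL : extAdj adjW oneW F n (hpVia θ c' F n y) =
      (Ext.mk₀ (LW.map c'.inv)).comp
        (((y.mapExactFunctor R').mapExactFunctor LW).comp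
          (Ext.mk₀ (LW.map (θ.hom.app F) ≫ adjW.counit.app F)) (add_zero n)) (zero_add n) := by
    rw [extAdj_apply, hpVia, Ext.mapExactFunctor_comp, Ext.mapExactFunctor_comp,
      Ext.mapExactFunctor_mk₀, Ext.mapExactFunctor_mk₀, Ext.comp_assoc_of_third_deg_zero,
      Ext.mk₀_comp_mk₀, Ext.comp_assoc_of_third_deg_zero]
  have hR : (Ext.mk₀ (rho adj adjW θ c')).comp (extAdj adj oneU F n y) (zero_add n) =
      (Ext.mk₀ (LW.map c'.inv)).comp
        (((y.mapExactFunctor R').mapExactFunctor LW).comp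
          (Ext.mk₀ ((sigma adj adjW θ).app (R.obj F) ≫ adj.counit.app F)) (add_zero n))
        (zero_add n) := by
    rw [extAdj_apply, rho, ← Ext.mk₀_comp_mk₀, Ext.comp_assoc_of_second_deg_zero,
      ← Ext.comp_assoc_of_third_deg_zero (Ext.mk₀ ((sigma adj adjW θ).app oneU)), ← hnat,
      Ext.comp_assoc_of_third_deg_zero, Ext.mk₀_comp_mk₀]
  rw [hL, hR, sigma_counit]

lemma homEquiv_rho :
    adjW.homEquiv _ _ (rho adj adjW θ c') =
      c'.inv ≫ R'.map (adj.unit.app oneU) ≫ θ.hom.app (L.obj oneU) := by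
  have h : rho adj adjW θ c' = (adjW.homEquiv _ _).symm
      (c'.inv ≫ R'.map (adj.unit.app oneU) ≫ θ.hom.app (L.obj oneU)) := by
    rw [adjW.homEquiv_counit, LW.map_comp, Category.assoc]
    rfl
  rw [h, Equiv.apply_symm_apply]

lemma rho_eps {oneX : D} (c : R.obj oneX ≅ oneU) (cW : RW.obj oneX ≅ oneW)
    (hC : cW.inv = c'.inv ≫ R'.map c.inv ≫ θ.hom.app oneX) :
    rho adj adjW θ c' ≫ eps adj c = eps adjW cW := by
  have hσ : LW.map (R'.map c.inv) ≫ (sigma adj adjW θ).app (R.obj oneX) =
      (sigma adj adjW θ).app oneU ≫ L.map c.inv := (sigma adj adjW θ).naturality c.inv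
  rw [rho, eps, eps, Category.assoc, ← Category.assoc ((sigma adj adjW θ).app oneU), ← hσ,
    Category.assoc, sigma_counit, hC, LW.map_comp, LW.map_comp, Category.assoc, Category.assoc]

/-- `ρ` is `L` applied to the relative `ε'`, up to the canonical isomorphism `L_W ≅ L' ⋙ L`. -/
lemma rho_eq {L' : E ⥤ C} (adj' : L' ⊣ R') :
    rho adj adjW θ c' =
      (Adjunction.leftAdjointUniq adjW ((adj'.comp adj).ofNatIsoRight θ)).hom.app oneW ≫
        L.map (eps adj' c') := by
  apply (adjW.homEquiv _ _).injective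
  rw [homEquiv_rho, adjW.homEquiv_unit, RW.map_comp, Adjunction.unit_leftAdjointUniq_hom_app_assoc,
    Adjunction.ofNatIsoRight_unit]
  have hθ : R'.map (R.map (L.map (eps adj' c'))) ≫ θ.hom.app (L.obj oneU) =
      θ.hom.app (L.obj (L'.obj oneW)) ≫ RW.map (L.map (eps adj' c')) :=
    θ.hom.naturality (L.map (eps adj' c'))
  have hu : eps adj' c' ≫ adj.unit.app oneU =
      adj.unit.app (L'.obj oneW) ≫ R.map (L.map (eps adj' c')) :=
    adj.unit.naturality (eps adj' c')
  rw [NatTrans.comp_app, Functor.whiskerLeft_app, Adjunction.comp_unit_app, Category.assoc,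
    Category.assoc]
  simp only [Functor.comp_obj]
  rw [← hθ, ← R'.map_comp_assoc, ← hu, R'.map_comp_assoc,
    ← Category.assoc (adj'.unit.app oneW), unit_map_eps]

end HpVia

section Iso

variable {C : Type u} [Category.{v} C] {D : Type u'} [Category.{v'} D]
  {L : C ⥤ D} {R : D ⥤ C} (adj : L ⊣ R) {oneX : D} {oneU : C} (c : R.obj oneX ≅ oneU)

/-- if `L` is fully faithful (unit iso) then `R(ε)` is an isomorphism -/
lemma isIso_map_eps [IsIso (adj.unit.app oneU)] : IsIso (R.map (eps adj c)) := by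
  have h := unit_map_eps adj c
  have : IsIso (adj.unit.app oneU ≫ R.map (eps adj c)) := by rw [h]; infer_instance
  exact IsIso.of_isIso_comp_left (adj.unit.app oneU) _

end Iso

section IsoRho

variable {C : Type u} [Category.{v} C] [Abelian C] [HasExt.{w} C] [EnoughInjectives C]
  {D : Type u'} [Category.{v'} D] [Abelian D] [HasExt.{w'} D] [EnoughInjectives D]
  {E : Type u''} [Category.{v''} E] [Abelian E] [HasExt.{w''} E]
  {L : C ⥤ D} {R : D ⥤ C} (adj : L ⊣ R)
  [L.Additive] [PreservesFiniteLimits L] [PreservesFiniteColimits L]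
  [R.Additive] [PreservesFiniteLimits R] [PreservesFiniteColimits R]
  {R' : C ⥤ E} [R'.Additive] [PreservesFiniteLimits R'] [PreservesFiniteColimits R']
  {LW : E ⥤ D} {RW : D ⥤ E} (adjW : LW ⊣ RW)
  [LW.Additive] [PreservesFiniteLimits LW] [PreservesFiniteColimits LW]
  [RW.Additive]
  (θ : R ⋙ R' ≅ RW)
  {oneU : C} {oneW : E} (c' : R'.obj oneU ≅ oneW)
  {L' : E ⥤ C} (adj' : L' ⊣ R')

lemma mono_rho [Mono (eps adj' c')] : Mono (rho adj adjW θ c') := by
  rw [rho_eq adj adjW θ c' adj']
  infer_instance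

variable {C₂ : Type*} [Category C₂] [Abelian C₂]
  (RU : D ⥤ C₂) [RU.Additive] [PreservesFiniteLimits RU] [PreservesFiniteColimits RU]
  (LU' : E ⥤ C₂) [LU'.PreservesZeroMorphisms]

/-- `R_U(ρ_{WV})` is an isomorphism, given base change `R_U L_V ≅ L'_U R'_V` on objects -/
lemma isIso_map_rho [Mono (eps adj' c')] [IsIso (adj'.unit.app oneW)]
    (hBC : ∀ Q : C, Nonempty (RU.obj (L.obj Q) ≅ LU'.obj (R'.obj Q))) :
    IsIso (RU.map (rho adj adjW θ c')) := by
  rw [rho_eq adj adjW θ c' adj', RU.map_comp]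
  haveI : IsIso (R'.map (eps adj' c')) := isIso_map_eps adj' c'
  -- `R'` kills the cokernel of `ε'`
  have hz1 : IsZero (R'.obj (cokernel (eps adj' c'))) := by
    have h0 : R'.map (cokernel.π (eps adj' c')) = 0 := by
      rw [← cancel_epi (R'.map (eps adj' c')), ← R'.map_comp, cokernel.condition, R'.map_zero,
        comp_zero]
    exact IsZero.of_epi_eq_zero _ h0
  obtain ⟨e⟩ := hBC (cokernel (eps adj' c'))
  have hz2 : IsZero (RU.obj (L.obj (cokernel (eps adj' c')))) :=
    (LU'.map_isZero hz1).of_iso e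
  let S := ShortComplex.mk (eps adj' c') (cokernel.π (eps adj' c')) (cokernel.condition _)
  have hS : S.Exact := ShortComplex.exact_cokernel _
  haveI : PreservesFiniteLimits (L ⋙ RU) := comp_preservesFiniteLimits _ _
  haveI : PreservesFiniteColimits (L ⋙ RU) := comp_preservesFiniteColimits _ _
  have hS' : (S.map (L ⋙ RU)).Exact := hS.map (L ⋙ RU)
  haveI : Epi (RU.map (L.map (eps adj' c'))) := hS'.epi_f (hz2.eq_of_tgt _ _)
  haveI : Mono (RU.map (L.map (eps adj' c'))) := inferInstance
  haveI : IsIso (RU.map (L.map (eps adj' c'))) := isIso_of_mono_of_epi _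
  infer_instance

end IsoRho

end Groth.Agent.Lib.Helper23.ExtRestr
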