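import Groth.Prelude.Def_EtBase
import Mathlib.CategoryTheory.Sites.Continuous

/-!
# Direct image along the identity
-/

set_option autoImplicit false
universe u

namespace Groth.Agent.Lib.Helper23.PushId

open CategoryTheory CategoryTheory.Limits AlgebraicGeometry Opposite

set_option backward.isDefEq.respectTransparency.types false in
set_option backward.isDefEq.respectTransparency false in
/-- base change along the identity is the identity -/
noncomputable def bcId (T : Scheme.{u}) : EtCoh.bc (𝟙 T) ≅ 𝟭 T.Etale :=
  NatIso.ofComponents
    (fun V => MorphismProperty.Over.isoMk (asIso (pullback.fst V.hom (𝟙 T)))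
      (by
        change pullback.fst V.hom (𝟙 T) ≫ V.hom = pullback.snd V.hom (𝟙 T)
        rw [pullback.condition, Category.comp_id]))
    (by
      intro V W k
      apply MorphismProperty.Over.Hom.ext
      change ((EtCoh.bc (𝟙 T)).map k).left ≫ pullback.fst W.hom (𝟙 T) =
        pullback.fst V.hom (𝟙 T) ≫ k.left
      dsimp [EtCoh.bc]
      exact pullback.lift_fst _ _ _)

/-- direct image along the identity is the identity -/
noncomputable def pushId (T : Scheme.{u}) : EtCoh.push (𝟙 T) ≅ 𝟭 (EtCoh.Ab T) :=
  Functor.sheafPushforwardContinuousId' (bcId T) AddCommGrpCat.{u + 1} T.smallEtaleTopology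

end Groth.Agent.Lib.Helper23.PushId
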