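import Groth.Agent.Lib.Helper23.ShriekGeom

/-!
# Etale local splitting, with a quasi-compact covering
-/

set_option autoImplicit false
universe u

namespace Groth.Agent.Lib.Helper23.ShriekGeom2

open CategoryTheory CategoryTheory.Limits AlgebraicGeometry Opposite
open Groth.Agent.Lib.Helper23.ShriekGeom
open Topology

variable {U X : Scheme.{u}} (j : U ⟶ X) [Etale j]
variable [QuasiCompact j] [QuasiSeparated j] [CompactSpace X] [QuasiSeparatedSpace X]

set_option backward.isDefEq.respectTransparency.types false in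
set_option backward.isDefEq.respectTransparency false in
set_option maxHeartbeats 1600000 in
/-- around every point there is a constructible locally closed subscheme, and an etale covering of
it, over which the given etale morphism splits -/
theorem exists_split_qc (x : X) :
    ∃ (Y : Scheme.{u}) (gY : Y ⟶ X), IsImmersion gY ∧ IsConstructible (Set.range gY) ∧
      x ∈ Set.range gY ∧
      ∃ (T : Scheme.{u}) (r : T ⟶ Y), Etale r ∧ Surjective r ∧ QuasiCompact r ∧
        ∃ n : ℕ, Nonempty (ShriekSplit.Split (Scheme.Etale.mk (pullback.fst (r ≫ gY) j)) (Fin n)) := by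
  classical
  let Ω := AlgebraicClosure (X.residueField x)
  let ξ : Spec (CommRingCat.of Ω) ⟶ X := FlcConn.geomPt x
  have hξ : ξ default = x := FlcConn.geomPt_default x
  haveI := finite_lifts j ξ
  obtain ⟨n, ⟨e⟩⟩ := Finite.exists_equiv_fin (Lifts j ξ)
  let u : Fin n → Lifts j ξ := e.symm
  obtain ⟨V₁, q₁, hq₁, v₁, σ₁, hv₁, hσ₁⟩ := exists_common_nbhd j ξ u
  haveI := hq₁
  obtain ⟨W, hW, hvW, hfib⟩ := exists_affine_nhd_fiber q₁ (v₁ default)
  let V : Scheme.{u} := W
  haveI : IsAffine V := hW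
  let q : V ⟶ X := W.ι ≫ q₁
  have hrv : Set.range v₁ ⊆ Set.range W.ι := by
    rintro _ ⟨z, rfl⟩
    rw [Subsingleton.elim z default, Scheme.Opens.range_ι]
    exact hvW
  let v : Spec (CommRingCat.of Ω) ⟶ V := IsOpenImmersion.lift W.ι v₁ hrv
  have hvι : v ≫ W.ι = v₁ := IsOpenImmersion.lift_fac _ _ _
  let σ : Fin n → (V ⟶ U) := fun i => W.ι ≫ σ₁ i
  have hσ : ∀ i, σ i ≫ j = q := fun i => by
    simp only [σ, q, Category.assoc, (hσ₁ i).1]
  have hvq : v ≫ q = ξ := by
    simp only [q]
    rw [← Category.assoc, hvι, hv₁]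
  have hvσ : ∀ i, v ≫ σ i = (u i).1 := fun i => by
    simp only [σ]
    rw [← Category.assoc, hvι]
    exact (hσ₁ i).2
  have hbad : v default ∉ Bad j q σ hσ := by
    apply notMem_bad
    · intro u' hu'
      have hu'' : u' ≫ j = ξ := by rw [hu', hvq]
      refine ⟨e ⟨u', hu''⟩, ?_⟩
      rw [hvσ]
      simp [u]
    · intro i k hik
      rw [hvσ, hvσ] at hik
      have : u i = u k := Subtype.ext hik
      exact e.symm.injective this
  have hBc := isConstructible_bad j q σ hσ
  let S : Set X := Set.range q \ (q '' Bad j q σ hσ)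
  have hS : IsConstructible S := by
    refine IsConstructible.sdiff ?_ (q.isConstructible_image hBc)
    rw [← Set.image_univ]
    exact q.isConstructible_image IsConstructible.univ
  have hqv : q (v default) = x :=
    (congrArg (fun k : Spec (CommRingCat.of Ω) ⟶ X => k default) hvq).trans hξ
  have hq₁v : q₁ (v₁ default) = x :=
    (congrArg (fun k : Spec (CommRingCat.of Ω) ⟶ X => k default) hv₁).trans hξ
  have hxS : x ∈ S := by
    refine ⟨⟨v default, hqv⟩, ?_⟩
    rintro ⟨b, hb, hbx⟩
    have hb' : b = v default := by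
      have h1 : q₁ (W.ι b) = q₁ (v₁ default) := by
        have e1 : q₁ (W.ι b) = x := hbx
        rw [e1, hq₁v]
      have h2 := hfib (W.ι b) b.2 h1
      have h3 : W.ι (v default) = v₁ default :=
        congrArg (fun k : Spec (CommRingCat.of Ω) ⟶ V₁ => k default) hvι
      exact W.ι.isOpenEmbedding.injective (h2.trans h3.symm)
    rw [hb'] at hb
    exact hbad hb
  obtain ⟨A, B, hAo, hAc, hBo, hBc', hxA, hxB, hAB⟩ := exists_piece S hS x hxS
  let Ao : X.Opens := ⟨A, hAo⟩
  let Cl : TopologicalSpace.Closeds Ao :=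
    ⟨Ao.ι ⁻¹' Bᶜ, (hBo.isClosed_compl).preimage Ao.ι.continuous⟩
  let I := Scheme.IdealSheafData.vanishingIdeal Cl
  let Y : Scheme.{u} := I.subscheme
  let gY : Y ⟶ X := I.subschemeι ≫ Ao.ι
  have hrange : Set.range gY = A \ B := by
    rw [Strata.range_comp', Scheme.IdealSheafData.range_subschemeι,
      Scheme.IdealSheafData.coe_support_vanishingIdeal]
    change Ao.ι '' (Ao.ι ⁻¹' Bᶜ) = _
    rw [Set.image_preimage_eq_range_inter, Scheme.Opens.range_ι]
    rfl
  refine ⟨Y, gY, inferInstance, ?_, ?_, ?_⟩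
  · rw [hrange]
    exact (hAc.isConstructible hAo).sdiff (hBc'.isConstructible hBo)
  · rw [hrange]
    exact ⟨hxA, hxB⟩
  let T : Scheme.{u} := pullback q gY
  let tV : T ⟶ V := pullback.fst q gY
  let r : T ⟶ Y := pullback.snd q gY
  have hg : tV ≫ q = r ≫ gY := pullback.condition
  have hYS : ∀ y : Y, gY y ∈ S := fun y => hAB (by rw [← hrange]; exact ⟨y, rfl⟩)
  have hT : ∀ t, tV t ∉ Bad j q σ hσ := fun t hb => by
    have h1 : q (tV t) = gY (r t) :=
      congrArg (fun k : T ⟶ X => k t) hg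
    exact (hYS (r t)).2 ⟨tV t, hb, h1⟩
  haveI : QuasiCompact q := inferInstance
  refine ⟨T, r, inferInstance, ⟨fun y => ?_⟩, inferInstance, n,
    ⟨splitT j q σ hσ tV hT (r ≫ gY) hg⟩⟩
  obtain ⟨v', hv'⟩ := (hYS y).1
  obtain ⟨t, -, ht⟩ := Scheme.Pullback.exists_preimage_pullback (f := q) (g := gY) v' y hv'
  exact ⟨t, ht⟩

end Groth.Agent.Lib.Helper23.ShriekGeom2
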