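import Groth.Agent.Lib.Helper23.ClopenDecomp
import Groth.Agent.Lib.Helper23.PushId
import Groth.Agent.Lib.Helper23.ConstrSum
import Groth.Agent.Lib.Helper23.Strata
import Groth.Agent.S0127
import Groth.Agent.Lib.Helper23.SplitFinite
import Groth.Agent.Lib.Helper23.ShriekGeom2
import Groth.Agent.S0130
import Groth.Agent.S8546
import Groth.Agent.S0129

/-!
# Direct images along split finite etale morphisms preserve constructibility
-/

set_option autoImplicit false
universe u

namespace Groth.Agent.Lib.Helper23.FinEtPush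

open CategoryTheory CategoryTheory.Limits AlgebraicGeometry Opposite

theorem constructible_push_of_sections {Z T : Scheme.{u}} (f : Z ⟶ T) {n : ℕ}
    (a : Fin n → (T ⟶ Z)) (ha : ∀ i, a i ≫ f = 𝟙 T) [∀ i, IsFinite (a i)]
    (hex : ∀ (Ω : Type u) [Field Ω] [IsAlgClosed Ω] (x : Spec (CommRingCat.of Ω) ⟶ Z),
      ∃ (i : Fin n) (ξ : Spec (CommRingCat.of Ω) ⟶ T), ξ ≫ a i = x)
    (huniq : ∀ (Ω : Type u) [Field Ω] [IsAlgClosed Ω] (i j : Fin n)
      (ξ : Spec (CommRingCat.of Ω) ⟶ T) (ξ' : Spec (CommRingCat.of Ω) ⟶ T),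
      ξ ≫ a i = ξ' ≫ a j → i = j)
    (F : EtCoh.Ab Z) (hF : EtPBC.IsConstructible F) :
    EtPBC.IsConstructible ((EtCoh.push f).obj F) := by
  haveI : ∀ i, Mono (a i) := fun i => (IsSplitMono.mk' ⟨f, ha i⟩).mono _
  haveI := ClopenDecomp.isIso_φ (fun _ => T) a hex huniq F
  let G := ClopenDecomp.G (fun _ => T) a F
  let e1 : F ≅ ⨁ G := asIso (ClopenDecomp.φ (fun _ => T) a F)
  let e2 : (EtCoh.push f).obj (⨁ G) ≅ ⨁ (fun i => (EtCoh.push f).obj (G i)) :=
    (EtCoh.push f).mapBiproduct G
  have h3 : ∀ i, EtPBC.IsConstructible ((EtCoh.push f).obj (G i)) := by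
    intro i
    let e3 : (EtCoh.push f).obj (G i) ≅ (EtCoh.pull (a i)).obj F :=
      (EtCoh.pushComp f (a i)).app _ ≪≫ (EtCoh.pushCongr (ha i)).app _ ≪≫ (PushId.pushId T).app _
    exact Strata.constructible_of_iso e3.symm (Groth.Agent.S0127.result (a i) F hF)
  have h4 := ConstrSum.constructible_biproduct n _ h3
  exact Strata.constructible_of_iso (((EtCoh.push f).mapIso e1 ≪≫ e2).symm) h4

section Split

variable {T : Scheme.{u}} {Q : T.Etale} {n : ℕ} (σ : ShriekSplit.Split Q (Fin n))

include σ in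
set_option backward.isDefEq.respectTransparency.types false in
set_option backward.isDefEq.respectTransparency false in
/-- the sections of a split etale scheme are open immersions with pairwise disjoint images -/
lemma split_data :
    (∀ i, (σ.s i).left ≫ Q.hom = 𝟙 T) ∧ (∀ i, IsOpenImmersion (σ.s i).left) ∧
      Pairwise (Function.onFun Disjoint (fun i => Set.range (σ.s i).left)) := by
  let Z : Scheme.{u} := Q.left
  let f : Z ⟶ T := Q.hom
  haveI : Etale f := Q.prop
  let s : Fin n → (T ⟶ Z) := fun i => (σ.s i).left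
  have hs : ∀ i, s i ≫ f = 𝟙 T := fun i => MorphismProperty.Over.w (σ.s i)
  haveI : ∀ i, IsOpenImmersion (s i) := fun i =>
    ShriekGeom.isOpenImmersion_of_section f (s i) (hs i)
  refine ⟨hs, inferInstance, ?_⟩
  intro i k hik
  rw [Function.onFun, Set.disjoint_iff_forall_ne]
  rintro _ ⟨t, rfl⟩ _ ⟨t', ht'⟩ heq
  let O : T.Opens := (s i) ⁻¹ᵁ (s k).opensRange
  have htO : t ∈ O := ⟨t', ht'.trans heq.symm⟩
  have hr : Set.range (O.ι ≫ s i) ⊆ Set.range (s k) := by
    rintro _ ⟨o, rfl⟩
    exact o.2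
  let l : (O : Scheme.{u}) ⟶ T := IsOpenImmersion.lift (s k) (O.ι ≫ s i) hr
  have hl : l ≫ s k = O.ι ≫ s i := IsOpenImmersion.lift_fac _ _ _
  have hl' : l = O.ι := by
    have := congrArg (fun m => m ≫ f) hl
    simpa only [Category.assoc, hs, Category.comp_id] using this
  have hO : O.ι ≫ s i = O.ι ≫ s k := by rw [← hl, hl']
  let W : T.Etale := EtGlue.opn (EtCoh.top T) O
  let a : W ⟶ EtCoh.top T := EtGlue.opnι (EtCoh.top T) O
  have ha : a ≫ σ.s i = a ≫ σ.s k := EtGlue.hom_ext_of_left _ _ hO
  have := σ.disj i k hik W a a ha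
  exact this.elim ⟨t, htO⟩

include σ in
set_option backward.isDefEq.respectTransparency.types false in
set_option backward.isDefEq.respectTransparency false in
/-- direct image along a split etale scheme preserves constructibility -/
theorem constructible_push_of_split (F : EtCoh.Ab Q.left) (hF : EtPBC.IsConstructible F) :
    EtPBC.IsConstructible ((EtCoh.push Q.hom).obj F) := by
  obtain ⟨hs, hopen, hdisj⟩ := split_data σ
  haveI := hopen
  haveI : IsFinite Q.hom := SplitFinite.isFinite_of_split σ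
  have h0 : IsClosedImmersion (𝟙 T) := inferInstance
  haveI : ∀ i, IsClosedImmersion (σ.s i).left := fun i => by
    haveI : IsClosedImmersion ((σ.s i).left ≫ Q.hom) := by rw [hs i]; exact h0
    exact IsClosedImmersion.of_comp (σ.s i).left Q.hom
  refine constructible_push_of_sections Q.hom (fun i => (σ.s i).left) hs ?_ ?_ F hF
  · intro Ω _ _ x
    obtain ⟨i, hi⟩ := σ.cov (x default)
    have hr : Set.range x ⊆ Set.range (σ.s i).left := by
      rintro _ ⟨z, rfl⟩
      rw [Subsingleton.elim z default]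
      exact hi
    exact ⟨i, IsOpenImmersion.lift (σ.s i).left x hr, IsOpenImmersion.lift_fac _ _ _⟩
  · intro Ω _ _ i j ξ ξ' h
    by_contra hij
    have h1 := Set.disjoint_iff_forall_ne.1 (hdisj hij)
      (Set.mem_range_self (f := (σ.s i).left) (ξ default))
      (Set.mem_range_self (f := (σ.s j).left) (ξ' default))
    apply h1
    have h2 : (ξ ≫ (σ.s i).left) default = (ξ' ≫ (σ.s j).left) default := by rw [h]
    exact h2

end Split

/-- base change for a finite morphism, as an isomorphism -/
lemma pull_push_iso {X Y Y' : Scheme.{u}} (f : X ⟶ Y) [IsFinite f] (g : Y' ⟶ Y)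
    (F : EtCoh.Ab X) :
    Nonempty ((EtCoh.pull g).obj ((EtCoh.push f).obj F) ≅
      (EtCoh.push (pullback.fst g f)).obj ((EtCoh.pull (pullback.snd g f)).obj F)) := by
  have h : IsPullback (pullback.snd g f) (pullback.fst g f) f g :=
    (IsPullback.of_hasPullback g f).flip
  haveI := FinBC0.isIso_baseChange0 f g (pullback.fst g f) (pullback.snd g f) h F
  exact ⟨asIso (EtCoh.baseChange0 f g _ _ h.w F)⟩

set_option backward.isDefEq.respectTransparency.types false in
set_option backward.isDefEq.respectTransparency false in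
theorem constructible_push_qcqs {X Y : Scheme.{u}} [CompactSpace Y] [QuasiSeparatedSpace Y]
    (f : X ⟶ Y) [IsFinite f] [Etale f] (F : EtCoh.Ab X) (hF : EtPBC.IsConstructible F) :
    EtPBC.IsConstructible ((EtCoh.push f).obj F) := by
  have key : ∀ y : Y, ∃ (Y₁ : Scheme.{u}) (gY : Y₁ ⟶ Y), IsImmersion gY ∧
      Topology.IsConstructible (Set.range gY) ∧ y ∈ Set.range gY ∧
      EtPBC.IsConstructible ((EtCoh.pull gY).obj ((EtCoh.push f).obj F)) := by
    intro y
    obtain ⟨Y₁, gY, himm, hc, hy, T, r, hre, hrs, hrq, n, ⟨σ⟩⟩ := ShriekGeom2.exists_split_qc f y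
    refine ⟨Y₁, gY, himm, hc, hy, ?_⟩
    haveI := hre
    haveI := hrs
    rw [Groth.Agent.S8546.result r]
    obtain ⟨e⟩ := pull_push_iso f (r ≫ gY) F
    have h1 := constructible_push_of_split σ ((EtCoh.pull (pullback.snd (r ≫ gY) f)).obj F)
      (Groth.Agent.S0127.result _ F hF)
    exact Strata.constructible_of_iso (e.symm ≪≫ (EtCore.pullComp r gY).app _) h1
  choose Y₁ gY himm hc hy hcons using key
  haveI := himm
  exact Groth.Agent.S0130.result Y _ Y₁ gY hc
    (Set.eq_univ_of_forall fun y => Set.mem_iUnion.2 ⟨y, hy y⟩) hcons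

/-- direct image along a finite etale morphism preserves constructibility -/
theorem constructible_push {X Y : Scheme.{u}} (f : X ⟶ Y) [IsFinite f] [Etale f]
    (F : EtCoh.Ab X) (hF : EtPBC.IsConstructible F) :
    EtPBC.IsConstructible ((EtCoh.push f).obj F) := by
  refine Groth.Agent.S0129.result _ (ι := Y.affineOpens) (fun V => V.1)
    (iSup_affineOpens_eq_top Y) ?_
  intro V
  haveI : IsAffine (V.1 : Scheme.{u}) := V.2
  obtain ⟨e⟩ := pull_push_iso f V.1.ι F
  haveI : IsFinite (pullback.fst V.1.ι f) := MorphismProperty.pullback_fst _ _ inferInstance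
  haveI : Etale (pullback.fst V.1.ι f) := MorphismProperty.pullback_fst _ _ inferInstance
  exact Strata.constructible_of_iso e.symm
    (constructible_push_qcqs (pullback.fst V.1.ι f) _ (Groth.Agent.S0127.result _ F hF))

end Groth.Agent.Lib.Helper23.FinEtPush
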