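import Groth.Agent.Lib.Helper23.FinEtPush
import Groth.Agent.Lib.Helper23.FinEtSplit
import Groth.Agent.Lib.Helper23.FlcSerre

/-!
# Direct images along finite etale morphisms: explicit decomposition and finite local constancy
-/

set_option autoImplicit false
universe u

namespace Groth.Agent.Lib.Helper23.FinEtPush

open CategoryTheory CategoryTheory.Limits AlgebraicGeometry Opposite

theorem nonempty_push_iso_biproduct {Z T : Scheme.{u}} (f : Z ⟶ T) {n : ℕ}
    (a : Fin n → (T ⟶ Z)) (ha : ∀ i, a i ≫ f = 𝟙 T) [∀ i, IsFinite (a i)]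
    (hex : ∀ (Ω : Type u) [Field Ω] [IsAlgClosed Ω] (x : Spec (CommRingCat.of Ω) ⟶ Z),
      ∃ (i : Fin n) (ξ : Spec (CommRingCat.of Ω) ⟶ T), ξ ≫ a i = x)
    (huniq : ∀ (Ω : Type u) [Field Ω] [IsAlgClosed Ω] (i j : Fin n)
      (ξ : Spec (CommRingCat.of Ω) ⟶ T) (ξ' : Spec (CommRingCat.of Ω) ⟶ T),
      ξ ≫ a i = ξ' ≫ a j → i = j)
    (F : EtCoh.Ab Z) :
    Nonempty ((EtCoh.push f).obj F ≅ ⨁ fun i => (EtCoh.pull (a i)).obj F) := by
  haveI : ∀ i, Mono (a i) := fun i => (IsSplitMono.mk' ⟨f, ha i⟩).mono _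
  haveI := ClopenDecomp.isIso_φ (fun _ => T) a hex huniq F
  let G := ClopenDecomp.G (fun _ => T) a F
  let e1 : F ≅ ⨁ G := asIso (ClopenDecomp.φ (fun _ => T) a F)
  let e2 : (EtCoh.push f).obj (⨁ G) ≅ ⨁ (fun i => (EtCoh.push f).obj (G i)) :=
    (EtCoh.push f).mapBiproduct G
  let e3 : ∀ i, (EtCoh.push f).obj (G i) ≅ (EtCoh.pull (a i)).obj F := fun i =>
    (EtCoh.pushComp f (a i)).app _ ≪≫ (EtCoh.pushCongr (ha i)).app _ ≪≫ (PushId.pushId T).app _
  exact ⟨(EtCoh.push f).mapIso e1 ≪≫ e2 ≪≫ biproduct.mapIso e3⟩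

section Split

variable {T : Scheme.{u}} {Q : T.Etale} {n : ℕ} (σ : ShriekSplit.Split Q (Fin n))

include σ in
set_option backward.isDefEq.respectTransparency.types false in
set_option backward.isDefEq.respectTransparency false in
theorem nonempty_push_iso_of_split (F : EtCoh.Ab Q.left) :
    Nonempty ((EtCoh.push Q.hom).obj F ≅ ⨁ fun i => (EtCoh.pull (σ.s i).left).obj F) := by
  obtain ⟨hs, hopen, hdisj⟩ := split_data σ
  haveI := hopen
  haveI : IsFinite Q.hom := SplitFinite.isFinite_of_split σ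
  have h0 : IsClosedImmersion (𝟙 T) := inferInstance
  haveI : ∀ i, IsClosedImmersion (σ.s i).left := fun i => by
    haveI : IsClosedImmersion ((σ.s i).left ≫ Q.hom) := by rw [hs i]; exact h0
    exact IsClosedImmersion.of_comp (σ.s i).left Q.hom
  refine nonempty_push_iso_biproduct Q.hom (fun i => (σ.s i).left) hs ?_ ?_ F
  · intro Ω _ _ x
    obtain ⟨i, hi⟩ := σ.cov (x default)
    have hr : Set.range x ⊆ Set.range (σ.s i).left := by
      rintro _ ⟨z, rfl⟩
      rw [Subsingleton.elim z default]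
      exact hi
    exact ⟨i, IsOpenImmersion.lift (σ.s i).left x hr, IsOpenImmersion.lift_fac _ _ _⟩
  · intro Ω _ _ i j ξ ξ' h
    by_contra hij
    have h1 := Set.disjoint_iff_forall_ne.1 (hdisj hij)
      (Set.mem_range_self (f := (σ.s i).left) (ξ default))
      (Set.mem_range_self (f := (σ.s j).left) (ξ' default))
    apply h1
    have h2 : (ξ ≫ (σ.s i).left) default = (ξ' ≫ (σ.s j).left) default := by rw [h]
    exact h2

end Split

end Groth.Agent.Lib.Helper23.FinEtPush
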