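import Mathlib
import Groth.Agent.Lib.Helper17.LocalFlat

/-!
# Flatness over a nilpotent thickening, tested after an injective base change (Stacks 0AS8-like)
-/

namespace Groth.Agent.Lib.Helper23.NilFlat

open TensorProduct Function

universe u

/-- square-zero case: `K ⊗ N → N` is injective. -/
theorem rTensor_injective_of_sq_zero {A B : Type*} [CommRing A] [CommRing B] [Algebra A B]
    (hinj : Injective (algebraMap A B)) (K : Ideal A) (hK : K * K = ⊥)
    (N : Type*) [AddCommGroup N] [Module A N]
    [Module.Flat (A ⧸ K) ((A ⧸ K) ⊗[A] N)] [Module.Flat B (B ⊗[A] N)] :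
    Injective (K.subtype.rTensor N) := by
  set K' : Ideal B := K.map (algebraMap A B) with hK'
  have hK'2 : K' * K' = ⊥ := by
    rw [hK', ← Ideal.map_mul, hK, Ideal.map_bot]
  let f : K →ₗ[A] K' :=
    { toFun := fun k => ⟨algebraMap A B k.1, Ideal.mem_map_of_mem _ k.2⟩
      map_add' := fun x y => Subtype.ext (by 
        show algebraMap A B (x.1 + y.1) = algebraMap A B x.1 + algebraMap A B y.1
        exact map_add _ _ _)
      map_smul' := fun a x => Subtype.ext (by
        show algebraMap A B (a * x.1) = a • (algebraMap A B x.1)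
        rw [map_mul, Algebra.smul_def]) }
  have hf : Injective f := by
    intro x y hxy
    have : algebraMap A B x.1 = algebraMap A B y.1 := congrArg Subtype.val hxy
    exact Subtype.ext (hinj this)
  have hY : ∀ a ∈ K, ∀ y : K', a • y = 0 := by
    intro a ha y
    apply Subtype.ext
    have : algebraMap A B a * y.1 ∈ K' * K' :=
      Ideal.mul_mem_mul (Ideal.mem_map_of_mem _ ha) y.2
    rw [hK'2] at this
    show a • y.1 = 0
    rw [Algebra.smul_def]
    exact this
  have h1 : Injective (f.rTensor N) := Groth.Agent.Lib.Helper17.LocalFlat.good_of_torsion N K hY f hf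
  let j : K' →ₗ[A] B := K'.subtype.restrictScalars A
  have h2' : Injective (K'.subtype.rTensor (B ⊗[A] N)) :=
    Module.Flat.rTensor_preserves_injective_linearMap _ (Submodule.injective_subtype _)
  let e1 := AlgebraTensorModule.cancelBaseChange A B B K' N
  let e2 := AlgebraTensorModule.cancelBaseChange A B B B N
  have hcomm : ∀ z, j.rTensor N (e1 z) = e2 (K'.subtype.rTensor (B ⊗[A] N) z) := by
    intro z
    induction z using TensorProduct.induction_on with
    | zero => rw [map_zero, map_zero, map_zero, map_zero]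
    | add x y hx hy => rw [map_add, map_add, map_add, map_add, hx, hy]
    | tmul y w =>
      induction w using TensorProduct.induction_on with
      | zero => rw [tmul_zero, map_zero, map_zero, map_zero, map_zero]
      | add w₁ w₂ h₁ h₂ => rw [tmul_add, map_add, map_add, map_add, map_add, h₁, h₂]
      | tmul b n =>
        rw [LinearMap.rTensor_tmul]
        show j.rTensor N ((b • y) ⊗ₜ[A] n) = (b • (K'.subtype y)) ⊗ₜ[A] n
        rw [LinearMap.rTensor_tmul]
        rfl
  have h2 : Injective (j.rTensor N) := by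
    intro z₁ z₂ h
    obtain ⟨w₁, rfl⟩ := e1.surjective z₁
    obtain ⟨w₂, rfl⟩ := e1.surjective z₂
    rw [hcomm, hcomm] at h
    rw [h2' (e2.injective h)]
  have hcomp : j ∘ₗ f = (Algebra.linearMap A B) ∘ₗ K.subtype := by
    ext x; rfl
  have h3 : Injective ((j ∘ₗ f).rTensor N) := by
    rw [LinearMap.rTensor_comp]
    exact h2.comp h1
  rw [hcomp, LinearMap.rTensor_comp] at h3
  exact Function.Injective.of_comp h3

/-- square-zero case: flatness. -/
theorem flat_of_sq_zero {A B : Type*} [CommRing A] [CommRing B] [Algebra A B]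
    (hinj : Injective (algebraMap A B)) (K : Ideal A) (hK : K * K = ⊥)
    (N : Type*) [AddCommGroup N] [Module A N]
    [Module.Flat (A ⧸ K) ((A ⧸ K) ⊗[A] N)] [Module.Flat B (B ⊗[A] N)] :
    Module.Flat A N :=
  Groth.Agent.Lib.Helper17.LocalFlat.flat_of_nilpotent N ⟨2, by rw [pow_two, hK]; rfl⟩
    (rTensor_injective_of_sq_zero hinj K hK N)

/-- transfer of "flat modulo `I`" along a base change `A → Ā`. -/
theorem flat_quot_map {A Ā : Type*} [CommRing A] [CommRing Ā] [Algebra A Ā] (I : Ideal A)
    (N : Type*) [AddCommGroup N] [Module A N] [Module.Flat (A ⧸ I) ((A ⧸ I) ⊗[A] N)] :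
    Module.Flat (Ā ⧸ I.map (algebraMap A Ā))
      ((Ā ⧸ I.map (algebraMap A Ā)) ⊗[Ā] (Ā ⊗[A] N)) := by
  set Q := Ā ⧸ I.map (algebraMap A Ā)
  haveI : Module.Flat Q (Q ⊗[A ⧸ I] ((A ⧸ I) ⊗[A] N)) := inferInstance
  haveI : Module.Flat Q (Q ⊗[A] N) :=
    Module.Flat.of_linearEquiv (AlgebraTensorModule.cancelBaseChange A (A ⧸ I) Q Q N).symm
  exact Module.Flat.of_linearEquiv (AlgebraTensorModule.cancelBaseChange A Ā Q Q N)

/-- transfer of flatness of the base change along a commutative square. -/
theorem flat_square {R A B R' : Type*} [CommRing R] [CommRing A] [CommRing B] [CommRing R']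
    [Algebra R A] [Algebra R R'] [Algebra R B] [Algebra A B] [Algebra R' B]
    [IsScalarTower R A B] [IsScalarTower R R' B]
    (M : Type*) [AddCommGroup M] [Module R M] [Module.Flat R' (R' ⊗[R] M)] :
    Module.Flat B (B ⊗[A] (A ⊗[R] M)) := by
  haveI : Module.Flat B (B ⊗[R'] (R' ⊗[R] M)) := inferInstance
  haveI : Module.Flat B (B ⊗[R] M) :=
    Module.Flat.of_linearEquiv (AlgebraTensorModule.cancelBaseChange R R' B B M).symm
  exact Module.Flat.of_linearEquiv (AlgebraTensorModule.cancelBaseChange R A B B M)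

/-- the induction; the conclusion is wrapped in `_ ∧ True` so that the induction hypothesis
is not picked up as a local instance. -/
theorem main_aux (n : ℕ) : ∀ (R R' : Type u) [CommRing R] [CommRing R'] [Algebra R R'],
    Injective (algebraMap R R') → ∀ (I : Ideal R), I ^ n = ⊥ →
    ∀ (M : Type u) [AddCommGroup M] [Module R M] [Module.Flat (R ⧸ I) ((R ⧸ I) ⊗[R] M)]
      [Module.Flat R' (R' ⊗[R] M)], Module.Flat R M ∧ True := by
  induction n with
  | zero =>
    intro R R' _ _ _ hinj I hI M _ _ _ _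
    refine ⟨flat_of_sq_zero hinj I ?_ M, trivial⟩
    rw [pow_zero, Ideal.one_eq_top] at hI
    exact le_bot_iff.1 (hI ▸ le_top)
  | succ n ih =>
    intro R R' _ _ _ hinj I hI M _ _ _ _
    by_cases hn : n = 0
    · subst hn
      rw [zero_add, pow_one] at hI
      refine ⟨flat_of_sq_zero hinj I ?_ M, trivial⟩
      rw [hI, Ideal.bot_mul]
    · set 𝔟 : Ideal R' := (I ^ n).map (algebraMap R R') with h𝔟
      set J' : Ideal R := 𝔟.comap (algebraMap R R') with hJ'
      have hJ'2 : J' * J' = ⊥ := by
        apply le_bot_iff.1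
        have h1 : J' * J' ≤ (𝔟 * 𝔟).comap (algebraMap R R') := Ideal.le_comap_mul _
        have h2 : 𝔟 * 𝔟 = ⊥ := by
          rw [h𝔟, ← Ideal.map_mul, ← pow_add]
          have : I ^ (n + n) ≤ I ^ (n + 1) := Ideal.pow_le_pow_right (by omega)
          rw [hI] at this
          rw [le_bot_iff.1 this, Ideal.map_bot]
        rw [h2] at h1
        rw [Ideal.comap_bot_of_injective _ hinj] at h1
        exact h1
      haveI : Module.Flat (R ⧸ J') ((R ⧸ J') ⊗[R] M) := by
        haveI : IsScalarTower R (R ⧸ J') (R' ⧸ 𝔟) := IsScalarTower.of_algebraMap_eq (fun x => rfl)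
        haveI := flat_quot_map (Ā := R ⧸ J') I M
        haveI : Module.Flat (R' ⧸ 𝔟) ((R' ⧸ 𝔟) ⊗[R ⧸ J'] ((R ⧸ J') ⊗[R] M)) :=
          flat_square (R := R) (A := R ⧸ J') (B := R' ⧸ 𝔟) (R' := R') M
        refine (ih (R ⧸ J') (R' ⧸ 𝔟) Ideal.algebraMap_quotient_injective
          (I.map (algebraMap R (R ⧸ J'))) ?_ ((R ⧸ J') ⊗[R] M)).1
        rw [← Ideal.map_pow, Ideal.Quotient.algebraMap_eq, Ideal.map_eq_bot_iff_le_ker,
          Ideal.mk_ker]
        exact Ideal.le_comap_map
      exact ⟨flat_of_sq_zero hinj J' hJ'2 M, trivial⟩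

theorem main {R R' : Type u} [CommRing R] [CommRing R'] [Algebra R R']
    (hinj : Injective (algebraMap R R')) (I : Ideal R) (hI : IsNilpotent I)
    (M : Type u) [AddCommGroup M] [Module R M] [Module.Flat (R ⧸ I) ((R ⧸ I) ⊗[R] M)]
    [Module.Flat R' (R' ⊗[R] M)] : Module.Flat R M := by
  obtain ⟨n, hn⟩ := hI
  exact (main_aux n R R' hinj I hn M).1

end Groth.Agent.Lib.Helper23.NilFlat
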