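import Groth.Agent.Lib.Helper23.MilnorFlat2
import Groth.Agent.Lib.Helper23.NilFlat

/-!
# Descent of flatness along finite injective maps of Noetherian rings: preliminaries
-/

universe u
open TensorProduct

namespace Helper23.FIF

variable {R : Type u} [CommRing R] (M : Type u) [AddCommGroup M] [Module R M]

/-- Flatness modulo two ideals gives flatness modulo their intersection. -/
theorem flat_quot_inf (I₁ I₂ : Ideal R) [Module.Flat (R ⧸ I₁) ((R ⧸ I₁) ⊗[R] M)]
    [Module.Flat (R ⧸ I₂) ((R ⧸ I₂) ⊗[R] M)] :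
    Module.Flat (R ⧸ (I₁ ⊓ I₂)) ((R ⧸ (I₁ ⊓ I₂)) ⊗[R] M) := by
  classical
  let B' := R ⧸ (I₁ ⊓ I₂)
  let B := R ⧸ I₁
  let A' := R ⧸ I₂
  let A := R ⧸ (I₁ ⊔ I₂)
  letI algB'B : Algebra B' B := (Ideal.Quotient.factor (inf_le_left : I₁ ⊓ I₂ ≤ I₁)).toAlgebra
  letI algB'A' : Algebra B' A' := (Ideal.Quotient.factor (inf_le_right : I₁ ⊓ I₂ ≤ I₂)).toAlgebra
  letI algBA : Algebra B A := (Ideal.Quotient.factor (le_sup_left : I₁ ≤ I₁ ⊔ I₂)).toAlgebra
  letI algA'A : Algebra A' A := (Ideal.Quotient.factor (le_sup_right : I₂ ≤ I₁ ⊔ I₂)).toAlgebra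
  letI algB'A : Algebra B' A :=
    (Ideal.Quotient.factor ((inf_le_left : I₁ ⊓ I₂ ≤ I₁).trans le_sup_left)).toAlgebra
  have hB'B : ∀ x : R, algebraMap B' B (Ideal.Quotient.mk _ x) = Ideal.Quotient.mk _ x := fun x => rfl
  have hB'A' : ∀ x : R, algebraMap B' A' (Ideal.Quotient.mk _ x) = Ideal.Quotient.mk _ x :=
    fun x => rfl
  have hBA : ∀ x : R, algebraMap B A (Ideal.Quotient.mk _ x) = Ideal.Quotient.mk _ x := fun x => rfl
  have hA'A : ∀ x : R, algebraMap A' A (Ideal.Quotient.mk _ x) = Ideal.Quotient.mk _ x := fun x => rfl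
  have hB'A : ∀ x : R, algebraMap B' A (Ideal.Quotient.mk _ x) = Ideal.Quotient.mk _ x := fun x => rfl
  haveI : IsScalarTower B' B A := IsScalarTower.of_algebraMap_eq (by
    intro x
    obtain ⟨x, rfl⟩ := Ideal.Quotient.mk_surjective x
    rw [hB'A, hB'B, hBA])
  haveI : IsScalarTower B' A' A := IsScalarTower.of_algebraMap_eq (by
    intro x
    obtain ⟨x, rfl⟩ := Ideal.Quotient.mk_surjective x
    rw [hB'A, hB'A', hA'A])
  haveI : IsScalarTower R B' B := IsScalarTower.of_algebraMap_eq (fun x => rfl)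
  haveI : IsScalarTower R B' A' := IsScalarTower.of_algebraMap_eq (fun x => rfl)
  have hsq : EtMil.IsFibreSquare B' B A' A := by
    refine ⟨?_, ?_⟩
    · intro a
      obtain ⟨x, rfl⟩ := Ideal.Quotient.mk_surjective a
      exact ⟨Ideal.Quotient.mk _ x, hA'A x⟩
    · intro b a' hba
      obtain ⟨x, rfl⟩ := Ideal.Quotient.mk_surjective b
      obtain ⟨y, rfl⟩ := Ideal.Quotient.mk_surjective a'
      rw [hBA, hA'A, Ideal.Quotient.eq] at hba
      obtain ⟨i₁, hi₁, i₂, hi₂, hsum⟩ := Submodule.mem_sup.mp hba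
      refine ⟨Ideal.Quotient.mk _ (x - i₁), ⟨?_, ?_⟩, ?_⟩
      · rw [hB'B, Ideal.Quotient.eq]
        have : x - i₁ - x = -i₁ := by ring
        rw [this]
        exact I₁.neg_mem hi₁
      · rw [hB'A', Ideal.Quotient.eq]
        have : x - i₁ - y = i₂ := by linear_combination (-1 : R) * hsum
        rw [this]
        exact hi₂
      · rintro z ⟨hz1, hz2⟩
        obtain ⟨z, rfl⟩ := Ideal.Quotient.mk_surjective z
        rw [hB'B, Ideal.Quotient.eq] at hz1
        rw [hB'A', Ideal.Quotient.eq] at hz2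
        rw [Ideal.Quotient.eq]
        refine ⟨?_, ?_⟩
        · have : z - (x - i₁) = (z - x) + i₁ := by ring
          rw [this]
          exact I₁.add_mem hz1 hi₁
        · have : z - (x - i₁) = (z - y) - i₂ := by linear_combination hsum
          rw [this]
          exact I₂.sub_mem hz2 hi₂
  haveI : Module.Flat B (B ⊗[B'] (B' ⊗[R] M)) :=
    Module.Flat.of_linearEquiv
      (TensorProduct.AlgebraTensorModule.cancelBaseChange R B' B B M)
  haveI : Module.Flat A' (A' ⊗[B'] (B' ⊗[R] M)) :=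
    Module.Flat.of_linearEquiv
      (TensorProduct.AlgebraTensorModule.cancelBaseChange R B' A' A' M)
  exact Helper23.MF.flat_of_fibreSquare hsq (B' ⊗[R] M)

/-- Transport along equality of ideals. -/
theorem flat_quot_congr {I J : Ideal R} (h : I = J) [Module.Flat (R ⧸ I) ((R ⧸ I) ⊗[R] M)] :
    Module.Flat (R ⧸ J) ((R ⧸ J) ⊗[R] M) := by
  subst h; infer_instance

/-- Flatness modulo the zero ideal is flatness. -/
theorem flat_of_quot_bot [Module.Flat (R ⧸ (⊥ : Ideal R)) ((R ⧸ (⊥ : Ideal R)) ⊗[R] M)] :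
    Module.Flat R M := by
  let e0 : (R ⧸ (⊥ : Ideal R)) ≃ₗ[R] R := Submodule.quotEquivOfEqBot ⊥ rfl
  haveI : Module.Flat R (R ⧸ (⊥ : Ideal R)) := Module.Flat.of_linearEquiv e0
  haveI : Module.Flat R ((R ⧸ (⊥ : Ideal R)) ⊗[R] M) :=
    Module.Flat.trans R (R ⧸ (⊥ : Ideal R)) _
  exact Module.Flat.of_linearEquiv
    ((TensorProduct.lid R M).symm ≪≫ₗ (TensorProduct.congr e0.symm (LinearEquiv.refl R M)))

/-- Flatness modulo finitely many ideals gives flatness modulo their intersection. -/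
theorem flat_quot_finset_inf (s : Finset (Ideal R))
    (h : ∀ I ∈ s, Module.Flat (R ⧸ I) ((R ⧸ I) ⊗[R] M)) :
    Module.Flat (R ⧸ s.inf id) ((R ⧸ s.inf id) ⊗[R] M) := by
  classical
  induction s using Finset.induction_on with
  | empty =>
    rw [Finset.inf_empty]
    haveI : Subsingleton (R ⧸ (⊤ : Ideal R)) := Ideal.Quotient.subsingleton_iff.mpr rfl
    haveI : Subsingleton ((R ⧸ (⊤ : Ideal R)) ⊗[R] M) :=
      Module.subsingleton (R ⧸ (⊤ : Ideal R)) _
    infer_instance
  | insert I s hI ih =>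
    rw [Finset.inf_insert, id]
    haveI := h I (Finset.mem_insert_self I s)
    haveI := ih (fun J hJ => h J (Finset.mem_insert_of_mem hJ))
    exact flat_quot_inf M I (s.inf id)

/-- Split descent of flatness: if `R → B'` has an `R`-linear retraction and `B' ⊗ M` is flat over
`B'`, then `M` is flat over `R`. -/
theorem flat_of_retraction (B' : Type u) [CommRing B'] [Algebra R B'] (ρ : B' →ₗ[R] R)
    (hρ : ρ 1 = 1) [Module.Flat B' (B' ⊗[R] M)] : Module.Flat R M := by
  rw [Module.Flat.iff_rTensor_injective']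
  intro I
  let I' : Ideal B' := I.map (algebraMap R B')
  have hu : Function.Injective ((I'.subtype.restrictScalars R).rTensor M) :=
    Helper23.MF.rTensor_injective_of_flat_baseChange B' M I'.subtype I'.injective_subtype
  have hρI' : ∀ x ∈ I', ∀ b : B', ρ (b * x) ∈ I := by
    intro x hx
    refine Submodule.span_induction (p := fun x _ => ∀ b : B', ρ (b * x) ∈ I) ?_ ?_ ?_ ?_ hx
    · rintro _ ⟨i, hi, rfl⟩ b
      have : b * algebraMap R B' i = i • b := by rw [Algebra.smul_def, mul_comm]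
      rw [this, map_smul, smul_eq_mul]
      exact I.mul_mem_right _ hi
    · intro b; rw [mul_zero, map_zero]; exact I.zero_mem
    · intro x y _ _ hx hy b; rw [mul_add, map_add]; exact I.add_mem (hx b) (hy b)
    · intro c x _ hx b
      rw [smul_eq_mul, ← mul_assoc]
      exact hx (b * c)
  have hρI : ∀ x ∈ I', ρ x ∈ I := fun x hx => by simpa using hρI' x hx 1
  let ι : I →ₗ[R] I' :=
    LinearMap.codRestrict (I'.restrictScalars R) ((Algebra.linearMap R B') ∘ₗ I.subtype)
      (fun i => Ideal.mem_map_of_mem _ i.2)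
  let ρI : I' →ₗ[R] I :=
    LinearMap.codRestrict I (ρ ∘ₗ (I'.subtype.restrictScalars R)) (fun x => hρI x x.2)
  have hρι : ρI ∘ₗ ι = LinearMap.id := by
    ext i
    change ρ (algebraMap R B' i) = i
    have : algebraMap R B' (i : R) = (i : R) • (1 : B') := by rw [Algebra.smul_def, mul_one]
    rw [this, map_smul, hρ, smul_eq_mul, mul_one]
  have hsq : (I'.subtype.restrictScalars R) ∘ₗ ι = (Algebra.linearMap R B') ∘ₗ I.subtype := by
    ext i
    rfl
  intro z w hzw
  have h1 : ((I'.subtype.restrictScalars R) ∘ₗ ι).rTensor M z =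
      ((I'.subtype.restrictScalars R) ∘ₗ ι).rTensor M w := by
    rw [hsq, LinearMap.rTensor_comp, LinearMap.comp_apply, LinearMap.comp_apply, hzw]
  rw [LinearMap.rTensor_comp, LinearMap.comp_apply, LinearMap.comp_apply] at h1
  have h2 : ι.rTensor M z = ι.rTensor M w := hu h1
  have h3 : (ρI ∘ₗ ι).rTensor M z = (ρI ∘ₗ ι).rTensor M w := by
    rw [LinearMap.rTensor_comp, LinearMap.comp_apply, LinearMap.comp_apply, h2]
  rwa [hρι, LinearMap.rTensor_id, LinearMap.id_apply, LinearMap.id_apply] at h3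

end Helper23.FIF
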