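import Groth.Agent.Lib.Helper23.FinInjFlat1

/-!
# Descent of flatness along finite injective maps: the domain case
-/

universe u
open TensorProduct

namespace Helper23.FIF

variable {R : Type u} [CommRing R] [IsDomain R] (S : Type u) [CommRing S] [Algebra R S]
  [Module.Finite R S]

/-- A functional `S → Frac R` normalised at `1`, with bounded denominators. -/
theorem exists_functional (hinj : Function.Injective (algebraMap R S)) :
    ∃ (lam : S →ₗ[R] FractionRing R) (f : R), lam 1 = 1 ∧ f ≠ 0 ∧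
      ∀ s : S, ∃ r : R, lam (f • s) = algebraMap R (FractionRing R) r := by
  classical
  let K := FractionRing R
  let L := K ⊗[R] S
  let v : L := (1 : K) ⊗ₜ[R] (1 : S)
  have hv : v ≠ 0 := by
    have h1 : Function.Injective ((Algebra.linearMap R S).lTensor K) :=
      Module.Flat.lTensor_preserves_injective_linearMap _ hinj
    intro h0
    have h2 : (Algebra.linearMap R S).lTensor K ((1 : K) ⊗ₜ[R] (1 : R)) = v := by
      simp [v]
    have h3 : ((1 : K) ⊗ₜ[R] (1 : R) : K ⊗[R] R) = 0 := h1 (by rw [h2, h0, map_zero])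
    have h4 := congrArg (TensorProduct.rid R K) h3
    simp at h4
  let ψ : K →ₗ[K] L := LinearMap.toSpanSingleton K L v
  have hψ : LinearMap.ker ψ = ⊥ := LinearMap.ker_toSpanSingleton K hv
  obtain ⟨g, hg⟩ := LinearMap.exists_leftInverse_of_injective ψ hψ
  let lam : S →ₗ[R] K := (g.restrictScalars R) ∘ₗ (TensorProduct.mk R K S 1)
  have hlam1 : lam 1 = 1 := by
    change g v = 1
    have := LinearMap.congr_fun hg 1
    simpa [ψ] using this
  obtain ⟨gens, hgens⟩ := (Module.Finite.fg_top : (⊤ : Submodule R S).FG)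
  obtain ⟨b, hb⟩ := IsLocalization.exist_integer_multiples_of_finset (nonZeroDivisors R)
    (gens.image lam)
  refine ⟨lam, b, hlam1, nonZeroDivisors.ne_zero b.2, ?_⟩
  intro s
  have hs : s ∈ Submodule.span R (gens : Set S) := by rw [hgens]; trivial
  induction hs using Submodule.span_induction with
  | mem x hx =>
    obtain ⟨r, hr⟩ := hb (lam x) (Finset.mem_image_of_mem _ hx)
    exact ⟨r, by rw [map_smul, hr]⟩
  | zero => exact ⟨0, by simp⟩
  | add x y _ _ hx hy =>
    obtain ⟨r1, h1⟩ := hx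
    obtain ⟨r2, h2⟩ := hy
    exact ⟨r1 + r2, by rw [smul_add, map_add, h1, h2, map_add]⟩
  | smul c x _ hx =>
    obtain ⟨r, hr⟩ := hx
    exact ⟨c * r, by rw [smul_comm, map_smul, hr, map_mul, Algebra.smul_def]⟩

variable (M : Type u) [AddCommGroup M] [Module R M]

/-- The domain case of descent of flatness along a finite injective map. -/
theorem flat_of_domain (hinj : Function.Injective (algebraMap R S))
    (hH : ∀ J : Ideal R, J ≠ ⊥ → (J.map (algebraMap R S)).comap (algebraMap R S) = J →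
      Module.Flat (R ⧸ J) ((R ⧸ J) ⊗[R] M))
    [Module.Flat S (S ⊗[R] M)] : Module.Flat R M := by
  classical
  obtain ⟨lam, f, hlam1, hf, hlamf⟩ := exists_functional S hinj
  let K := FractionRing R
  let A : Ideal S := (Ideal.span {f}).map (algebraMap R S)
  obtain ⟨J, hJdef⟩ : ∃ J : Ideal R, J = A.comap (algebraMap R S) := ⟨_, rfl⟩
  have hfJ : f ∈ J := by
    rw [hJdef]
    exact Ideal.mem_comap.mpr (Ideal.mem_map_of_mem _ (Ideal.mem_span_singleton_self f))
  have hJ0 : J ≠ ⊥ := fun h => hf (by rw [h] at hfJ; simpa using hfJ)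
  have hJc : (J.map (algebraMap R S)).comap (algebraMap R S) = J := by
    apply le_antisymm
    · conv_rhs => rw [hJdef]
      rw [hJdef]
      exact Ideal.comap_mono Ideal.map_comap_le
    · exact Ideal.le_comap_map
  haveI := hH J hJ0 hJc
  let ι : R ⧸ J →+* S ⧸ A := Ideal.quotientMap A (algebraMap R S) hJdef.le
  have hι : Function.Injective ι := Ideal.quotientMap_injective' hJdef.ge
  let B' : Subring (S × (R ⧸ J)) :=
    RingHom.eqLocus ((Ideal.Quotient.mk A).comp (RingHom.fst S (R ⧸ J)))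
      (ι.comp (RingHom.snd S (R ⧸ J)))
  have hB'mem : ∀ x : S × (R ⧸ J), x ∈ B' ↔ Ideal.Quotient.mk A x.1 = ι x.2 := fun x => Iff.rfl
  letI algB'S : Algebra B' S := ((RingHom.fst S (R ⧸ J)).comp B'.subtype).toAlgebra
  letI algB'RJ : Algebra B' (R ⧸ J) := ((RingHom.snd S (R ⧸ J)).comp B'.subtype).toAlgebra
  letI algRJSA : Algebra (R ⧸ J) (S ⧸ A) := ι.toAlgebra
  haveI tow1 : IsScalarTower B' (R ⧸ J) (S ⧸ A) := IsScalarTower.of_algebraMap_eq (fun x => x.2)
  haveI tow2 : IsScalarTower B' S (S ⧸ A) := IsScalarTower.of_algebraMap_eq (fun x => rfl)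
  let φ : R →+* B' := RingHom.codRestrict ((algebraMap R S).prod (Ideal.Quotient.mk J)) B'
    (fun r => by rw [hB'mem]; rfl)
  letI algRB' : Algebra R B' := φ.toAlgebra
  haveI : IsScalarTower R B' S := IsScalarTower.of_algebraMap_eq (fun r => rfl)
  haveI : IsScalarTower R B' (R ⧸ J) := IsScalarTower.of_algebraMap_eq (fun r => rfl)
  have hsq : EtMil.IsFibreSquare B' (R ⧸ J) S (S ⧸ A) := by
    refine ⟨Ideal.Quotient.mk_surjective, ?_⟩
    intro b a' h
    refine ⟨⟨(a', b), h.symm⟩, ⟨rfl, rfl⟩, ?_⟩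
    rintro ⟨⟨s, t⟩, hst⟩ ⟨h1, h2⟩
    apply Subtype.ext
    exact Prod.ext h2 h1
  haveI : Module.Flat (R ⧸ J) ((R ⧸ J) ⊗[B'] (B' ⊗[R] M)) :=
    Module.Flat.of_linearEquiv
      (TensorProduct.AlgebraTensorModule.cancelBaseChange R B' (R ⧸ J) (R ⧸ J) M)
  haveI : Module.Flat S (S ⊗[B'] (B' ⊗[R] M)) :=
    Module.Flat.of_linearEquiv
      (TensorProduct.AlgebraTensorModule.cancelBaseChange R B' S S M)
  haveI : Module.Flat B' (B' ⊗[R] M) := Helper23.MF.flat_of_fibreSquare hsq (B' ⊗[R] M)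
  have hrange : ∀ x : B', lam (x.1.1) ∈ LinearMap.range (Algebra.linearMap R K) := by
    rintro ⟨⟨s, t⟩, hst⟩
    obtain ⟨r₀, rfl⟩ := Ideal.Quotient.mk_surjective t
    have h1 : s - algebraMap R S r₀ ∈ A := by
      rw [← Ideal.Quotient.eq]; exact hst
    have hA : A = Ideal.span {algebraMap R S f} := by
      simp only [A, Ideal.map_span, Set.image_singleton]
    rw [hA, Ideal.mem_span_singleton'] at h1
    obtain ⟨s', hs'⟩ := h1
    obtain ⟨r₁, hr₁⟩ := hlamf s'
    refine ⟨r₀ + r₁, ?_⟩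
    have hs : s = r₀ • (1 : S) + f • s' := by
      rw [Algebra.smul_def, Algebra.smul_def, mul_one, mul_comm, hs']; ring
    change algebraMap R K (r₀ + r₁) = lam s
    rw [hs, lam.map_add, lam.map_smul, hlam1, hr₁, map_add, Algebra.smul_def, mul_one]
  let fstL : B' →ₗ[R] S := (IsScalarTower.toAlgHom R B' S).toLinearMap
  let ρK : B' →ₗ[R] LinearMap.range (Algebra.linearMap R K) :=
    LinearMap.codRestrict _ (lam ∘ₗ fstL) hrange
  let eK : R ≃ₗ[R] LinearMap.range (Algebra.linearMap R K) :=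
    LinearEquiv.ofInjective (Algebra.linearMap R K) (IsFractionRing.injective R K)
  let ρ : B' →ₗ[R] R := eK.symm.toLinearMap ∘ₗ ρK
  have hρ : ρ 1 = 1 := by
    apply eK.injective
    rw [LinearMap.comp_apply, LinearEquiv.coe_coe, LinearEquiv.apply_symm_apply]
    apply Subtype.ext
    change lam 1 = algebraMap R K 1
    rw [hlam1, map_one]
  exact flat_of_retraction M B' ρ hρ

end Helper23.FIF
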