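import Groth.Agent.Lib.Helper23.FinInjFlat2

/-!
# Descent of flatness along finite injective maps of Noetherian rings
-/

universe u
open TensorProduct

namespace Helper23.FIF

open Groth.Agent.Lib.Helper23

/-- Noetherian induction. The conclusion is wrapped in `_ ∧ True` so that the induction hypothesis
is not picked up as a local instance. -/
theorem main_aux (R₀ : Type u) [CommRing R₀] [IsNoetherianRing R₀] :
    ∀ I : Ideal R₀, ∀ (R : Type u) [CommRing R] (π : R₀ →+* R), Function.Surjective π →
      RingHom.ker π = I →
      ∀ (S : Type u) [CommRing S] [Algebra R S] [Module.Finite R S],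
      Function.Injective (algebraMap R S) →
      ∀ (M : Type u) [AddCommGroup M] [Module R M] [Module.Flat S (S ⊗[R] M)],
        Module.Flat R M ∧ True := by
  intro I
  induction I using WellFoundedGT.induction with
  | ind I ih =>
  intro R _ π hπ hker S _ _ _ hinj M _ _ _
  refine ⟨?_, trivial⟩
  haveI : IsNoetherianRing R := isNoetherianRing_of_surjective R₀ R π hπ
  have hH : ∀ J : Ideal R, J ≠ ⊥ → (J.map (algebraMap R S)).comap (algebraMap R S) = J →
      Module.Flat (R ⧸ J) ((R ⧸ J) ⊗[R] M) := by
    intro J hJ0 hJc
    have hlt : I < J.comap π := by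
      rw [← hker]
      refine lt_of_le_of_ne (fun x hx => ?_) ?_
      · rw [Ideal.mem_comap, RingHom.mem_ker.mp hx]; exact J.zero_mem
      · intro heq
        apply hJ0
        rw [← Ideal.map_comap_of_surjective π hπ J, ← heq, Ideal.map_eq_bot_iff_le_ker]
    have hfin : Module.Finite (R ⧸ J) (S ⧸ J.map (algebraMap R S)) :=
      Module.Finite.of_restrictScalars_finite R (R ⧸ J) (S ⧸ J.map (algebraMap R S))
    have hinj' : Function.Injective (algebraMap (R ⧸ J) (S ⧸ J.map (algebraMap R S))) := by
      rw [injective_iff_map_eq_zero]
      intro x hx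
      obtain ⟨r, rfl⟩ := Ideal.Quotient.mk_surjective x
      rw [Ideal.Quotient.algebraMap_quotient_map_quotient, Ideal.Quotient.eq_zero_iff_mem] at hx
      rw [Ideal.Quotient.eq_zero_iff_mem, ← hJc]
      exact Ideal.mem_comap.mpr hx
    have hflat : Module.Flat (S ⧸ J.map (algebraMap R S))
        ((S ⧸ J.map (algebraMap R S)) ⊗[R ⧸ J] ((R ⧸ J) ⊗[R] M)) :=
      NilFlat.flat_square (R := R) (A := R ⧸ J) (B := S ⧸ J.map (algebraMap R S)) (R' := S) M
    have hk : RingHom.ker ((Ideal.Quotient.mk J).comp π) = J.comap π := by
      ext x
      rw [RingHom.mem_ker, Ideal.mem_comap, RingHom.comp_apply, Ideal.Quotient.eq_zero_iff_mem]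
    exact (ih (J.comap π) hlt (R ⧸ J) ((Ideal.Quotient.mk J).comp π)
      (Ideal.Quotient.mk_surjective.comp hπ) hk (S ⧸ J.map (algebraMap R S)) hinj'
      ((R ⧸ J) ⊗[R] M)).1
  by_cases hred : IsReduced R
  · by_cases hdom : IsDomain R
    · exact flat_of_domain S M hinj hH
    · have hfin : (minimalPrimes R).Finite := minimalPrimes.finite_of_isNoetherianRing R
      have hs : ∀ P ∈ hfin.toFinset, Module.Flat (R ⧸ P) ((R ⧸ P) ⊗[R] M) := by
        intro P hP
        have hPmin : P ∈ minimalPrimes R := hfin.mem_toFinset.mp hP
        haveI hPprime : P.IsPrime := hPmin.1.1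
        have hP0 : P ≠ ⊥ := by
          intro h0
          apply hdom
          rw [h0] at hPprime
          exact IsDomain.of_bot_isPrime R
        apply hH P hP0
        haveI : Algebra.IsIntegral R S := Algebra.IsIntegral.of_finite R S
        obtain ⟨Q, -, hQprime, hQ⟩ := Ideal.exists_ideal_over_prime_of_isIntegral P (⊥ : Ideal S)
          (by
            intro x hx
            rw [Ideal.mem_comap, Ideal.mem_bot] at hx
            have : x = 0 := hinj (by rw [hx, map_zero])
            rw [this]; exact P.zero_mem)
        apply le_antisymm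
        · conv_rhs => rw [← hQ]
          apply Ideal.comap_mono
          rw [Ideal.map_le_iff_le_comap, hQ]
        · exact Ideal.le_comap_map
      have hinf : hfin.toFinset.inf id = (⊥ : Ideal R) := by
        rw [Finset.inf_id_eq_sInf, Set.Finite.coe_toFinset]
        have h1 : sInf (minimalPrimes R) = (⊥ : Ideal R).radical := Ideal.sInf_minimalPrimes
        rw [h1]
        exact nilradical_eq_bot_iff.mpr hred
      haveI := flat_quot_finset_inf M hfin.toFinset hs
      haveI := flat_quot_congr M hinf
      exact flat_of_quot_bot M
  · let N := nilradical R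
    have hN0 : N ≠ ⊥ := fun h => hred (nilradical_eq_bot_iff.mp h)
    have hNc : (N.map (algebraMap R S)).comap (algebraMap R S) = N := by
      apply le_antisymm
      · have h1 : N.map (algebraMap R S) ≤ nilradical S :=
          Ideal.map_le_iff_le_comap.mpr (fun x hx => mem_nilradical.mpr
            ((mem_nilradical.mp hx).map (algebraMap R S)))
        intro x hx
        have hx' : IsNilpotent (algebraMap R S x) := mem_nilradical.mp (h1 (Ideal.mem_comap.mp hx))
        obtain ⟨n, hn⟩ := hx'
        refine mem_nilradical.mpr ⟨n, hinj ?_⟩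
        rw [map_pow, hn, map_zero]
      · exact Ideal.le_comap_map
    haveI := hH N hN0 hNc
    exact NilFlat.main hinj N (IsNoetherianRing.isNilpotent_nilradical R) M

/-- Flatness descends along a finite injective map out of a Noetherian ring. -/
theorem flat_of_finite_injective (R S : Type u) [CommRing R] [IsNoetherianRing R] [CommRing S]
    [Algebra R S] [Module.Finite R S] (hinj : Function.Injective (algebraMap R S))
    (M : Type u) [AddCommGroup M] [Module R M] [Module.Flat S (S ⊗[R] M)] : Module.Flat R M :=
  (main_aux R ⊥ R (RingHom.id R) Function.surjective_id (by ext x; simp [RingHom.mem_ker])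
    S hinj M).1

end Helper23.FIF
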