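import Groth.Agent.Lib.Helper23.HensSection
import Groth.Agent.S0499
import Groth.Agent.S5034
import Mathlib.RingTheory.Etale.Field
import Mathlib.FieldTheory.PurelyInseparable.Basic
import Mathlib.RingTheory.AdjoinRoot
import Mathlib.RingTheory.Ideal.GoingUp

set_option autoImplicit false
universe u

namespace Groth.Agent.Lib.Helper23.FinPushAlg1

open TensorProduct

/-- A ring hom from a finite product to a domain factors through one projection. -/
lemma exists_factor {ι : Type*} [Finite ι] [DecidableEq ι] {A : ι → Type*} [∀ i, CommRing (A i)]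
    {Ω : Type*} [CommRing Ω] [IsDomain Ω] (f : (∀ i, A i) →+* Ω) :
    ∃ j, f (Pi.single j 1) = 1 ∧ ∀ x : (∀ i, A i), x j = 0 → f x = 0 := by
  classical
  haveI := Fintype.ofFinite ι
  have hsum : ∑ j, f (Pi.single j (1 : A j)) = 1 := by
    rw [← map_sum]
    have : (∑ j, Pi.single j (1 : A j)) = (1 : ∀ i, A i) := Finset.univ_sum_single (1 : ∀ i, A i)
    rw [this, map_one]
  have hid : ∀ j, f (Pi.single j (1 : A j)) = 0 ∨ f (Pi.single j (1 : A j)) = 1 := by
    intro j
    have : IsIdempotentElem (f (Pi.single j (1 : A j))) := by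
      unfold IsIdempotentElem
      rw [← map_mul, ← Pi.single_mul, mul_one]
    exact IsIdempotentElem.iff_eq_zero_or_one.1 this
  obtain ⟨j, hj⟩ : ∃ j, f (Pi.single j (1 : A j)) = 1 := by
    by_contra hcon
    push Not at hcon
    have : ∀ j, f (Pi.single j (1 : A j)) = 0 := fun j => (hid j).resolve_right (hcon j)
    simp [this] at hsum
  refine ⟨j, hj, fun x hx => ?_⟩
  have : x * Pi.single j (1 : A j) = 0 := by
    ext i
    by_cases h : i = j
    · subst h; simp [hx]
    · simp [Pi.single_eq_of_ne h]
  calc f x = f x * f (Pi.single j 1) := by rw [hj, mul_one]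
    _ = f (x * Pi.single j 1) := (map_mul f _ _).symm
    _ = 0 := by rw [this, map_zero]

open HensSection in
set_option backward.isDefEq.respectTransparency false in
/-- Over a strictly henselian local ring `R`, an etale `R`-algebra `A` with a point `ω : A → Ω`
over a local hom `ρ : R → Ω` to a field has a retraction compatible with the points. -/
lemma exists_section_of_point (R : Type u) [CommRing R] [HenselianLocalRing R]
    [IsSepClosed (IsLocalRing.ResidueField R)]
    (A : Type u) [CommRing A] [Algebra R A] [Algebra.Etale R A] {Ω : Type u} [Field Ω]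
    (ρ : R →+* Ω) [IsLocalHom ρ] (ω : A →+* Ω) (hω : ω.comp (algebraMap R A) = ρ) :
    ∃ s : A →ₐ[R] R, ∀ a, ρ (s a) = ω a := by
  classical
  let κ := IsLocalRing.ResidueField R
  let ρb : κ →+* Ω := IsLocalRing.ResidueField.lift ρ
  letI : Algebra R Ω := ρ.toAlgebra
  letI : Algebra κ Ω := ρb.toAlgebra
  haveI : IsScalarTower R κ Ω := IsScalarTower.of_algebraMap_eq (fun r => rfl)
  let ωa : A →ₐ[R] Ω := { ω with commutes' := fun r => congrArg (fun g : R →+* Ω => g r) hω }
  let ωb : κ ⊗[R] A →ₐ[κ] Ω :=
    Algebra.TensorProduct.lift (Algebra.ofId κ Ω) ωa (fun _ _ => Commute.all _ _)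
  haveI : Algebra.Etale κ (κ ⊗[R] A) := inferInstance
  haveI : Module.Finite κ (κ ⊗[R] A) := Algebra.FormallyUnramified.finite_of_free κ (κ ⊗[R] A)
  haveI : IsArtinianRing (κ ⊗[R] A) := isArtinian_of_tower κ inferInstance
  let e : (κ ⊗[R] A) ≃ₐ[κ] (PrimeSpectrum (κ ⊗[R] A) → κ) :=
    Algebra.FormallyEtale.equivPiOfIsSepClosed κ (κ ⊗[R] A)
  let g : (PrimeSpectrum (κ ⊗[R] A) → κ) →ₐ[κ] Ω := ωb.comp e.symm.toAlgHom
  obtain ⟨j, hj1, hj0⟩ := exists_factor (A := fun _ : PrimeSpectrum (κ ⊗[R] A) => κ) g.toRingHom
  have hg : ∀ x : PrimeSpectrum (κ ⊗[R] A) → κ, g x = ρb (x j) := by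
    intro x
    have h1 : g (x - algebraMap κ _ (x j)) = 0 := by
      apply hj0
      simp
    rw [map_sub, sub_eq_zero] at h1
    rw [h1, AlgHom.commutes]
    rfl
  let θ : A →+* κ := (Pi.evalRingHom _ j).comp
    (e.toAlgHom.toRingHom.comp (Algebra.TensorProduct.includeRight (R := R) (A := κ) (B := A)).toRingHom)
  have hθ : θ.comp (algebraMap R A) = IsLocalRing.residue R := by
    ext r
    change (e ((1 : κ) ⊗ₜ[R] (algebraMap R A r))) j = IsLocalRing.residue R r
    have : ((1 : κ) ⊗ₜ[R] (algebraMap R A r)) = algebraMap κ (κ ⊗[R] A) (IsLocalRing.residue R r) := by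
      rw [Algebra.TensorProduct.algebraMap_apply, Algebra.algebraMap_eq_smul_one (A := A),
        ← TensorProduct.smul_tmul, Algebra.smul_def, mul_one]
      rfl
    rw [this, AlgEquiv.commutes]
    rfl
  have hθω : ∀ a, ρb (θ a) = ω a := by
    intro a
    have h1 := hg (e ((1 : κ) ⊗ₜ[R] a))
    have h2 : g (e ((1 : κ) ⊗ₜ[R] a)) = ω a := by
      change ωb (e.symm (e ((1 : κ) ⊗ₜ[R] a))) = ω a
      rw [AlgEquiv.symm_apply_apply]
      change (Algebra.TensorProduct.lift (Algebra.ofId κ Ω) ωa _) ((1 : κ) ⊗ₜ[R] a) = ω a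
      rw [Algebra.TensorProduct.lift_tmul, map_one, one_mul]
      rfl
    rw [← h2, h1]
    rfl
  obtain ⟨s, hs⟩ := exists_algHom_lift R A θ hθ
  refine ⟨s, fun a => ?_⟩
  rw [← hθω a, ← hs a]
  rfl

section FiniteLocal

variable (R : Type u) [CommRing R] [IsLocalRing R] (S : Type u) [CommRing S] [IsLocalRing S]
  [Algebra R S] [Algebra.IsIntegral R S]

lemma comap_maximalIdeal_eq :
    (IsLocalRing.maximalIdeal S).comap (algebraMap R S) = IsLocalRing.maximalIdeal R :=
  IsLocalRing.eq_maximalIdeal
    (Ideal.isMaximal_comap_of_isIntegral_of_isMaximal (R := R) (IsLocalRing.maximalIdeal S))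

lemma isLocalHom_of_integral : IsLocalHom (algebraMap R S) := by
  constructor
  intro r hr
  by_contra hcon
  have h1 : r ∈ IsLocalRing.maximalIdeal R := (IsLocalRing.mem_maximalIdeal r).2 hcon
  rw [← comap_maximalIdeal_eq R S, Ideal.mem_comap, IsLocalRing.mem_maximalIdeal] at h1
  exact h1 hr

variable {R S}

/-- A ring hom from an integral local `R`-algebra to a field which is local on `R` is local. -/
lemma isLocalHom_of_comp {Ω : Type*} [Field Ω] (φ : S →+* Ω)
    (h : IsLocalHom (φ.comp (algebraMap R S))) : IsLocalHom φ := by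
  have hker : RingHom.ker (φ.comp (algebraMap R S)) = IsLocalRing.maximalIdeal R := by
    ext r
    rw [RingHom.mem_ker, IsLocalRing.mem_maximalIdeal, mem_nonunits_iff]
    constructor
    · intro h0 hu
      have := (hu.map (φ.comp (algebraMap R S))).ne_zero
      exact this h0
    · intro hr
      by_contra h0
      exact hr (h.map_nonunit r (isUnit_iff_ne_zero.2 h0))
  haveI : (RingHom.ker φ).IsPrime := RingHom.ker_isPrime φ
  have hcomap : (RingHom.ker φ).comap (algebraMap R S) = IsLocalRing.maximalIdeal R := by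
    rw [← hker]; rfl
  have hmax : (RingHom.ker φ).IsMaximal :=
    Ideal.isMaximal_of_isIntegral_of_isMaximal_comap (R := R) (RingHom.ker φ)
      (hcomap ▸ IsLocalRing.maximalIdeal.isMaximal R)
  have hkm : RingHom.ker φ = IsLocalRing.maximalIdeal S := IsLocalRing.eq_maximalIdeal hmax
  constructor
  intro x hx
  by_contra hcon
  have : x ∈ RingHom.ker φ := by
    rw [hkm]; exact (IsLocalRing.mem_maximalIdeal x).2 hcon
  exact hx.ne_zero (RingHom.mem_ker.1 this)

end FiniteLocal

section FiniteHensel

lemma henselian_of_finite (R : Type u) [CommRing R] [HenselianLocalRing R] (S : Type u)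
    [CommRing S] [IsLocalRing S] [Algebra R S] [Module.Finite R S] : HenselianLocalRing S := by
  apply Groth.Agent.S5034.result S
  intro F hF
  haveI : Module.Finite S (AdjoinRoot F) := hF.finite_adjoinRoot
  haveI : IsScalarTower R S (AdjoinRoot F) := inferInstance
  haveI : Module.Finite R (AdjoinRoot F) := Module.Finite.trans S (AdjoinRoot F)
  exact Groth.Agent.S0499.result R (AdjoinRoot F)

variable (R : Type u) [CommRing R] [HenselianLocalRing R] (S : Type u) [CommRing S] [IsLocalRing S]
  [Algebra R S] [Module.Finite R S]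

include R in
lemma isSepClosed_residueField_of_finite [IsSepClosed (IsLocalRing.ResidueField R)] :
    IsSepClosed (IsLocalRing.ResidueField S) := by
  haveI : IsLocalHom (algebraMap R S) := isLocalHom_of_integral R S
  haveI : Module.Finite (IsLocalRing.ResidueField R) (IsLocalRing.ResidueField S) := inferInstance
  exact Algebra.IsAlgebraic.isSepClosed (F := IsLocalRing.ResidueField R)

/-- Uniqueness of points: two ring homs from a finite local algebra over a strictly henselian
local ring to a field, agreeing on the base where they are local, coincide. -/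
lemma point_unique [IsSepClosed (IsLocalRing.ResidueField R)] {Ω : Type u} [Field Ω]
    (φ φ' : S →+* Ω) (h : φ.comp (algebraMap R S) = φ'.comp (algebraMap R S))
    (hl : IsLocalHom (φ.comp (algebraMap R S))) : φ = φ' := by
  haveI : IsLocalHom (algebraMap R S) := isLocalHom_of_integral R S
  haveI h1 : IsLocalHom φ := isLocalHom_of_comp φ hl
  haveI h2 : IsLocalHom φ' := isLocalHom_of_comp φ' (h ▸ hl)
  let φb := IsLocalRing.ResidueField.lift φ
  let φb' := IsLocalRing.ResidueField.lift φ'
  haveI : Module.Finite (IsLocalRing.ResidueField R) (IsLocalRing.ResidueField S) := inferInstance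
  haveI : IsPurelyInseparable (IsLocalRing.ResidueField R) (IsLocalRing.ResidueField S) :=
    inferInstance
  have hb : φb.comp (algebraMap (IsLocalRing.ResidueField R) (IsLocalRing.ResidueField S)) =
      φb'.comp (algebraMap (IsLocalRing.ResidueField R) (IsLocalRing.ResidueField S)) := by
    ext x
    obtain ⟨r, rfl⟩ := IsLocalRing.residue_surjective x
    exact congrArg (fun g : R →+* Ω => g r) h
  have := IsPurelyInseparable.injective_comp_algebraMap (IsLocalRing.ResidueField R)
    (IsLocalRing.ResidueField S) Ω hb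
  ext x
  exact congrArg (fun g : IsLocalRing.ResidueField S →+* Ω => g (IsLocalRing.residue S x)) this

end FiniteHensel

end Groth.Agent.Lib.Helper23.FinPushAlg1
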