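import Groth.Agent.Lib.Helper23.FinPushAlg1
import Mathlib.FieldTheory.IsAlgClosed.Basic

/-!
# Finite algebras over a strictly henselian local ring: points, idempotents and sections
-/

set_option autoImplicit false
universe u

namespace Groth.Agent.Lib.Helper23.FinPushAlg2

open TensorProduct FinPushAlg1

section Points

variable (R : Type u) [CommRing R] [HenselianLocalRing R]
  (S : Type u) [CommRing S] [IsLocalRing S] [Algebra R S] [Module.Finite R S]
  {Ω : Type u} [Field Ω] [IsAlgClosed Ω] (ev : R →+* Ω) [IsLocalHom ev]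

/-- existence of a point on a finite local algebra -/
lemma exists_point : ∃ ρ : S →+* Ω, ρ.comp (algebraMap R S) = ev := by
  haveI : IsLocalHom (algebraMap R S) := isLocalHom_of_integral R S
  let evb : IsLocalRing.ResidueField R →+* Ω := IsLocalRing.ResidueField.lift ev
  letI : Algebra (IsLocalRing.ResidueField R) Ω := evb.toAlgebra
  haveI : Module.Finite (IsLocalRing.ResidueField R) (IsLocalRing.ResidueField S) := inferInstance
  haveI : Algebra.IsAlgebraic (IsLocalRing.ResidueField R) (IsLocalRing.ResidueField S) :=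
    inferInstance
  let l : IsLocalRing.ResidueField S →ₐ[IsLocalRing.ResidueField R] Ω := IsAlgClosed.lift
  refine ⟨l.toRingHom.comp (IsLocalRing.residue S), ?_⟩
  ext r
  change l (IsLocalRing.residue S (algebraMap R S r)) = ev r
  have h1 : IsLocalRing.residue S (algebraMap R S r) =
      algebraMap (IsLocalRing.ResidueField R) (IsLocalRing.ResidueField S)
        (IsLocalRing.residue R r) := rfl
  rw [h1, AlgHom.commutes]
  rfl

end Points

section Main

variable (A : Type u) [CommRing A] [HenselianLocalRing A]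
  [IsSepClosed (IsLocalRing.ResidueField A)]
  (B : Type u) [CommRing B] [Algebra A B] [Module.Finite A B]
  {Ω : Type u} [Field Ω] [IsAlgClosed Ω] (ev : A →+* Ω) [IsLocalHom ev]

set_option maxHeartbeats 800000 in
/-- Decomposition of a finite algebra over a strictly henselian local ring into its local factors,
with their `Ω`-points and the section property for etale algebras. -/
theorem exists_decomp :
    ∃ (ι : Type u) (_ : Fintype ι) (_ : DecidableEq ι) (T : ι → Type u)
      (_ : ∀ i, CommRing (T i)) (_ : ∀ i, Algebra B (T i)) (ρ : ∀ i, T i →+* Ω) (e : ι → B),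
      CompleteOrthogonalIdempotents e ∧
      (∀ i, Function.Surjective (algebraMap B (T i))) ∧
      (∀ i b, algebraMap B (T i) b = 0 → e i * b = 0) ∧
      (∀ i, (ρ i).comp ((algebraMap B (T i)).comp (algebraMap A B)) = ev) ∧
      (∀ i j, ρ i (algebraMap B (T i) (e j)) = if i = j then 1 else 0) ∧
      (∀ ω : B →+* Ω, ω.comp (algebraMap A B) = ev →
        ∃ i, ω = (ρ i).comp (algebraMap B (T i))) ∧
      (∀ i (C : Type u) [CommRing C] [Algebra B C] [Algebra.Etale B C] (ωC : C →+* Ω),
        ωC.comp (algebraMap B C) = (ρ i).comp (algebraMap B (T i)) →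
        ∃ σ : C →ₐ[B] T i, ∀ c, ρ i (σ c) = ωC c) := by
  classical
  obtain ⟨ι, hι, T, hT, hloc, ⟨iso⟩⟩ := Groth.Agent.S0499.result A B
  letI := hι
  letI := hT
  haveI := hloc
  let π : ∀ i, B →+* T i := fun i => (Pi.evalRingHom T i).comp iso.toRingHom
  letI algBT : ∀ i, Algebra B (T i) := fun i => (π i).toAlgebra
  letI algAT : ∀ i, Algebra A (T i) := fun i => ((π i).comp (algebraMap A B)).toAlgebra
  haveI : ∀ i, IsScalarTower A B (T i) := fun i => IsScalarTower.of_algebraMap_eq (fun _ => rfl)
  have hπ : ∀ i b, π i b = iso b i := fun i b => rfl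
  have hsurj : ∀ i, Function.Surjective (π i) := fun i t =>
    ⟨iso.symm (Pi.single i t), by rw [hπ, RingEquiv.apply_symm_apply, Pi.single_eq_same]⟩
  haveI : ∀ i, Module.Finite A (T i) := fun i =>
    Module.Finite.of_surjective ((Algebra.linearMap B (T i)).restrictScalars A) (hsurj i)
  haveI hH : ∀ i, HenselianLocalRing (T i) := fun i => henselian_of_finite A (T i)
  haveI hS : ∀ i, IsSepClosed (IsLocalRing.ResidueField (T i)) := fun i =>
    isSepClosed_residueField_of_finite A (T i)
  choose ρ hρ using fun i => exists_point A (T i) ev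
  let e : ι → B := fun i => iso.symm (Pi.single i 1)
  have he : ∀ i, iso (e i) = Pi.single i 1 := fun i => RingEquiv.apply_symm_apply _ _
  have hcoi : CompleteOrthogonalIdempotents e := by
    have h0 : CompleteOrthogonalIdempotents (fun i : ι => (Pi.single i 1 : ∀ i, T i)) :=
      CompleteOrthogonalIdempotents.single T
    exact h0.map iso.symm.toRingHom
  have hloc_ev : ∀ i, IsLocalHom ((ρ i).comp (algebraMap A (T i))) := fun i => by
    rw [hρ i]; infer_instance
  haveI hρloc : ∀ i, IsLocalHom (ρ i) := fun i => isLocalHom_of_comp (ρ i) (hloc_ev i)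
  refine ⟨ι, hι, inferInstance, T, hT, algBT, ρ, e, hcoi, hsurj, ?_, ?_, ?_, ?_, ?_⟩
  · intro i b hb
    apply iso.injective
    rw [map_mul, he, map_zero]
    ext j
    by_cases hj : j = i
    · subst hj
      have : iso b j = 0 := hb
      simp [this]
    · simp [Pi.single_eq_of_ne hj]
  · intro i
    exact hρ i
  · intro i j
    change ρ i (iso (e j) i) = _
    rw [he]
    by_cases hij : i = j
    · subst hij
      simp
    · rw [Pi.single_eq_of_ne hij, map_zero, if_neg hij]
  · intro ω hω
    obtain ⟨j, hj1, hj0⟩ := exists_factor (A := T) (ω.comp iso.symm.toRingHom)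
    refine ⟨j, ?_⟩
    -- the induced point on the factor
    let ωj : T j →+* Ω :=
      { toFun := fun t => ω (iso.symm (Pi.single j t))
        map_one' := hj1
        map_mul' := fun x y => by
          rw [← map_mul, ← map_mul, ← Pi.single_mul]
        map_zero' := by rw [Pi.single_zero, map_zero, map_zero]
        map_add' := fun x y => by
          rw [← map_add, ← map_add, ← Pi.single_add] }
    have hfac : ∀ b, ω b = ωj (π j b) := by
      intro b
      have h1 := hj0 (iso b - Pi.single j (iso b j)) (by simp)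
      change ω (iso.symm (iso b - Pi.single j (iso b j))) = 0 at h1
      rw [map_sub, map_sub, RingEquiv.symm_apply_apply, sub_eq_zero] at h1
      exact h1
    have hωj : ωj.comp (algebraMap A (T j)) = ev := by
      ext a
      change ωj (π j (algebraMap A B a)) = ev a
      rw [← hfac, ← hω]
      rfl
    have huniq : ωj = ρ j :=
      point_unique A (T j) ωj (ρ j) (hωj.trans (hρ j).symm) (by rw [hωj]; infer_instance)
    ext b
    rw [hfac b, huniq]
    rfl
  · intro i C _ _ _ ωC hωC
    letI : Algebra (T i) Ω := (ρ i).toAlgebra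
    letI : Algebra B Ω := ((ρ i).comp (algebraMap B (T i))).toAlgebra
    haveI : IsScalarTower B (T i) Ω := IsScalarTower.of_algebraMap_eq (fun _ => rfl)
    let ωCa : C →ₐ[B] Ω :=
      { ωC with
        commutes' := fun b => congrArg (fun g : B →+* Ω => g b) hωC }
    let pt : T i ⊗[B] C →ₐ[T i] Ω :=
      Algebra.TensorProduct.lift (Algebra.ofId (T i) Ω) ωCa (fun _ _ => Commute.all _ _)
    have hpt : pt.toRingHom.comp (algebraMap (T i) (T i ⊗[B] C)) = ρ i := by
      ext t
      change pt (algebraMap (T i) (T i ⊗[B] C) t) = ρ i t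
      rw [AlgHom.commutes]
      rfl
    obtain ⟨s, hs⟩ := exists_section_of_point (T i) (T i ⊗[B] C) (ρ i) pt.toRingHom hpt
    refine ⟨(s.restrictScalars B).comp
      (Algebra.TensorProduct.includeRight (R := B) (A := T i) (B := C)), fun c => ?_⟩
    change ρ i (s ((1 : T i) ⊗ₜ[B] c)) = ωC c
    rw [hs]
    change pt ((1 : T i) ⊗ₜ[B] c) = ωC c
    rw [Algebra.TensorProduct.lift_tmul, map_one, one_mul]
    rfl

end Main

section Base

set_option linter.style.haveILetI false in
/-- the section property over a base ring -/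
lemma section_base {B T : Type u} [CommRing B] [CommRing T] [Algebra B T] {Ω : Type u} [Field Ω]
    (ρ : T →+* Ω)
    (hsec : ∀ (C : Type u) [CommRing C] [Algebra B C] [Algebra.Etale B C] (ωC : C →+* Ω),
      ωC.comp (algebraMap B C) = ρ.comp (algebraMap B T) →
      ∃ σ : C →ₐ[B] T, ∀ c, ρ (σ c) = ωC c)
    {B₀ C₀ : Type u} [CommRing B₀] [CommRing C₀] (g : B₀ →+* B) (β : B₀ →+* C₀) (hβ : β.Etale)
    (ω₀ : C₀ →+* Ω) (h : ω₀.comp β = (ρ.comp (algebraMap B T)).comp g) :
    ∃ σ₀ : C₀ →+* T, σ₀.comp β = (algebraMap B T).comp g ∧ ∀ c, ρ (σ₀ c) = ω₀ c := by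
  letI := g.toAlgebra
  letI := β.toAlgebra
  haveI : Algebra.Etale B₀ C₀ := RingHom.etale_algebraMap.1 hβ
  letI : Algebra B Ω := (ρ.comp (algebraMap B T)).toAlgebra
  letI : Algebra B₀ Ω := ((ρ.comp (algebraMap B T)).comp g).toAlgebra
  haveI : IsScalarTower B₀ B Ω := IsScalarTower.of_algebraMap_eq (fun _ => rfl)
  let ω₀a : C₀ →ₐ[B₀] Ω :=
    { ω₀ with commutes' := fun b => congrArg (fun φ : B₀ →+* Ω => φ b) h }
  let ωC : B ⊗[B₀] C₀ →ₐ[B] Ω :=
    Algebra.TensorProduct.lift (Algebra.ofId B Ω) ω₀a (fun _ _ => Commute.all _ _)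
  have hωC : ωC.toRingHom.comp (algebraMap B (B ⊗[B₀] C₀)) = ρ.comp (algebraMap B T) := by
    ext b
    change ωC (algebraMap B (B ⊗[B₀] C₀) b) = _
    rw [AlgHom.commutes]
    rfl
  obtain ⟨σ, hσ⟩ := hsec (B ⊗[B₀] C₀) ωC.toRingHom hωC
  refine ⟨σ.toRingHom.comp
    (Algebra.TensorProduct.includeRight (R := B₀) (A := B) (B := C₀)).toRingHom, ?_, ?_⟩
  · ext b
    change σ ((1 : B) ⊗ₜ[B₀] (algebraMap B₀ C₀ b)) = algebraMap B T (algebraMap B₀ B b)
    rw [← σ.commutes, Algebra.TensorProduct.algebraMap_apply,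
      Algebra.algebraMap_eq_smul_one (A := C₀), ← TensorProduct.smul_tmul, Algebra.smul_def,
      mul_one]
    rfl
  · intro c
    change ρ (σ ((1 : B) ⊗ₜ[B₀] c)) = ω₀ c
    rw [hσ]
    change ωC ((1 : B) ⊗ₜ[B₀] c) = ω₀ c
    rw [Algebra.TensorProduct.lift_tmul, map_one, one_mul]
    rfl

end Base

end Groth.Agent.Lib.Helper23.FinPushAlg2
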