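import Groth.Agent.Lib.Helper23.FinPushStalk2
import Groth.Agent.Lib.Helper23.PointStalk
import Mathlib.CategoryTheory.Sites.EpiMono
import Mathlib.Algebra.Homology.ShortComplex.ExactFunctor
import Mathlib.CategoryTheory.Abelian.RightDerived
import Mathlib.FieldTheory.IsAlgClosed.AlgebraicClosure

/-!
# Exactness of the direct image along a finite morphism
-/

set_option autoImplicit false
universe u

namespace Groth.Agent.Lib.Helper23.FinPushExact

open CategoryTheory CategoryTheory.Limits AlgebraicGeometry Opposite GrothendieckTopology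
open EtLocalRing FinPushFiber EtGlue FinPushGeom FinPushStalk

section RD

universe v₁ v₂ u₁ u₂
variable {C : Type u₁} [Category.{v₁} C] [Abelian C] [HasInjectiveResolutions C]
  {D : Type u₂} [Category.{v₂} D] [Abelian D]

lemma isZero_rightDerived_of_exact (F : C ⥤ D) [F.Additive] [F.PreservesHomology] (n : ℕ)
    (X : C) : IsZero ((F.rightDerived (n + 1)).obj X) := by
  let I : InjectiveResolution X := injectiveResolution X
  refine IsZero.of_iso ?_ (I.isoRightDerivedObj F (n + 1))
  have h1 : I.cocomplex.ExactAt (n + 1) := I.cocomplex_exactAt_succ n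
  change IsZero (((F.mapHomologicalComplex _).obj I.cocomplex).homology (n + 1))
  rw [← HomologicalComplex.exactAt_iff_isZero_homology]
  rw [HomologicalComplex.exactAt_iff] at h1 ⊢
  exact h1.map F

end RD

instance i1 : PreservesFilteredColimitsOfSize.{u,u} (forget AddCommGrpCat.{u+1}) :=
  preservesFilteredColimitsOfSize_shrink.{u, u+1, u, u+1} _

section Points

/-- the conservative family of algebraically closed geometric points -/
lemma isConservative_algClosed (S : Scheme.{u}) :
    (ObjectProperty.ofObj (fun (s : S) ↦ Scheme.pointSmallEtale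
      ((Scheme.SpecToEquivOfField (AlgebraicClosure (S.residueField s)) _).2
        ⟨s, CommRingCat.ofHom
          (algebraMap (S.residueField s) _)⟩))).IsConservativeFamilyOfPoints :=
  Scheme.isConservative_pointSmallEtale _ (by
    ext s
    simp only [Equiv.invFun_as_coe, Set.mem_iUnion, Set.mem_range, Set.mem_univ, iff_true]
    exact ⟨s, default, by simp [Scheme.SpecToEquivOfField]⟩)

lemma key (X : Scheme.{u}) (Φ : (ObjectProperty.ofObj (fun (s : X) ↦ Scheme.pointSmallEtale
      ((Scheme.SpecToEquivOfField (AlgebraicClosure (X.residueField s)) _).2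
        ⟨s, CommRingCat.ofHom (algebraMap (X.residueField s) _)⟩))).FullSubcategory) :
      ∃ (Ω : Type u) (_ : Field Ω) (_ : IsAlgClosed Ω) (ξ : Spec (CommRingCat.of Ω) ⟶ X),
        Φ.obj = Scheme.pointSmallEtale ξ := by
  obtain ⟨Φ, ⟨s⟩⟩ := Φ
  exact ⟨AlgebraicClosure (X.residueField s), inferInstance, inferInstance, _, rfl⟩

lemma epi_of_stalks {X : Scheme.{u}} {F G : EtCoh.Ab X} (a : F ⟶ G)
    (h : ∀ (Ω : Type u) [Field Ω] [IsAlgClosed Ω] (ξ : Spec (CommRingCat.of Ω) ⟶ X),
      Function.Surjective ((EtCoh.stalk ξ).map a)) : Epi a := by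
  have hP := isConservative_algClosed X
  have : Presheaf.IsLocallySurjective X.smallEtaleTopology a.hom :=
    Groth.Agent.Lib.Helper23.PointStalk.isLocallySurjective_of_fibers hP a.hom (fun Φ => by
      obtain ⟨Ω, _, _, ξ, hΦ⟩ := key X Φ
      rw [hΦ]
      exact h Ω ξ)
  exact (Sheaf.isLocallySurjective_iff_epi' AddCommGrpCat.{u+1} a).1 this

lemma stalk_surjective_of_epi {X : Scheme.{u}} {F G : EtCoh.Ab X} (a : F ⟶ G) [Epi a]
    {Ω : Type u} [Field Ω] [IsSepClosed Ω] (ξ : Spec (CommRingCat.of Ω) ⟶ X) :
    Function.Surjective ((Scheme.pointSmallEtale ξ).presheafFiber.map a.hom) := by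
  have : Sheaf.IsLocallySurjective a :=
    (Sheaf.isLocallySurjective_iff_epi' AddCommGrpCat.{u+1} a).2 inferInstance
  exact (Scheme.pointSmallEtale ξ).toPresheafFiber_map_surjective a.hom

end Points

section Exact

variable {X Y : Scheme.{u}} (f : X ⟶ Y) [IsFinite f]

set_option backward.isDefEq.respectTransparency.types false in
set_option backward.isDefEq.respectTransparency false in
lemma epi_push {F G : EtCoh.Ab X} (a : F ⟶ G) [Epi a] : Epi ((EtCoh.push f).map a) := by
  apply epi_of_stalks
  intro Ω _ _ η z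
  have hG : Presheaf.IsSheaf X.smallEtaleTopology (G.obj ⋙ forget AddCommGrpCat.{u+1}) :=
    (Presheaf.isSheaf_iff_isSheaf_forget _ _ (forget AddCommGrpCat.{u+1})).1 G.property
  have hF : Presheaf.IsSheaf X.smallEtaleTopology (F.obj ⋙ forget AddCommGrpCat.{u+1}) :=
    (Presheaf.isSheaf_iff_isSheaf_forget _ _ (forget AddCommGrpCat.{u+1})).1 F.property
  -- lift the components
  have h1 : ∀ ξ : Lifts f η, ∃ x : ToType ((Scheme.pointSmallEtale ξ.1).presheafFiber.obj F.obj),
      (Scheme.pointSmallEtale ξ.1).presheafFiber.map a.hom x = θcomp f η G.obj ξ z :=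
    fun ξ => stalk_surjective_of_epi a ξ.1 _
  choose x hx using h1
  obtain ⟨z', hz'⟩ := θ_surjective f η F.obj hF x
  refine ⟨z', ?_⟩
  apply θ_injective f η G.obj hG
  intro ξ
  have hnat := θcomp_naturality f η a.hom ξ
  have h2 : θcomp f η G.obj ξ ((Scheme.pointSmallEtale η).presheafFiber.map
      (Functor.whiskerLeft (EtCoh.bc f).op a.hom) z') =
      (Scheme.pointSmallEtale ξ.1).presheafFiber.map a.hom (θcomp f η F.obj ξ z') := by
    rw [← ConcreteCategory.comp_apply, hnat, ConcreteCategory.comp_apply]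
  refine Eq.trans ?_ (hx ξ)
  rw [← hz' ξ]
  exact h2

instance : PreservesFiniteLimits (EtCoh.push f) := by
  haveI : (EtCoh.push f).IsRightAdjoint := (EtCoh.pullPushAdj f).isRightAdjoint
  infer_instance

instance preservesHomology_push : (EtCoh.push f).PreservesHomology := by
  refine ((Functor.exact_tfae (EtCoh.push f)).out 0 2).1 ?_
  intro S hS
  have h0 : PreservesFiniteLimits (EtCoh.push f) := inferInstance
  have h1 := (Functor.preservesFiniteLimits_iff_forall_exact_map_and_mono (EtCoh.push f)).1 h0 S hS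
  haveI := hS.epi_g
  haveI : Mono (S.map (EtCoh.push f)).f := h1.2
  haveI : Epi (S.map (EtCoh.push f)).g := epi_push f S.g
  exact ⟨h1.1⟩

end Exact

end Groth.Agent.Lib.Helper23.FinPushExact
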