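import Groth.Agent.Lib.Helper23.EtLocalRing
import Groth.Agent.Lib.Helper23.FinPushAlg2
import Mathlib.Algebra.Category.Ring.Constructions
import Mathlib.RingTheory.IsTensorProduct
import Mathlib.AlgebraicGeometry.Morphisms.Finite

/-!
# The fibre of the pushforward of the structure presheaf along a morphism
-/

set_option autoImplicit false
universe u

namespace Groth.Agent.Lib.Helper23.FinPushFiber

open CategoryTheory CategoryTheory.Limits AlgebraicGeometry Opposite GrothendieckTopology
open EtLocalRing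

instance i1 : PreservesFilteredColimitsOfSize.{u,u} (forget CommRingCat.{u}) := inferInstance

variable {X Y : Scheme.{u}} (f : X ⟶ Y)

/-- the pushforward of the structure presheaf -/
noncomputable abbrev PP : Y.Etaleᵒᵖ ⥤ CommRingCat.{u} := (EtCoh.bc f).op ⋙ EtBase.OO X

set_option backward.isDefEq.respectTransparency.types false in
set_option backward.isDefEq.respectTransparency false in
/-- the comparison `𝒪_Y ⟶ f_* 𝒪_X` -/
noncomputable def τ : EtBase.OO Y ⟶ PP f where
  app V := (pullback.fst V.unop.hom f : ((EtCoh.bc f).obj V.unop).left ⟶ V.unop.left).appTop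
  naturality V V' g := by
    have h := (EtCoh.isPullback_bc_map f g.unop).w
    change g.unop.left.appTop ≫ (pullback.fst V'.unop.hom f).appTop =
      (pullback.fst V.unop.hom f).appTop ≫ ((EtCoh.bc f).map g.unop).left.appTop
    rw [← Scheme.Hom.comp_appTop, ← Scheme.Hom.comp_appTop, h]

variable {Ω : Type u} [Field Ω] [IsSepClosed Ω] (η : Spec (CommRingCat.of Ω) ⟶ Y)

/-- the fibre ring -/
noncomputable abbrev Binf : CommRingCat.{u} := (Scheme.pointSmallEtale η).presheafFiber.obj (PP f)

/-- the structure map from the etale local ring -/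
noncomputable abbrev α : EtBase.etaleLocalRing η ⟶ Binf f η :=
  (Scheme.pointSmallEtale η).presheafFiber.map (τ f)

/-- germ maps -/
noncomputable abbrev germB (V : Y.Etale) (v : (Scheme.pointSmallEtale η).fiber.obj V) :
    (PP f).obj (op V) ⟶ Binf f η :=
  (Scheme.pointSmallEtale η).toPresheafFiber V v (PP f)

lemma germB_surj (b : Binf f η) :
    ∃ (V : Y.Etale) (v : (Scheme.pointSmallEtale η).fiber.obj V) (s : (PP f).obj (op V)),
      germB f η V v s = b :=
  (Scheme.pointSmallEtale η).toPresheafFiber_jointly_surjective b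

lemma germB_w {U V : Y.Etale} (g : U ⟶ V) (x : (Scheme.pointSmallEtale η).fiber.obj U) (s) :
    germB f η U x ((PP f).map g.op s) =
      germB f η V ((Scheme.pointSmallEtale η).fiber.map g x) s :=
  (Scheme.pointSmallEtale η).toPresheafFiber_w_apply g x (PP f) s

lemma germB_eq_iff (V : Y.Etale) (v : (Scheme.pointSmallEtale η).fiber.obj V)
    (s t : (PP f).obj (op V)) :
    germB f η V v s = germB f η V v t ↔
      ∃ (U : Y.Etale) (g : U ⟶ V) (x : (Scheme.pointSmallEtale η).fiber.obj U),
        (Scheme.pointSmallEtale η).fiber.map g x = v ∧ (PP f).map g.op s = (PP f).map g.op t :=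
  (Scheme.pointSmallEtale η).toPresheafFiber_eq_iff' V v s t

lemma α_germ (V : Y.Etale) (v : (Scheme.pointSmallEtale η).fiber.obj V) :
    germ η V v ≫ α f η = (τ f).app (op V) ≫ germB f η V v :=
  (Scheme.pointSmallEtale η).toPresheafFiber_naturality (τ f) V v

lemma α_germ_apply (V : Y.Etale) (v : (Scheme.pointSmallEtale η).fiber.obj V) (r) :
    α f η (germ η V v r) = germB f η V v ((τ f).app (op V) r) :=
  congrArg (fun φ : (EtBase.OO Y).obj (op V) ⟶ Binf f η => φ.hom r) (α_germ f η V v)

section Lifts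

variable {f η}
variable (ξ : Spec (CommRingCat.of Ω) ⟶ X) (hξ : ξ ≫ f = η)

/-- the point of `X ×_Y V` determined by a lift `ξ` of `η` and a point `v` of `V` -/
noncomputable def liftpt (V : Y.Etale) (v : (Scheme.pointSmallEtale η).fiber.obj V) :
    (Scheme.pointSmallEtale ξ).fiber.obj ((EtCoh.bc f).obj V) :=
  Over.homMk (pullback.lift (v.left : Spec (CommRingCat.of Ω) ⟶ V.left) ξ
    (by rw [hξ]; exact Over.w v)) (pullback.lift_snd _ _ _)

set_option backward.isDefEq.respectTransparency.types false in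
set_option backward.isDefEq.respectTransparency false in
lemma liftpt_left_fst (V : Y.Etale) (v : (Scheme.pointSmallEtale η).fiber.obj V) :
    ((liftpt ξ hξ V v).left : Spec (CommRingCat.of Ω) ⟶ ((EtCoh.bc f).obj V).left) ≫
      (pullback.fst V.hom f : ((EtCoh.bc f).obj V).left ⟶ V.left) = v.left :=
  pullback.lift_fst _ _ _

set_option backward.isDefEq.respectTransparency.types false in
set_option backward.isDefEq.respectTransparency false in
lemma liftpt_left_snd (V : Y.Etale) (v : (Scheme.pointSmallEtale η).fiber.obj V) :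
    ((liftpt ξ hξ V v).left : Spec (CommRingCat.of Ω) ⟶ ((EtCoh.bc f).obj V).left) ≫
      (pullback.snd V.hom f : ((EtCoh.bc f).obj V).left ⟶ X) = ξ :=
  pullback.lift_snd _ _ _

set_option backward.isDefEq.respectTransparency.types false in
set_option backward.isDefEq.respectTransparency false in
lemma liftpt_map {U V : Y.Etale} (g : U ⟶ V) (x : (Scheme.pointSmallEtale η).fiber.obj U) :
    (Scheme.pointSmallEtale ξ).fiber.map ((EtCoh.bc f).map g) (liftpt ξ hξ U x) =
      liftpt ξ hξ V ((Scheme.pointSmallEtale η).fiber.map g x) := by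
  apply Over.OverMorphism.ext
  change (liftpt ξ hξ U x).left ≫ ((EtCoh.bc f).map g).left = _
  apply pullback.hom_ext
  · rw [Category.assoc, (EtCoh.isPullback_bc_map f g).w, ← Category.assoc, liftpt_left_fst,
      liftpt_left_fst]
    rfl
  · have e1 : ((EtCoh.bc f).map g).left ≫ pullback.snd V.hom f = pullback.snd U.hom f :=
      Over.w ((EtCoh.bc f).map g).hom
    rw [Category.assoc, e1, liftpt_left_snd, liftpt_left_snd]

/-- evaluation of germs of `f_* 𝒪_X` at a lift -/
noncomputable def evB : Binf f η ⟶ CommRingCat.of Ω :=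
  (Scheme.pointSmallEtale η).presheafFiberDesc
    (fun V v => evAt ξ ((EtCoh.bc f).obj V) (liftpt ξ hξ V v))
    (fun U V g x => by
      change (EtBase.OO X).map ((EtCoh.bc f).map g).op ≫ _ = _
      rw [evAt_w, liftpt_map])

@[reassoc]
lemma germB_evB (V : Y.Etale) (v : (Scheme.pointSmallEtale η).fiber.obj V) :
    germB f η V v ≫ evB ξ hξ = evAt ξ ((EtCoh.bc f).obj V) (liftpt ξ hξ V v) :=
  (Scheme.pointSmallEtale η).toPresheafFiber_presheafFiberDesc _ _ V v

lemma germB_evB_apply (V : Y.Etale) (v : (Scheme.pointSmallEtale η).fiber.obj V) (s) :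
    evB ξ hξ (germB f η V v s) = evAt ξ ((EtCoh.bc f).obj V) (liftpt ξ hξ V v) s := by
  rw [← germB_evB]; rfl

set_option backward.isDefEq.respectTransparency.types false in
set_option backward.isDefEq.respectTransparency false in
lemma α_evB : α f η ≫ evB ξ hξ = ev η := by
  apply (Scheme.pointSmallEtale η).presheafFiber_hom_ext
  intro V v
  rw [← Category.assoc]
  erw [α_germ f η V v]
  rw [Category.assoc, germB_evB]
  erw [germ_ev]
  dsimp only [evAt, τ]
  rw [← Category.assoc, ← Scheme.Hom.comp_appTop, liftpt_left_fst]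

end Lifts

section Gen

set_option linter.style.haveILetI false in
set_option backward.isDefEq.respectTransparency false in
lemma gen_of_isPushout {R S A P : CommRingCat.{u}} {φ : R ⟶ S} {ψ : R ⟶ A} {inl : S ⟶ P}
    {inr : A ⟶ P} (h : IsPushout φ ψ inl inr) {ι : Type*} [Fintype ι] (b : ι → S)
    (hb : ∀ s : S, ∃ r : ι → R, s = ∑ j, φ (r j) * b j) (t : P) :
    ∃ a : ι → A, t = ∑ j, inr (a j) * inl (b j) := by
  letI := φ.hom.toAlgebra
  letI := ψ.hom.toAlgebra
  letI := inl.hom.toAlgebra
  letI := inr.hom.toAlgebra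
  letI : Algebra R P := (ψ ≫ inr).hom.toAlgebra
  haveI : IsScalarTower R A P := .of_algebraMap_eq (fun _ => rfl)
  haveI : IsScalarTower R S P := .of_algebraMap_eq (fun r => (congr($(h.w).hom r)).symm)
  have hp : Algebra.IsPushout R A S P := CommRingCat.isPushout_iff_isPushout.1 h.flip
  have hbc := hp.out
  refine hbc.inductionOn t _ ?_ ?_ ?_ ?_
  · exact ⟨0, by simp⟩
  · intro s
    obtain ⟨r, rfl⟩ := hb s
    refine ⟨fun j => ψ (r j), ?_⟩
    change inl.hom (∑ j, φ (r j) * b j) = _
    rw [map_sum]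
    refine Finset.sum_congr rfl (fun j _ => ?_)
    rw [map_mul]
    congr 1
    exact congr($(h.w).hom (r j))
  · rintro a' n ⟨a, rfl⟩
    refine ⟨fun j => a' * a j, ?_⟩
    rw [Algebra.smul_def, Finset.mul_sum]
    refine Finset.sum_congr rfl (fun j _ => ?_)
    rw [map_mul, mul_assoc]
    rfl
  · rintro n₁ n₂ ⟨a₁, rfl⟩ ⟨a₂, rfl⟩
    refine ⟨fun j => a₁ j + a₂ j, ?_⟩
    rw [← Finset.sum_add_distrib]
    refine Finset.sum_congr rfl (fun j _ => ?_)
    rw [map_add, add_mul]

end Gen

section AffineNb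

set_option backward.isDefEq.respectTransparency.types false in
set_option backward.isDefEq.respectTransparency false in
/-- affine refinement of a pointed etale neighbourhood, with the refining morphism -/
lemma exists_affine_nb {Z : Scheme.{u}} (ζ : Spec (CommRingCat.of Ω) ⟶ Z) (U : Z.Etale)
    (u : (Scheme.pointSmallEtale ζ).fiber.obj U) :
    ∃ (R : CommRingCat.{u}) (h : Spec R ⟶ Z) (_ : Etale h) (θ : R ⟶ CommRingCat.of Ω)
      (hθ : Spec.map θ ≫ h = ζ) (k : nb R h ⟶ U),
      (Scheme.pointSmallEtale ζ).fiber.map k (pt ζ R h θ hθ) = u := by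
  haveI : Etale U.hom := U.prop
  obtain ⟨R, j, _, hj, _⟩ := Scheme.exists_affine_mem_range_and_range_subset
    (x := (u.left : Spec (CommRingCat.of Ω) ⟶ U.left) (default : Spec (CommRingCat.of Ω)))
    (U := (⊤ : U.left.Opens)) (by simp)
  have hrange : Set.range (u.left : Spec (CommRingCat.of Ω) ⟶ U.left) ⊆ Set.range j := by
    rintro _ ⟨a, rfl⟩
    have ha : a = (default : Spec (CommRingCat.of Ω)) :=
      @Subsingleton.elim (Spec (CommRingCat.of Ω)) inferInstance a default
    rw [ha]
    exact hj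
  let u' : Spec (CommRingCat.of Ω) ⟶ Spec R := IsOpenImmersion.lift j u.left hrange
  have hu' : u' ≫ j = u.left := IsOpenImmersion.lift_fac j u.left hrange
  let θ : R ⟶ CommRingCat.of Ω := Spec.preimage u'
  have hθ0 : Spec.map θ = u' := Spec.map_preimage _
  have hθ : Spec.map θ ≫ j ≫ U.hom = ζ := by
    rw [hθ0, ← Category.assoc, hu']
    exact Over.w u
  refine ⟨R, j ≫ U.hom, inferInstance, θ, hθ,
    MorphismProperty.Over.homMk j rfl trivial, ?_⟩
  apply Over.OverMorphism.ext
  change Spec.map θ ≫ j = u.left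
  rw [hθ0, hu']

end AffineNb

section Finite

variable [IsFinite f] (V₀ : Y.Etale) [IsAffine V₀.left]

instance isAffine_bc : IsAffine ((EtCoh.bc f).obj V₀).left := by
  let g : V₀.left ⟶ Y := V₀.hom
  have h3 : IsAffine (pullback g f) := isAffine_of_isAffineHom (pullback.fst g f)
  exact h3

instance isAffine_bc' : IsAffine (pullback (V₀.hom : V₀.left ⟶ Y) f) := isAffine_bc f V₀

set_option backward.isDefEq.respectTransparency.types false in
set_option backward.isDefEq.respectTransparency false in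
/-- generators of `Γ(X ×_Y V₀)` over `Γ(V₀)` -/
lemma exists_gens : ∃ (n : ℕ) (b : Fin n → (PP f).obj (op V₀)),
    ∀ s : (PP f).obj (op V₀), ∃ r : Fin n → (EtBase.OO Y).obj (op V₀),
      s = ∑ j, (τ f).app (op V₀) (r j) * b j := by
  let g : V₀.left ⟶ Y := V₀.hom
  have h1 : IsFinite (pullback.fst g f) := inferInstance
  have h2 := ((HasAffineProperty.iff_of_isAffine (P := @IsFinite)
    (f := pullback.fst g f)).1 h1).2
  letI := (pullback.fst g f).appTop.hom.toAlgebra
  have h3 : Module.Finite (Γ(V₀.left, ⊤)) (Γ(pullback g f, ⊤)) := h2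
  obtain ⟨n, b, hb⟩ := Module.Finite.exists_fin (R := Γ(V₀.left, ⊤))
    (M := Γ(pullback g f, ⊤))
  refine ⟨n, b, fun s => ?_⟩
  have hs : (show Γ(pullback g f, ⊤) from s) ∈
      Submodule.span (Γ(V₀.left, ⊤)) (Set.range b) := by rw [hb]; trivial
  obtain ⟨c, hc⟩ := (Submodule.mem_span_range_iff_exists_fun _).1 hs
  refine ⟨c, ?_⟩
  refine hc.symm.trans ?_
  refine Finset.sum_congr rfl (fun j _ => ?_)
  exact Algebra.smul_def _ _

variable (v₀ : (Scheme.pointSmallEtale η).fiber.obj V₀)

/-- any pointed neighbourhood is refined by an affine one mapping to `V₀` -/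
lemma exists_affine_over (V : Y.Etale) (v : (Scheme.pointSmallEtale η).fiber.obj V) :
    ∃ (V' : Y.Etale) (_ : IsAffine V'.left) (v' : (Scheme.pointSmallEtale η).fiber.obj V')
      (k : V' ⟶ V) (k₀ : V' ⟶ V₀),
      (Scheme.pointSmallEtale η).fiber.map k v' = v ∧
      (Scheme.pointSmallEtale η).fiber.map k₀ v' = v₀ := by
  let A : (Scheme.pointSmallEtale η).fiber.Elements := ⟨V, v⟩
  let B : (Scheme.pointSmallEtale η).fiber.Elements := ⟨V₀, v₀⟩
  let M := IsCofiltered.min A B
  let f₁ : M ⟶ A := IsCofiltered.minToLeft A B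
  let f₂ : M ⟶ B := IsCofiltered.minToRight A B
  obtain ⟨R, h, hE, θ, hθ, k, hk⟩ := exists_affine_nb η M.1 M.2
  refine ⟨nb R h, inferInstanceAs (IsAffine (Spec R)), pt η R h θ hθ, k ≫ f₁.1, k ≫ f₂.1, ?_, ?_⟩
  · rw [Functor.map_comp_apply, hk]
    exact f₁.2
  · rw [Functor.map_comp_apply, hk]
    exact f₂.2

set_option backward.isDefEq.respectTransparency.types false in
set_option backward.isDefEq.respectTransparency false in
lemma germB_mem_span {n : ℕ} (b : Fin n → (PP f).obj (op V₀))
    (hb : ∀ s : (PP f).obj (op V₀), ∃ r : Fin n → (EtBase.OO Y).obj (op V₀),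
      s = ∑ j, (τ f).app (op V₀) (r j) * b j) (x : Binf f η) :
    ∃ a : Fin n → EtBase.etaleLocalRing η, x = ∑ j, α f η (a j) * germB f η V₀ v₀ (b j) := by
  obtain ⟨V, v, s, rfl⟩ := germB_surj f η x
  obtain ⟨V', hV', v', k, k₀, hk, hk₀⟩ := exists_affine_over η V₀ v₀ V v
  haveI : IsAffine ((𝟭 Scheme).obj V₀.left) := ‹IsAffine V₀.left›
  haveI : IsAffine ((𝟭 Scheme).obj V'.left) := hV'
  have hpo : IsPushout (pullback.fst V₀.hom f).appTop k₀.left.appTop
      ((EtCoh.bc f).map k₀).left.appTop (pullback.fst V'.hom f).appTop :=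
    isPushout_appTop_of_isPullback (EtCoh.isPullback_bc_map f k₀)
  obtain ⟨a, ha⟩ := gen_of_isPushout hpo b hb ((PP f).map k.op s)
  refine ⟨fun j => germ η V' v' (a j), ?_⟩
  rw [← hk, ← germB_w, ha, map_sum]
  refine Finset.sum_congr rfl (fun j _ => ?_)
  rw [map_mul, α_germ_apply]
  congr 1
  have := germB_w f η k₀ v' (b j)
  rw [hk₀] at this
  exact this

set_option linter.style.haveILetI false in
include v₀ in
lemma finite_Binf :
    letI := (α f η).hom.toAlgebra
    Module.Finite (EtBase.etaleLocalRing η) (Binf f η) := by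
  classical
  letI := (α f η).hom.toAlgebra
  obtain ⟨n, b, hb⟩ := exists_gens f V₀
  refine ⟨⟨Finset.univ.image (fun j => germB f η V₀ v₀ (b j)), ?_⟩⟩
  rw [_root_.eq_top_iff]
  rintro x -
  obtain ⟨a, rfl⟩ := germB_mem_span f η V₀ v₀ b hb x
  refine Submodule.sum_mem _ (fun j _ => ?_)
  have : α f η (a j) * germB f η V₀ v₀ (b j) = a j • germB f η V₀ v₀ (b j) := by
    rw [Algebra.smul_def]; rfl
  rw [this]
  refine Submodule.smul_mem _ _ (Submodule.subset_span ?_)
  simp

end Finite

section Descent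

variable (V₀ : Y.Etale) (v₀ : (Scheme.pointSmallEtale η).fiber.obj V₀)

lemma exists_common_finset {κ : Type*} (x : κ → Binf f η) (S : Finset κ) :
    ∃ (V : Y.Etale) (v : (Scheme.pointSmallEtale η).fiber.obj V) (k₀ : V ⟶ V₀),
      (Scheme.pointSmallEtale η).fiber.map k₀ v = v₀ ∧
      ∀ k ∈ S, ∃ s : (PP f).obj (op V), germB f η V v s = x k := by
  classical
  induction S using Finset.induction_on with
  | empty =>
    exact ⟨V₀, v₀, 𝟙 _, by simp, fun k hk => absurd hk (Finset.notMem_empty k)⟩
  | insert a S _ ih =>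
    obtain ⟨V, v, k₀, hk₀, hS⟩ := ih
    obtain ⟨V₁, v₁, s₁, hs₁⟩ := germB_surj f η (x a)
    let A : (Scheme.pointSmallEtale η).fiber.Elements := ⟨V, v⟩
    let B : (Scheme.pointSmallEtale η).fiber.Elements := ⟨V₁, v₁⟩
    let M := IsCofiltered.min A B
    let f₁ : M ⟶ A := IsCofiltered.minToLeft A B
    let f₂ : M ⟶ B := IsCofiltered.minToRight A B
    refine ⟨M.1, M.2, f₁.1 ≫ k₀, ?_, ?_⟩
    · rw [Functor.map_comp_apply]
      have : (Scheme.pointSmallEtale η).fiber.map f₁.1 M.2 = v := f₁.2
      rw [this, hk₀]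
    · intro b hb
      rcases Finset.mem_insert.1 hb with rfl | hb
      · refine ⟨(PP f).map f₂.1.op s₁, ?_⟩
        have h1 := germB_w f η f₂.1 M.2 s₁
        have : (Scheme.pointSmallEtale η).fiber.map f₂.1 M.2 = v₁ := f₂.2
        rw [this] at h1
        rw [h1, hs₁]
      · obtain ⟨s, hs⟩ := hS b hb
        refine ⟨(PP f).map f₁.1.op s, ?_⟩
        have h1 := germB_w f η f₁.1 M.2 s
        have : (Scheme.pointSmallEtale η).fiber.map f₁.1 M.2 = v := f₁.2
        rw [this] at h1
        rw [h1, hs]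

/-- finitely many germs come from a common neighbourhood over `V₀` -/
lemma exists_common {κ : Type*} [Fintype κ] (x : κ → Binf f η) :
    ∃ (V : Y.Etale) (v : (Scheme.pointSmallEtale η).fiber.obj V) (k₀ : V ⟶ V₀)
      (s : κ → (PP f).obj (op V)),
      (Scheme.pointSmallEtale η).fiber.map k₀ v = v₀ ∧ ∀ k, germB f η V v (s k) = x k := by
  obtain ⟨V, v, k₀, hk₀, hS⟩ := exists_common_finset f η V₀ v₀ x Finset.univ
  choose s hs using fun k => hS k (Finset.mem_univ k)
  exact ⟨V, v, k₀, s, hk₀, hs⟩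

lemma germB_eval₂ {κ : Type*} (x : κ → Binf f η) (V : Y.Etale)
    (v : (Scheme.pointSmallEtale η).fiber.obj V) (k₀ : V ⟶ V₀)
    (s : κ → (PP f).obj (op V)) (hk₀ : (Scheme.pointSmallEtale η).fiber.map k₀ v = v₀)
    (hs : ∀ k, germB f η V v (s k) = x k) (q : MvPolynomial κ ((PP f).obj (op V₀))) :
    germB f η V v (MvPolynomial.eval₂ ((PP f).map k₀.op).hom s q) =
      MvPolynomial.eval₂ (germB f η V₀ v₀).hom x q := by
  have h1 := MvPolynomial.hom_eval₂ q ((PP f).map k₀.op).hom (germB f η V v).hom s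
  refine h1.trans ?_
  have h2 : (germB f η V v).hom.comp ((PP f).map k₀.op).hom = (germB f η V₀ v₀).hom := by
    ext b
    have := germB_w f η k₀ v b
    rw [hk₀] at this
    exact this
  have h3 : (fun i => (germB f η V v).hom (s i)) = x := funext hs
  rw [h2, h3]

/-- descent of finitely many polynomial relations -/
lemma descent {κ : Type*} [Fintype κ] (x : κ → Binf f η)
    (Q : Finset (MvPolynomial κ ((PP f).obj (op V₀))))
    (hQ : ∀ q ∈ Q, MvPolynomial.eval₂ (germB f η V₀ v₀).hom x q = 0) :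
    ∃ (V : Y.Etale) (v : (Scheme.pointSmallEtale η).fiber.obj V) (k₀ : V ⟶ V₀)
      (s : κ → (PP f).obj (op V)),
      (Scheme.pointSmallEtale η).fiber.map k₀ v = v₀ ∧ (∀ k, germB f η V v (s k) = x k) ∧
      ∀ q ∈ Q, MvPolynomial.eval₂ ((PP f).map k₀.op).hom s q = 0 := by
  classical
  induction Q using Finset.induction_on with
  | empty =>
    obtain ⟨V, v, k₀, s, h1, h2⟩ := exists_common f η V₀ v₀ x
    exact ⟨V, v, k₀, s, h1, h2, fun q hq => absurd hq (Finset.notMem_empty q)⟩
  | insert q Q _ ih =>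
    obtain ⟨V, v, k₀, s, h1, h2, h3⟩ := ih (fun q' hq' => hQ q' (Finset.mem_insert_of_mem hq'))
    have h4 := germB_eval₂ f η V₀ v₀ x V v k₀ s h1 h2 q
    rw [hQ q (Finset.mem_insert_self q Q)] at h4
    have h5 : germB f η V v (MvPolynomial.eval₂ ((PP f).map k₀.op).hom s q) =
        germB f η V v 0 := by rw [h4, map_zero]
    obtain ⟨U, g, xU, hg, hU⟩ := (germB_eq_iff f η V v _ _).1 h5
    rw [map_zero] at hU
    have hcomp : ∀ q' : MvPolynomial κ ((PP f).obj (op V₀)),
        MvPolynomial.eval₂ ((PP f).map (g ≫ k₀).op).hom (fun k => (PP f).map g.op (s k)) q' =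
          (PP f).map g.op (MvPolynomial.eval₂ ((PP f).map k₀.op).hom s q') := by
      intro q'
      have := MvPolynomial.hom_eval₂ q' ((PP f).map k₀.op).hom ((PP f).map g.op).hom s
      refine Eq.trans ?_ this.symm
      congr 1
      ext b
      change (PP f).map (g ≫ k₀).op b = (PP f).map g.op ((PP f).map k₀.op b)
      rw [op_comp, Functor.map_comp]
      rfl
    refine ⟨U, xU, g ≫ k₀, fun k => (PP f).map g.op (s k), ?_, ?_, ?_⟩
    · rw [Functor.map_comp_apply, hg, h1]
    · intro k
      have := germB_w f η g xU (s k)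
      rw [hg] at this
      rw [this, h2]
    · intro q' hq'
      rw [hcomp]
      rcases Finset.mem_insert.1 hq' with rfl | hq'
      · exact hU
      · rw [h3 q' hq', map_zero]

end Descent

end Groth.Agent.Lib.Helper23.FinPushFiber
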