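import Groth.Agent.Lib.Helper23.FinPushFiber
import Groth.Agent.Lib.Helper23.EtGlue2

/-!
# Splitting the base change of a finite morphism over an etale neighbourhood
-/

set_option autoImplicit false
universe u

namespace Groth.Agent.Lib.Helper23.FinPushGeom

open CategoryTheory CategoryTheory.Limits AlgebraicGeometry Opposite GrothendieckTopology
open EtLocalRing FinPushFiber EtGlue

section Basic

variable {Ω : Type u} [Field Ω]

set_option backward.isDefEq.respectTransparency.types false in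
set_option backward.isDefEq.respectTransparency false in
/-- a point of a scheme with values in a field lies in a basic open as soon as the function does
not vanish there -/
lemma range_subset_basicOpen {T : Scheme.{u}} (a : Spec (CommRingCat.of Ω) ⟶ T) (r : Γ(T, ⊤))
    (h : (a.appTop ≫ (Scheme.ΓSpecIso (CommRingCat.of Ω)).hom) r ≠ 0) :
    Set.range a ⊆ (T.basicOpen r : Set T) := by
  have hu : IsUnit (a.appTop r) := by
    have h1 : IsUnit ((Scheme.ΓSpecIso (CommRingCat.of Ω)).hom (a.appTop r)) :=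
      isUnit_iff_ne_zero.2 h
    have h2 := h1.map (Scheme.ΓSpecIso (CommRingCat.of Ω)).inv.hom
    have h3 : (Scheme.ΓSpecIso (CommRingCat.of Ω)).inv.hom
        ((Scheme.ΓSpecIso (CommRingCat.of Ω)).hom (a.appTop r)) = a.appTop r :=
      congrArg (fun φ : Γ(Spec (CommRingCat.of Ω), ⊤) ⟶ Γ(Spec (CommRingCat.of Ω), ⊤) =>
        φ.hom (a.appTop r)) (Scheme.ΓSpecIso (CommRingCat.of Ω)).hom_inv_id
    rwa [h3] at h2
  have h4 : a ⁻¹ᵁ T.basicOpen r = ⊤ := by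
    rw [Scheme.preimage_basicOpen_top]
    exact Scheme.basicOpen_of_isUnit _ hu
  rintro _ ⟨x, rfl⟩
  have : x ∈ a ⁻¹ᵁ T.basicOpen r := by rw [h4]; exact _root_.trivial
  exact this

lemma isUnit_of_basicOpen_eq_top {T : Scheme.{u}} (r : Γ(T, ⊤)) (h : T.basicOpen r = ⊤) :
    IsUnit r := by
  apply T.toRingedSpace.isUnit_of_isUnit_germ ⊤ r
  intro x hx
  have hx' : x ∈ T.basicOpen r := by rw [h]; exact _root_.trivial
  exact (T.mem_basicOpen_top r x).1 hx' 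

lemma iSup_basicOpen_eq_top {T : Scheme.{u}} {ι : Type*} [Fintype ι] (e : ι → Γ(T, ⊤))
    (h : ∑ i, e i = 1) : (⨆ i, T.basicOpen (e i)) = ⊤ := by
  rw [_root_.eq_top_iff]
  rintro x -
  rw [TopologicalSpace.Opens.mem_iSup]
  by_contra hcon
  push Not at hcon
  have h1 : ∀ i, T.presheaf.germ ⊤ x trivial (e i) ∈
      IsLocalRing.maximalIdeal (T.presheaf.stalk x) := fun i => by
    rw [IsLocalRing.mem_maximalIdeal, mem_nonunits_iff]
    exact fun hu => hcon i ((T.mem_basicOpen_top (e i) x).2 hu)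
  have h2 : T.presheaf.germ ⊤ x trivial (∑ i, e i) ∈
      IsLocalRing.maximalIdeal (T.presheaf.stalk x) := by
    rw [map_sum]
    exact Ideal.sum_mem _ (fun i _ => h1 i)
  rw [h, map_one] at h2
  exact (IsLocalRing.maximalIdeal.isMaximal _).ne_top ((Ideal.eq_top_iff_one _).2 h2)

lemma disjoint_basicOpen {T : Scheme.{u}} (a b : Γ(T, ⊤)) (h : a * b = 0) :
    Disjoint (T.basicOpen a) (T.basicOpen b) := by
  rw [disjoint_iff, ← Scheme.basicOpen_mul, h, Scheme.basicOpen_zero]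

/-- the morphism to an affine scheme attached to a ring map to global sections -/
noncomputable def toSpec {T : Scheme.{u}} {C : CommRingCat.{u}} (σ : C ⟶ Γ(T, ⊤)) : T ⟶ Spec C :=
  T.toSpecΓ ≫ Spec.map σ

lemma toSpec_appTop {T : Scheme.{u}} {C : CommRingCat.{u}} (σ : C ⟶ Γ(T, ⊤)) :
    (toSpec σ).appTop = (Scheme.ΓSpecIso C).hom ≫ σ := by
  dsimp only [toSpec]
  rw [Scheme.Hom.comp_appTop, Scheme.toSpecΓ_appTop, Scheme.ΓSpecIso_naturality]

end Basic

section Refine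

variable {X Y : Scheme.{u}} {f : X ⟶ Y} {Ω : Type u} [Field Ω] [IsSepClosed Ω]
  {η : Spec (CommRingCat.of Ω) ⟶ Y}

set_option backward.isDefEq.respectTransparency.types false in
set_option backward.isDefEq.respectTransparency false in
lemma exists_refine (ξ : Spec (CommRingCat.of Ω) ⟶ X) (hξ : ξ ≫ f = η) {V₀ V₁ : Y.Etale}
    (v₀ : (Scheme.pointSmallEtale η).fiber.obj V₀) (v₁ : (Scheme.pointSmallEtale η).fiber.obj V₁)
    (k₁ : V₀ ⟶ V₁) (hk₁ : (Scheme.pointSmallEtale η).fiber.map k₁ v₀ = v₁)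
    (W : X.Etale) (w : (Scheme.pointSmallEtale ξ).fiber.obj W) (k : W ⟶ (EtCoh.bc f).obj V₁)
    (hk : (Scheme.pointSmallEtale ξ).fiber.map k w = liftpt ξ hξ V₁ v₁) :
    ∃ (C : CommRingCat.{u}) (h : Spec C ⟶ X) (_ : Etale h) (θ : C ⟶ CommRingCat.of Ω)
      (hθ : Spec.map θ ≫ h = ξ) (p : nb C h ⟶ W) (q : nb C h ⟶ (EtCoh.bc f).obj V₀),
      (Scheme.pointSmallEtale ξ).fiber.map p (pt ξ C h θ hθ) = w ∧
      (Scheme.pointSmallEtale ξ).fiber.map q (pt ξ C h θ hθ) = liftpt ξ hξ V₀ v₀ ∧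
      p ≫ k = q ≫ (EtCoh.bc f).map k₁ := by
  let A : (Scheme.pointSmallEtale ξ).fiber.Elements := ⟨W, w⟩
  let B : (Scheme.pointSmallEtale ξ).fiber.Elements := ⟨(EtCoh.bc f).obj V₀, liftpt ξ hξ V₀ v₀⟩
  let Cc : (Scheme.pointSmallEtale ξ).fiber.Elements := ⟨(EtCoh.bc f).obj V₁, liftpt ξ hξ V₁ v₁⟩
  let a : A ⟶ Cc := ⟨k, hk⟩
  let b : B ⟶ Cc := ⟨(EtCoh.bc f).map k₁, by rw [liftpt_map, hk₁]⟩
  let M₁ := IsCofiltered.min A B
  let l : M₁ ⟶ A := IsCofiltered.minToLeft A B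
  let r : M₁ ⟶ B := IsCofiltered.minToRight A B
  let M₂ := IsCofiltered.eq (l ≫ a) (r ≫ b)
  let j : M₂ ⟶ M₁ := IsCofiltered.eqHom (l ≫ a) (r ≫ b)
  have hj : j ≫ l ≫ a = j ≫ r ≫ b := IsCofiltered.eq_condition (l ≫ a) (r ≫ b)
  obtain ⟨C, h, hE, θ, hθ, κ, hκ⟩ := exists_affine_nb ξ M₂.1 M₂.2
  refine ⟨C, h, hE, θ, hθ, κ ≫ (j ≫ l).1, κ ≫ (j ≫ r).1, ?_, ?_, ?_⟩
  · rw [Functor.map_comp_apply, hκ]
    exact (j ≫ l).2
  · rw [Functor.map_comp_apply, hκ]
    exact (j ≫ r).2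
  · rw [Category.assoc, Category.assoc]
    congr 1
    exact congrArg Subtype.val hj

set_option backward.isDefEq.respectTransparency.types false in
set_option backward.isDefEq.respectTransparency false in
lemma etale_appTop {X₀ : Scheme.{u}} [IsAffine X₀] {C : CommRingCat.{u}} (q : Spec C ⟶ X₀)
    [Etale q] : (q.appTop ≫ (Scheme.ΓSpecIso C).hom).hom.Etale := by
  have h1 : Spec.map (q.appTop ≫ (Scheme.ΓSpecIso C).hom) = q ≫ X₀.isoSpec.hom := by
    rw [Spec.map_comp, ← Scheme.isoSpec_Spec_hom, Scheme.isoSpec_hom_naturality]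
  have h2 : Etale (Spec.map (q.appTop ≫ (Scheme.ΓSpecIso C).hom)) := by
    rw [h1]; infer_instance
  exact (HasRingHomProperty.Spec_iff (P := @Etale)).1 h2

end Refine

section Points

variable {X Y : Scheme.{u}} (f : X ⟶ Y) {Ω : Type u} [Field Ω] [IsSepClosed Ω]
  (η : Spec (CommRingCat.of Ω) ⟶ Y) [IsFinite f] (V₀ : Y.Etale) [IsAffine V₀.left]
  (v₀ : (Scheme.pointSmallEtale η).fiber.obj V₀)

set_option backward.isDefEq.respectTransparency.types false in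
set_option backward.isDefEq.respectTransparency false in
include V₀ v₀ in
lemma evB_injective (ξ ξ' : Spec (CommRingCat.of Ω) ⟶ X) (hξ : ξ ≫ f = η) (hξ' : ξ' ≫ f = η)
    (h : evB ξ hξ = evB ξ' hξ') : ξ = ξ' := by
  have h1 : germB f η V₀ v₀ ≫ evB ξ hξ = germB f η V₀ v₀ ≫ evB ξ' hξ' := by rw [h]
  rw [germB_evB, germB_evB] at h1
  dsimp only [evAt] at h1
  have h2 : ((liftpt ξ hξ V₀ v₀).left : Spec (CommRingCat.of Ω) ⟶ _).appTop =
      ((liftpt ξ' hξ' V₀ v₀).left : Spec (CommRingCat.of Ω) ⟶ _).appTop :=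
    (cancel_mono (Scheme.ΓSpecIso (CommRingCat.of Ω)).hom).1 h1
  have h3 : ((liftpt ξ hξ V₀ v₀).left : Spec (CommRingCat.of Ω) ⟶ ((EtCoh.bc f).obj V₀).left) =
      (liftpt ξ' hξ' V₀ v₀).left :=
    @ext_of_isAffine _ _ (isAffine_bc f V₀) _ _ h2
  rw [← liftpt_left_snd ξ hξ V₀ v₀, ← liftpt_left_snd ξ' hξ' V₀ v₀, h3]

set_option backward.isDefEq.respectTransparency.types false in
set_option backward.isDefEq.respectTransparency false in
include V₀ v₀ in
lemma exists_lift_of_point (ω : Binf f η ⟶ CommRingCat.of Ω) (hω : α f η ≫ ω = ev η) :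
    ∃ (ξ : Spec (CommRingCat.of Ω) ⟶ X) (hξ : ξ ≫ f = η), evB ξ hξ = ω := by
  haveI hX₀ : IsAffine ((EtCoh.bc f).obj V₀).left := isAffine_bc f V₀
  let X₀ : Scheme.{u} := ((EtCoh.bc f).obj V₀).left
  let φ : Γ(X₀, ⊤) ⟶ CommRingCat.of Ω := germB f η V₀ v₀ ≫ ω
  let x : Spec (CommRingCat.of Ω) ⟶ X₀ := Spec.map φ ≫ X₀.isoSpec.inv
  have hx0 : x ≫ X₀.toSpecΓ = Spec.map φ := by
    dsimp only [x]
    rw [Category.assoc, Scheme.isoSpec_inv_toSpecΓ, Category.comp_id]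
  have hx : x.appTop ≫ (Scheme.ΓSpecIso (CommRingCat.of Ω)).hom = φ := by
    have h1 := congrArg Scheme.Hom.appTop hx0
    rw [Scheme.Hom.comp_appTop, Scheme.toSpecΓ_appTop] at h1
    have h2 : x.appTop = (Scheme.ΓSpecIso Γ(X₀, ⊤)).inv ≫ (Spec.map φ).appTop := by
      rw [← h1, Iso.inv_hom_id_assoc]
    rw [h2, Category.assoc, Scheme.ΓSpecIso_naturality, Iso.inv_hom_id_assoc]
  have hfst : x ≫ (pullback.fst V₀.hom f : X₀ ⟶ V₀.left) = v₀.left := by
    refine @ext_of_isAffine _ V₀.left ‹_› _ _ ?_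
    apply (cancel_mono (Scheme.ΓSpecIso (CommRingCat.of Ω)).hom).1
    rw [Scheme.Hom.comp_appTop, Category.assoc, hx]
    change (τ f).app (op V₀) ≫ germB f η V₀ v₀ ≫ ω = _
    rw [← Category.assoc, ← α_germ, Category.assoc, hω]
    erw [germ_ev]
    rfl
  let ξ : Spec (CommRingCat.of Ω) ⟶ X := x ≫ pullback.snd V₀.hom f
  have hξ : ξ ≫ f = η := by
    dsimp only [ξ]
    rw [Category.assoc, ← pullback.condition, ← Category.assoc, hfst]
    exact Over.w v₀
  have hl : ((liftpt ξ hξ V₀ v₀).left : Spec (CommRingCat.of Ω) ⟶ X₀) = x := by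
    apply pullback.hom_ext
    · rw [liftpt_left_fst, hfst]
    · rw [liftpt_left_snd]
  refine ⟨ξ, hξ, ?_⟩
  obtain ⟨n, b, hb⟩ := exists_gens f V₀
  ext y
  obtain ⟨a, rfl⟩ := germB_mem_span f η V₀ v₀ b hb y
  rw [map_sum, map_sum]
  refine Finset.sum_congr rfl (fun j _ => ?_)
  rw [map_mul, map_mul]
  congr 1
  · have h1 : (evB ξ hξ) (α f η (a j)) = (α f η ≫ evB ξ hξ) (a j) := rfl
    have h2 : ω (α f η (a j)) = (α f η ≫ ω) (a j) := rfl
    rw [h1, h2, α_evB, hω]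
  · rw [germB_evB_apply]
    dsimp only [evAt]
    rw [hl]
    exact congrArg (fun ψ : Γ(X₀, ⊤) ⟶ CommRingCat.of Ω => ψ.hom (b j)) hx

end Points

section Presentation

set_option linter.style.haveILetI false in
lemma exists_presentation {B₀ C : Type u} [CommRing B₀] [CommRing C] (β : B₀ →+* C)
    (hβ : β.Etale) :
    ∃ (n : ℕ) (π : MvPolynomial (Fin n) B₀ →+* C) (G : Finset (MvPolynomial (Fin n) B₀)),
      π.comp MvPolynomial.C = β ∧ Function.Surjective π ∧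
      Ideal.span (G : Set (MvPolynomial (Fin n) B₀)) = RingHom.ker π := by
  letI := β.toAlgebra
  haveI : Algebra.Etale B₀ C := RingHom.etale_algebraMap.1 hβ
  haveI : Algebra.FinitePresentation B₀ C := inferInstance
  obtain ⟨n, π, hπ, G, hG⟩ := Algebra.FinitePresentation.out (R := B₀) (A := C)
  refine ⟨n, π.toRingHom, G, ?_, hπ, hG⟩
  ext b
  exact π.commutes b

lemma eval₂_eq_of_ringHom {σ R S : Type*} [CommRing R] [CommRing S]
    (π : MvPolynomial σ R →+* S) (p : MvPolynomial σ R) :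
    π p = MvPolynomial.eval₂ (π.comp MvPolynomial.C) (fun k => π (MvPolynomial.X k)) p := by
  conv_lhs => rw [← MvPolynomial.eval₂_eta p]
  exact MvPolynomial.hom_eval₂ p MvPolynomial.C π MvPolynomial.X

end Presentation

section Single

variable {X Y : Scheme.{u}} (f : X ⟶ Y) {Ω : Type u} [Field Ω] [IsSepClosed Ω]
  (η : Spec (CommRingCat.of Ω) ⟶ Y) (V₀ : Y.Etale)
  (v₀ : (Scheme.pointSmallEtale η).fiber.obj V₀)

/-- the `Γ(X ×_Y V₀)`-algebra structure of an affine neighbourhood mapping to `X ×_Y V₀` -/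
noncomputable def β {C : CommRingCat.{u}} {h : Spec C ⟶ X} [Etale h]
    (q : nb C h ⟶ (EtCoh.bc f).obj V₀) : (PP f).obj (op V₀) ⟶ C :=
  (q.left : Spec C ⟶ ((EtCoh.bc f).obj V₀).left).appTop ≫ (Scheme.ΓSpecIso C).hom

set_option backward.isDefEq.respectTransparency.types false in
set_option backward.isDefEq.respectTransparency false in
lemma β_θ (ξ : Spec (CommRingCat.of Ω) ⟶ X) (hξ : ξ ≫ f = η)
    (C : CommRingCat.{u}) (h : Spec C ⟶ X) [Etale h] (θ : C ⟶ CommRingCat.of Ω)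
    (hθ : Spec.map θ ≫ h = ξ) (q : nb C h ⟶ (EtCoh.bc f).obj V₀)
    (hq : (Scheme.pointSmallEtale ξ).fiber.map q (pt ξ C h θ hθ) = liftpt ξ hξ V₀ v₀) :
    β f V₀ q ≫ θ = germB f η V₀ v₀ ≫ evB ξ hξ := by
  rw [germB_evB, ← hq, ← evAt_w]
  dsimp only [β, evAt]
  rw [Category.assoc]
  congr 1
  exact (Scheme.ΓSpecIso_naturality θ).symm

set_option backward.isDefEq.respectTransparency.types false in
set_option backward.isDefEq.respectTransparency false in
set_option maxHeartbeats 1600000 in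
lemma exists_single [IsFinite f] [IsAffine V₀.left]
    (ξ : Spec (CommRingCat.of Ω) ⟶ X) (hξ : ξ ≫ f = η)
    (C : CommRingCat.{u}) (h : Spec C ⟶ X) [Etale h] (θ : C ⟶ CommRingCat.of Ω)
    (hθ : Spec.map θ ≫ h = ξ) (q : nb C h ⟶ (EtCoh.bc f).obj V₀)
    (hq : (Scheme.pointSmallEtale ξ).fiber.map q (pt ξ C h θ hθ) = liftpt ξ hξ V₀ v₀)
    (n : ℕ) (π : MvPolynomial (Fin n) ((PP f).obj (op V₀)) →+* C)
    (G : Finset (MvPolynomial (Fin n) ((PP f).obj (op V₀))))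
    (hπC : π.comp MvPolynomial.C = (β f V₀ q).hom) (hπ : Function.Surjective π)
    (hG : Ideal.span (G : Set (MvPolynomial (Fin n) ((PP f).obj (op V₀)))) = RingHom.ker π)
    (V : Y.Etale) (v : (Scheme.pointSmallEtale η).fiber.obj V) (k₀ : V ⟶ V₀)
    (hk₀ : (Scheme.pointSmallEtale η).fiber.map k₀ v = v₀)
    (e' : (PP f).obj (op V)) (sk : Fin n → (PP f).obj (op V))
    (hGe : ∀ g ∈ G, e' * MvPolynomial.eval₂ ((PP f).map k₀.op).hom sk g = 0)
    (he : evB ξ hξ (germB f η V v e') ≠ 0)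
    (hs : ∀ k, evB ξ hξ (germB f η V v (sk k)) = θ (π (MvPolynomial.X k))) :
    ∃ (m : opn ((EtCoh.bc f).obj V) (((EtCoh.bc f).obj V).left.basicOpen
        (e' : Γ(((EtCoh.bc f).obj V).left, ⊤))) ⟶ nb C h)
      (u : (Scheme.pointSmallEtale ξ).fiber.obj
        (opn ((EtCoh.bc f).obj V) (((EtCoh.bc f).obj V).left.basicOpen
          (e' : Γ(((EtCoh.bc f).obj V).left, ⊤))))),
      (Scheme.pointSmallEtale ξ).fiber.map (opnι _ _) u = liftpt ξ hξ V v ∧
      (Scheme.pointSmallEtale ξ).fiber.map m u = pt ξ C h θ hθ ∧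
      m ≫ q = opnι _ _ ≫ (EtCoh.bc f).map k₀ := by
  let XV : Scheme.{u} := ((EtCoh.bc f).obj V).left
  let Uo : XV.Opens := XV.basicOpen (e' : Γ(XV, ⊤))
  let res' : Γ(XV, ⊤) ⟶ Γ(Uo.toScheme, ⊤) := Uo.ι.appTop
  -- the restriction of `e'` is a unit
  have hunit : IsUnit (res' e') := by
    apply isUnit_of_basicOpen_eq_top
    rw [← Scheme.preimage_basicOpen_top]
    exact Scheme.Opens.ι_preimage_self Uo
  -- the ring map from the polynomial ring
  let ψ : MvPolynomial (Fin n) ((PP f).obj (op V₀)) →+* Γ(Uo.toScheme, ⊤) :=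
    MvPolynomial.eval₂Hom (res'.hom.comp ((PP f).map k₀.op).hom) (fun k => res' (sk k))
  have hψ : ∀ p, ψ p = res' (MvPolynomial.eval₂ ((PP f).map k₀.op).hom sk p) := fun p =>
    (MvPolynomial.hom_eval₂ p ((PP f).map k₀.op).hom res'.hom sk).symm
  have hψG : ∀ g ∈ G, ψ g = 0 := by
    intro g hg
    have h1 : res' e' * ψ g = 0 := by
      rw [hψ, ← map_mul, hGe g hg, map_zero]
    exact (hunit.mul_right_eq_zero).1 h1
  have hker : RingHom.ker π ≤ RingHom.ker ψ := by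
    rw [← hG, Ideal.span_le]
    intro g hg
    exact RingHom.mem_ker.2 (hψG g hg)
  let σ' : C →+* Γ(Uo.toScheme, ⊤) :=
    π.liftOfRightInverse (Function.surjInv hπ) (Function.rightInverse_surjInv hπ) ⟨ψ, hker⟩
  have hσ' : ∀ p, σ' (π p) = ψ p := fun p =>
    π.liftOfRightInverse_comp_apply (Function.surjInv hπ) (Function.rightInverse_surjInv hπ)
      ⟨ψ, hker⟩ p
  let m₀ : Uo.toScheme ⟶ Spec C := toSpec (CommRingCat.ofHom σ')
  haveI hX₀ : IsAffine ((EtCoh.bc f).obj V₀).left := isAffine_bc f V₀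
  have hβσ : β f V₀ q ≫ CommRingCat.ofHom σ' = (PP f).map k₀.op ≫ res' := by
    ext b
    change σ' ((β f V₀ q).hom b) = res' ((PP f).map k₀.op b)
    rw [← hπC]
    change σ' (π (MvPolynomial.C b)) = _
    rw [hσ']
    change MvPolynomial.eval₂ _ _ (MvPolynomial.C b) = _
    rw [MvPolynomial.eval₂_C]
    rfl
  have hm₀ : m₀ ≫ (q.left : Spec C ⟶ ((EtCoh.bc f).obj V₀).left) =
      Uo.ι ≫ ((EtCoh.bc f).map k₀).left := by
    refine @ext_of_isAffine _ _ hX₀ _ _ ?_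
    rw [Scheme.Hom.comp_appTop, Scheme.Hom.comp_appTop, toSpec_appTop, ← Category.assoc]
    exact hβσ
  have hm₀X : m₀ ≫ h = Uo.ι ≫ ((EtCoh.bc f).obj V).hom := by
    have h1 : (q.left : Spec C ⟶ ((EtCoh.bc f).obj V₀).left) ≫ ((EtCoh.bc f).obj V₀).hom = h :=
      Over.w q.hom
    have h2 : ((EtCoh.bc f).map k₀).left ≫ ((EtCoh.bc f).obj V₀).hom =
        ((EtCoh.bc f).obj V).hom := Over.w ((EtCoh.bc f).map k₀).hom
    rw [← h1, ← Category.assoc, hm₀, Category.assoc, h2]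
  let m : opn ((EtCoh.bc f).obj V) Uo ⟶ nb C h := MorphismProperty.Over.homMk m₀ hm₀X trivial
  have hmq : m ≫ q = opnι _ _ ≫ (EtCoh.bc f).map k₀ := by
    apply hom_ext_of_left
    exact hm₀
  -- the point
  have hval : ((liftpt ξ hξ V v).left : Spec (CommRingCat.of Ω) ⟶ XV).appTop ≫
      (Scheme.ΓSpecIso (CommRingCat.of Ω)).hom = germB f η V v ≫ evB ξ hξ := by
    rw [germB_evB]; rfl
  have hrange : Set.range ((liftpt ξ hξ V v).left : Spec (CommRingCat.of Ω) ⟶ XV) ⊆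
      Set.range Uo.ι := by
    rw [Scheme.Opens.range_ι]
    apply range_subset_basicOpen
    rw [hval]
    exact he
  let u₀ : Spec (CommRingCat.of Ω) ⟶ Uo.toScheme :=
    IsOpenImmersion.lift Uo.ι (liftpt ξ hξ V v).left hrange
  have hu₀ : u₀ ≫ Uo.ι = (liftpt ξ hξ V v).left := IsOpenImmersion.lift_fac _ _ hrange
  let u : (Scheme.pointSmallEtale ξ).fiber.obj (opn ((EtCoh.bc f).obj V) Uo) :=
    Over.homMk u₀ (by
      change u₀ ≫ Uo.ι ≫ ((EtCoh.bc f).obj V).hom = ξ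
      rw [← Category.assoc, hu₀]
      exact Over.w (liftpt ξ hξ V v))
  refine ⟨m, u, ?_, ?_, hmq⟩
  · apply Over.OverMorphism.ext
    exact hu₀
  · apply Over.OverMorphism.ext
    change u₀ ≫ m₀ = Spec.map θ
    apply ext_of_isAffine
    apply (cancel_mono (Scheme.ΓSpecIso (CommRingCat.of Ω)).hom).1
    rw [Scheme.Hom.comp_appTop, toSpec_appTop, Scheme.ΓSpecIso_naturality, Category.assoc,
      Category.assoc]
    congr 1
    -- compare the two ring maps `C → Ω`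
    have hres_ev : res' ≫ u₀.appTop ≫ (Scheme.ΓSpecIso (CommRingCat.of Ω)).hom =
        germB f η V v ≫ evB ξ hξ := by
      rw [← hval, ← hu₀, Scheme.Hom.comp_appTop, Category.assoc]
    ext c
    obtain ⟨p, rfl⟩ := hπ c
    change (u₀.appTop ≫ (Scheme.ΓSpecIso (CommRingCat.of Ω)).hom) (σ' (π p)) = θ (π p)
    rw [hσ', hψ]
    have h3 : (u₀.appTop ≫ (Scheme.ΓSpecIso (CommRingCat.of Ω)).hom)
        (res' (MvPolynomial.eval₂ ((PP f).map k₀.op).hom sk p)) =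
        (germB f η V v ≫ evB ξ hξ) (MvPolynomial.eval₂ ((PP f).map k₀.op).hom sk p) := by
      rw [← hres_ev]; rfl
    rw [h3]
    change evB ξ hξ (germB f η V v (MvPolynomial.eval₂ ((PP f).map k₀.op).hom sk p)) = _
    rw [germB_eval₂ f η V₀ v₀ (fun k => germB f η V v (sk k)) V v k₀ sk hk₀ (fun _ => rfl) p,
      MvPolynomial.hom_eval₂]
    refine Eq.trans ?_ (eval₂_eq_of_ringHom (θ.hom.comp π) p).symm
    congr 1
    · rw [RingHom.comp_assoc, hπC]
      have := congrArg CommRingCat.Hom.hom (β_θ f η V₀ v₀ ξ hξ C h θ hθ q hq)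
      exact this.symm
    · funext k
      exact hs k

end Single

section Main

variable {X Y : Scheme.{u}} (f : X ⟶ Y) [IsFinite f] {Ω : Type u} [Field Ω] [IsAlgClosed Ω]
  (η : Spec (CommRingCat.of Ω) ⟶ Y)

/-- the lifts of a geometric point -/
abbrev Lifts := {ξ : Spec (CommRingCat.of Ω) ⟶ X // ξ ≫ f = η}

set_option backward.isDefEq.respectTransparency.types false in
set_option backward.isDefEq.respectTransparency false in
set_option maxHeartbeats 3200000 in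
set_option linter.style.haveILetI false in
theorem exists_split_aux (V₀ : Y.Etale) [IsAffine V₀.left]
    (v₀ : (Scheme.pointSmallEtale η).fiber.obj V₀)
    (C : Lifts f η → CommRingCat.{u}) (h : ∀ ξ, Spec (C ξ) ⟶ X) [∀ ξ, Etale (h ξ)]
    (θ : ∀ ξ, C ξ ⟶ CommRingCat.of Ω) (hθ : ∀ ξ : Lifts f η, Spec.map (θ ξ) ≫ h ξ = ξ.1)
    (q : ∀ ξ, nb (C ξ) (h ξ) ⟶ (EtCoh.bc f).obj V₀)
    (hq : ∀ ξ : Lifts f η, (Scheme.pointSmallEtale ξ.1).fiber.map (q ξ)
      (pt ξ.1 (C ξ) (h ξ) (θ ξ) (hθ ξ)) = liftpt ξ.1 ξ.2 V₀ v₀) :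
    Finite (Lifts f η) ∧ ∃ (V : Y.Etale) (v : (Scheme.pointSmallEtale η).fiber.obj V)
      (k₀ : V ⟶ V₀), (Scheme.pointSmallEtale η).fiber.map k₀ v = v₀ ∧
      ∃ U : Lifts f η → ((EtCoh.bc f).obj V).left.Opens,
        (∀ a b, a ≠ b → Disjoint (U a) (U b)) ∧ (⨆ a, U a) = ⊤ ∧
        ∀ ξ : Lifts f η, ∃ (m : opn ((EtCoh.bc f).obj V) (U ξ) ⟶ nb (C ξ) (h ξ))
          (u : (Scheme.pointSmallEtale ξ.1).fiber.obj (opn ((EtCoh.bc f).obj V) (U ξ))),
          (Scheme.pointSmallEtale ξ.1).fiber.map (opnι _ _) u = liftpt ξ.1 ξ.2 V v ∧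
          (Scheme.pointSmallEtale ξ.1).fiber.map m u = pt ξ.1 (C ξ) (h ξ) (θ ξ) (hθ ξ) ∧
          m ≫ q ξ = opnι _ _ ≫ (EtCoh.bc f).map k₀ := by
  classical
  letI algAB : Algebra (EtBase.etaleLocalRing η) (Binf f η) := (α f η).hom.toAlgebra
  haveI : Module.Finite (EtBase.etaleLocalRing η) (Binf f η) := finite_Binf f η V₀ v₀
  obtain ⟨ι, hι, hdec, T, hT, hBT, ρ, e, hcoi, hsurj, hker, hρev, hρe, hpts, hsec⟩ :=
    FinPushAlg2.exists_decomp (EtBase.etaleLocalRing η) (Binf f η) (ev η).hom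
  letI := hι
  letI := hdec
  letI := hT
  letI := hBT
  -- the index of a lift
  have hidx0 : ∀ ξ : Lifts f η, ∃ i, (evB ξ.1 ξ.2).hom = (ρ i).comp (algebraMap (Binf f η) (T i)) :=
    fun ξ => hpts _ (congrArg CommRingCat.Hom.hom (α_evB ξ.1 ξ.2))
  choose idx hidx using hidx0
  have hidx_apply : ∀ (ξ : Lifts f η) (b : Binf f η),
      evB ξ.1 ξ.2 b = ρ (idx ξ) (algebraMap (Binf f η) (T (idx ξ)) b) := fun ξ b =>
    congrArg (fun φ : Binf f η →+* Ω => φ b) (hidx ξ)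
  have idx_inj : Function.Injective idx := by
    intro ξ ξ' hi
    apply Subtype.ext
    apply evB_injective f η V₀ v₀ ξ.1 ξ'.1 ξ.2 ξ'.2
    ext b
    rw [hidx_apply, hidx_apply, hi]
  have idx_surj : Function.Surjective idx := by
    intro i
    obtain ⟨ξ, hξ, hω⟩ := exists_lift_of_point f η V₀ v₀
      (CommRingCat.ofHom ((ρ i).comp (algebraMap (Binf f η) (T i))))
      (by ext a; exact congrArg (fun φ : EtBase.etaleLocalRing η →+* Ω => φ a) (hρev i))
    refine ⟨⟨ξ, hξ⟩, ?_⟩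
    by_contra hne
    have h1 := hidx_apply ⟨ξ, hξ⟩ (e i)
    rw [hρe, if_neg hne] at h1
    have h2 : evB ξ hξ (e i) = ρ i (algebraMap (Binf f η) (T i) (e i)) := by rw [hω]; rfl
    rw [hρe, if_pos rfl] at h2
    rw [h2] at h1
    exact one_ne_zero h1
  letI hfin : Fintype (Lifts f η) :=
    Fintype.ofEquiv ι (Equiv.ofBijective idx ⟨idx_inj, idx_surj⟩).symm
  refine ⟨Finite.of_fintype _, ?_⟩
  -- sections
  haveI hX₀ : IsAffine ((EtCoh.bc f).obj V₀).left := isAffine_bc f V₀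
  have hβet : ∀ ξ : Lifts f η, (β f V₀ (q ξ)).hom.Etale := fun ξ =>
    etale_appTop ((q ξ).left : Spec (C ξ) ⟶ ((EtCoh.bc f).obj V₀).left)
  have hsec0 : ∀ ξ : Lifts f η, ∃ σ₀ : C ξ →+* T (idx ξ),
      σ₀.comp (β f V₀ (q ξ)).hom =
        (algebraMap (Binf f η) (T (idx ξ))).comp (germB f η V₀ v₀).hom ∧
      ∀ c, ρ (idx ξ) (σ₀ c) = θ ξ c := fun ξ =>
    FinPushAlg2.section_base (ρ (idx ξ)) (hsec (idx ξ)) (germB f η V₀ v₀).hom
      (β f V₀ (q ξ)).hom (hβet ξ) (θ ξ).hom (by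
        rw [← hidx ξ]
        exact congrArg CommRingCat.Hom.hom
          (β_θ f η V₀ v₀ ξ.1 ξ.2 (C ξ) (h ξ) (θ ξ) (hθ ξ) (q ξ) (hq ξ)))
  choose σ₀ hσβ hσρ using hsec0
  -- presentations
  choose n π G hπC hπ hG using
    fun ξ : Lifts f η => exists_presentation (β f V₀ (q ξ)).hom (hβet ξ)
  -- lifts of the images of the generators
  choose y hy using fun (ξ : Lifts f η) (k : Fin (n ξ)) =>
    hsurj (idx ξ) (σ₀ ξ (π ξ (MvPolynomial.X k)))
  let B₀ : CommRingCat.{u} := (PP f).obj (op V₀)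
  let κ : Type u := ι ⊕ (Σ ξ : Lifts f η, Fin (n ξ))
  let x : κ → Binf f η := Sum.elim e (fun p => y p.1 p.2)
  let Xi : ι → MvPolynomial κ B₀ := fun i => MvPolynomial.X (Sum.inl i)
  let qa : ι → MvPolynomial κ B₀ := fun i => Xi i * Xi i - Xi i
  let qb : ι × ι → MvPolynomial κ B₀ := fun p => if p.1 = p.2 then 0 else Xi p.1 * Xi p.2
  let qc : MvPolynomial κ B₀ := (∑ i, Xi i) - 1
  let qd : ∀ ξ : Lifts f η, MvPolynomial (Fin (n ξ)) B₀ → MvPolynomial κ B₀ := fun ξ g =>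
    Xi (idx ξ) * MvPolynomial.rename (fun k => (Sum.inr ⟨ξ, k⟩ : κ)) g
  let Q : Finset (MvPolynomial κ B₀) := (Finset.univ.image qa ∪ Finset.univ.image qb ∪ {qc}) ∪
    Finset.univ.biUnion (fun ξ => (G ξ).image (qd ξ))
  have hevd : ∀ (ξ : Lifts f η) (g : MvPolynomial (Fin (n ξ)) B₀) (R : Type u) [CommRing R]
      (φ : B₀ →+* R) (z : κ → R),
      MvPolynomial.eval₂ φ z (qd ξ g) =
        z (Sum.inl (idx ξ)) * MvPolynomial.eval₂ φ (fun k => z (Sum.inr ⟨ξ, k⟩)) g := by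
    intro ξ g R _ φ z
    change MvPolynomial.eval₂ φ z (MvPolynomial.X (Sum.inl (idx ξ)) *
      MvPolynomial.rename (fun k => (Sum.inr ⟨ξ, k⟩ : κ)) g) = _
    rw [MvPolynomial.eval₂_mul, MvPolynomial.eval₂_X, MvPolynomial.eval₂_rename]
    rfl
  have hQ : ∀ q' ∈ Q, MvPolynomial.eval₂ (germB f η V₀ v₀).hom x q' = 0 := by
    intro q' hq'
    simp only [Q, Finset.mem_union, Finset.mem_image, Finset.mem_univ, true_and,
      Finset.mem_singleton, Finset.mem_biUnion] at hq'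
    rcases hq' with ((⟨i, rfl⟩ | ⟨p, rfl⟩) | rfl) | ⟨ξ, g, hg, rfl⟩
    · simp only [qa, Xi, MvPolynomial.eval₂_sub, MvPolynomial.eval₂_mul, MvPolynomial.eval₂_X, x,
        Sum.elim_inl]
      rw [(hcoi.idem i).eq, sub_self]
    · by_cases hp : p.1 = p.2
      · simp only [qb, if_pos hp, MvPolynomial.eval₂_zero]
      · simp only [qb, if_neg hp, Xi, MvPolynomial.eval₂_mul, MvPolynomial.eval₂_X, x,
          Sum.elim_inl]
        exact hcoi.ortho hp
    · simp only [qc, Xi, MvPolynomial.eval₂_sub, MvPolynomial.eval₂_sum, MvPolynomial.eval₂_X,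
        MvPolynomial.eval₂_one, x, Sum.elim_inl]
      rw [hcoi.complete, sub_self]
    · rw [hevd]
      refine hker (idx ξ) _ ?_
      rw [MvPolynomial.hom_eval₂, ← hσβ ξ]
      have h1 : (fun k => algebraMap (Binf f η) (T (idx ξ)) (x (Sum.inr ⟨ξ, k⟩))) =
          fun k => σ₀ ξ (π ξ (MvPolynomial.X k)) := funext (fun k => hy ξ k)
      rw [h1]
      have h2 := eval₂_eq_of_ringHom ((σ₀ ξ).comp (π ξ)) g
      rw [RingHom.comp_assoc, hπC ξ] at h2
      refine h2.symm.trans ?_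
      have h3 : π ξ g = 0 := by
        have : g ∈ RingHom.ker (π ξ) := by
          rw [← hG ξ]; exact Ideal.subset_span hg
        exact RingHom.mem_ker.1 this
      change σ₀ ξ (π ξ g) = 0
      rw [h3, map_zero]
  obtain ⟨V, v, k₀, s, h1, h2, h3⟩ := descent f η V₀ v₀ x Q hQ
  let e' : ι → (PP f).obj (op V) := fun i => s (Sum.inl i)
  have ha' : ∀ i, e' i * e' i = e' i := by
    intro i
    have := h3 (qa i) (Finset.mem_union_left _ (Finset.mem_union_left _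
      (Finset.mem_union_left _ (Finset.mem_image_of_mem _ (Finset.mem_univ i)))))
    simp only [qa, Xi, MvPolynomial.eval₂_sub, MvPolynomial.eval₂_mul,
      MvPolynomial.eval₂_X] at this
    exact sub_eq_zero.1 this
  have hb' : ∀ i j, i ≠ j → e' i * e' j = 0 := by
    intro i j hij
    have := h3 (qb (i, j)) (Finset.mem_union_left _ (Finset.mem_union_left _
      (Finset.mem_union_right _ (Finset.mem_image_of_mem _ (Finset.mem_univ (i, j))))))
    simp only [qb, if_neg hij, Xi, MvPolynomial.eval₂_mul, MvPolynomial.eval₂_X] at this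
    exact this
  have hc' : ∑ i, e' i = 1 := by
    have := h3 qc (Finset.mem_union_left _ (Finset.mem_union_right _
      (Finset.mem_singleton_self _)))
    simp only [qc, Xi, MvPolynomial.eval₂_sub, MvPolynomial.eval₂_sum, MvPolynomial.eval₂_X,
      MvPolynomial.eval₂_one] at this
    exact sub_eq_zero.1 this
  have hd' : ∀ (ξ : Lifts f η), ∀ g ∈ G ξ, e' (idx ξ) *
      MvPolynomial.eval₂ ((PP f).map k₀.op).hom (fun k => s (Sum.inr ⟨ξ, k⟩)) g = 0 := by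
    intro ξ g hg
    have := h3 (qd ξ g) (Finset.mem_union_right _ (Finset.mem_biUnion.2
      ⟨ξ, Finset.mem_univ ξ, Finset.mem_image_of_mem _ hg⟩))
    rw [hevd] at this
    exact this
  let XV : Scheme.{u} := ((EtCoh.bc f).obj V).left
  let U : Lifts f η → XV.Opens := fun ξ => XV.basicOpen (e' (idx ξ) : Γ(XV, ⊤))
  refine ⟨V, v, k₀, h1, U, ?_, ?_, ?_⟩
  · intro a b hab
    exact disjoint_basicOpen _ _ (hb' _ _ (fun h => hab (idx_inj h)))
  · have : (⨆ i, XV.basicOpen (e' i : Γ(XV, ⊤))) = ⊤ := iSup_basicOpen_eq_top _ hc'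
    rw [← this]
    exact idx_surj.iSup_comp (fun i => XV.basicOpen (e' i : Γ(XV, ⊤)))
  · intro ξ
    refine exists_single f η V₀ v₀ ξ.1 ξ.2 (C ξ) (h ξ) (θ ξ) (hθ ξ) (q ξ) (hq ξ) (n ξ) (π ξ)
      (G ξ) (hπC ξ) (hπ ξ) (hG ξ) V v k₀ h1 (e' (idx ξ)) (fun k => s (Sum.inr ⟨ξ, k⟩))
      (hd' ξ) ?_ ?_
    · rw [h2 (Sum.inl (idx ξ))]
      change evB ξ.1 ξ.2 (e (idx ξ)) ≠ 0
      rw [hidx_apply, hρe, if_pos rfl]
      exact one_ne_zero
    · intro k
      rw [h2 (Sum.inr ⟨ξ, k⟩)]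
      change evB ξ.1 ξ.2 (y ξ k) = _
      rw [hidx_apply, hy ξ k, hσρ ξ]

set_option backward.isDefEq.respectTransparency.types false in
set_option backward.isDefEq.respectTransparency false in
/-- **Splitting theorem**: for a finite morphism `f : X ⟶ Y` and a geometric point `η` of `Y`, given
etale neighbourhoods `W ξ` (over `X ×_Y V₁`) of the lifts `ξ` of `η`, there is an etale
neighbourhood `V` of `η` such that `X ×_Y V` is the disjoint union of opens `U ξ`, each of which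
maps to `W ξ` compatibly with the points. -/
theorem exists_split (V₁ : Y.Etale) (v₁ : (Scheme.pointSmallEtale η).fiber.obj V₁)
    (W : Lifts f η → X.Etale) (w : ∀ ξ : Lifts f η, (Scheme.pointSmallEtale ξ.1).fiber.obj (W ξ))
    (k : ∀ ξ, W ξ ⟶ (EtCoh.bc f).obj V₁)
    (hk : ∀ ξ : Lifts f η, (Scheme.pointSmallEtale ξ.1).fiber.map (k ξ) (w ξ) =
      liftpt ξ.1 ξ.2 V₁ v₁) :
    Finite (Lifts f η) ∧ ∃ (V : Y.Etale) (v : (Scheme.pointSmallEtale η).fiber.obj V)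
      (g : V ⟶ V₁), (Scheme.pointSmallEtale η).fiber.map g v = v₁ ∧
      ∃ U : Lifts f η → ((EtCoh.bc f).obj V).left.Opens,
        (∀ a b, a ≠ b → Disjoint (U a) (U b)) ∧ (⨆ a, U a) = ⊤ ∧
        ∀ ξ : Lifts f η, ∃ (m : opn ((EtCoh.bc f).obj V) (U ξ) ⟶ W ξ)
          (u : (Scheme.pointSmallEtale ξ.1).fiber.obj (opn ((EtCoh.bc f).obj V) (U ξ))),
          (Scheme.pointSmallEtale ξ.1).fiber.map (opnι _ _) u = liftpt ξ.1 ξ.2 V v ∧
          (Scheme.pointSmallEtale ξ.1).fiber.map m u = w ξ ∧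
          m ≫ k ξ = opnι _ _ ≫ (EtCoh.bc f).map g := by
  obtain ⟨R, h₀, hE₀, θ₀, hθ₀, k₁, hk₁⟩ := exists_affine_nb η V₁ v₁
  haveI : IsAffine (nb R h₀).left := inferInstanceAs (IsAffine (Spec R))
  choose C h hE θ hθ p q hp hq hpq using fun ξ : Lifts f η =>
    exists_refine (f := f) (η := η) ξ.1 ξ.2 (pt η R h₀ θ₀ hθ₀) v₁ k₁ hk₁ (W ξ) (w ξ) (k ξ) (hk ξ)
  haveI := hE
  obtain ⟨hfin, V, v, k₀, hk₀, U, hdisj, hcov, H⟩ :=
    exists_split_aux f η (nb R h₀) (pt η R h₀ θ₀ hθ₀) C h θ hθ q hq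
  refine ⟨hfin, V, v, k₀ ≫ k₁, ?_, U, hdisj, hcov, fun ξ => ?_⟩
  · rw [Functor.map_comp_apply, hk₀, hk₁]
  · obtain ⟨m, u, hu1, hu2, hm⟩ := H ξ
    refine ⟨m ≫ p ξ, u, hu1, ?_, ?_⟩
    · rw [Functor.map_comp_apply, hu2, hp]
    · rw [Category.assoc, hpq, ← Category.assoc, hm, Category.assoc, Functor.map_comp]

end Main

end Groth.Agent.Lib.Helper23.FinPushGeom
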