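import Groth.Agent.Lib.Helper23.FinPushGeom

/-!
# The stalk of the direct image along a finite morphism
-/

set_option autoImplicit false
universe u

namespace Groth.Agent.Lib.Helper23.FinPushStalk

open CategoryTheory CategoryTheory.Limits AlgebraicGeometry Opposite GrothendieckTopology
open EtLocalRing FinPushFiber EtGlue FinPushGeom

variable {X Y : Scheme.{u}} (f : X ⟶ Y) [IsFinite f] {Ω : Type u} [Field Ω] [IsAlgClosed Ω]
  (η : Spec (CommRingCat.of Ω) ⟶ Y)

section Sections

variable (P : EtDesc.Sh X)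

set_option backward.isDefEq.respectTransparency.types false in
set_option backward.isDefEq.respectTransparency false in
/-- two sections of the direct image which agree near all lifts of `η` agree near `η` -/
lemma sections_inj (V₁ : Y.Etale) (v₁ : (Scheme.pointSmallEtale η).fiber.obj V₁)
    (s s' : P.obj.obj (op ((EtCoh.bc f).obj V₁)))
    (H : ∀ ξ : Lifts f η, ∃ (W : X.Etale) (w : (Scheme.pointSmallEtale ξ.1).fiber.obj W)
      (k : W ⟶ (EtCoh.bc f).obj V₁),
      (Scheme.pointSmallEtale ξ.1).fiber.map k w = liftpt ξ.1 ξ.2 V₁ v₁ ∧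
      P.obj.map k.op s = P.obj.map k.op s') :
    ∃ (V : Y.Etale) (v : (Scheme.pointSmallEtale η).fiber.obj V) (g : V ⟶ V₁),
      (Scheme.pointSmallEtale η).fiber.map g v = v₁ ∧
      P.obj.map ((EtCoh.bc f).map g).op s = P.obj.map ((EtCoh.bc f).map g).op s' := by
  choose W w k hk heq using H
  obtain ⟨-, V, v, g, hg, U, hdisj, hcov, H'⟩ := exists_split f η V₁ v₁ W w k hk
  choose m u hu1 hu2 hm using H'
  refine ⟨V, v, g, hg, ?_⟩
  have hres : ∀ (t : P.obj.obj (op ((EtCoh.bc f).obj V₁))) (ξ : Lifts f η),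
      P.obj.map (opnι ((EtCoh.bc f).obj V) (U ξ)).op (P.obj.map ((EtCoh.bc f).map g).op t) =
        P.obj.map (m ξ).op (P.obj.map (k ξ).op t) := by
    intro t ξ
    rw [← FunctorToTypes.map_comp_apply, ← FunctorToTypes.map_comp_apply, ← op_comp, ← op_comp,
      hm ξ]
  obtain ⟨s₀, -, huniq⟩ := existsUnique_glue_family P ((EtCoh.bc f).obj V) U hdisj hcov
    (fun ξ => P.obj.map (m ξ).op (P.obj.map (k ξ).op s))
  rw [huniq _ (fun ξ => hres s ξ), huniq (P.obj.map ((EtCoh.bc f).map g).op s')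
    (fun ξ => by rw [hres s' ξ, heq ξ])]

set_option backward.isDefEq.respectTransparency.types false in
set_option backward.isDefEq.respectTransparency false in
/-- the canonical point of the terminal neighbourhood -/
noncomputable def topPt : (Scheme.pointSmallEtale η).fiber.obj (EtCoh.top Y) :=
  Over.homMk η (Category.comp_id _)

set_option backward.isDefEq.respectTransparency.types false in
set_option backward.isDefEq.respectTransparency false in
/-- the canonical map from an etale `X`-scheme to `X ×_Y Y` -/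
noncomputable def toBcTop (W : X.Etale) : W ⟶ (EtCoh.bc f).obj (EtCoh.top Y) :=
  MorphismProperty.Over.homMk
    (pullback.lift (W.hom ≫ f) W.hom (by rw [Category.comp_id]) :
      W.left ⟶ pullback (𝟙 Y) f)
    (pullback.lift_snd _ _ _) trivial

set_option backward.isDefEq.respectTransparency.types false in
set_option backward.isDefEq.respectTransparency false in
lemma toBcTop_pt (ξ : Lifts f η) (W : X.Etale) (w : (Scheme.pointSmallEtale ξ.1).fiber.obj W) :
    (Scheme.pointSmallEtale ξ.1).fiber.map (toBcTop f W) w =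
      liftpt ξ.1 ξ.2 (EtCoh.top Y) (topPt η) := by
  apply Over.OverMorphism.ext
  change (w.left : Spec (CommRingCat.of Ω) ⟶ W.left) ≫
    (pullback.lift (W.hom ≫ f) W.hom (by rw [Category.comp_id]) : W.left ⟶ pullback (𝟙 Y) f) =
    pullback.lift η ξ.1 _
  have hw : (w.left : Spec (CommRingCat.of Ω) ⟶ W.left) ≫ W.hom = ξ.1 := Over.w w
  apply pullback.hom_ext
  · rw [Category.assoc, pullback.lift_fst, pullback.lift_fst, ← Category.assoc, hw, ξ.2]
  · rw [Category.assoc, pullback.lift_snd, pullback.lift_snd, hw]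

set_option backward.isDefEq.respectTransparency.types false in
set_option backward.isDefEq.respectTransparency false in
/-- a family of germs at the lifts of `η` comes from a section of the direct image near `η` -/
lemma sections_surj (W : Lifts f η → X.Etale)
    (w : ∀ ξ : Lifts f η, (Scheme.pointSmallEtale ξ.1).fiber.obj (W ξ))
    (t : ∀ ξ, P.obj.obj (op (W ξ))) :
    ∃ (V : Y.Etale) (v : (Scheme.pointSmallEtale η).fiber.obj V)
      (s : P.obj.obj (op ((EtCoh.bc f).obj V))),
      ∀ ξ : Lifts f η, ∃ (M : X.Etale) (mpt : (Scheme.pointSmallEtale ξ.1).fiber.obj M)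
        (a : M ⟶ (EtCoh.bc f).obj V) (b : M ⟶ W ξ),
        (Scheme.pointSmallEtale ξ.1).fiber.map a mpt = liftpt ξ.1 ξ.2 V v ∧
        (Scheme.pointSmallEtale ξ.1).fiber.map b mpt = w ξ ∧
        P.obj.map a.op s = P.obj.map b.op (t ξ) := by
  obtain ⟨-, V, v, g, hg, U, hdisj, hcov, H'⟩ := exists_split f η (EtCoh.top Y) (topPt η) W w
    (fun ξ => toBcTop f (W ξ)) (fun ξ => toBcTop_pt f η ξ (W ξ) (w ξ))
  choose m u hu1 hu2 hm using H'
  obtain ⟨s, hs, -⟩ := existsUnique_glue_family P ((EtCoh.bc f).obj V) U hdisj hcov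
    (fun ξ => P.obj.map (m ξ).op (t ξ))
  exact ⟨V, v, s, fun ξ => ⟨_, u ξ, opnι _ _, m ξ, hu1 ξ, hu2 ξ, hs ξ⟩⟩

end Sections

section FiniteLifts

set_option backward.isDefEq.respectTransparency.types false in
set_option backward.isDefEq.respectTransparency false in
include f η in
lemma finite_lifts : Finite (Lifts f η) :=
  (exists_split f η (EtCoh.top Y) (topPt η) (fun _ => (EtCoh.bc f).obj (EtCoh.top Y))
    (fun ξ => liftpt ξ.1 ξ.2 (EtCoh.top Y) (topPt η)) (fun _ => 𝟙 _)
    (fun ξ => by simp)).1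

end FiniteLifts

section Stalk

universe v' u'

variable {A : Type u'} [Category.{v'} A] [HasColimitsOfSize.{u, u} A]
  {FC : A → A → Type*} {CC : A → Type (u + 1)} [∀ X Y : A, FunLike (FC X Y) (CC X) (CC Y)]
  [ConcreteCategory.{u + 1} A FC] [PreservesFilteredColimitsOfSize.{u, u} (forget A)]

/-- the comparison map from the stalk of the direct image to the stalk at a lift -/
noncomputable def θcomp (F : X.Etaleᵒᵖ ⥤ A) (ξ : Lifts f η) :
    (Scheme.pointSmallEtale η).presheafFiber.obj ((EtCoh.bc f).op ⋙ F) ⟶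
      (Scheme.pointSmallEtale ξ.1).presheafFiber.obj F :=
  (Scheme.pointSmallEtale η).presheafFiberDesc
    (fun V v => (Scheme.pointSmallEtale ξ.1).toPresheafFiber ((EtCoh.bc f).obj V)
      (liftpt ξ.1 ξ.2 V v) F)
    (fun U V g x => by
      change F.map ((EtCoh.bc f).map g).op ≫ _ = _
      rw [Point.toPresheafFiber_w, liftpt_map])

lemma θcomp_germ (F : X.Etaleᵒᵖ ⥤ A) (ξ : Lifts f η) (V : Y.Etale)
    (v : (Scheme.pointSmallEtale η).fiber.obj V) (s : ToType (F.obj (op ((EtCoh.bc f).obj V)))) :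
    θcomp f η F ξ ((Scheme.pointSmallEtale η).toPresheafFiber V v ((EtCoh.bc f).op ⋙ F) s) =
      (Scheme.pointSmallEtale ξ.1).toPresheafFiber ((EtCoh.bc f).obj V)
        (liftpt ξ.1 ξ.2 V v) F s := by
  have := (Scheme.pointSmallEtale η).toPresheafFiber_presheafFiberDesc
    (P := (EtCoh.bc f).op ⋙ F)
    (fun V v => (Scheme.pointSmallEtale ξ.1).toPresheafFiber ((EtCoh.bc f).obj V)
      (liftpt ξ.1 ξ.2 V v) F)
    (fun U V g x => by
      change F.map ((EtCoh.bc f).map g).op ≫ _ = _
      rw [Point.toPresheafFiber_w, liftpt_map]) V v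
  rw [← this, ConcreteCategory.comp_apply]
  rfl

set_option backward.isDefEq.respectTransparency.types false in
set_option backward.isDefEq.respectTransparency false in
theorem θ_injective (F : X.Etaleᵒᵖ ⥤ A)
    (hF : Presheaf.IsSheaf X.smallEtaleTopology (F ⋙ forget A))
    (z z' : ToType ((Scheme.pointSmallEtale η).presheafFiber.obj ((EtCoh.bc f).op ⋙ F)))
    (h : ∀ ξ : Lifts f η, θcomp f η F ξ z = θcomp f η F ξ z') : z = z' := by
  let P : EtDesc.Sh X := ⟨F ⋙ forget A, hF⟩
  obtain ⟨V₁, v₁, s, s', rfl, rfl⟩ :=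
    (Scheme.pointSmallEtale η).toPresheafFiber_jointly_surjective₂ z z'
  have H : ∀ ξ : Lifts f η, ∃ (W : X.Etale) (w : (Scheme.pointSmallEtale ξ.1).fiber.obj W)
      (k : W ⟶ (EtCoh.bc f).obj V₁),
      (Scheme.pointSmallEtale ξ.1).fiber.map k w = liftpt ξ.1 ξ.2 V₁ v₁ ∧
      P.obj.map k.op s = P.obj.map k.op s' := by
    intro ξ
    have h1 := h ξ
    rw [θcomp_germ, θcomp_germ] at h1
    obtain ⟨W, k, w, hw, hk⟩ := ((Scheme.pointSmallEtale ξ.1).toPresheafFiber_eq_iff' _ _ _ _).1 h1
    exact ⟨W, w, k, hw, hk⟩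
  obtain ⟨V, v, g, hg, hs⟩ := sections_inj f η P V₁ v₁ s s' H
  rw [← hg]
  exact ((Scheme.pointSmallEtale η).toPresheafFiber_eq_iff' (P := (EtCoh.bc f).op ⋙ F) V₁ _ s s').2
    ⟨V, g, v, rfl, hs⟩

set_option backward.isDefEq.respectTransparency.types false in
set_option backward.isDefEq.respectTransparency false in
theorem θ_surjective (F : X.Etaleᵒᵖ ⥤ A)
    (hF : Presheaf.IsSheaf X.smallEtaleTopology (F ⋙ forget A))
    (y : ∀ ξ : Lifts f η, ToType ((Scheme.pointSmallEtale ξ.1).presheafFiber.obj F)) :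
    ∃ z : ToType ((Scheme.pointSmallEtale η).presheafFiber.obj ((EtCoh.bc f).op ⋙ F)),
      ∀ ξ : Lifts f η, θcomp f η F ξ z = y ξ := by
  let P : EtDesc.Sh X := ⟨F ⋙ forget A, hF⟩
  choose W w t ht using fun ξ : Lifts f η =>
    (Scheme.pointSmallEtale ξ.1).toPresheafFiber_jointly_surjective (y ξ)
  obtain ⟨V, v, s, H⟩ := sections_surj f η P W w t
  refine ⟨(Scheme.pointSmallEtale η).toPresheafFiber V v ((EtCoh.bc f).op ⋙ F) s, fun ξ => ?_⟩
  obtain ⟨M, mpt, a, b, ha, hb, hab⟩ := H ξ
  rw [θcomp_germ, ← ht ξ, ← ha, ← hb, ← Point.toPresheafFiber_w_apply,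
    ← Point.toPresheafFiber_w_apply]
  exact congrArg _ hab

end Stalk

end Groth.Agent.Lib.Helper23.FinPushStalk
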