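import Mathlib
import Groth.Prelude.Def_Fitting
import Groth.Agent.Lib.Helper23.Fitting5

/-!
# Fitting ideals commute with base change
-/

universe u v w
open Matrix TensorProduct

namespace Helper23.Fit

variable {R : Type u} [CommRing R] {M : Type v} [AddCommGroup M] [Module R M]
variable {R' : Type w} [CommRing R'] [Algebra R R']

theorem span_one_tmul {n : ℕ} (x : Fin n → M) (hx : Submodule.span R (Set.range x) = ⊤) :
    Submodule.span R' (Set.range fun i => (1 : R') ⊗ₜ[R] x i) = ⊤ := by
  have : (Set.range fun i => (1 : R') ⊗ₜ[R] x i) = TensorProduct.mk R R' M 1 '' Set.range x := by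
    rw [← Set.range_comp]; rfl
  rw [this, ← Submodule.baseChange_span, hx, Submodule.baseChange_top]

theorem ker_baseChange {n : ℕ} (x : Fin n → M) (hx : Submodule.span R (Set.range x) = ⊤) :
    Submodule.span R' ((fun z : Fin n → R => (algebraMap R R') ∘ z) '' {z | IsRel x z}) =
      LinearMap.ker (Fintype.linearCombination R' (fun i => (1 : R') ⊗ₜ[R] x i)) := by
  apply le_antisymm
  · apply Submodule.span_le.mpr
    rintro _ ⟨z, hz, rfl⟩
    rw [SetLike.mem_coe, LinearMap.mem_ker, Fintype.linearCombination_apply]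
    have hz' : ∑ i, z i • x i = 0 := hz
    simp only [Function.comp_apply, algebraMap_smul, ← TensorProduct.tmul_smul,
      ← TensorProduct.tmul_sum]
    rw [hz', tmul_zero]
  · intro c' hc'
    rw [LinearMap.mem_ker, Fintype.linearCombination_apply] at hc'
    have h1 : ∑ i, x i ⊗ₜ[R] c' i = (0 : M ⊗[R] R') := by
      have := congrArg (TensorProduct.comm R R' M) hc'
      simpa [TensorProduct.smul_tmul', map_sum] using this
    obtain ⟨q, a, y, h2, h3⟩ := TensorProduct.vanishesTrivially_of_sum_tmul_eq_zero R hx h1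
    have : c' = ∑ j, y j • ((algebraMap R R') ∘ fun i => a i j) := by
      funext i
      rw [h2 i]
      simp [Finset.sum_apply, Algebra.smul_def, mul_comm]
    rw [this]
    exact Submodule.sum_mem _ fun j _ => Submodule.smul_mem _ _
      (Submodule.subset_span ⟨fun i => a i j, h3 j, rfl⟩)

theorem Mn_baseChange {n m : ℕ} (x : Fin n → M) (hx : Submodule.span R (Set.range x) = ⊤) :
    Mn R' m (fun i => (1 : R') ⊗ₜ[R] x i) = (Mn R m x).map (algebraMap R R') := by
  rw [Mn_eq_of_span _ _ (ker_baseChange x hx)]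
  unfold Mn
  rw [Ideal.map_span]
  congr 1
  ext d
  constructor
  · rintro ⟨z', e, hz', rfl⟩
    choose z hz1 hz2 using hz'
    refine ⟨(Matrix.of fun a b => z b (e a)).det, ⟨z, e, hz1, rfl⟩, ?_⟩
    rw [RingHom.map_det]
    congr 1
    ext a b
    simp [← hz2]
  · rintro ⟨_, ⟨z, e, hz, rfl⟩, rfl⟩
    refine ⟨fun j => algebraMap R R' ∘ z j, e, fun j => ⟨z j, hz j, rfl⟩, ?_⟩
    rw [RingHom.map_det]
    congr 1

theorem ideal_baseChange [Module.Finite R M] (k : ℕ) :
    Fitt.ideal R' (R' ⊗[R] M) k = (Fitt.ideal R M k).map (algebraMap R R') := by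
  obtain ⟨n, x, hx⟩ := Module.Finite.exists_fin (R := R) (M := M)
  rw [ideal_eq_Mn k x hx, ideal_eq_Mn k _ (span_one_tmul x hx), Mn_baseChange x hx]

end Helper23.Fit
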