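import Mathlib
import Groth.Prelude.Def_Fitting
import Groth.Agent.Lib.Helper23.Fitting6

/-!
# Fitting ideals: free modules, localization, fields, local rings
-/

universe u v w
open Matrix TensorProduct

namespace Helper23.Fit

variable {R : Type u} [CommRing R] {M : Type v} [AddCommGroup M] [Module R M]

theorem ideal_congr {M' : Type w} [AddCommGroup M'] [Module R M'] (e : M ≃ₗ[R] M') (k : ℕ) :
    Fitt.ideal R M k = Fitt.ideal R M' k :=
  le_antisymm (ideal_mono_of_surjective e.toLinearMap e.surjective k)
    (ideal_mono_of_surjective e.symm.toLinearMap e.symm.surjective k)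

theorem ideal_of_basis_ge {d k : ℕ} (b : Module.Basis (Fin d) R M) (h : d ≤ k) :
    Fitt.ideal R M k = ⊤ :=
  ideal_eq_top_of_le b b.span_eq h

theorem ideal_of_basis_lt {d k : ℕ} (b : Module.Basis (Fin d) R M) (h : k < d) :
    Fitt.ideal R M k = ⊥ := by
  rw [ideal_eq_G k b b.span_eq, eq_bot_iff]
  apply Ideal.span_le.mpr
  rintro _ ⟨a, s, hs, hrel, rfl⟩
  rw [Fintype.card_fin] at hs
  have : s.Nonempty := by
    rw [← Finset.card_pos]; omega
  obtain ⟨i, hi⟩ := this
  have h0 : a i = 0 := by
    funext j
    exact Fintype.linearIndependent_iff.mp b.linearIndependent (a i) (hrel i hi) j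
  rw [SetLike.mem_coe, Ideal.mem_bot]
  exact det_eq_zero_of_row_eq_zero i (fun j => by rw [h0]; rfl)

theorem ideal_localizedModule (S : Submonoid R) [Module.Finite R M] (k : ℕ) :
    Fitt.ideal (Localization S) (LocalizedModule S M) k =
      (Fitt.ideal R M k).map (algebraMap R (Localization S)) := by
  rw [← ideal_baseChange (R' := Localization S) (M := M) k]
  exact (ideal_congr (LocalizedModule.isBaseChange S M).equiv k).symm

/-- Over a field, the `k`-th Fitting ideal is the unit ideal iff the dimension is at most `k`. -/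
theorem ideal_eq_top_iff_finrank_le {K : Type u} [Field K] {V : Type v} [AddCommGroup V]
    [Module K V] [Module.Finite K V] (k : ℕ) :
    Fitt.ideal K V k = ⊤ ↔ Module.finrank K V ≤ k := by
  constructor
  · intro h
    by_contra hlt
    push Not at hlt
    rw [ideal_of_basis_lt (Module.finBasis K V) hlt] at h
    exact bot_ne_top h
  · intro h
    exact ideal_of_basis_ge (Module.finBasis K V) h

theorem exists_fin_of_le {d k : ℕ} (hdk : d ≤ k) (f : Fin d → M)
    (hf : Submodule.span R (Set.range f) = ⊤) :
    ∃ g : Fin k → M, Submodule.span R (Set.range g) = ⊤ := by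
  refine ⟨fun i => if h : (i : ℕ) < d then f ⟨i, h⟩ else 0, ?_⟩
  rw [eq_top_iff, ← hf]
  apply Submodule.span_mono
  rintro _ ⟨i, rfl⟩
  refine ⟨⟨i, lt_of_lt_of_le i.2 hdk⟩, ?_⟩
  simp

/-- Over a local ring, a finite module whose `k`-th Fitting ideal is the unit ideal is generated by
`k` elements. -/
theorem exists_span_of_ideal_eq_top [IsLocalRing R] [Module.Finite R M] (k : ℕ)
    (h : Fitt.ideal R M k = ⊤) : ∃ g : Fin k → M, Submodule.span R (Set.range g) = ⊤ := by
  let κ := IsLocalRing.ResidueField R
  have h1 : Fitt.ideal κ (κ ⊗[R] M) k = ⊤ := by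
    rw [ideal_baseChange, h, Ideal.map_top]
  have h2 : Module.finrank κ (κ ⊗[R] M) ≤ k := (ideal_eq_top_iff_finrank_le k).mp h1
  let b := Module.finBasis κ (κ ⊗[R] M)
  have hsurj : Function.Surjective (TensorProduct.mk R κ M 1) :=
    TensorProduct.mk_surjective R M κ Ideal.Quotient.mk_surjective
  choose f hf using fun i => hsurj (b i)
  have hspan : Submodule.span R (Set.range f) = ⊤ :=
    IsLocalRing.span_eq_top_of_tmul_eq_basis f b hf
  exact exists_fin_of_le h2 f hspan

end Helper23.Fit
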