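import Mathlib
import Groth.Prelude.Def_Fitting
import Groth.Agent.Lib.Helper23.Fitting7

/-!
# Fitting ideals and the number of local generators
-/

universe u v w
open Matrix TensorProduct

namespace Helper23.Fit

variable {R : Type u} [CommRing R] {M : Type v} [AddCommGroup M] [Module R M]

theorem not_le_iff_finrank_le [Module.Finite R M] (k : ℕ) (p : Ideal R) [p.IsPrime] :
    ¬ Fitt.ideal R M k ≤ p ↔
      Module.finrank p.ResidueField (p.ResidueField ⊗[R] M) ≤ k := by
  rw [← ideal_eq_top_iff_finrank_le, ideal_baseChange]
  have hker : RingHom.ker (algebraMap R p.ResidueField) = p := Ideal.ker_algebraMap_residueField p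
  constructor
  · intro h
    rcases Ideal.eq_bot_or_top ((Fitt.ideal R M k).map (algebraMap R p.ResidueField)) with h1 | h1
    · rw [Ideal.map_eq_bot_iff_le_ker, hker] at h1
      exact (h h1).elim
    · exact h1
  · intro h hle
    have : (Fitt.ideal R M k).map (algebraMap R p.ResidueField) = ⊥ := by
      rw [Ideal.map_eq_bot_iff_le_ker, hker]; exact hle
    rw [this] at h
    exact bot_ne_top h

theorem map_atPrime_eq_top_iff (I : Ideal R) (p : Ideal R) [p.IsPrime] :
    I.map (algebraMap R (Localization.AtPrime p)) = ⊤ ↔ ¬ I ≤ p := by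
  rw [← not_iff_not, not_not]
  rw [← ne_eq, IsLocalization.map_algebraMap_ne_top_iff_disjoint p.primeCompl, Set.disjoint_left]
  constructor
  · intro h a ha
    by_contra hap
    exact h hap ha
  · intro h a hap ha
    exact hap (h ha)

theorem map_away_eq_top_iff (I : Ideal R) (f : R) :
    I.map (algebraMap R (Localization.Away f)) = ⊤ ↔ ∃ n : ℕ, f ^ n ∈ I := by
  rw [← not_iff_not]
  rw [← ne_eq, IsLocalization.map_algebraMap_ne_top_iff_disjoint (Submonoid.powers f),
    Set.disjoint_left]
  constructor
  · rintro h ⟨n, hn⟩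
    exact h ⟨n, rfl⟩ hn
  · rintro h a ⟨n, rfl⟩ ha
    exact h ⟨n, ha⟩

theorem exists_span_iff_exists_surjective (S : Submonoid R) (k : ℕ) :
    (∃ g : Fin k → LocalizedModule S M, Submodule.span (Localization S) (Set.range g) = ⊤) ↔
      ∃ m : Fin k → M,
        Function.Surjective (LocalizedModule.map S (Fintype.linearCombination R m)) := by
  constructor
  · rintro ⟨g, hg⟩
    have hrep : ∀ y : LocalizedModule S M, ∃ (m : M) (s : S), y = LocalizedModule.mk m s := by
      intro y
      induction y using LocalizedModule.induction_on with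
      | h m s => exact ⟨m, s, rfl⟩
    choose m s hms using fun i => hrep (g i)
    refine ⟨m, ?_⟩
    rw [← LinearMap.range_eq_top, eq_top_iff, ← hg]
    apply Submodule.span_le.mpr
    rintro _ ⟨i, rfl⟩
    have h1 : LocalizedModule.mk (m i) 1 ∈
        LinearMap.range (LocalizedModule.map S (Fintype.linearCombination R m)) := by
      refine ⟨LocalizedModule.mk (Pi.single i 1) 1, ?_⟩
      rw [LocalizedModule.map_mk, Fintype.linearCombination_apply_single, one_smul]
    have h2 : g i = (Localization.mk (1 : R) (s i)) • LocalizedModule.mk (m i) (1 : S) := by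
      rw [hms i, LocalizedModule.mk_smul_mk, one_smul, mul_one]
    rw [SetLike.mem_coe, h2]
    exact Submodule.smul_mem _ _ h1
  · rintro ⟨m, hm⟩
    refine ⟨fun i => LocalizedModule.mk (m i) 1, ?_⟩
    rw [eq_top_iff]
    intro y _
    obtain ⟨z, rfl⟩ := hm y
    induction z using LocalizedModule.induction_on with
    | h c s =>
      rw [LocalizedModule.map_mk, Fintype.linearCombination_apply]
      have : LocalizedModule.mk (∑ i, c i • m i) s =
          ∑ i, (Localization.mk (c i) s) • LocalizedModule.mk (m i) (1 : S) := by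
        simp_rw [LocalizedModule.mk_smul_mk, mul_one]
        induction (Finset.univ : Finset (Fin k)) using Finset.induction_on with
        | empty => simp
        | insert a t ha ih =>
          rw [Finset.sum_insert ha, Finset.sum_insert ha, ← ih, LocalizedModule.mk_add_mk]
          rw [LocalizedModule.mk_eq]
          refine ⟨1, ?_⟩
          simp only [one_smul, smul_add, Submonoid.smul_def, Submonoid.coe_mul, mul_smul]
      rw [this]
      exact Submodule.sum_mem _ fun i _ => Submodule.smul_mem _ _ (Submodule.subset_span ⟨i, rfl⟩)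

theorem not_le_iff_exists_span_atPrime [Module.Finite R M] (k : ℕ) (p : Ideal R) [p.IsPrime] :
    ¬ Fitt.ideal R M k ≤ p ↔
      ∃ g : Fin k → LocalizedModule p.primeCompl M,
        Submodule.span (Localization.AtPrime p) (Set.range g) = ⊤ := by
  rw [← map_atPrime_eq_top_iff, ← ideal_localizedModule p.primeCompl k]
  constructor
  · intro h
    exact exists_span_of_ideal_eq_top k h
  · rintro ⟨g, hg⟩
    exact ideal_eq_top_of_le g hg le_rfl

theorem not_le_iff_exists_span_away [Module.Finite R M] (k : ℕ) (p : Ideal R) [p.IsPrime] :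
    ¬ Fitt.ideal R M k ≤ p ↔ ∃ f : R, f ∉ p ∧
      ∃ g : Fin k → LocalizedModule (Submonoid.powers f) M,
        Submodule.span (Localization.Away f) (Set.range g) = ⊤ := by
  constructor
  · intro h
    obtain ⟨m, hm⟩ := (exists_span_iff_exists_surjective p.primeCompl k).mp
      ((not_le_iff_exists_span_atPrime k p).mp h)
    obtain ⟨a, hap, ha⟩ :=
      Module.exists_localizedMap_away_surjective_of_localizedMap_atPrime_surjective p _ hm
    exact ⟨a, hap, (exists_span_iff_exists_surjective (Submonoid.powers a) k).mpr ⟨m, ha⟩⟩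
  · rintro ⟨f, hfp, g, hg⟩ hle
    have h1 : Fitt.ideal (Localization.Away f) (LocalizedModule (Submonoid.powers f) M) k = ⊤ :=
      ideal_eq_top_of_le g hg le_rfl
    rw [ideal_localizedModule (Submonoid.powers f) k, map_away_eq_top_iff] at h1
    obtain ⟨n, hn⟩ := h1
    exact hfp (Ideal.IsPrime.mem_of_pow_mem inferInstance n (hle hn))

end Helper23.Fit
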