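import Mathlib
import Groth.Prelude.Def_Fitting
import Groth.Agent.Lib.Helper23.Fitting8

/-!
# Fitting ideals characterize finite locally free modules of rank `r`
-/

universe u v w
open Matrix TensorProduct

namespace Helper23.Fit

variable {R : Type u} [CommRing R] {M : Type v} [AddCommGroup M] [Module R M]

theorem linearIndependent_of_ideal_eq_bot {r : ℕ} (g : Fin r → M)
    (hg : Submodule.span R (Set.range g) = ⊤) (h : ∀ k, k < r → Fitt.ideal R M k = ⊥) :
    LinearIndependent R g := by
  rw [Fintype.linearIndependent_iff]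
  intro z hz i
  rcases r with _ | r'
  · exact i.elim0
  · have h1 := h r' (Nat.lt_succ_self _)
    rw [ideal_eq_Mn r' g hg] at h1
    have h2 : r' + 1 - r' = 1 := by omega
    rw [h2] at h1
    have : z i ∈ Mn R 1 g := by
      apply Ideal.subset_span
      refine ⟨fun _ => z, fun _ => i, fun _ => hz, ?_⟩
      rw [det_fin_one]; rfl
    rw [h1] at this
    exact this

theorem away_nontrivial (p : Ideal R) [p.IsPrime] (f : R) (hf : f ∉ p) :
    Nontrivial (Localization.Away f) := by
  rw [← not_subsingleton_iff_nontrivial, IsLocalization.subsingleton_iff (M := Submonoid.powers f)]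
  rintro ⟨n, hn⟩
  have : f ^ n ∈ p := by
    have h0 : f ^ n = 0 := hn
    rw [h0]; exact p.zero_mem
  exact hf (Ideal.IsPrime.mem_of_pow_mem inferInstance n this)

theorem locallyFree_of_ideal [Module.Finite R M] (r : ℕ)
    (h1 : ∀ k, k < r → Fitt.ideal R M k = ⊥) (h2 : ∀ k, r ≤ k → Fitt.ideal R M k = ⊤)
    (p : Ideal R) [p.IsPrime] : ∃ f : R, f ∉ p ∧
      Module.Free (Localization.Away f) (LocalizedModule (Submonoid.powers f) M) ∧
        Module.finrank (Localization.Away f) (LocalizedModule (Submonoid.powers f) M) = r := by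
  have hnot : ¬ Fitt.ideal R M r ≤ p := by
    rw [h2 r le_rfl]
    intro hle
    exact (Ideal.IsPrime.ne_top inferInstance) (top_le_iff.mp hle)
  obtain ⟨f, hfp, g, hg⟩ := (not_le_iff_exists_span_away r p).mp hnot
  haveI := away_nontrivial p f hfp
  have hli : LinearIndependent (Localization.Away f) g := by
    apply linearIndependent_of_ideal_eq_bot g hg
    intro k hk
    rw [ideal_localizedModule (Submonoid.powers f) k, h1 k hk, Ideal.map_bot]
  let b : Module.Basis (Fin r) (Localization.Away f) (LocalizedModule (Submonoid.powers f) M) :=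
    Module.Basis.mk hli hg.ge
  refine ⟨f, hfp, Module.Free.of_basis b, ?_⟩
  rw [Module.finrank_eq_card_basis b, Fintype.card_fin]

theorem ideal_of_locallyFree [Module.Finite R M] (r : ℕ)
    (h : ∀ (p : Ideal R) [p.IsPrime], ∃ f : R, f ∉ p ∧
      Module.Free (Localization.Away f) (LocalizedModule (Submonoid.powers f) M) ∧
        Module.finrank (Localization.Away f) (LocalizedModule (Submonoid.powers f) M) = r) :
    (∀ k, k < r → Fitt.ideal R M k = ⊥) ∧ (∀ k, r ≤ k → Fitt.ideal R M k = ⊤) := by
  constructor
  · intro k hk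
    rw [eq_bot_iff]
    intro a ha
    rw [Ideal.mem_bot]
    by_contra ha0
    let I : Ideal R := LinearMap.ker (LinearMap.toSpanSingleton R R a)
    have hI : I ≠ ⊤ := by
      intro hI
      have : (1 : R) ∈ I := by rw [hI]; trivial
      rw [LinearMap.mem_ker, LinearMap.toSpanSingleton_apply, one_smul] at this
      exact ha0 this
    obtain ⟨m, hm, hIm⟩ := Ideal.exists_le_maximal I hI
    haveI := hm.isPrime
    obtain ⟨f, hfm, hfree, hrank⟩ := h m
    haveI := away_nontrivial m f hfm
    have hbot : Fitt.ideal (Localization.Away f) (LocalizedModule (Submonoid.powers f) M) k = ⊥ :=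
      ideal_of_basis_lt (Module.finBasisOfFinrankEq _ _ hrank) hk
    rw [ideal_localizedModule (Submonoid.powers f) k] at hbot
    have h0 : algebraMap R (Localization.Away f) a = 0 := by
      have : algebraMap R (Localization.Away f) a ∈
          (Fitt.ideal R M k).map (algebraMap R (Localization.Away f)) := Ideal.mem_map_of_mem _ ha
      rw [hbot] at this
      exact this
    rw [IsLocalization.map_eq_zero_iff (Submonoid.powers f)] at h0
    obtain ⟨⟨_, n, rfl⟩, hn⟩ := h0
    have : f ^ n ∈ I := by
      rw [LinearMap.mem_ker, LinearMap.toSpanSingleton_apply]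
      exact hn
    exact hfm (Ideal.IsPrime.mem_of_pow_mem inferInstance n (hIm this))
  · intro k hk
    by_contra hne
    obtain ⟨m, hm, hIm⟩ := Ideal.exists_le_maximal _ hne
    haveI := hm.isPrime
    obtain ⟨f, hfm, hfree, hrank⟩ := h m
    haveI := away_nontrivial m f hfm
    let b := Module.finBasisOfFinrankEq (Localization.Away f)
      (LocalizedModule (Submonoid.powers f) M) hrank
    obtain ⟨g, hg⟩ := exists_fin_of_le hk b b.span_eq
    exact (not_le_iff_exists_span_away k m).mpr ⟨f, hfm, g, hg⟩ hIm

end Helper23.Fit
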