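import Mathlib
import Groth.Prelude.Def_Fitting
import Groth.Agent.Lib.Helper23.Fitting9

/-!
# Local ring, principal Fitting ideal `Fit_k(M) = (f)`: `M / M[f]` is generated by `k` elements
-/

universe u v w
open Matrix TensorProduct

namespace Helper23.Fit

variable {R : Type u} [CommRing R] {M : Type v} [AddCommGroup M] [Module R M]

/-- In a local ring, a generating set of a principal ideal `(f)` contains a generator
(or `f = 0`). -/
theorem local_principal [IsLocalRing R] (S : Set R) (f : R)
    (h : Ideal.span S = Ideal.span {f}) :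
    f = 0 ∨ ∃ d ∈ S, ∃ u : R, IsUnit u ∧ d = u * f := by
  by_cases hf0 : f = 0
  · exact Or.inl hf0
  right
  by_contra hcon
  push Not at hcon
  have hS : S ⊆ (IsLocalRing.maximalIdeal R * Ideal.span {f} : Ideal R) := by
    intro d hd
    have hd' : d ∈ Ideal.span {f} := by rw [← h]; exact Ideal.subset_span hd
    obtain ⟨b, rfl⟩ := Ideal.mem_span_singleton'.mp hd'
    have hb : ¬ IsUnit b := fun hb => hcon _ hd b hb rfl
    exact Ideal.mul_mem_mul ((IsLocalRing.mem_maximalIdeal b).mpr hb)
      (Ideal.mem_span_singleton_self f)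
  have hf : f ∈ (IsLocalRing.maximalIdeal R * Ideal.span {f} : Ideal R) := by
    have : f ∈ Ideal.span S := by rw [h]; exact Ideal.mem_span_singleton_self f
    exact (Ideal.span_le.mpr hS) this
  obtain ⟨z, hz, hzf⟩ := Ideal.mem_mul_span_singleton.mp hf
  have hunit : IsUnit (1 - z) :=
    IsLocalRing.isUnit_one_sub_self_of_mem_nonunits z ((IsLocalRing.mem_maximalIdeal z).mp hz)
  have : (1 - z) * f = 0 := by rw [sub_mul, one_mul, hzf, sub_self]
  exact hf0 ((hunit.mul_right_eq_zero).mp this)

theorem exists_span_quotient_of_principal [IsLocalRing R] [Module.Finite R M] (k : ℕ) (f : R)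
    (hf : Fitt.ideal R M k = Ideal.span {f}) :
    ∃ g : Fin k → M ⧸ LinearMap.ker (f • (LinearMap.id : M →ₗ[R] M)),
      Submodule.span R (Set.range g) = ⊤ := by
  classical
  obtain ⟨n, x, hx⟩ := Module.Finite.exists_fin (R := R) (M := M)
  rw [ideal_eq_G k x hx] at hf
  unfold G at hf
  rcases local_principal _ f hf with rfl | ⟨d, ⟨a, s, hs, hrel, rfl⟩, u, hu, hdet⟩
  · refine ⟨fun _ => 0, ?_⟩
    rw [eq_top_iff]
    intro q _
    obtain ⟨y, rfl⟩ := Submodule.mkQ_surjective _ q
    have : y ∈ LinearMap.ker ((0 : R) • (LinearMap.id : M →ₗ[R] M)) := by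
      simp
    rw [Submodule.mkQ_apply, (Submodule.Quotient.mk_eq_zero _).mpr this]
    exact Submodule.zero_mem _
  · set K := LinearMap.ker (f • (LinearMap.id : M →ₗ[R] M)) with hK
    rw [Fintype.card_fin] at hs
    let t : Finset (Fin n) := sᶜ
    have htcard : t.card ≤ k := by
      have := Finset.card_compl s
      rw [Fintype.card_fin] at this
      have h2 := Finset.card_le_univ s
      rw [Fintype.card_fin] at h2
      simp only [t]
      omega
    let v : Fin n → M := fun l => ∑ i, a l i • x i
    have hvs : ∀ l ∈ s, v l = 0 := fun l hl => hrel l hl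
    -- entries of the adjugate in the columns `t` lie in `(f)`
    have hadj : ∀ j l, l ∈ t → ∃ c : R, c * f = a.adjugate j l := by
      intro j l hl
      have hls : l ∉ s := Finset.mem_compl.mp hl
      apply Ideal.mem_span_singleton'.mp
      rw [← hf, adjugate_apply]
      apply Ideal.subset_span
      refine ⟨a.updateRow l (Pi.single j 1), s, by rw [Fintype.card_fin]; exact hs, ?_, rfl⟩
      intro i hi
      have hil : i ≠ l := fun h => hls (h ▸ hi)
      rw [updateRow_ne hil]
      exact hrel i hi
    choose! c hc using hadj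
    -- the key identity
    have hkey : ∀ j, (u * f) • x j = ∑ l ∈ t, a.adjugate j l • v l := by
      intro j
      have h1 : ∑ i, (a.adjugate * a) j i • x i = (u * f) • x j := by
        rw [adjugate_mul, hdet]
        simp [Matrix.smul_apply, Matrix.one_apply, mul_ite, ite_smul]
      rw [← h1]
      simp_rw [Matrix.mul_apply, Finset.sum_smul, mul_smul]
      rw [Finset.sum_comm]
      simp_rw [← Finset.smul_sum]
      have h2 : ∀ l, ∑ i, a l i • x i = v l := fun l => rfl
      simp_rw [h2]
      rw [← Finset.sum_add_sum_compl s]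
      rw [Finset.sum_eq_zero (fun l hl => by rw [hvs l hl, smul_zero]), zero_add]
    have hy : ∀ j, u • x j - ∑ l ∈ t, c j l • v l ∈ K := by
      intro j
      rw [hK, LinearMap.mem_ker, LinearMap.smul_apply, LinearMap.id_apply, smul_sub, smul_smul,
        mul_comm f u, hkey j, Finset.smul_sum, sub_eq_zero]
      apply Finset.sum_congr rfl
      intro l hl
      rw [smul_smul, mul_comm f, hc j l hl]
    -- the images of `v l`, `l ∈ t`, span the quotient
    have hspan : Submodule.span R (Set.range fun l : t => K.mkQ (v l)) = ⊤ := by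
      have hxq : Submodule.span R (Set.range (K.mkQ ∘ x)) = ⊤ := by
        rw [Set.range_comp, ← Submodule.map_span, hx, Submodule.map_top, Submodule.range_mkQ]
      rw [eq_top_iff, ← hxq]
      apply Submodule.span_le.mpr
      rintro _ ⟨j, rfl⟩
      have h1 := (Submodule.Quotient.mk_eq_zero K).mpr (hy j)
      rw [Submodule.Quotient.mk_sub, sub_eq_zero] at h1
      have h2 : K.mkQ (x j) = (hu.unit⁻¹ : Rˣ).1 • K.mkQ (u • x j) := by
        rw [map_smul, smul_smul]
        have : ((hu.unit⁻¹ : Rˣ) : R) * u = 1 := by
          have := hu.unit.inv_mul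
          simpa using this
        rw [this, one_smul]
      rw [Function.comp_apply, SetLike.mem_coe, h2]
      apply Submodule.smul_mem
      rw [Submodule.mkQ_apply, h1, ← Submodule.mkQ_apply, map_sum]
      apply Submodule.sum_mem
      intro l hl
      rw [map_smul]
      exact Submodule.smul_mem _ _ (Submodule.subset_span ⟨⟨l, hl⟩, rfl⟩)
    let em : Fin t.card ≃ t := t.equivFin.symm
    have hspan' : Submodule.span R (Set.range fun i : Fin t.card => K.mkQ (v (em i))) = ⊤ := by
      rw [← hspan]
      congr 1
      exact (em.surjective.range_comp (fun l : t => K.mkQ (v l)))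
    exact exists_fin_of_le htcard _ hspan'

end Helper23.Fit
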