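import Mathlib
import Groth.Prelude.Def_Fitting
import Groth.Agent.Lib.Helper23.Fitting10

/-!
# Fitting ideals of finite projective modules of constant rank
-/

universe u v w
open Matrix TensorProduct

namespace Helper23.Fit

variable {R : Type u} [CommRing R] {M : Type v} [AddCommGroup M] [Module R M]

theorem ideal_eq_bot_of_projective_rank [Module.Finite R M] [Module.Projective R M] (k : ℕ)
    (hk : ∀ p : PrimeSpectrum R, Module.rankAtStalk (R := R) M p = k) (j : ℕ) (hj : j < k) :
    Fitt.ideal R M j = ⊥ := by
  apply ideal_eq_bot_of_localization'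
  intro J hJ
  haveI := hJ.isPrime
  rw [← ideal_localizedModule J.primeCompl j]
  haveI : Module.Free (Localization.AtPrime J) (LocalizedModule J.primeCompl M) :=
    Module.free_of_flat_of_isLocalRing
  have hrank : Module.finrank (Localization.AtPrime J) (LocalizedModule J.primeCompl M) = k :=
    hk ⟨J, inferInstance⟩
  exact ideal_of_basis_lt (Module.finBasisOfFinrankEq _ _ hrank) hj

theorem ideal_eq_top_of_projective_rank [Module.Finite R M] [Module.Projective R M] (k : ℕ)
    (hk : ∀ p : PrimeSpectrum R, Module.rankAtStalk (R := R) M p = k) (j : ℕ) (hj : k ≤ j) :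
    Fitt.ideal R M j = ⊤ := by
  by_contra hne
  obtain ⟨m, hm, hIm⟩ := Ideal.exists_le_maximal _ hne
  haveI := hm.isPrime
  haveI : Module.Free (Localization.AtPrime m) (LocalizedModule m.primeCompl M) :=
    Module.free_of_flat_of_isLocalRing
  have hrank : Module.finrank (Localization.AtPrime m) (LocalizedModule m.primeCompl M) = k :=
    hk ⟨m, inferInstance⟩
  let b := Module.finBasisOfFinrankEq (Localization.AtPrime m)
    (LocalizedModule m.primeCompl M) hrank
  obtain ⟨g, hg⟩ := exists_fin_of_le hj b b.span_eq
  exact (not_le_iff_exists_span_atPrime j m).mpr ⟨g, hg⟩ hIm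

end Helper23.Fit
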