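import Mathlib
import Groth.Prelude.Def_Fitting
import Groth.Agent.Lib.Helper23.Fitting11

/-!
# Principal Fitting ideal generated by a nonzerodivisor: `Fit_k (M / M[f]) = ⊤`
-/

universe u v w
open Matrix TensorProduct

namespace Helper23.Fit

variable {R : Type u} [CommRing R] {M : Type v} [AddCommGroup M] [Module R M]

theorem G_mono {ι : Type*} [Fintype ι] [DecidableEq ι] {k k' : ℕ} (h : k ≤ k') (x : ι → M) :
    G R k x ≤ G R k' x := by
  apply Ideal.span_mono
  rintro d ⟨a, s, hs, hrel, rfl⟩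
  exact ⟨a, s, by omega, hrel, rfl⟩

theorem ideal_mono_index [Module.Finite R M] {k k' : ℕ} (h : k ≤ k') :
    Fitt.ideal R M k ≤ Fitt.ideal R M k' := by
  obtain ⟨n, x, hx⟩ := Module.Finite.exists_fin (R := R) (M := M)
  rw [ideal_eq_G k x hx, ideal_eq_G k' x hx]
  exact G_mono h x

/-- The adjugate argument. -/
theorem adj_core {n : ℕ} (x : Fin n → M) (f : R) (a : Matrix (Fin n) (Fin n) R)
    (s : Finset (Fin n)) (hrel : ∀ i ∈ s, IsRel x (a i)) (u : R) (hdet : a.det = u * f)
    (hadj : ∀ j l, l ∈ sᶜ → ∃ c : R, c * f = a.adjugate j l) :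
    ∃ c : Fin n → Fin n → R, ∀ j, u • x j - ∑ l ∈ sᶜ, c j l • (∑ i, a l i • x i) ∈
      LinearMap.ker (f • (LinearMap.id : M →ₗ[R] M)) := by
  classical
  let v : Fin n → M := fun l => ∑ i, a l i • x i
  have hvs : ∀ l ∈ s, v l = 0 := fun l hl => hrel l hl
  choose! c hc using hadj
  refine ⟨c, fun j => ?_⟩
  have hkey : (u * f) • x j = ∑ l ∈ sᶜ, a.adjugate j l • v l := by
    have h1 : ∑ i, (a.adjugate * a) j i • x i = (u * f) • x j := by
      rw [adjugate_mul, hdet]
      simp [Matrix.smul_apply, Matrix.one_apply, mul_ite, ite_smul]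
    rw [← h1]
    simp_rw [Matrix.mul_apply, Finset.sum_smul, mul_smul]
    rw [Finset.sum_comm]
    simp_rw [← Finset.smul_sum]
    have h2 : ∀ l, ∑ i, a l i • x i = v l := fun l => rfl
    simp_rw [h2]
    rw [← Finset.sum_add_sum_compl s]
    rw [Finset.sum_eq_zero (fun l hl => by rw [hvs l hl, smul_zero]), zero_add]
  rw [LinearMap.mem_ker, LinearMap.smul_apply, LinearMap.id_apply, smul_sub, smul_smul,
    mul_comm f u, hkey, Finset.smul_sum, sub_eq_zero]
  apply Finset.sum_congr rfl
  intro l hl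
  rw [smul_smul, mul_comm f, hc j l hl]

/-- A generating set of a principal ideal `(f)`, `f` a nonzerodivisor, contains for each proper
ideal `q` an element `u * f` with `u ∉ q`. -/
theorem principal_exists (S : Set R) (f : R) (hf0 : f ∈ nonZeroDivisors R)
    (h : Ideal.span S = Ideal.span {f}) (q : Ideal R) (hq : q ≠ ⊤) :
    ∃ d ∈ S, ∃ u : R, u ∉ q ∧ d = u * f := by
  by_contra hcon
  push Not at hcon
  have hS : S ⊆ (q * Ideal.span {f} : Ideal R) := by
    intro d hd
    have hd' : d ∈ Ideal.span {f} := by rw [← h]; exact Ideal.subset_span hd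
    obtain ⟨b, rfl⟩ := Ideal.mem_span_singleton'.mp hd'
    have hb : b ∈ q := by
      by_contra hb
      exact hcon _ hd b hb rfl
    exact Ideal.mul_mem_mul hb (Ideal.mem_span_singleton_self f)
  have hf : f ∈ (q * Ideal.span {f} : Ideal R) := by
    have : f ∈ Ideal.span S := by rw [h]; exact Ideal.mem_span_singleton_self f
    exact (Ideal.span_le.mpr hS) this
  obtain ⟨z, hz, hzf⟩ := Ideal.mem_mul_span_singleton.mp hf
  have h1 : (z - 1) * f = 0 := by rw [sub_mul, one_mul, hzf, sub_self]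
  have h2 : z - 1 = 0 := (mem_nonZeroDivisors_iff_right.mp hf0) _ h1
  have : z = 1 := sub_eq_zero.mp h2
  rw [this] at hz
  exact hq ((Ideal.eq_top_iff_one q).mpr hz)

theorem not_le_of_residue_span [Module.Finite R M] (k : ℕ) (q : Ideal R) [q.IsPrime]
    (g : Fin k → q.ResidueField ⊗[R] M)
    (hg : Submodule.span q.ResidueField (Set.range g) = ⊤) : ¬ Fitt.ideal R M k ≤ q :=
  (not_le_iff_finrank_le k q).mpr
    ((ideal_eq_top_iff_finrank_le k).mp (ideal_eq_top_of_le g hg le_rfl))

/-- If `Fit_k(M) = (f)` with `f` a nonzerodivisor, then `Fit_k (M / M[f]) = ⊤`. -/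
theorem ideal_quotient_torsion_eq_top [Module.Finite R M] (k : ℕ) (f : R)
    (hf0 : f ∈ nonZeroDivisors R) (hf : Fitt.ideal R M k = Ideal.span {f}) :
    Fitt.ideal R (M ⧸ LinearMap.ker (f • (LinearMap.id : M →ₗ[R] M))) k = ⊤ := by
  classical
  by_contra hne
  obtain ⟨q, hqmax, hle⟩ := Ideal.exists_le_maximal _ hne
  haveI := hqmax.isPrime
  obtain ⟨n, x, hx⟩ := Module.Finite.exists_fin (R := R) (M := M)
  have hfG := hf
  rw [ideal_eq_G k x hx] at hfG
  obtain ⟨d, ⟨a, s, hs, hrel, rfl⟩, u, huq, hdet⟩ :=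
    principal_exists _ f hf0 hfG q hqmax.ne_top
  rw [Fintype.card_fin] at hs
  set K := LinearMap.ker (f • (LinearMap.id : M →ₗ[R] M)) with hK
  have hadj : ∀ j l, l ∈ sᶜ → ∃ c : R, c * f = a.adjugate j l := by
    intro j l hl
    have hls : l ∉ s := Finset.mem_compl.mp hl
    apply Ideal.mem_span_singleton'.mp
    rw [← hfG, adjugate_apply]
    apply Ideal.subset_span
    refine ⟨a.updateRow l (Pi.single j 1), s, by rw [Fintype.card_fin]; exact hs, ?_, rfl⟩
    intro i hi
    have hil : i ≠ l := fun h => hls (h ▸ hi)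
    rw [updateRow_ne hil]
    exact hrel i hi
  obtain ⟨c, hc⟩ := adj_core x f a s hrel u hdet hadj
  let t : Finset (Fin n) := sᶜ
  have htcard : t.card ≤ k := by
    have := Finset.card_compl s
    rw [Fintype.card_fin] at this
    have h2 := Finset.card_le_univ s
    rw [Fintype.card_fin] at h2
    simp only [t]
    omega
  let v : Fin n → M := fun l => ∑ i, a l i • x i
  let κ := q.ResidueField
  have hxq : Submodule.span R (Set.range (K.mkQ ∘ x)) = ⊤ := by
    rw [Set.range_comp, ← Submodule.map_span, hx, Submodule.map_top, Submodule.range_mkQ]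
  have hu0 : algebraMap R κ u ≠ 0 := by
    intro h0
    have : u ∈ RingHom.ker (algebraMap R κ) := h0
    rw [Ideal.ker_algebraMap_residueField] at this
    exact huq this
  let w : t → κ ⊗[R] (M ⧸ K) := fun l => (1 : κ) ⊗ₜ[R] K.mkQ (v l)
  have hspan : Submodule.span κ (Set.range w) = ⊤ := by
    rw [eq_top_iff, ← span_one_tmul (R' := κ) (K.mkQ ∘ x) hxq]
    apply Submodule.span_le.mpr
    rintro _ ⟨j, rfl⟩
    have h1 := (Submodule.Quotient.mk_eq_zero K).mpr (hc j)
    rw [Submodule.Quotient.mk_sub, sub_eq_zero] at h1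
    have h2 : algebraMap R κ u • ((1 : κ) ⊗ₜ[R] K.mkQ (x j)) ∈ Submodule.span κ (Set.range w) := by
      rw [algebraMap_smul, ← TensorProduct.tmul_smul, ← map_smul, Submodule.mkQ_apply, h1,
        ← Submodule.mkQ_apply, map_sum, TensorProduct.tmul_sum]
      apply Submodule.sum_mem
      intro l hl
      rw [map_smul, TensorProduct.tmul_smul, ← algebraMap_smul κ]
      exact Submodule.smul_mem _ _ (Submodule.subset_span ⟨⟨l, hl⟩, rfl⟩)
    have h3 := Submodule.smul_mem _ (algebraMap R κ u)⁻¹ h2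
    rwa [smul_smul, inv_mul_cancel₀ hu0, one_smul] at h3
  let em : Fin t.card ≃ t := t.equivFin.symm
  have hspan' : Submodule.span κ (Set.range fun i : Fin t.card => w (em i)) = ⊤ := by
    rw [← hspan]
    congr 1
    exact (em.surjective.range_comp w)
  obtain ⟨g, hg⟩ := exists_fin_of_le htcard _ hspan'
  exact not_le_of_residue_span k q g hg hle

end Helper23.Fit
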