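import Mathlib
import Groth.Prelude.Def_Fitting
import Groth.Prelude.Def_BlowUp2
import Groth.Prelude.Def_FlatCA
import Groth.Agent.Lib.Helper23.Fitting12

/-!
# Affine blow-up algebras, power torsion, and Fitting ideals of strict transforms
-/

universe u v w
open Matrix TensorProduct

namespace Helper23.Fit

section BlowUpAlg

variable {R : Type u} [CommRing R] (I : Ideal R) (a : R)
  {R₁ : Type u} [CommRing R₁] [Algebra R R₁] (e : R₁ ≃ₐ[R] ↥(BlowUp.affineAlgebra R I a))

include e in
theorem blowup_nonZeroDivisor : algebraMap R R₁ a ∈ nonZeroDivisors R₁ := by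
  rw [mem_nonZeroDivisors_iff_right]
  intro y hy
  have h1 : e y * e (algebraMap R R₁ a) = 0 := by rw [← map_mul, hy, map_zero]
  rw [e.commutes] at h1
  have h2 : ((e y : ↥(BlowUp.affineAlgebra R I a)) : Localization.Away a) *
      algebraMap R (Localization.Away a) a = 0 := by
    have := congrArg Subtype.val h1
    simpa using this
  have hunit : IsUnit (algebraMap R (Localization.Away a) a) :=
    IsLocalization.Away.algebraMap_isUnit a
  have h3 : ((e y : ↥(BlowUp.affineAlgebra R I a)) : Localization.Away a) = 0 :=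
    (hunit.mul_left_eq_zero).mp h2
  have h4 : e y = 0 := Subtype.ext h3
  exact (map_eq_zero_iff e e.injective).mp h4

include e in
theorem blowup_map_eq (ha : a ∈ I) :
    I.map (algebraMap R R₁) = Ideal.span {algebraMap R R₁ a} := by
  apply le_antisymm
  · rw [Ideal.map_le_iff_le_comap]
    intro x hx
    rw [Ideal.mem_comap, Ideal.mem_span_singleton']
    let q : ↥(BlowUp.affineAlgebra R I a) :=
      ⟨IsLocalization.mk' (Localization.Away a) x ⟨a, Submonoid.mem_powers a⟩,
        Algebra.subset_adjoin ⟨x, hx, rfl⟩⟩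
    refine ⟨e.symm q, ?_⟩
    apply e.injective
    rw [map_mul, e.apply_symm_apply, e.commutes, e.commutes]
    apply Subtype.ext
    have : (q : Localization.Away a) * algebraMap R (Localization.Away a) a =
        algebraMap R (Localization.Away a) x :=
      IsLocalization.mk'_spec (Localization.Away a) x ⟨a, Submonoid.mem_powers a⟩
    simpa using this
  · rw [Ideal.span_le, Set.singleton_subset_iff]
    exact Ideal.mem_map_of_mem _ ha

end BlowUpAlg

section PowTorsion

variable {B : Type u} [CommRing B] {N : Type u} [AddCommGroup N] [Module B N]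

theorem mem_powTorsion_iff (t : B) (y : N) :
    y ∈ FlatCA.powTorsion B t N ↔ ∃ n : ℕ, t ^ n • y = 0 := by
  unfold FlatCA.powTorsion
  rw [Submodule.mem_iSup_of_directed]
  · simp only [Submodule.mem_torsionBy_iff]
  · apply Monotone.directed_le
    intro n m hnm y hy
    rw [Submodule.mem_torsionBy_iff] at hy ⊢
    obtain ⟨d, rfl⟩ := Nat.exists_eq_add_of_le hnm
    rw [pow_add, mul_comm, mul_smul, hy, smul_zero]

/-- Saturation: the Fitting ideal of `N / (t-power torsion)` is contained in the `t`-saturation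
of the Fitting ideal of `N`. -/
theorem exists_pow_mul_mem_of_mem_ideal_quotient [Module.Finite B N] (t : B) (j : ℕ) (d : B)
    (hd : d ∈ Fitt.ideal B (N ⧸ FlatCA.powTorsion B t N) j) :
    ∃ m : ℕ, t ^ m * d ∈ Fitt.ideal B N j := by
  obtain ⟨n, x, hx⟩ := Module.Finite.exists_fin (R := B) (M := N)
  set T := FlatCA.powTorsion B t N with hT
  have hxq : Submodule.span B (Set.range (T.mkQ ∘ x)) = ⊤ := by
    rw [Set.range_comp, ← Submodule.map_span, hx, Submodule.map_top, Submodule.range_mkQ]
  rw [ideal_eq_Mn j _ hxq] at hd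
  rw [ideal_eq_Mn j x hx]
  unfold Mn at hd
  induction hd using Submodule.span_induction with
  | mem d hd =>
    obtain ⟨z, e, hz, rfl⟩ := hd
    have hz' : ∀ b, ∃ m : ℕ, IsRel x (t ^ m • z b) := by
      intro b
      have h1 : ∑ i, z b i • x i ∈ T := by
        rw [← Submodule.Quotient.mk_eq_zero, ← Submodule.mkQ_apply, map_sum]
        simpa [IsRel] using hz b
      obtain ⟨m, hm⟩ := (mem_powTorsion_iff t _).mp h1
      exact ⟨m, by
        unfold IsRel
        rw [Finset.smul_sum] at hm
        simpa [smul_smul] using hm⟩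
    choose m hm using hz'
    refine ⟨∑ b, m b, ?_⟩
    have : t ^ (∑ b, m b) * (Matrix.of fun a b => z b (e a)).det =
        (Matrix.of fun a b => (t ^ m b • z b) (e a)).det := by
      rw [← Finset.prod_pow_eq_pow_sum, ← det_mul_row]
      rfl
    rw [this]
    exact Ideal.subset_span ⟨fun b => t ^ m b • z b, e, hm, rfl⟩
  | zero => exact ⟨0, by simp⟩
  | add d d' _ _ h h' =>
    obtain ⟨m, hm⟩ := h
    obtain ⟨m', hm'⟩ := h'
    refine ⟨m + m', ?_⟩
    have : t ^ (m + m') * (d + d') = t ^ m' * (t ^ m * d) + t ^ m * (t ^ m' * d') := by ring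
    rw [this]
    exact Ideal.add_mem _ (Ideal.mul_mem_left _ _ hm) (Ideal.mul_mem_left _ _ hm')
  | smul c d _ h =>
    obtain ⟨m, hm⟩ := h
    refine ⟨m, ?_⟩
    have : t ^ m * (c • d) = c * (t ^ m * d) := by rw [smul_eq_mul]; ring
    rw [this]
    exact Ideal.mul_mem_left _ _ hm

end PowTorsion

end Helper23.Fit
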