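import Mathlib
import Groth.Prelude.Def_Fitting
import Groth.Prelude.Def_BlowUp2
import Groth.Prelude.Def_FlatCA
import Groth.Agent.Lib.Helper23.Fitting13

/-!
# Strict transforms along affine blow-ups in Fitting ideals
-/

universe u v w
open Matrix TensorProduct

namespace Helper23.Fit

/-- If `Fit_k(N) = (b)` with `b` a nonzerodivisor dividing `t`, then the `k`-th Fitting ideal of
`N / (t-power torsion)` is the unit ideal. -/
theorem ideal_quotient_powTorsion_eq_top {B : Type u} [CommRing B] {N : Type u} [AddCommGroup N]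
    [Module B N] [Module.Finite B N] (k : ℕ) (b t : B) (hbt : b ∣ t)
    (hb0 : b ∈ nonZeroDivisors B) (hb : Fitt.ideal B N k = Ideal.span {b}) :
    Fitt.ideal B (N ⧸ FlatCA.powTorsion B t N) k = ⊤ := by
  have hle : LinearMap.ker (b • (LinearMap.id : N →ₗ[B] N)) ≤ FlatCA.powTorsion B t N := by
    intro y hy
    rw [LinearMap.mem_ker, LinearMap.smul_apply, LinearMap.id_apply] at hy
    rw [mem_powTorsion_iff]
    obtain ⟨c, rfl⟩ := hbt
    exact ⟨1, by rw [pow_one, mul_comm, mul_smul, hy, smul_zero]⟩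
  rw [eq_top_iff, ← ideal_quotient_torsion_eq_top k b hb0 hb]
  exact ideal_mono_of_surjective (Submodule.factor hle) (Submodule.factor_surjective hle) k

theorem strictTransform_ideal_eq_top {R : Type u} [CommRing R] (M : Type u) [AddCommGroup M]
    [Module R M] [Module.Finite R M] (k : ℕ) (a : R) (ha : a ∈ Fitt.ideal R M k)
    (R₁ : Type u) [CommRing R₁] [Algebra R R₁]
    (e : R₁ ≃ₐ[R] ↥(BlowUp.affineAlgebra R (Fitt.ideal R M k) a)) :
    Fitt.ideal R₁ ((R₁ ⊗[R] M) ⧸ FlatCA.powTorsion R₁ (algebraMap R R₁ a) (R₁ ⊗[R] M)) k = ⊤ := by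
  apply ideal_quotient_powTorsion_eq_top k (algebraMap R R₁ a) (algebraMap R R₁ a) dvd_rfl
    (blowup_nonZeroDivisor _ a e)
  rw [ideal_baseChange, blowup_map_eq _ a e ha]

end Helper23.Fit
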