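import Mathlib
import Groth.Prelude.Def_Fitting
import Groth.Prelude.Def_BlowUp2
import Groth.Prelude.Def_FlatCA
import Groth.Agent.Lib.Helper23.Fitting14

/-!
# Strict transforms along affine blow-ups are locally free
-/

universe u v w
open Matrix TensorProduct

namespace Helper23.Fit

/-- If `y` is locally zero on `D(t)`, some power of `t` kills `y`. -/
theorem exists_pow_mul_eq_zero {R : Type u} [CommRing R] (t y : R)
    (h : ∀ (p : Ideal R) [p.IsPrime], t ∉ p → ∃ s : R, s ∉ p ∧ s * y = 0) :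
    ∃ N : ℕ, t ^ N * y = 0 := by
  let A : Ideal R := LinearMap.ker (LinearMap.toSpanSingleton R R y)
  have hmem : ∀ r : R, r ∈ A ↔ r * y = 0 := by
    intro r
    rw [LinearMap.mem_ker, LinearMap.toSpanSingleton_apply, smul_eq_mul]
  have hrad : t ∈ A.radical := by
    rw [Ideal.radical_eq_sInf, Ideal.mem_sInf]
    rintro p ⟨hAp, hp⟩
    by_contra htp
    haveI := hp
    obtain ⟨s, hsp, hsy⟩ := h p htp
    exact hsp (hAp ((hmem s).mpr hsy))
  obtain ⟨N, hN⟩ := hrad
  exact ⟨N, (hmem _).mp hN⟩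

theorem exists_pow_mul_eq_zero_of_mem_map {R : Type u} [CommRing R] {R₁ : Type v} [CommRing R₁]
    [Algebra R R₁] (J : Ideal R) (a : R) (h : ∀ y ∈ J, ∃ N : ℕ, a ^ N * y = 0) (z : R₁)
    (hz : z ∈ J.map (algebraMap R R₁)) : ∃ m : ℕ, algebraMap R R₁ a ^ m * z = 0 := by
  unfold Ideal.map at hz
  induction hz using Submodule.span_induction with
  | mem z hz =>
    obtain ⟨y, hy, rfl⟩ := hz
    obtain ⟨N, hN⟩ := h y hy
    exact ⟨N, by rw [← map_pow, ← map_mul, hN, map_zero]⟩
  | zero => exact ⟨0, by simp⟩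
  | add d d' _ _ h h' =>
    obtain ⟨m, hm⟩ := h
    obtain ⟨m', hm'⟩ := h'
    refine ⟨m + m', ?_⟩
    have : algebraMap R R₁ a ^ (m + m') * (d + d') =
        algebraMap R R₁ a ^ m' * (algebraMap R R₁ a ^ m * d) +
          algebraMap R R₁ a ^ m * (algebraMap R R₁ a ^ m' * d') := by ring
    rw [this, hm, hm', mul_zero, mul_zero, add_zero]
  | smul c d _ h =>
    obtain ⟨m, hm⟩ := h
    refine ⟨m, ?_⟩
    have : algebraMap R R₁ a ^ m * (c • d) = c * (algebraMap R R₁ a ^ m * d) := by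
      rw [smul_eq_mul]; ring
    rw [this, hm, mul_zero]

/-- If every element of `Fit_j(N)` is killed by a power of the nonzerodivisor `t`, then
`Fit_j (N / t-power torsion) = 0`. -/
theorem ideal_quotient_powTorsion_eq_bot {B : Type u} [CommRing B] {N : Type u} [AddCommGroup N]
    [Module B N] [Module.Finite B N] (j : ℕ) (t : B) (ht0 : t ∈ nonZeroDivisors B)
    (h : ∀ z ∈ Fitt.ideal B N j, ∃ m : ℕ, t ^ m * z = 0) :
    Fitt.ideal B (N ⧸ FlatCA.powTorsion B t N) j = ⊥ := by
  rw [eq_bot_iff]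
  intro d hd
  obtain ⟨m, hm⟩ := exists_pow_mul_mem_of_mem_ideal_quotient t j d hd
  obtain ⟨m', hm'⟩ := h _ hm
  rw [← mul_assoc, ← pow_add] at hm'
  have : t ^ (m' + m) ∈ nonZeroDivisors B := pow_mem ht0 _
  rw [Ideal.mem_bot]
  exact (mem_nonZeroDivisors_iff.mp this).1 d hm'

theorem strictTransform_locallyFree {R : Type u} [CommRing R] (M : Type u) [AddCommGroup M]
    [Module R M] [Module.Finite R M] (k : ℕ)
    (hfree : ∀ (p : Ideal R) [p.IsPrime], ¬ Fitt.ideal R M k ≤ p →
      Module.Free (Localization.AtPrime p) (LocalizedModule p.primeCompl M) ∧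
        Module.finrank (Localization.AtPrime p) (LocalizedModule p.primeCompl M) = k)
    (a : R) (ha : a ∈ Fitt.ideal R M k) (R₁ : Type u) [CommRing R₁] [Algebra R R₁]
    (e : R₁ ≃ₐ[R] ↥(BlowUp.affineAlgebra R (Fitt.ideal R M k) a))
    (p' : Ideal R₁) [p'.IsPrime] : ∃ g : R₁, g ∉ p' ∧
      Module.Free (Localization.Away g) (LocalizedModule (Submonoid.powers g)
        ((R₁ ⊗[R] M) ⧸ FlatCA.powTorsion R₁ (algebraMap R R₁ a) (R₁ ⊗[R] M))) ∧
      Module.finrank (Localization.Away g) (LocalizedModule (Submonoid.powers g)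
        ((R₁ ⊗[R] M) ⧸ FlatCA.powTorsion R₁ (algebraMap R R₁ a) (R₁ ⊗[R] M))) = k := by
  apply locallyFree_of_ideal k ?_ ?_ p'
  · intro j hj
    apply ideal_quotient_powTorsion_eq_bot j _ (blowup_nonZeroDivisor _ a e)
    intro z hz
    rw [ideal_baseChange] at hz
    refine exists_pow_mul_eq_zero_of_mem_map _ a ?_ z hz
    intro y hy
    apply exists_pow_mul_eq_zero
    intro p _ hap
    have hnot : ¬ Fitt.ideal R M k ≤ p := fun hle => hap (hle ha)
    obtain ⟨hfr, hrank⟩ := hfree p hnot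
    have hbot : Fitt.ideal (Localization.AtPrime p) (LocalizedModule p.primeCompl M) j = ⊥ :=
      ideal_of_basis_lt (Module.finBasisOfFinrankEq _ _ hrank) hj
    rw [ideal_localizedModule p.primeCompl j] at hbot
    have h0 : algebraMap R (Localization.AtPrime p) y = 0 := by
      have : algebraMap R (Localization.AtPrime p) y ∈
          (Fitt.ideal R M j).map (algebraMap R (Localization.AtPrime p)) :=
        Ideal.mem_map_of_mem _ hy
      rw [hbot] at this
      exact this
    rw [IsLocalization.map_eq_zero_iff p.primeCompl] at h0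
    obtain ⟨⟨s, hs⟩, hsy⟩ := h0
    exact ⟨s, hs, hsy⟩
  · intro j hj
    rw [eq_top_iff, ← strictTransform_ideal_eq_top M k a ha R₁ e]
    exact ideal_mono_index hj

end Helper23.Fit
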