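import Mathlib
import Groth.Prelude.Def_Fitting
import Groth.Prelude.Def_BlowUp2
import Groth.Prelude.Def_FlatCA
import Groth.Agent.Lib.Helper23.Fitting15

/-!
# A finitely presented model `R^n / K` and the blow-up making a module locally free
-/

universe u v w
open Matrix TensorProduct

namespace Helper23.Fit

section Model

variable {R : Type u} [CommRing R] {n : ℕ} (K : Submodule R (Fin n → R))

/-- The standard generators of `R^n / K`. -/
def stdGen : Fin n → (Fin n → R) ⧸ K := fun i => K.mkQ (Pi.single i 1)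

theorem sum_smul_stdGen (z : Fin n → R) : ∑ i, z i • stdGen K i = K.mkQ z := by
  simp only [stdGen, ← map_smul, ← map_sum]
  congr 1
  ext j
  simp [Finset.sum_apply, Pi.single_apply]

theorem isRel_stdGen_iff (z : Fin n → R) : IsRel (stdGen K) z ↔ z ∈ K := by
  unfold IsRel
  rw [sum_smul_stdGen, Submodule.mkQ_apply, Submodule.Quotient.mk_eq_zero]

theorem span_stdGen : Submodule.span R (Set.range (stdGen K)) = ⊤ := by
  rw [eq_top_iff]
  intro q _
  obtain ⟨z, rfl⟩ := K.mkQ_surjective q
  rw [← sum_smul_stdGen]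
  exact Submodule.sum_mem _ fun i _ => Submodule.smul_mem _ _ (Submodule.subset_span ⟨i, rfl⟩)

theorem finitePresentation_quotient (hK : K.FG) : Module.FinitePresentation R ((Fin n → R) ⧸ K) :=
  Module.finitePresentation_of_free_of_surjective K.mkQ K.mkQ_surjective (by rwa [K.ker_mkQ])

end Model

variable {R : Type u} [CommRing R] {M : Type v} [AddCommGroup M] [Module R M]

/-- If `d ∈ Fit_k(M)` there is a finitely presented module `M₁` surjecting onto `M` with
`d ∈ Fit_k(M₁)`. -/
theorem exists_fp_model [Module.Finite R M] (k : ℕ) (d : R) (hd : d ∈ Fitt.ideal R M k) :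
    ∃ (n : ℕ) (K : Submodule R (Fin n → R)) (φ : ((Fin n → R) ⧸ K) →ₗ[R] M),
      K.FG ∧ Function.Surjective φ ∧ d ∈ Fitt.ideal R ((Fin n → R) ⧸ K) k := by
  classical
  obtain ⟨n, x, hx⟩ := Module.Finite.exists_fin (R := R) (M := M)
  rw [ideal_eq_Mn k x hx] at hd
  unfold Mn at hd
  obtain ⟨T, hTS, hdT⟩ := Submodule.mem_span_finite_of_mem_span hd
  have hch : ∀ t : T, ∃ (z : Fin (n - k) → (Fin n → R)) (e : Fin (n - k) → Fin n),
      (∀ j, IsRel x (z j)) ∧ (t : R) = (Matrix.of fun a b => z b (e a)).det := fun t => hTS t.2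
  choose zz ee hzz hdet using hch
  let K : Submodule R (Fin n → R) :=
    Submodule.span R (Set.range fun p : T × Fin (n - k) => zz p.1 p.2)
  have hKfg : K.FG := Submodule.fg_span (Set.finite_range _)
  have hKle : K ≤ LinearMap.ker (Fintype.linearCombination R x) := by
    apply Submodule.span_le.mpr
    rintro _ ⟨p, rfl⟩
    exact (isRel_iff_mem_ker x _).mp (hzz p.1 p.2)
  let φ : ((Fin n → R) ⧸ K) →ₗ[R] M := K.liftQ (Fintype.linearCombination R x) hKle
  have hφ : Function.Surjective φ := by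
    rw [← LinearMap.range_eq_top, Submodule.range_liftQ, Fintype.range_linearCombination, hx]
  refine ⟨n, K, φ, hKfg, hφ, ?_⟩
  rw [ideal_eq_Mn k (stdGen K) (span_stdGen K)]
  have hsub : (T : Set R) ⊆ Mn R (n - k) (stdGen K) := by
    intro t ht
    apply Ideal.subset_span
    refine ⟨zz ⟨t, ht⟩, ee ⟨t, ht⟩, fun j => ?_, hdet ⟨t, ht⟩⟩
    rw [isRel_stdGen_iff]
    exact Submodule.subset_span ⟨(⟨t, ht⟩, j), rfl⟩
  exact (Submodule.span_le.mpr hsub) hdT

end Helper23.Fit
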