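import Mathlib
import Groth.Prelude.Def_Fitting
import Groth.Prelude.Def_BlowUp2
import Groth.Prelude.Def_FlatCA
import Groth.Agent.Lib.Helper23.Fitting16

/-!
# A blow-up making a generically locally free finite module locally free
-/

universe u v w
open Matrix TensorProduct

namespace Helper23.Fit

theorem exists_blowup_ideal {R : Type u} [CommRing R] (M : Type u) [AddCommGroup M]
    [Module R M] [Module.Finite R M] (f : R) (r : ℕ)
    (hf : ∀ (p : Ideal R) [p.IsPrime], f ∉ p → ∃ g : R, g ∉ p ∧ g ∈ (Ideal.span {f}).radical ∧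
      Module.Free (Localization.Away g) (LocalizedModule (Submonoid.powers g) M) ∧
        Module.finrank (Localization.Away g) (LocalizedModule (Submonoid.powers g) M) = r) :
    ∃ I : Ideal R, I.FG ∧ I.radical = (Ideal.span {f}).radical ∧ ∀ a ∈ I, ∀ (R₁ : Type u)
      [CommRing R₁] [Algebra R R₁] (_ : R₁ ≃ₐ[R] ↥(BlowUp.affineAlgebra R I a)),
      ∀ (p' : Ideal R₁) [p'.IsPrime], ∃ g : R₁, g ∉ p' ∧
        Module.Free (Localization.Away g) (LocalizedModule (Submonoid.powers g)
          ((R₁ ⊗[R] M) ⧸ FlatCA.powTorsion R₁ (algebraMap R R₁ a) (R₁ ⊗[R] M))) ∧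
        Module.finrank (Localization.Away g) (LocalizedModule (Submonoid.powers g)
          ((R₁ ⊗[R] M) ⧸ FlatCA.powTorsion R₁ (algebraMap R R₁ a) (R₁ ⊗[R] M))) = r := by
  -- `f` lies in the radical of `Fit_r(M)`
  have hrad : f ∈ (Fitt.ideal R M r).radical := by
    rw [Ideal.radical_eq_sInf, Ideal.mem_sInf]
    rintro p ⟨hle, hp⟩
    by_contra hfp
    haveI := hp
    obtain ⟨g, hgp, -, hfree, hrank⟩ := hf p hfp
    haveI := away_nontrivial p g hgp
    let b := Module.finBasisOfFinrankEq (Localization.Away g)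
      (LocalizedModule (Submonoid.powers g) M) hrank
    exact (not_le_iff_exists_span_away r p).mpr ⟨g, hgp, b, b.span_eq⟩ hle
  obtain ⟨N, hN⟩ := hrad
  obtain ⟨n, K, φ, hKfg, hφ, hd⟩ := exists_fp_model r (f ^ N) hN
  haveI := finitePresentation_quotient K hKfg
  set J := Fitt.ideal R ((Fin n → R) ⧸ K) r with hJ
  have hJfg : J.FG := ideal_fg_of_finitePresentation r
  refine ⟨Ideal.span {f} * J, ?_, ?_, ?_⟩
  · exact Submodule.FG.mul ⟨{f}, by simp⟩ hJfg
  · apply le_antisymm
    · exact Ideal.radical_mono Ideal.mul_le_left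
    · rw [Ideal.radical_le_radical_iff, Ideal.span_le, Set.singleton_subset_iff]
      refine ⟨N + 1, ?_⟩
      rw [pow_succ']
      exact Ideal.mul_mem_mul (Ideal.mem_span_singleton_self f) hd
  · intro a ha R₁ _ _ e p' _
    obtain ⟨b, hbJ, rfl⟩ := Ideal.mem_span_singleton_mul.mp ha
    have ha0 := blowup_nonZeroDivisor (Ideal.span {f} * J) (f * b) e
    have ha0' := ha0
    rw [map_mul] at ha0'
    obtain ⟨hf0, hb0⟩ := mul_mem_nonZeroDivisors.mp ha0'
    have hImap := blowup_map_eq (Ideal.span {f} * J) (f * b) e ha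
    have hJmap : J.map (algebraMap R R₁) = Ideal.span {algebraMap R R₁ b} := by
      apply le_antisymm
      · rw [Ideal.map_le_iff_le_comap]
        intro y hy
        rw [Ideal.mem_comap, Ideal.mem_span_singleton']
        have h1 : algebraMap R R₁ (f * y) ∈ (Ideal.span {f} * J).map (algebraMap R R₁) :=
          Ideal.mem_map_of_mem _ (Ideal.mul_mem_mul (Ideal.mem_span_singleton_self f) hy)
        rw [hImap, Ideal.mem_span_singleton'] at h1
        obtain ⟨c, hc⟩ := h1
        refine ⟨c, ?_⟩
        rw [map_mul, map_mul] at hc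
        have h2 : algebraMap R R₁ f * (c * algebraMap R R₁ b) =
            algebraMap R R₁ f * algebraMap R R₁ y := by rw [← hc]; ring
        exact (mul_cancel_left_mem_nonZeroDivisors hf0).mp h2
      · rw [Ideal.span_le, Set.singleton_subset_iff]
        exact Ideal.mem_map_of_mem _ hbJ
    apply locallyFree_of_ideal r ?_ ?_ p'
    · intro j hj
      apply ideal_quotient_powTorsion_eq_bot j _ ha0
      intro z hz
      rw [ideal_baseChange] at hz
      refine exists_pow_mul_eq_zero_of_mem_map _ (f * b) ?_ z hz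
      intro y hy
      apply exists_pow_mul_eq_zero
      intro p _ hap
      have hfp : f ∉ p := fun h => hap (Ideal.mul_mem_right _ _ h)
      obtain ⟨g, hgp, -, hfree, hrank⟩ := hf p hfp
      haveI := away_nontrivial p g hgp
      have hbot : Fitt.ideal (Localization.Away g)
          (LocalizedModule (Submonoid.powers g) M) j = ⊥ :=
        ideal_of_basis_lt (Module.finBasisOfFinrankEq _ _ hrank) hj
      rw [ideal_localizedModule (Submonoid.powers g) j] at hbot
      have h0 : algebraMap R (Localization.Away g) y = 0 := by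
        have : algebraMap R (Localization.Away g) y ∈
            (Fitt.ideal R M j).map (algebraMap R (Localization.Away g)) :=
          Ideal.mem_map_of_mem _ hy
        rw [hbot] at this
        exact this
      rw [IsLocalization.map_eq_zero_iff (Submonoid.powers g)] at h0
      obtain ⟨⟨_, m, rfl⟩, hsy⟩ := h0
      exact ⟨g ^ m, fun h => hgp (Ideal.IsPrime.mem_of_pow_mem inferInstance m h), hsy⟩
    · intro j hj
      have hN₁ : Fitt.ideal R₁ (R₁ ⊗[R] ((Fin n → R) ⧸ K)) r =
          Ideal.span {algebraMap R R₁ b} := by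
        rw [ideal_baseChange, hJmap]
      have htop := ideal_quotient_torsion_eq_top r (algebraMap R R₁ b) hb0 hN₁
      set T := FlatCA.powTorsion R₁ (algebraMap R R₁ (f * b)) (R₁ ⊗[R] M) with hT
      let ψ : (R₁ ⊗[R] ((Fin n → R) ⧸ K)) →ₗ[R₁] (R₁ ⊗[R] M) ⧸ T :=
        T.mkQ ∘ₗ φ.baseChange R₁
      have hψ : Function.Surjective ψ := by
        refine (Submodule.mkQ_surjective T).comp ?_
        intro y
        obtain ⟨x, hx⟩ := LinearMap.lTensor_surjective R₁ hφ y
        exact ⟨x, hx⟩
      have hker : LinearMap.ker (algebraMap R R₁ b •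
          (LinearMap.id : (R₁ ⊗[R] ((Fin n → R) ⧸ K)) →ₗ[R₁] _)) ≤ LinearMap.ker ψ := by
        intro y hy
        rw [LinearMap.mem_ker, LinearMap.smul_apply, LinearMap.id_apply] at hy
        rw [LinearMap.mem_ker, LinearMap.comp_apply, Submodule.mkQ_apply,
          Submodule.Quotient.mk_eq_zero, hT, mem_powTorsion_iff]
        refine ⟨1, ?_⟩
        rw [pow_one, ← map_smul, map_mul, mul_smul, hy, smul_zero, map_zero]
      have hΨ : Function.Surjective (Submodule.liftQ _ ψ hker) := by
        intro q
        obtain ⟨y, rfl⟩ := hψ q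
        exact ⟨Submodule.Quotient.mk y, by simp⟩
      have h1 : Fitt.ideal R₁ ((R₁ ⊗[R] M) ⧸ T) r = ⊤ := by
        rw [eq_top_iff, ← htop]
        exact ideal_mono_of_surjective _ hΨ r
      rw [eq_top_iff, ← h1]
      exact ideal_mono_index hj

end Helper23.Fit
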