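import Mathlib
import Groth.Prelude.Def_Fitting
import Groth.Agent.Lib.Helper23.Fitting12

/-!
# Principal Fitting ideal: the relation module is locally free
-/

universe u v w
open Matrix TensorProduct

namespace Helper23.Fit

variable {R : Type u} [CommRing R] {M : Type v} [AddCommGroup M] [Module R M]

/-- Cramer's rule in row form. -/
theorem det_mul_eq_sum_updateRow {n : ℕ} (a : Matrix (Fin n) (Fin n) R) (z : Fin n → R)
    (j : Fin n) : a.det * z j = ∑ l, (a.updateRow l z).det * a l j := by
  have hD : ∀ l, (a.updateRow l z).det = ∑ b, a.adjugate b l * z b := by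
    intro l
    rw [← cramer_transpose_apply, cramer_eq_adjugate_mulVec, ← adjugate_transpose]
    simp only [mulVec, dotProduct, transpose_apply]
  simp_rw [hD, Finset.sum_mul]
  rw [Finset.sum_comm]
  have h1 : ∀ b, ∑ l, a.adjugate b l * z b * a l j = z b * (a.adjugate * a) b j := by
    intro b
    rw [Matrix.mul_apply, Finset.mul_sum]
    apply Finset.sum_congr rfl
    intro l _
    ring
  simp_rw [h1, adjugate_mul]
  simp [Matrix.smul_apply, Matrix.one_apply, mul_comm]

/-- Local generation of the relation module. -/
theorem local_relations {n : ℕ} (x : Fin n → M) (k : ℕ) (f : R) (hf0 : f ∈ nonZeroDivisors R)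
    (hG : G R k x = Ideal.span {f}) (hG' : k = 0 ∨ G R (k - 1) x = ⊥)
    (p : Ideal R) (hp : p ≠ ⊤) :
    ∃ (u : R) (a : Matrix (Fin n) (Fin n) R) (s : Finset (Fin n)), u ∉ p ∧
      (∀ i ∈ s, IsRel x (a i)) ∧ a.det = u * f ∧
      ∀ z, IsRel x z → ∃ w : Fin n → R, ∀ j, u * z j = ∑ l ∈ s, w l * a l j := by
  classical
  have hG2 := hG
  unfold G at hG2
  obtain ⟨d, ⟨a, s, hs, hrel, rfl⟩, u, hup, hdet⟩ := principal_exists _ f hf0 hG2 p hp
  rw [Fintype.card_fin] at hs
  refine ⟨u, a, s, hup, hrel, hdet, ?_⟩
  intro z hz
  have hD0 : ∀ l, l ∉ s → (a.updateRow l z).det = 0 := by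
    intro l hl
    rcases hG' with hk0 | hbot
    · exfalso
      subst hk0
      have : s = Finset.univ := by
        apply Finset.eq_univ_of_card
        rw [Fintype.card_fin]
        have := Finset.card_le_univ s
        rw [Fintype.card_fin] at this
        omega
      exact hl (this ▸ Finset.mem_univ l)
    · have hk1 : 1 ≤ k := by
        by_contra hk
        have hk0 : k = 0 := by omega
        subst hk0
        have : s = Finset.univ := by
          apply Finset.eq_univ_of_card
          rw [Fintype.card_fin]
          have := Finset.card_le_univ s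
          rw [Fintype.card_fin] at this
          omega
        exact hl (this ▸ Finset.mem_univ l)
      have hmem : (a.updateRow l z).det ∈ G R (k - 1) x := by
        refine det_mem_G _ (insert l s) ?_ ?_
        · rw [Finset.card_insert_of_notMem hl, Fintype.card_fin]
          omega
        · intro i hi
          rcases Finset.mem_insert.mp hi with rfl | hi
          · rw [updateRow_self]; exact hz
          · have hil : i ≠ l := fun h => hl (h ▸ hi)
            rw [updateRow_ne hil]
            exact hrel i hi
      rw [hbot] at hmem
      exact hmem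
  have hDs : ∀ l, l ∈ s → ∃ w : R, w * f = (a.updateRow l z).det := by
    intro l hl
    apply Ideal.mem_span_singleton'.mp
    rw [← hG]
    refine det_mem_G _ s (by rw [Fintype.card_fin]; exact hs) ?_
    intro i hi
    by_cases hil : i = l
    · subst hil
      rw [updateRow_self]; exact hz
    · rw [updateRow_ne hil]
      exact hrel i hi
  choose! w hw using hDs
  refine ⟨w, fun j => ?_⟩
  have h1 := det_mul_eq_sum_updateRow a z j
  rw [hdet, ← Finset.sum_add_sum_compl s] at h1
  rw [Finset.sum_eq_zero (s := sᶜ) (fun l hl => by
    rw [hD0 l (Finset.mem_compl.mp hl), zero_mul]), add_zero] at h1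
  have h2 : f * (u * z j) = f * ∑ l ∈ s, w l * a l j := by
    rw [Finset.mul_sum]
    calc f * (u * z j) = u * f * z j := by ring
      _ = ∑ l ∈ s, (a.updateRow l z).det * a l j := h1
      _ = ∑ l ∈ s, f * (w l * a l j) := by
        apply Finset.sum_congr rfl
        intro l hl
        rw [← hw l hl]; ring
  exact (mul_cancel_left_mem_nonZeroDivisors hf0).mp h2

/-- A finite module which is free on a basic open neighbourhood of every prime is projective. -/
theorem projective_of_locallyFree {P : Type v} [AddCommGroup P] [Module R P] [Module.Finite R P]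
    (h : ∀ (p : Ideal R) [p.IsPrime], ∃ g : R, g ∉ p ∧
      Module.Free (Localization.Away g) (LocalizedModule.Away g P)) :
    Module.Projective R P := by
  let s : Set R := {g | Module.Free (Localization.Away g) (LocalizedModule.Away g P)}
  have hs : Ideal.span s = ⊤ := by
    by_contra hne
    obtain ⟨m, hm, hle⟩ := Ideal.exists_le_maximal _ hne
    haveI := hm.isPrime
    obtain ⟨g, hg, hfree⟩ := h m
    exact hg (hle (Ideal.subset_span hfree))
  haveI : Module.FinitePresentation R P :=
    Module.FinitePresentation.of_localizationSpan s hs (fun g => by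
      haveI : Module.Free (Localization.Away g.1) (LocalizedModule.Away g.1 P) := g.2
      exact Module.finitePresentation_of_projective _ _)
  haveI : Module.Flat R P :=
    Module.flat_of_localized_span R P s hs (fun g => by
      haveI : Module.Free (Localization.Away g.1) (LocalizedModule.Away g.1 P) := g.2
      exact Module.Flat.trans R (Localization.Away g.1) (LocalizedModule.Away g.1 P))
  exact Module.Flat.projective_of_finitePresentation

end Helper23.Fit
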