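import Mathlib
import Groth.Prelude.Def_Fitting
import Groth.Agent.Lib.Helper23.Fitting18

/-!
# Principal Fitting ideal: the relation module is locally free (continued)
-/

universe u v w
open Matrix TensorProduct

namespace Helper23.Fit

variable {R : Type u} [CommRing R] {M : Type v} [AddCommGroup M] [Module R M]

theorem rel_locallyFree {n : ℕ} (x : Fin n → M) (k : ℕ) (f : R) (hf0 : f ∈ nonZeroDivisors R)
    (hG : G R k x = Ideal.span {f}) (hG' : k = 0 ∨ G R (k - 1) x = ⊥)
    (p : Ideal R) [hp : p.IsPrime] :
    ∃ u : R, u ∉ p ∧ Module.Free (Localization.Away u)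
      (LocalizedModule.Away u (LinearMap.ker (Fintype.linearCombination R x))) := by
  classical
  obtain ⟨u, a, s, hup, hrel, hdet, hgen⟩ := local_relations x k f hf0 hG hG' p hp.ne_top
  refine ⟨u, hup, ?_⟩
  set Rel := LinearMap.ker (Fintype.linearCombination R x) with hRel
  let rows : s → Rel := fun l => ⟨a l, (isRel_iff_mem_ker x _).mp (hrel l l.2)⟩
  let ψ : (s → R) →ₗ[R] Rel := Fintype.linearCombination R rows
  have hψ : ∀ (w : s → R) (j : Fin n), ((ψ w : Rel) : Fin n → R) j = ∑ l : s, w l * a l j := by
    intro w j
    simp only [ψ, Fintype.linearCombination_apply, Submodule.coe_sum, Submodule.coe_smul,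
      Finset.sum_apply, Pi.smul_apply, smul_eq_mul, rows]
  have hu_mem : u ∈ Submonoid.powers u := Submonoid.mem_powers u
  have hsurj : Function.Surjective (LocalizedModule.map (Submonoid.powers u) ψ) := by
    intro y
    induction y using LocalizedModule.induction_on with
    | h z σ =>
      obtain ⟨w, hw⟩ := hgen z.1 ((isRel_iff_mem_ker x _).mpr z.2)
      have huz : u • z = ψ (fun l : s => w l) := by
        apply Subtype.ext
        funext j
        rw [hψ, Submodule.coe_smul, Pi.smul_apply, smul_eq_mul, hw j]
        exact (Finset.sum_coe_sort s (fun l => w l * a l j)).symm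
      refine ⟨LocalizedModule.mk (fun l : s => w l) ((⟨u, hu_mem⟩ : Submonoid.powers u) * σ), ?_⟩
      rw [LocalizedModule.map_mk, ← huz]
      exact LocalizedModule.mk_cancel_common_left (⟨u, hu_mem⟩ : Submonoid.powers u) σ z
  have hinj : Function.Injective (LocalizedModule.map (Submonoid.powers u) ψ) := by
    rw [injective_iff_map_eq_zero]
    intro y hy
    induction y using LocalizedModule.induction_on with
    | h w σ =>
      rw [LocalizedModule.map_mk, ← LocalizedModule.zero_mk σ, LocalizedModule.mk_eq] at hy
      obtain ⟨t, ht⟩ := hy
      rw [smul_zero, smul_zero] at ht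
      have ht' : ((t : R) * (σ : R)) • ψ w = 0 := by
        rw [mul_smul]; exact ht
      set c : R := (t : R) * (σ : R) with hc
      -- extend `c • w` by zero
      let wt : Fin n → R := fun l => if h : l ∈ s then c * w ⟨l, h⟩ else 0
      have hwt : ∀ j, ∑ l, wt l * a l j = 0 := by
        intro j
        have h1 : ∑ l, wt l * a l j = ∑ l ∈ s, wt l * a l j := by
          symm
          apply Finset.sum_subset (Finset.subset_univ s)
          intro l _ hl
          simp only [wt, dif_neg hl, zero_mul]
        rw [h1, ← Finset.sum_coe_sort s]
        have h2 : ∀ l : s, wt l * a l j = c * (w l * a l j) := by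
          intro l
          simp only [wt, dif_pos l.2, Subtype.coe_eta, mul_assoc]
        simp_rw [h2]
        rw [← Finset.mul_sum, ← hψ]
        have := congrArg (fun q : Rel => (q : Fin n → R) j) ht'
        simpa using this
      have hdetw : ∀ i, a.det * wt i = 0 := by
        intro i
        have h3 : ∑ j, (∑ l, wt l * a l j) * a.adjugate j i = a.det * wt i := by
          simp_rw [Finset.sum_mul]
          rw [Finset.sum_comm]
          have h4 : ∀ l, ∑ j, wt l * a l j * a.adjugate j i = wt l * (a * a.adjugate) l i := by
            intro l
            rw [Matrix.mul_apply, Finset.mul_sum]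
            apply Finset.sum_congr rfl
            intro j _
            ring
          simp_rw [h4, mul_adjugate]
          simp [Matrix.smul_apply, Matrix.one_apply, mul_comm]
        rw [← h3]
        simp_rw [hwt, zero_mul]
        exact Finset.sum_const_zero
      have huw : ∀ i, u * wt i = 0 := by
        intro i
        have h5 := hdetw i
        rw [hdet] at h5
        have h6 : f * (u * wt i) = f * 0 := by rw [mul_zero, ← h5]; ring
        exact (mul_cancel_left_mem_nonZeroDivisors hf0).mp h6
      rw [← LocalizedModule.zero_mk σ, LocalizedModule.mk_eq]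
      refine ⟨(⟨u, hu_mem⟩ : Submonoid.powers u) * t, ?_⟩
      rw [smul_zero, smul_zero]
      funext l
      have h7 := huw l
      simp only [wt, dif_pos l.2, Subtype.coe_eta] at h7
      show (u * (t : R)) • ((σ : R) • w) l = 0
      simp only [Pi.smul_apply, smul_eq_mul]
      rw [← h7, hc]
      ring
  haveI : Module.Free (Localization.Away u) (LocalizedModule.Away u (s → R)) :=
    Module.free_of_isLocalizedModule (Submonoid.powers u)
      (LocalizedModule.mkLinearMap (Submonoid.powers u) (s → R))
  exact Module.Free.of_equiv
    (LinearEquiv.ofBijective (LocalizedModule.map (Submonoid.powers u) ψ) ⟨hinj, hsurj⟩)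

end Helper23.Fit
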