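import Mathlib
import Groth.Prelude.Def_Fitting
import Groth.Prelude.Def_FlatCA
import Groth.Agent.Lib.Helper23.Fitting19
import Groth.Agent.Lib.Helper23.Fitting15

/-!
# Principal Fitting ideal generated by a nonzerodivisor with vanishing lower Fitting ideal
-/

universe u v w
open Matrix TensorProduct CategoryTheory

namespace Helper23.Fit

variable {R : Type u} [CommRing R]

/-- A nonzerodivisor acts injectively on a projective module. -/
theorem smul_eq_zero_of_projective {Q : Type v} [AddCommGroup Q] [Module R Q]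
    [Module.Projective R Q] (r : R) (hr : r ∈ nonZeroDivisors R) (q : Q) (h : r • q = 0) :
    q = 0 := by
  obtain ⟨s, hs⟩ := Module.projective_def'.mp (inferInstance : Module.Projective R Q)
  have h1 : r • s q = 0 := by rw [← map_smul, h, map_zero]
  have h2 : s q = 0 := by
    ext i
    have := congrArg (fun g : Q →₀ R => g i) h1
    simp only [Finsupp.smul_apply, smul_eq_mul, Finsupp.zero_apply] at this
    rw [mul_comm] at this
    exact (mem_nonZeroDivisors_iff.mp hr).2 _ this
  have h3 := congrArg (fun g => g q) hs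
  simp only [LinearMap.comp_apply, LinearMap.id_apply] at h3
  rw [← h3, h2, map_zero]

/-- A section of the quotient map splits the module. -/
theorem exists_retraction_of_section {M : Type v} [AddCommGroup M] [Module R M]
    (N : Submodule R M) (σ : (M ⧸ N) →ₗ[R] M) (hσ : N.mkQ ∘ₗ σ = LinearMap.id) :
    ∃ r : M →ₗ[R] N, r ∘ₗ N.subtype = LinearMap.id ∧ ∀ m, ((r m : N) : M) = m - σ (N.mkQ m) := by
  have hσ' : ∀ q, N.mkQ (σ q) = q := fun q => by
    have := congrArg (fun g => g q) hσ
    simpa using this
  have hmem : ∀ m : M, ((LinearMap.id : M →ₗ[R] M) - σ ∘ₗ N.mkQ) m ∈ N := by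
    intro m
    rw [← Submodule.Quotient.mk_eq_zero, ← Submodule.mkQ_apply]
    simp only [LinearMap.sub_apply, LinearMap.id_apply, LinearMap.comp_apply, map_sub, hσ',
      sub_self]
  refine ⟨LinearMap.codRestrict N ((LinearMap.id : M →ₗ[R] M) - σ ∘ₗ N.mkQ) hmem, ?_,
    fun m => rfl⟩
  apply LinearMap.ext
  intro m'
  apply Subtype.ext
  have h0 : N.mkQ (m' : M) = 0 := by
    rw [Submodule.mkQ_apply, Submodule.Quotient.mk_eq_zero]; exact m'.2
  show (m' : M) - σ (N.mkQ (m' : M)) = m'
  rw [h0, map_zero, sub_zero]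

theorem nonempty_equiv_prod_of_section {M : Type v} [AddCommGroup M] [Module R M]
    (N : Submodule R M) (σ : (M ⧸ N) →ₗ[R] M) (hσ : N.mkQ ∘ₗ σ = LinearMap.id) :
    Nonempty (M ≃ₗ[R] (M ⧸ N) × N) := by
  obtain ⟨r, -, hr⟩ := exists_retraction_of_section N σ hσ
  have hσ' : ∀ q, N.mkQ (σ q) = q := fun q => by
    have := congrArg (fun g => g q) hσ
    simpa using this
  refine ⟨LinearEquiv.ofLinear (N.mkQ.prod r) (σ.coprod N.subtype) ?_ ?_⟩
  · apply LinearMap.ext
    rintro ⟨q, m'⟩
    have h0 : N.mkQ (m' : M) = 0 := by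
      rw [Submodule.mkQ_apply, Submodule.Quotient.mk_eq_zero]; exact m'.2
    have e1 : (σ.coprod N.subtype) (q, m') = σ q + (m' : M) := by
      simp [LinearMap.coprod_apply]
    apply Prod.ext
    · show N.mkQ ((σ.coprod N.subtype) (q, m')) = q
      rw [e1, map_add, hσ', h0, add_zero]
    · apply Subtype.ext
      show ((r ((σ.coprod N.subtype) (q, m')) : N) : M) = m'
      rw [e1, hr, map_add, hσ', h0, add_zero]
      abel
  · apply LinearMap.ext
    intro m
    show (σ.coprod N.subtype) (N.mkQ m, r m) = m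
    rw [LinearMap.coprod_apply]
    simp only [Submodule.subtype_apply, hr]
    abel

section Main

variable (M : Type u) [AddCommGroup M] [Module R M] [Module.FinitePresentation R M]
  (k : ℕ) (f : R) (hf0 : f ∈ nonZeroDivisors R)
  (hf : Fitt.ideal R M k = Ideal.span {f}) (hk : k = 0 ∨ Fitt.ideal R M (k - 1) = ⊥)

include hf0 hf hk

theorem quotient_locallyFree (p : Ideal R) [p.IsPrime] : ∃ g : R, g ∉ p ∧
    Module.Free (Localization.Away g) (LocalizedModule (Submonoid.powers g)
      (M ⧸ LinearMap.ker (f • (LinearMap.id : M →ₗ[R] M)))) ∧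
    Module.finrank (Localization.Away g) (LocalizedModule (Submonoid.powers g)
      (M ⧸ LinearMap.ker (f • (LinearMap.id : M →ₗ[R] M)))) = k := by
  apply locallyFree_of_ideal k ?_ ?_ p
  · intro j hj
    have hMj : Fitt.ideal R M j = ⊥ := by
      rcases hk with hk0 | hbot
      · omega
      · rw [eq_bot_iff, ← hbot]
        exact ideal_mono_index (by omega)
    have hle : LinearMap.ker (f • (LinearMap.id : M →ₗ[R] M)) ≤ FlatCA.powTorsion R f M := by
      intro y hy
      rw [LinearMap.mem_ker, LinearMap.smul_apply, LinearMap.id_apply] at hy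
      rw [mem_powTorsion_iff]
      exact ⟨1, by rw [pow_one, hy]⟩
    have hbot : Fitt.ideal R (M ⧸ FlatCA.powTorsion R f M) j = ⊥ := by
      apply ideal_quotient_powTorsion_eq_bot j f hf0
      intro z hz
      rw [hMj, Ideal.mem_bot] at hz
      exact ⟨0, by rw [hz, mul_zero]⟩
    rw [eq_bot_iff, ← hbot]
    exact ideal_mono_of_surjective (Submodule.factor hle) (Submodule.factor_surjective hle) j
  · intro j hj
    rw [eq_top_iff, ← ideal_quotient_torsion_eq_top k f hf0 hf]
    exact ideal_mono_index hj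

theorem quotient_projective :
    Module.Projective R (M ⧸ LinearMap.ker (f • (LinearMap.id : M →ₗ[R] M))) := by
  apply projective_of_locallyFree
  intro p _
  obtain ⟨g, hg, hfree, -⟩ := quotient_locallyFree M k f hf0 hf hk p
  exact ⟨g, hg, hfree⟩

theorem exists_splitting :
    ∃ σ : (M ⧸ LinearMap.ker (f • (LinearMap.id : M →ₗ[R] M))) →ₗ[R] M,
      (LinearMap.ker (f • (LinearMap.id : M →ₗ[R] M))).mkQ ∘ₗ σ = LinearMap.id := by
  haveI := quotient_projective M k f hf0 hf hk
  exact Module.projective_lifting_property _ _ (Submodule.mkQ_surjective _)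

theorem nonempty_equiv_prod :
    Nonempty (M ≃ₗ[R] (M ⧸ LinearMap.ker (f • (LinearMap.id : M →ₗ[R] M))) ×
      ↥(LinearMap.ker (f • (LinearMap.id : M →ₗ[R] M)))) := by
  obtain ⟨σ, hσ⟩ := exists_splitting M k f hf0 hf hk
  exact nonempty_equiv_prod_of_section _ σ hσ

theorem powTorsion_iff (x : M) : (∃ n : ℕ, f ^ n • x = 0) ↔ f • x = 0 := by
  constructor
  · rintro ⟨n, hn⟩
    haveI := quotient_projective M k f hf0 hf hk
    have h1 : f ^ n • (LinearMap.ker (f • (LinearMap.id : M →ₗ[R] M))).mkQ x = 0 := by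
      rw [← map_smul, hn, map_zero]
    have h2 : (LinearMap.ker (f • (LinearMap.id : M →ₗ[R] M))).mkQ x = 0 :=
      smul_eq_zero_of_projective (f ^ n) (pow_mem hf0 n) _ h1
    rw [Submodule.mkQ_apply, Submodule.Quotient.mk_eq_zero, LinearMap.mem_ker] at h2
    simpa using h2
  · intro h
    exact ⟨1, by rw [pow_one, h]⟩

theorem pd_lt_two : HasProjectiveDimensionLT (ModuleCat.of R M) 2 := by
  obtain ⟨n, x, hx⟩ := Module.Finite.exists_fin (R := R) (M := M)
  have hG : G R k x = Ideal.span {f} := by rw [← ideal_eq_G k x hx]; exact hf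
  have hG' : k = 0 ∨ G R (k - 1) x = ⊥ := by
    rcases hk with h | h
    · exact Or.inl h
    · right; rw [← ideal_eq_G (k - 1) x hx]; exact h
  set lc := Fintype.linearCombination R x with hlc
  have hsurj : Function.Surjective lc := by
    rw [← LinearMap.range_eq_top, Fintype.range_linearCombination, hx]
  have hfg : (LinearMap.ker lc).FG := Module.FinitePresentation.fg_ker lc hsurj
  haveI : Module.Finite R (LinearMap.ker lc) := Module.Finite.iff_fg.mpr hfg
  haveI : Module.Projective R (LinearMap.ker lc) := by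
    apply projective_of_locallyFree
    intro p _
    exact rel_locallyFree x k f hf0 hG hG' p
  have hS := LinearMap.shortExact_shortComplexKer hsurj
  haveI : Projective (ModuleCat.of R (LinearMap.ker lc)) :=
    (IsProjective.iff_projective _).mp inferInstance
  haveI : Projective (ModuleCat.of R (Fin n → R)) :=
    (IsProjective.iff_projective _).mp inferInstance
  have h1 : HasProjectiveDimensionLT lc.shortComplexKer.X₁ 1 :=
    inferInstanceAs (HasProjectiveDimensionLT (ModuleCat.of R (LinearMap.ker lc)) 1)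
  have h2 : HasProjectiveDimensionLT lc.shortComplexKer.X₂ 2 :=
    hasProjectiveDimensionLT_of_ge (ModuleCat.of R (Fin n → R)) 1 2 (by omega)
  exact hS.hasProjectiveDimensionLT_X₃ 1 h1 h2

theorem pd_ker_lt_two :
    HasProjectiveDimensionLT
      (ModuleCat.of R ↥(LinearMap.ker (f • (LinearMap.id : M →ₗ[R] M)))) 2 := by
  obtain ⟨σ, hσ⟩ := exists_splitting M k f hf0 hf hk
  obtain ⟨r, hri, -⟩ := exists_retraction_of_section _ σ hσ
  haveI := pd_lt_two M k f hf0 hf hk
  let ret : Retract (ModuleCat.of R ↥(LinearMap.ker (f • (LinearMap.id : M →ₗ[R] M))))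
      (ModuleCat.of R M) :=
    { i := ModuleCat.ofHom (LinearMap.ker (f • (LinearMap.id : M →ₗ[R] M))).subtype
      r := ModuleCat.ofHom r
      retract := by
        rw [← ModuleCat.ofHom_comp, hri]
        rfl }
  exact ret.hasProjectiveDimensionLT 2

end Main

end Helper23.Fit
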