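import Mathlib
import Groth.Prelude.Def_Fitting
import Groth.Agent.Lib.Helper23.Fitting12

/-!
# Fitting ideals of direct sums: tools
-/

universe u v w
open Matrix TensorProduct

namespace Helper23.Fit

variable {R : Type u} [CommRing R] {M : Type v} [AddCommGroup M] [Module R M]

/-- `Fitt.ideal = G` for generating families indexed by an arbitrary finite type. -/
theorem ideal_eq_G' {ι : Type*} [Fintype ι] [DecidableEq ι] (k : ℕ) (y : ι → M)
    (hy : Submodule.span R (Set.range y) = ⊤) : Fitt.ideal R M k = G R k y := by
  let e : ι ≃ Fin (Fintype.card ι) := Fintype.equivFin ι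
  have h1 : Submodule.span R (Set.range (y ∘ e.symm)) = ⊤ := by
    rw [EquivLike.range_comp]; exact hy
  rw [ideal_eq_G k (y ∘ e.symm) h1, G_reindex]

/-- Multilinear maps and spans, with a set for each index. -/
theorem multilinear_span' {ι : Type*} [Fintype ι] [DecidableEq ι] {N P : Type*}
    [AddCommGroup N] [Module R N] [AddCommGroup P] [Module R P]
    (f : MultilinearMap R (fun _ : ι => N) P) (W : ι → Set N) (J : Submodule R P)
    (hW : ∀ v : ι → N, (∀ i, v i ∈ W i) → f v ∈ J) :
    ∀ v : ι → N, (∀ i, v i ∈ Submodule.span R (W i)) → f v ∈ J := by
  have key : ∀ T : Finset ι, ∀ v : ι → N, (∀ i ∈ T, v i ∈ Submodule.span R (W i)) →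
      (∀ i, i ∉ T → v i ∈ W i) → f v ∈ J := by
    intro T
    induction T using Finset.induction_on with
    | empty =>
      intro v _ h
      exact hW v (fun i => h i (Finset.notMem_empty i))
    | insert b T' hb ih =>
      intro v h1 h2
      have hgen : ∀ y ∈ Submodule.span R (W b), f (Function.update v b y) ∈ J := by
        intro y hy
        induction hy using Submodule.span_induction with
        | mem y hy =>
          apply ih
          · intro i hi
            have hib : i ≠ b := fun h => hb (h ▸ hi)
            rw [Function.update_of_ne hib]
            exact h1 i (Finset.mem_insert_of_mem hi)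
          · intro i hi
            by_cases hib : i = b
            · subst hib; rw [Function.update_self]; exact hy
            · rw [Function.update_of_ne hib]
              exact h2 i (fun h => (Finset.mem_insert.mp h).elim hib hi)
        | zero => rw [f.map_update_zero]; exact J.zero_mem
        | add y y' _ _ h h' => rw [f.map_update_add]; exact J.add_mem h h'
        | smul c y _ h => rw [f.map_update_smul]; exact J.smul_mem c h
      have := hgen (v b) (h1 b (Finset.mem_insert_self b T'))
      rwa [Function.update_eq_self] at this
  intro v hv
  exact key Finset.univ v (fun i _ => hv i) (fun i hi => (hi (Finset.mem_univ i)).elim)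

/-- Card of a filter on a sum type. -/
theorem card_filter_sum {α β : Type*} [Fintype α] [Fintype β] (p : α ⊕ β → Prop) [DecidablePred p] :
    (Finset.univ.filter p).card =
      (Finset.univ.filter fun i : α => p (Sum.inl i)).card +
        (Finset.univ.filter fun j : β => p (Sum.inr j)).card := by
  simp only [Finset.card_filter]
  rw [Fintype.sum_sum_type]

/-- A matrix on a sum type all of whose rows are supported on one of the two summands, with the
number of rows supported on the left not equal to the size of the left summand, has determinant
zero. -/
theorem det_eq_zero_of_typed {n n' : ℕ} (a : Matrix (Fin n ⊕ Fin n') (Fin n ⊕ Fin n') R)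
    (h2 : ∀ i, (∀ j, a i (Sum.inr j) = 0) ∨ (∀ j, a i (Sum.inl j) = 0))
    [DecidablePred fun i => ∀ j, a i (Sum.inr j) = 0]
    (hcard : (Finset.univ.filter fun i => ∀ j, a i (Sum.inr j) = 0).card ≠ n) : a.det = 0 := by
  classical
  rw [det_apply]
  apply Finset.sum_eq_zero
  intro σ _
  have hex : ∃ i, a (σ i) i = 0 := by
    by_contra hne
    push Not at hne
    apply hcard
    have hset : (Finset.univ.filter fun i => ∀ j, a i (Sum.inr j) = 0) =
        Finset.univ.image (fun j : Fin n => σ (Sum.inl j)) := by
      ext t
      simp only [Finset.mem_filter, Finset.mem_univ, true_and, Finset.mem_image]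
      constructor
      · intro ht
        rcases hσt : σ.symm t with j | j
        · exact ⟨j, by rw [← hσt, Equiv.apply_symm_apply]⟩
        · exfalso
          have ht' : σ (Sum.inr j) = t := by rw [← hσt, Equiv.apply_symm_apply]
          have h1 := hne (Sum.inr j)
          rw [ht'] at h1
          exact h1 (ht j)
      · rintro ⟨j, rfl⟩
        rcases h2 (σ (Sum.inl j)) with h | h
        · exact h
        · exact absurd (h j) (hne (Sum.inl j))
    rw [hset, Finset.card_image_of_injective _
      (fun j j' h => Sum.inl_injective (σ.injective h)), Finset.card_univ, Fintype.card_fin]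
  obtain ⟨i, hi⟩ := hex
  rw [Finset.prod_eq_zero (f := fun i => a (σ i) i) (Finset.mem_univ i) hi, smul_zero]

end Helper23.Fit
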