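import Mathlib
import Groth.Prelude.Def_Fitting
import Groth.Agent.Lib.Helper23.Fitting21

/-!
# Fitting ideals of direct sums
-/

universe u v w
open Matrix TensorProduct

namespace Helper23.Fit

variable {R : Type u} [CommRing R] {M : Type v} [AddCommGroup M] [Module R M]
  {M' : Type w} [AddCommGroup M'] [Module R M']

/-- Generators of a product from generators of the factors. -/
def sumGen {n n' : ℕ} (x : Fin n → M) (x' : Fin n' → M') : Fin n ⊕ Fin n' → M × M' :=
  Sum.elim (fun i => (x i, 0)) (fun j => (0, x' j))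

theorem span_sumGen {n n' : ℕ} (x : Fin n → M) (x' : Fin n' → M')
    (hx : Submodule.span R (Set.range x) = ⊤) (hx' : Submodule.span R (Set.range x') = ⊤) :
    Submodule.span R (Set.range (sumGen x x')) = ⊤ := by
  rw [eq_top_iff]
  rintro ⟨m, m'⟩ -
  have h1 : (m, (0 : M')) ∈ Submodule.span R (Set.range (sumGen x x')) := by
    have hm : m ∈ Submodule.span R (Set.range x) := by rw [hx]; trivial
    have : Submodule.map (LinearMap.inl R M M') (Submodule.span R (Set.range x)) ≤
        Submodule.span R (Set.range (sumGen x x')) := by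
      rw [Submodule.map_span]
      apply Submodule.span_mono
      rintro _ ⟨_, ⟨i, rfl⟩, rfl⟩
      exact ⟨Sum.inl i, rfl⟩
    exact this ⟨m, hm, rfl⟩
  have h2 : ((0 : M), m') ∈ Submodule.span R (Set.range (sumGen x x')) := by
    have hm : m' ∈ Submodule.span R (Set.range x') := by rw [hx']; trivial
    have : Submodule.map (LinearMap.inr R M M') (Submodule.span R (Set.range x')) ≤
        Submodule.span R (Set.range (sumGen x x')) := by
      rw [Submodule.map_span]
      apply Submodule.span_mono
      rintro _ ⟨_, ⟨i, rfl⟩, rfl⟩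
      exact ⟨Sum.inr i, rfl⟩
    exact this ⟨m', hm, rfl⟩
  have : (m, m') = (m, (0 : M')) + ((0 : M), m') := by simp
  rw [this]
  exact Submodule.add_mem _ h1 h2

theorem isRel_sumGen_iff {n n' : ℕ} (x : Fin n → M) (x' : Fin n' → M')
    (v : Fin n ⊕ Fin n' → R) :
    IsRel (sumGen x x') v ↔
      IsRel x (fun i => v (Sum.inl i)) ∧ IsRel x' (fun j => v (Sum.inr j)) := by
  unfold IsRel
  rw [Fintype.sum_sum_type]
  simp only [sumGen, Sum.elim_inl, Sum.elim_inr, Prod.smul_mk, smul_zero]
  rw [Prod.ext_iff]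
  simp [Prod.fst_sum, Prod.snd_sum]

/-- The right-hand side of the direct sum formula. -/
noncomputable def Jsum {n n' : ℕ} (l : ℕ) (x : Fin n → M) (x' : Fin n' → M') : Ideal R :=
  ∑ k ∈ Finset.range (l + 1), G R k x * G R (l - k) x'

theorem mul_mem_Jsum {n n' : ℕ} {l k₁ k₂ : ℕ} (x : Fin n → M) (x' : Fin n' → M')
    (h : k₁ + k₂ ≤ l) {d d' : R} (hd : d ∈ G R k₁ x) (hd' : d' ∈ G R k₂ x') :
    d * d' ∈ Jsum l x x' := by
  unfold Jsum
  rw [Ideal.sum_eq_sup]
  have hk : k₁ ∈ Finset.range (l + 1) := Finset.mem_range.mpr (by omega)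
  exact Finset.le_sup (f := fun k => G R k x * G R (l - k) x') hk
    (Ideal.mul_mem_mul hd (G_mono (by omega) x' hd'))

theorem det_mem_Jsum {n n' : ℕ} (x : Fin n → M) (x' : Fin n' → M') (l : ℕ)
    (a : Matrix (Fin n ⊕ Fin n') (Fin n ⊕ Fin n') R) (s : Finset (Fin n ⊕ Fin n'))
    (hs : n + n' ≤ s.card + l)
    (h1 : ∀ i ∈ s, IsRel x (fun j => a i (Sum.inl j)) ∧ IsRel x' (fun j => a i (Sum.inr j)))
    (h2 : ∀ i, (∀ j, a i (Sum.inr j) = 0) ∨ (∀ j, a i (Sum.inl j) = 0)) :
    a.det ∈ Jsum l x x' := by
  classical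
  let P₁ : Fin n ⊕ Fin n' → Prop := fun i => ∀ j, a i (Sum.inr j) = 0
  by_cases hcard : (Finset.univ.filter P₁).card = n
  · have hc1 : Fintype.card {i // P₁ i} = n := by rw [Fintype.card_subtype]; exact hcard
    have hc2 : Fintype.card {i // ¬ P₁ i} = n' := by
      rw [Fintype.card_subtype_compl, hc1, Fintype.card_sum, Fintype.card_fin, Fintype.card_fin]
      omega
    let e₁ : Fin n ≃ {i // P₁ i} := (Fintype.equivFinOfCardEq hc1).symm
    let e₂ : Fin n' ≃ {i // ¬ P₁ i} := (Fintype.equivFinOfCardEq hc2).symm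
    let σ : Equiv.Perm (Fin n ⊕ Fin n') := (Equiv.sumCongr e₁ e₂).trans (Equiv.sumCompl P₁)
    have hσl : ∀ i, P₁ (σ (Sum.inl i)) := fun i => (e₁ i).2
    have hσr : ∀ i, ¬ P₁ (σ (Sum.inr i)) := fun i => (e₂ i).2
    let A : Matrix (Fin n) (Fin n) R := Matrix.of fun i j => a (σ (Sum.inl i)) (Sum.inl j)
    let B : Matrix (Fin n') (Fin n') R := Matrix.of fun i j => a (σ (Sum.inr i)) (Sum.inr j)
    have hb : a.submatrix σ id = fromBlocks A 0 0 B := by
      ext (i | i) (j | j)
      · rfl
      · exact hσl i j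
      · rcases h2 (σ (Sum.inr i)) with h | h
        · exact absurd h (hσr i)
        · exact h j
      · rfl
    have hdet : (a.submatrix σ id).det = A.det * B.det := by
      rw [hb, det_fromBlocks_zero₂₁]
    rw [det_permute] at hdet
    let sA : Finset (Fin n) := Finset.univ.filter fun i => σ (Sum.inl i) ∈ s
    let sB : Finset (Fin n') := Finset.univ.filter fun i => σ (Sum.inr i) ∈ s
    have hAB : sA.card + sB.card = s.card := by
      have h3 : s.card = (Finset.univ.filter fun t => σ t ∈ s).card := by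
        rw [← Finset.card_map σ.symm.toEmbedding]
        congr 1
        ext t
        simp [Finset.mem_map_equiv]
      rw [h3, card_filter_sum]
    have hA : A.det ∈ G R (n - sA.card) x := by
      refine det_mem_G A sA ?_ (fun i hi => (h1 _ (Finset.mem_filter.mp hi).2).1)
      rw [Fintype.card_fin]
      have := Finset.card_le_univ sA
      rw [Fintype.card_fin] at this
      omega
    have hB : B.det ∈ G R (n' - sB.card) x' := by
      refine det_mem_G B sB ?_ (fun i hi => (h1 _ (Finset.mem_filter.mp hi).2).2)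
      rw [Fintype.card_fin]
      have := Finset.card_le_univ sB
      rw [Fintype.card_fin] at this
      omega
    have hle : (n - sA.card) + (n' - sB.card) ≤ l := by
      have h4 := Finset.card_le_univ sA
      have h5 := Finset.card_le_univ sB
      rw [Fintype.card_fin] at h4 h5
      omega
    have hmem := mul_mem_Jsum x x' hle hA hB
    rw [← hdet] at hmem
    rcases Int.units_eq_one_or (Equiv.Perm.sign σ) with h | h
    · rw [h] at hmem
      simpa using hmem
    · rw [h] at hmem
      have : a.det = -(((-1 : ℤˣ) : ℤ) : R) * a.det := by simp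
      rw [this, neg_mul]
      exact neg_mem hmem
  · have := det_eq_zero_of_typed a h2 (by convert hcard)
    rw [this]
    exact Ideal.zero_mem _

end Helper23.Fit
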