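import Mathlib
import Groth.Prelude.Def_Fitting
import Groth.Agent.Lib.Helper23.Fitting22

/-!
# Fitting ideals of direct sums: the formula
-/

universe u v w
open Matrix TensorProduct

namespace Helper23.Fit

variable {R : Type u} [CommRing R] {M : Type v} [AddCommGroup M] [Module R M]
  {M' : Type w} [AddCommGroup M'] [Module R M']

theorem G_sumGen_le {n n' : ℕ} (x : Fin n → M) (x' : Fin n' → M') (l : ℕ) :
    G R l (sumGen x x') ≤ Jsum l x x' := by
  classical
  apply Ideal.span_le.mpr
  rintro d ⟨a, s, hs, hrel, rfl⟩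
  rw [Fintype.card_sum, Fintype.card_fin, Fintype.card_fin] at hs
  let Wrel : Set (Fin n ⊕ Fin n' → R) :=
    {v | (∃ z, IsRel x z ∧ v = Sum.elim z (0 : Fin n' → R)) ∨
      (∃ z', IsRel x' z' ∧ v = Sum.elim (0 : Fin n → R) z')}
  let Wbasis : Set (Fin n ⊕ Fin n' → R) :=
    {v | ∃ c : Fin n ⊕ Fin n', v = (Pi.single c (1 : R) : Fin n ⊕ Fin n' → R)}
  let W : Fin n ⊕ Fin n' → Set (Fin n ⊕ Fin n' → R) := fun i => if i ∈ s then Wrel else Wbasis
  have hdet : a.det = (Matrix.detRowAlternating (R := R)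
      (n := Fin n ⊕ Fin n')).toMultilinearMap a := rfl
  rw [SetLike.mem_coe, hdet]
  refine multilinear_span' ((Matrix.detRowAlternating (R := R)
      (n := Fin n ⊕ Fin n')).toMultilinearMap) W (Jsum l x x') ?_ a ?_
  · intro v hv
    show (Matrix.of v).det ∈ Jsum l x x'
    apply det_mem_Jsum x x' l (Matrix.of v) s hs
    · intro i hi
      have hvi := hv i
      simp only [W, if_pos hi] at hvi
      rcases hvi with ⟨z, hz, hvz⟩ | ⟨z', hz', hvz⟩
      · simp only [of_apply, hvz, Sum.elim_inl, Sum.elim_inr]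
        exact ⟨hz, IsRel.zero x'⟩
      · simp only [of_apply, hvz, Sum.elim_inl, Sum.elim_inr]
        exact ⟨IsRel.zero x, hz'⟩
    · intro i
      have hvi := hv i
      by_cases hi : i ∈ s
      · simp only [W, if_pos hi] at hvi
        rcases hvi with ⟨z, hz, hvz⟩ | ⟨z', hz', hvz⟩
        · left; intro j; simp only [of_apply, hvz, Sum.elim_inr, Pi.zero_apply]
        · right; intro j; simp only [of_apply, hvz, Sum.elim_inl, Pi.zero_apply]
      · simp only [W, if_neg hi] at hvi
        obtain ⟨c, hc⟩ := hvi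
        rcases c with c | c
        · left; intro j; simp [of_apply, hc]
        · right; intro j; simp [of_apply, hc]
  · intro i
    by_cases hi : i ∈ s
    · simp only [W, if_pos hi]
      obtain ⟨hr1, hr2⟩ := (isRel_sumGen_iff x x' (a i)).mp (hrel i hi)
      have hsplit : a i = Sum.elim (fun j => a i (Sum.inl j)) (0 : Fin n' → R) +
          Sum.elim (0 : Fin n → R) (fun j => a i (Sum.inr j)) := by
        funext t
        rcases t with t | t <;> simp
      rw [hsplit]
      apply Submodule.add_mem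
      · exact Submodule.subset_span (Or.inl ⟨_, hr1, rfl⟩)
      · exact Submodule.subset_span (Or.inr ⟨_, hr2, rfl⟩)
    · simp only [W, if_neg hi]
      have htop : Submodule.span R Wbasis = ⊤ := by
        rw [eq_top_iff, ← (Pi.basisFun R (Fin n ⊕ Fin n')).span_eq]
        apply Submodule.span_mono
        rintro _ ⟨c, rfl⟩
        exact ⟨c, by simp⟩
      rw [htop]
      trivial

theorem Jsum_le {n n' : ℕ} (x : Fin n → M) (x' : Fin n' → M') (l : ℕ) :
    Jsum l x x' ≤ G R l (sumGen x x') := by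
  classical
  unfold Jsum
  rw [Ideal.sum_eq_sup]
  apply Finset.sup_le
  intro k hk
  have hkl : k ≤ l := by
    have := Finset.mem_range.mp hk
    omega
  unfold G
  rw [Ideal.span_mul_span']
  apply Ideal.span_le.mpr
  rintro _ ⟨d, ⟨a, s, hs, hrel, rfl⟩, d', ⟨a', s', hs', hrel', rfl⟩, rfl⟩
  rw [Fintype.card_fin] at hs hs'
  have hdet : a.det * a'.det = (fromBlocks a 0 0 a').det := by
    rw [det_fromBlocks_zero₂₁]
  show a.det * a'.det ∈ G R l (sumGen x x')
  rw [hdet]
  refine det_mem_G _ (s.disjSum s') ?_ ?_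
  · rw [Finset.card_disjSum, Fintype.card_sum, Fintype.card_fin, Fintype.card_fin]
    omega
  · intro t ht
    rw [isRel_sumGen_iff]
    rcases Finset.mem_disjSum.mp ht with ⟨i, hi, rfl⟩ | ⟨i, hi, rfl⟩
    · simp only [fromBlocks_apply₁₁, fromBlocks_apply₁₂, Matrix.zero_apply]
      exact ⟨hrel i hi, IsRel.zero x'⟩
    · simp only [fromBlocks_apply₂₁, fromBlocks_apply₂₂, Matrix.zero_apply]
      exact ⟨IsRel.zero x, hrel' i hi⟩

/-- The Fitting ideals of a direct sum. -/
theorem ideal_prod [Module.Finite R M] [Module.Finite R M'] (l : ℕ) :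
    Fitt.ideal R (M × M') l =
      ∑ k ∈ Finset.range (l + 1), Fitt.ideal R M k * Fitt.ideal R M' (l - k) := by
  classical
  obtain ⟨n, x, hx⟩ := Module.Finite.exists_fin (R := R) (M := M)
  obtain ⟨n', x', hx'⟩ := Module.Finite.exists_fin (R := R) (M := M')
  rw [ideal_eq_G' l (sumGen x x') (span_sumGen x x' hx hx')]
  have : ∑ k ∈ Finset.range (l + 1), Fitt.ideal R M k * Fitt.ideal R M' (l - k) =
      Jsum l x x' := by
    unfold Jsum
    apply Finset.sum_congr rfl
    intro k _
    rw [ideal_eq_G k x hx, ideal_eq_G (l - k) x' hx']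
  rw [this]
  exact le_antisymm (G_sumGen_le x x' l) (Jsum_le x x' l)

end Helper23.Fit
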