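import Mathlib
import Groth.Prelude.Def_Fitting
import Groth.Agent.Lib.Helper23.Fitting16

/-!
# Fitting ideals of the cokernel of a matrix and of its transpose
-/

universe u v w
open Matrix TensorProduct

namespace Helper23.Fit

variable {R : Type u} [CommRing R]

/-- The ideal of `t × t` minors of a matrix. -/
def Minors {n m : ℕ} (A : Matrix (Fin n) (Fin m) R) (t : ℕ) : Ideal R :=
  Ideal.span {d | ∃ (r : Fin t → Fin n) (c : Fin t → Fin m), d = (A.submatrix r c).det}

theorem Minors_eq_bot {n m : ℕ} (A : Matrix (Fin n) (Fin m) R) (t : ℕ) (ht : m < t) :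
    Minors A t = ⊥ := by
  rw [eq_bot_iff]
  apply Ideal.span_le.mpr
  rintro _ ⟨r, c, rfl⟩
  obtain ⟨b, b', hne, hbb⟩ := Fintype.exists_ne_map_eq_of_card_lt c (by simpa using ht)
  rw [SetLike.mem_coe, Ideal.mem_bot]
  apply det_zero_of_column_eq hne
  intro a
  simp only [submatrix_apply, hbb]

variable {m n : ℕ} (σ : (Fin m → R) →ₗ[R] (Fin n → R))

/-- The matrix of `σ`. -/
def matOf : Matrix (Fin n) (Fin m) R := fun i c => σ (Pi.single c 1) i

theorem sigma_apply (v : Fin m → R) (i : Fin n) : σ v i = ∑ c, v c * matOf σ i c := by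
  have hv : v = ∑ c, v c • (Pi.single c (1 : R) : Fin m → R) := by
    funext j
    simp [Finset.sum_apply, Pi.single_apply]
  conv_lhs => rw [hv]
  rw [map_sum, Finset.sum_apply]
  apply Finset.sum_congr rfl
  intro c _
  rw [map_smul, Pi.smul_apply, smul_eq_mul]
  rfl

theorem range_eq_span_cols :
    LinearMap.range σ = Submodule.span R (Set.range fun c : Fin m => σ (Pi.single c 1)) := by
  rw [LinearMap.range_eq_map, ← (Pi.basisFun R (Fin m)).span_eq, Submodule.map_span,
    ← Set.range_comp]
  congr 2
  funext c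
  simp

theorem ideal_coker (i : ℕ) :
    Fitt.ideal R ((Fin n → R) ⧸ LinearMap.range σ) i = Minors (matOf σ) (n - i) := by
  set K₀ := LinearMap.range σ with hK₀
  rw [ideal_eq_Mn i (stdGen K₀) (span_stdGen K₀)]
  have hW : Submodule.span R (Set.range fun c : Fin m => σ (Pi.single c 1)) =
      LinearMap.ker (Fintype.linearCombination R (stdGen K₀)) := by
    rw [← range_eq_span_cols]
    ext z
    rw [← isRel_iff_mem_ker, isRel_stdGen_iff]
  rw [Mn_eq_of_span _ _ hW]
  unfold Minors
  congr 1
  ext d
  constructor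
  · rintro ⟨z, e, hz, rfl⟩
    choose c hc using hz
    refine ⟨e, c, ?_⟩
    congr 1
    ext a b
    simp only [of_apply, submatrix_apply, ← hc b]
    rfl
  · rintro ⟨r, c, rfl⟩
    refine ⟨fun b => σ (Pi.single (c b) 1), r, fun b => ⟨c b, rfl⟩, ?_⟩
    congr 1

/-- The generators of the cokernel of the dual map. -/
def dualGen : Fin m → Module.Dual R (Fin m → R) ⧸ LinearMap.range σ.dualMap :=
  fun c => (LinearMap.range σ.dualMap).mkQ (LinearMap.proj c)

omit σ in
theorem dual_eq_sum {m : ℕ} (φ : Module.Dual R (Fin m → R)) :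
    φ = ∑ c, φ (Pi.single c 1) • (LinearMap.proj c : Module.Dual R (Fin m → R)) := by
  apply LinearMap.pi_ext
  intro c r
  simp only [LinearMap.coe_sum, Finset.sum_apply, LinearMap.smul_apply, LinearMap.proj_apply,
    smul_eq_mul]
  rw [Finset.sum_eq_single c]
  · simp only [Pi.single_eq_same]
    have : (Pi.single c r : Fin m → R) = r • Pi.single c 1 := by
      funext j; simp [Pi.single_apply]
    rw [this, map_smul, smul_eq_mul, mul_comm]
  · intro b _ hb
    rw [Pi.single_eq_of_ne hb, mul_zero]
  · intro h; exact absurd (Finset.mem_univ c) h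

theorem span_dualGen : Submodule.span R (Set.range (dualGen σ)) = ⊤ := by
  rw [eq_top_iff]
  intro q _
  obtain ⟨φ, rfl⟩ := (LinearMap.range σ.dualMap).mkQ_surjective q
  rw [dual_eq_sum φ, map_sum]
  apply Submodule.sum_mem
  intro c _
  rw [map_smul]
  exact Submodule.smul_mem _ _ (Submodule.subset_span ⟨c, rfl⟩)

omit σ in
theorem sum_smul_proj_apply {m : ℕ} (z : Fin m → R) (v : Fin m → R) :
    (∑ c, z c • (LinearMap.proj c : Module.Dual R (Fin m → R))) v = ∑ c, z c * v c := by
  simp [LinearMap.coe_sum, Finset.sum_apply]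

omit σ in
theorem dual_apply {m : ℕ} (ψ : Module.Dual R (Fin m → R)) (w : Fin m → R) :
    ψ w = ∑ i, ψ (Pi.single i 1) * w i := by
  conv_lhs => rw [dual_eq_sum ψ]
  rw [sum_smul_proj_apply]

theorem isRel_dualGen_iff (z : Fin m → R) :
    IsRel (dualGen σ) z ↔
      z ∈ Submodule.span R (Set.range fun i : Fin n => (fun c => matOf σ i c)) := by
  unfold IsRel dualGen
  simp only [← map_smul, ← map_sum]
  rw [Submodule.mkQ_apply, Submodule.Quotient.mk_eq_zero]
  constructor
  · rintro ⟨ψ, hψ⟩
    have hz : z = ∑ i, ψ (Pi.single i 1) • (fun c => matOf σ i c) := by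
      funext c
      have h1 := congrArg (fun φ : Module.Dual R (Fin m → R) => φ (Pi.single c 1)) hψ
      simp only [LinearMap.dualMap_apply] at h1
      rw [sum_smul_proj_apply] at h1
      rw [Finset.sum_eq_single c (by
        intro b _ hb
        rw [Pi.single_eq_of_ne hb, mul_zero]) (by
        intro h; exact absurd (Finset.mem_univ c) h)] at h1
      rw [Pi.single_eq_same, mul_one] at h1
      rw [← h1, dual_apply ψ]
      simp only [Finset.sum_apply, Pi.smul_apply, smul_eq_mul]
      rfl
    rw [hz]
    exact Submodule.sum_mem _ fun i _ => Submodule.smul_mem _ _ (Submodule.subset_span ⟨i, rfl⟩)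
  · intro hz
    induction hz using Submodule.span_induction with
    | mem z hz =>
      obtain ⟨i, rfl⟩ := hz
      refine ⟨LinearMap.proj i, ?_⟩
      apply LinearMap.ext
      intro v
      rw [LinearMap.dualMap_apply, LinearMap.proj_apply, sum_smul_proj_apply, sigma_apply]
      apply Finset.sum_congr rfl
      intro c _
      ring
    | zero => simp
    | add z z' _ _ h h' =>
      have : ∑ c, (z + z') c • (LinearMap.proj c : Module.Dual R (Fin m → R)) =
          ∑ c, z c • (LinearMap.proj c : Module.Dual R (Fin m → R)) +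
            ∑ c, z' c • (LinearMap.proj c : Module.Dual R (Fin m → R)) := by
        simp only [Pi.add_apply, add_smul, Finset.sum_add_distrib]
      rw [this]
      exact Submodule.add_mem _ h h'
    | smul r z _ h =>
      have : ∑ c, (r • z) c • (LinearMap.proj c : Module.Dual R (Fin m → R)) =
          r • ∑ c, z c • (LinearMap.proj c : Module.Dual R (Fin m → R)) := by
        simp only [Pi.smul_apply, smul_eq_mul, mul_smul, Finset.smul_sum]
      rw [this]
      exact Submodule.smul_mem _ _ h

theorem ideal_coker_dual (j : ℕ) :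
    Fitt.ideal R (Module.Dual R (Fin m → R) ⧸ LinearMap.range σ.dualMap) j =
      Minors (matOf σ) (m - j) := by
  rw [ideal_eq_Mn j (dualGen σ) (span_dualGen σ)]
  have hW : Submodule.span R (Set.range fun i : Fin n => (fun c => matOf σ i c)) =
      LinearMap.ker (Fintype.linearCombination R (dualGen σ)) := by
    ext z
    rw [← isRel_iff_mem_ker, isRel_dualGen_iff]
  rw [Mn_eq_of_span _ _ hW]
  unfold Minors
  congr 1
  ext d
  constructor
  · rintro ⟨z, e, hz, rfl⟩
    choose r hr using hz
    refine ⟨r, e, ?_⟩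
    rw [← det_transpose]
    congr 1
    ext a b
    simp only [of_apply, transpose_apply, submatrix_apply]
    exact (congrFun (hr a) (e b)).symm
  · rintro ⟨r, c, rfl⟩
    refine ⟨fun b => (fun c' => matOf σ (r b) c'), c, fun b => ⟨r b, rfl⟩, ?_⟩
    rw [← det_transpose]
    congr 1

theorem coker_dual_shift (hσ : Function.Injective σ) :
    (∀ j : ℕ, Fitt.ideal R ((Fin n → R) ⧸ LinearMap.range σ) (n - m + j) =
        Fitt.ideal R (Module.Dual R (Fin m → R) ⧸ LinearMap.range σ.dualMap) j) ∧
      ∀ i : ℕ, i < n - m → Fitt.ideal R ((Fin n → R) ⧸ LinearMap.range σ) i = ⊥ := by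
  constructor
  · intro j
    rcases subsingleton_or_nontrivial R with hR | hR
    · ext x
      have : x = 0 := Subsingleton.elim _ _
      simp [this]
    · have hmn : m ≤ n := le_of_fin_injective R σ hσ
      rw [ideal_coker, ideal_coker_dual]
      congr 1
      omega
  · intro i hi
    rw [ideal_coker]
    exact Minors_eq_bot _ _ (by omega)

end Helper23.Fit
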