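import Mathlib
import Groth.Prelude.Def_Fitting
import Groth.Agent.Lib.Helper23.Fitting24

/-!
# The zeroth Fitting ideal of `Ω` for `A[x₁,…,xₙ]/(f₁,…,fₙ)` is generated by the Jacobian
-/

universe u v w
open Matrix TensorProduct MvPolynomial

namespace Helper23.Fit

section Square

variable {B : Type u} [CommRing B]

theorem det_submatrix_mem_span {n : ℕ} (J : Matrix (Fin n) (Fin n) B) (r e : Fin n → Fin n) :
    (J.submatrix r e).det ∈ Ideal.span {J.det} := by
  by_cases hr : Function.Injective r
  · by_cases he : Function.Injective e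
    · let σ : Equiv.Perm (Fin n) := Equiv.ofBijective r (Finite.injective_iff_bijective.mp hr)
      let τ : Equiv.Perm (Fin n) := Equiv.ofBijective e (Finite.injective_iff_bijective.mp he)
      have h1 : J.submatrix r e = (J.submatrix σ id).submatrix id τ := by
        ext a b; rfl
      rw [h1, det_permute', det_permute]
      exact Ideal.mul_mem_left _ _ (Ideal.mul_mem_left _ _ (Ideal.mem_span_singleton_self _))
    · have : ∃ b b', b ≠ b' ∧ e b = e b' := by
        by_contra hcon
        push Not at hcon
        exact he (fun b b' h => by_contra fun hne => hcon b b' hne h)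
      obtain ⟨b, b', hne, hbb⟩ := this
      have h0 : (J.submatrix r e).det = 0 := by
        apply det_zero_of_column_eq hne
        intro a
        simp only [submatrix_apply, hbb]
      rw [h0]
      exact Ideal.zero_mem _
  · have : ∃ a a', a ≠ a' ∧ r a = r a' := by
      by_contra hcon
      push Not at hcon
      exact hr (fun a a' h => by_contra fun hne => hcon a a' hne h)
    obtain ⟨a, a', hne, haa⟩ := this
    have h0 : (J.submatrix r e).det = 0 := by
      apply det_zero_of_row_eq hne
      ext b
      simp only [submatrix_apply, haa]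
    rw [h0]
    exact Ideal.zero_mem _

end Square

section Jacobian

variable (A : Type u) [CommRing A] (n : ℕ) (f : Fin n → MvPolynomial (Fin n) A)

local notation "P" => MvPolynomial (Fin n) A
local notation "I" => Ideal.span (Set.range f)
local notation "B" => MvPolynomial (Fin n) A ⧸ Ideal.span (Set.range f)

/-- Generators `d x̄ⱼ` of `Ω_{B/A}`. -/
noncomputable def omegaGen : Fin n → Ω[B⁄A] :=
  fun j => KaehlerDifferential.D A B (Ideal.Quotient.mk I (X j))

/-- The Jacobian matrix over the quotient. -/
noncomputable def jacB : Matrix (Fin n) (Fin n) B :=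
  Matrix.of fun i j => Ideal.Quotient.mk I (pderiv j (f i))

theorem D_mk_eq_sum (p : P) :
    KaehlerDifferential.D A B (Ideal.Quotient.mk I p) =
      ∑ j, Ideal.Quotient.mk I (pderiv j p) • omegaGen A n f j := by
  have h1 : KaehlerDifferential.D A P p =
      ∑ j, pderiv j p • KaehlerDifferential.D A P (X j) := by
    have := (KaehlerDifferential.mvPolynomialBasis A (Fin n)).sum_repr (KaehlerDifferential.D A P p)
    rw [← this]
    apply Finset.sum_congr rfl
    intro j _
    rw [KaehlerDifferential.mvPolynomialBasis_repr_apply, KaehlerDifferential.mvPolynomialBasis_apply]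
  have h2 := congrArg (KaehlerDifferential.map A A P B) h1
  rw [KaehlerDifferential.map_D, map_sum] at h2
  rw [show (algebraMap P B) p = Ideal.Quotient.mk I p from rfl] at h2
  rw [h2]
  apply Finset.sum_congr rfl
  intro j _
  rw [map_smul, KaehlerDifferential.map_D]
  rw [show (algebraMap P B) (X j) = Ideal.Quotient.mk I (X j) from rfl]
  rw [← algebraMap_smul B (pderiv j p)]
  rfl

theorem span_omegaGen : Submodule.span B (Set.range (omegaGen A n f)) = ⊤ := by
  rw [eq_top_iff, ← KaehlerDifferential.span_range_derivation A B]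
  apply Submodule.span_le.mpr
  rintro _ ⟨b, rfl⟩
  obtain ⟨p, rfl⟩ := Ideal.Quotient.mk_surjective b
  rw [SetLike.mem_coe, D_mk_eq_sum]
  exact Submodule.sum_mem _ fun j _ => Submodule.smul_mem _ _ (Submodule.subset_span ⟨j, rfl⟩)

theorem isRel_row (i : Fin n) : IsRel (omegaGen A n f) (fun j => jacB A n f i j) := by
  unfold IsRel
  have := D_mk_eq_sum A n f (f i)
  have h0 : Ideal.Quotient.mk I (f i) = 0 :=
    Ideal.Quotient.eq_zero_iff_mem.mpr (Ideal.subset_span ⟨i, rfl⟩)
  rw [h0, map_zero] at this
  exact this.symm

theorem mem_span_rows_of_isRel (z : Fin n → B) (hz : IsRel (omegaGen A n f) z) :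
    z ∈ Submodule.span B (Set.range fun i : Fin n => (fun j => jacB A n f i j)) := by
  classical
  have hsurj : Function.Surjective (algebraMap P B) := Ideal.Quotient.mk_surjective
  let τ : B ⊗[P] Ω[P⁄A] := ∑ j, z j ⊗ₜ[P] KaehlerDifferential.D A P (X j)
  have hτ : KaehlerDifferential.mapBaseChange A P B τ = 0 := by
    simp only [τ, map_sum, KaehlerDifferential.mapBaseChange_tmul, KaehlerDifferential.map_D]
    exact hz
  obtain ⟨c, hc⟩ :=
    (KaehlerDifferential.exact_kerCotangentToTensor_mapBaseChange A P B hsurj τ).mp hτ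
  obtain ⟨p, rfl⟩ := Ideal.toCotangent_surjective _ c
  rw [KaehlerDifferential.kerCotangentToTensor_toCotangent] at hc
  have hpI : (p : P) ∈ I := by
    have h := RingHom.mem_ker.mp p.2
    exact Ideal.Quotient.eq_zero_iff_mem.mp h
  -- coordinate functionals
  let l : Fin n → Ω[P⁄A] →ₗ[P] B := fun j =>
    (Algebra.linearMap P B) ∘ₗ (Finsupp.lapply j) ∘ₗ
      (KaehlerDifferential.mvPolynomialBasis A (Fin n)).repr.toLinearMap
  have hl : ∀ j (q : P), l j (KaehlerDifferential.D A P q) = Ideal.Quotient.mk I (pderiv j q) := by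
    intro j q
    simp only [l, LinearMap.comp_apply, LinearEquiv.coe_coe, Finsupp.lapply_apply,
      KaehlerDifferential.mvPolynomialBasis_repr_apply]
    rfl
  have hzj : ∀ j, z j = Ideal.Quotient.mk I (pderiv j (p : P)) := by
    intro j
    have h1 := congrArg ((l j).liftBaseChange B) hc
    rw [LinearMap.liftBaseChange_tmul, one_smul, hl] at h1
    rw [h1]
    simp only [τ, map_sum, LinearMap.liftBaseChange_tmul, hl, pderiv_X, smul_eq_mul]
    rw [Finset.sum_eq_single j]
    · simp
    · intro b _ hb
      simp [Pi.single_apply, hb]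
    · intro h; exact absurd (Finset.mem_univ j) h
  obtain ⟨g, hg⟩ := (Submodule.mem_span_range_iff_exists_fun P).mp hpI
  have hz' : z = ∑ i, Ideal.Quotient.mk I (g i) • (fun j => jacB A n f i j) := by
    funext j
    rw [hzj j, ← hg]
    simp only [map_sum, Finset.sum_apply, Pi.smul_apply, smul_eq_mul, Derivation.leibniz,
      map_add, map_mul, jacB, of_apply]
    apply Finset.sum_congr rfl
    intro i _
    have h0 : Ideal.Quotient.mk I (f i) = 0 :=
      Ideal.Quotient.eq_zero_iff_mem.mpr (Ideal.subset_span ⟨i, rfl⟩)
    rw [h0]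
    simp
  rw [hz']
  exact Submodule.sum_mem _ fun i _ => Submodule.smul_mem _ _ (Submodule.subset_span ⟨i, rfl⟩)

theorem ideal_omega_zero :
    Fitt.ideal B (Ω[B⁄A]) 0 = Ideal.span {(jacB A n f).det} := by
  rw [ideal_eq_Mn 0 (omegaGen A n f) (span_omegaGen A n f)]
  have hW : Submodule.span B (Set.range fun i : Fin n => (fun j => jacB A n f i j)) =
      LinearMap.ker (Fintype.linearCombination B (omegaGen A n f)) := by
    apply le_antisymm
    · apply Submodule.span_le.mpr
      rintro _ ⟨i, rfl⟩
      exact (isRel_iff_mem_ker _ _).mp (isRel_row A n f i)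
    · intro z hz
      exact mem_span_rows_of_isRel A n f z ((isRel_iff_mem_ker _ _).mpr hz)
  rw [Mn_eq_of_span _ _ hW, Nat.sub_zero]
  apply le_antisymm
  · apply Ideal.span_le.mpr
    rintro _ ⟨z, e, hz, rfl⟩
    choose r hr using hz
    have : (Matrix.of fun a b => z b (e a)) = ((jacB A n f).submatrix r e)ᵀ := by
      ext a b
      simp only [of_apply, transpose_apply, submatrix_apply]
      exact (congrFun (hr b) (e a)).symm
    rw [this, det_transpose]
    exact det_submatrix_mem_span _ r e
  · rw [Ideal.span_le, Set.singleton_subset_iff]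
    apply Ideal.subset_span
    refine ⟨fun b => (fun j => jacB A n f b j), id, fun b => ⟨b, rfl⟩, ?_⟩
    rw [← det_transpose]
    congr 1

theorem ideal_omega_zero' :
    Fitt.ideal B (Ω[B⁄A]) 0 = Ideal.span {Ideal.Quotient.mk I
      (Matrix.det (Matrix.of fun i j : Fin n => pderiv j (f i)))} := by
  rw [ideal_omega_zero, RingHom.map_det]
  rfl

end Jacobian

end Helper23.Fit
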