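import Mathlib.RingTheory.Spectrum.Prime.FreeLocus
import Mathlib.RingTheory.Support
import Mathlib.RingTheory.LocalProperties.FinitePresentation
import Mathlib.Algebra.Module.LocalizedModule.Submodule
import Mathlib.RingTheory.Flat.EquationalCriterion

/-!
# Finite flat modules: rank loci and local freeness
-/

set_option autoImplicit false
universe u

open Module

namespace Groth.Agent.Lib.Helper23.FlatRank

variable {R : Type u} [CommRing R] {M : Type u} [AddCommGroup M] [Module R M]

/-- Near a prime `p`, a finite flat module is generated (up to multiplication by some `f ∉ p`) by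
`rankAtStalk M p` elements. -/
theorem exists_generators [Module.Finite R M] [Module.Flat R M] (p : PrimeSpectrum R) :
    ∃ (m : Fin (rankAtStalk M p) → M) (f : R), f ∉ p.asIdeal ∧
      ∀ x : M, f • x ∈ Submodule.span R (Set.range m) := by
  classical
  let S := p.asIdeal.primeCompl
  let Rp := Localization.AtPrime p.asIdeal
  let Mp := LocalizedModule S M
  let ι : M →ₗ[R] Mp := LocalizedModule.mkLinearMap S M
  haveI : Module.Free Rp Mp := Module.free_of_flat_of_isLocalRing
  let b : Basis (Fin (finrank Rp Mp)) Rp Mp := Module.finBasis Rp Mp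
  have hb : ∀ i, ∃ x : M × S, x.2 • b i = ι x.1 := fun i => IsLocalizedModule.surj S ι (b i)
  choose ms hms using hb
  let m : Fin (finrank Rp Mp) → M := fun i => (ms i).1
  refine ⟨m, ?_⟩
  let N : Submodule R M := Submodule.span R (Set.range m)
  -- the images span the localization
  have hspan : Submodule.span Rp (ι '' Set.range m) = ⊤ := by
    rw [eq_top_iff, ← b.span_eq, Submodule.span_le]
    rintro _ ⟨i, rfl⟩
    have hu : IsUnit (algebraMap R Rp ((ms i).2 : R)) := IsLocalization.map_units Rp (ms i).2
    have h1 : algebraMap R Rp ((ms i).2 : R) • b i = ι (m i) := by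
      rw [algebraMap_smul]
      exact hms i
    have h2 : b i = (hu.unit⁻¹ : Rpˣ) • ι (m i) := by
      rw [← h1, Units.smul_def, smul_smul, IsUnit.val_inv_mul, one_smul]
    rw [h2]
    exact Submodule.smul_mem _ _ (Submodule.subset_span ⟨m i, ⟨i, rfl⟩, rfl⟩)
  have hloc : ∀ x : M, ∃ s : R, s ∉ p.asIdeal ∧ s • x ∈ N := by
    intro x
    have h1 : ι x ∈ N.localized' Rp S ι := by
      rw [Submodule.localized'_span, hspan]
      trivial
    obtain ⟨n, hn, s, hs⟩ := h1
    rw [IsLocalizedModule.mk'_eq_iff] at hs
    have h2 : ι n = ι ((s : R) • x) := by rw [hs, map_smul]; rfl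
    obtain ⟨u, hu⟩ := (IsLocalizedModule.eq_iff_exists S ι).mp h2
    refine ⟨(u : R) * (s : R), (u * s).2, ?_⟩
    have h3 : ((u : R) * (s : R)) • x = u • n := by
      rw [hu, mul_smul]
      rfl
    rw [h3]
    exact N.smul_mem _ hn
  -- the quotient is finite with support avoiding `p`
  have hsupp : p ∉ Module.support R (M ⧸ N) := by
    rw [Module.notMem_support_iff']
    intro q
    obtain ⟨x, rfl⟩ := Submodule.Quotient.mk_surjective N q
    obtain ⟨s, hs, hsx⟩ := hloc x
    exact ⟨s, hs, by rw [← Submodule.Quotient.mk_smul, (Submodule.Quotient.mk_eq_zero N).mpr hsx]⟩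
  rw [Module.support_eq_zeroLocus, PrimeSpectrum.mem_zeroLocus, Set.not_subset] at hsupp
  obtain ⟨f, hfann, hfp⟩ := hsupp
  refine ⟨f, hfp, fun x => ?_⟩
  have h1 := Module.mem_annihilator.mp hfann (Submodule.Quotient.mk x)
  rw [← Submodule.Quotient.mk_smul, Submodule.Quotient.mk_eq_zero] at h1
  exact h1

/-- If `f • M ⊆ range φ`, then `φ` is surjective after localizing at any submonoid containing `f`. -/
theorem map_surjective {r : ℕ} (φ : (Fin r → R) →ₗ[R] M) (f : R)
    (hf : ∀ x : M, f • x ∈ LinearMap.range φ) (S : Submonoid R) (hfS : f ∈ S) :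
    Function.Surjective (LocalizedModule.map S φ) := by
  intro y
  induction y using LocalizedModule.induction_on with
  | h x s =>
    obtain ⟨c, hc⟩ := hf x
    refine ⟨LocalizedModule.mk c (⟨f, hfS⟩ * s), ?_⟩
    rw [LocalizedModule.map_mk, hc]
    exact LocalizedModule.mk_cancel_common_left ⟨f, hfS⟩ s x

theorem finrank_localized_free (r : ℕ) (q : PrimeSpectrum R) :
    finrank (Localization.AtPrime q.asIdeal)
      (LocalizedModule q.asIdeal.primeCompl (Fin r → R)) = r := by
  haveI : Nontrivial R := q.nontrivial
  rw [Module.finrank_of_isLocalizedModule_of_free (Localization.AtPrime q.asIdeal)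
    q.asIdeal.primeCompl (LocalizedModule.mkLinearMap q.asIdeal.primeCompl (Fin r → R))]
  exact Module.finrank_fin_fun R

theorem rankAtStalk_le [Module.Finite R M] {r : ℕ} (φ : (Fin r → R) →ₗ[R] M) (f : R)
    (hf : ∀ x : M, f • x ∈ LinearMap.range φ) (q : PrimeSpectrum R) (hfq : f ∉ q.asIdeal) :
    rankAtStalk M q ≤ r := by
  have h1 := LinearMap.finrank_le_finrank_of_surjective
    (map_surjective φ f hf q.asIdeal.primeCompl hfq)
  rw [finrank_localized_free] at h1
  exact h1

theorem map_bijective [Module.Finite R M] [Module.Flat R M] {r : ℕ} (φ : (Fin r → R) →ₗ[R] M) (f : R)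
    (hf : ∀ x : M, f • x ∈ LinearMap.range φ) (q : PrimeSpectrum R) (hfq : f ∉ q.asIdeal)
    (hr : r ≤ rankAtStalk M q) :
    Function.Bijective (LocalizedModule.map q.asIdeal.primeCompl φ) := by
  haveI : Module.Free (Localization.AtPrime q.asIdeal)
      (LocalizedModule q.asIdeal.primeCompl M) := Module.free_of_flat_of_isLocalRing
  haveI : Module.Free (Localization.AtPrime q.asIdeal)
      (LocalizedModule q.asIdeal.primeCompl (Fin r → R)) :=
    Module.free_of_isLocalizedModule q.asIdeal.primeCompl
      (LocalizedModule.mkLinearMap q.asIdeal.primeCompl (Fin r → R))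
  apply OrzechProperty.bijective_of_surjective_of_finrank_le _
    (map_surjective φ f hf q.asIdeal.primeCompl hfq)
  rw [finrank_localized_free]
  exact hr

section Loci

variable [Module.Finite R M] [Module.Flat R M]

/-- The map `Rʳ → M` attached to the generators near `p`. -/
theorem exists_map (p : PrimeSpectrum R) :
    ∃ (φ : (Fin (rankAtStalk M p) → R) →ₗ[R] M) (f : R), f ∉ p.asIdeal ∧
      ∀ x : M, f • x ∈ LinearMap.range φ := by
  obtain ⟨m, f, hf, h⟩ := exists_generators (M := M) p
  refine ⟨Fintype.linearCombination R m, f, hf, fun x => ?_⟩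
  rw [Fintype.range_linearCombination]
  exact h x

variable (M) in
theorem isClosed_rank_ge (r : ℕ) : IsClosed {q : PrimeSpectrum R | r ≤ rankAtStalk M q} := by
  rw [← isOpen_compl_iff, isOpen_iff_forall_mem_open]
  intro p hp
  have hp' : rankAtStalk M p < r := not_le.mp hp
  obtain ⟨φ, f, hf, h⟩ := exists_map (M := M) p
  refine ⟨PrimeSpectrum.basicOpen f, fun q hq => ?_, (PrimeSpectrum.basicOpen f).2, hf⟩
  have := rankAtStalk_le φ f h q hq
  exact not_le.mpr (lt_of_le_of_lt this hp')

variable (M) in
theorem stableUnderGeneralization_rank_ge (r : ℕ) :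
    StableUnderGeneralization {q : PrimeSpectrum R | r ≤ rankAtStalk M q} := by
  intro x y hyx hx
  have hle : y ≤ x := (PrimeSpectrum.le_iff_specializes y x).mpr hyx
  show r ≤ rankAtStalk M y
  rw [rankAtStalk_eq_of_le_of_finite_of_flat M hle]
  exact hx

end Loci

section Main

variable [Module.Finite R M] [Module.Flat R M]

theorem finitePresentation_away
    (H : ∀ Z : Set (PrimeSpectrum R), IsClosed Z → StableUnderGeneralization Z → IsOpen Z)
    (p : PrimeSpectrum R) :
    ∃ g : R, g ∉ p.asIdeal ∧
      Module.FinitePresentation (Localization.Away g) (LocalizedModule.Away g M) := by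
  classical
  obtain ⟨φ, f, hf, h⟩ := exists_map (M := M) p
  have hopen : IsOpen {q : PrimeSpectrum R | rankAtStalk M p ≤ rankAtStalk M q} :=
    H _ (isClosed_rank_ge M _) (stableUnderGeneralization_rank_ge M _)
  have hU : IsOpen ((PrimeSpectrum.basicOpen f : Set (PrimeSpectrum R)) ∩
      {q : PrimeSpectrum R | rankAtStalk M p ≤ rankAtStalk M q}) :=
    (PrimeSpectrum.basicOpen f).2.inter hopen
  have hpU : p ∈ (PrimeSpectrum.basicOpen f : Set (PrimeSpectrum R)) ∩
      {q : PrimeSpectrum R | rankAtStalk M p ≤ rankAtStalk M q} :=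
    ⟨hf, show rankAtStalk M p ≤ rankAtStalk M p from le_rfl⟩
  obtain ⟨V, ⟨g, rfl⟩, hpg, hgU⟩ :=
    PrimeSpectrum.isTopologicalBasis_basic_opens.exists_subset_of_mem_open hpU hU
  refine ⟨g, hpg, ?_⟩
  -- `g` is in the radical of `(f)`
  have hgf : PrimeSpectrum.basicOpen g ≤ PrimeSpectrum.basicOpen f := fun q hq => (hgU hq).1
  rw [PrimeSpectrum.basicOpen_le_basicOpen_iff] at hgf
  obtain ⟨k, hk⟩ := hgf
  obtain ⟨a, ha⟩ := Ideal.mem_span_singleton'.mp hk
  have hsurj : Function.Surjective (LocalizedModule.map (Submonoid.powers g) φ) := by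
    intro y
    induction y using LocalizedModule.induction_on with
    | h x s =>
      obtain ⟨c, hc⟩ := h x
      refine ⟨LocalizedModule.mk (a • c) ((⟨g ^ k, ⟨k, rfl⟩⟩ : Submonoid.powers g) * s), ?_⟩
      rw [LocalizedModule.map_mk, map_smul, hc, smul_smul, ha]
      exact LocalizedModule.mk_cancel_common_left (⟨g ^ k, ⟨k, rfl⟩⟩ : Submonoid.powers g) s x
  have hinj : Function.Injective (LocalizedModule.map (Submonoid.powers g) φ) := by
    rw [injective_iff_map_eq_zero]
    intro y hy
    induction y using LocalizedModule.induction_on with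
    | h c s =>
      rw [LocalizedModule.map_mk, ← LocalizedModule.zero_mk s, LocalizedModule.mk_eq] at hy
      obtain ⟨t, ht⟩ := hy
      rw [smul_zero, smul_zero] at ht
      have hd : ((t : R) * (s : R)) • φ c = 0 := by
        rw [mul_smul]
        exact ht
      -- `c' = (t * s) • c` lies in the kernel of `φ`
      obtain ⟨c', hc'def⟩ : ∃ c' : Fin (rankAtStalk M p) → R, c' = ((t : R) * (s : R)) • c :=
        ⟨_, rfl⟩
      have hc' : φ c' = 0 := by
        rw [hc'def, map_smul]
        exact hd
      have hclaim : ∃ j : ℕ, g ^ j • c' = 0 := by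
        by_contra hne
        push Not at hne
        let A : Ideal R := LinearMap.ker
          (LinearMap.toSpanSingleton R (Fin (rankAtStalk M p) → R) c')
        have hA : ∀ x : R, x ∈ A ↔ x • c' = 0 := fun x => by
          rw [LinearMap.mem_ker, LinearMap.toSpanSingleton_apply]
        have hdisj : Disjoint (A : Set R) (Submonoid.powers g : Set R) := by
          rw [Set.disjoint_left]
          rintro _ hx ⟨j, rfl⟩
          exact hne j ((hA _).mp hx)
        obtain ⟨q, hq, hAq, hqg⟩ := Ideal.exists_le_prime_disjoint A (Submonoid.powers g) hdisj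
        have hgq : g ∉ q := fun hgq =>
          Set.disjoint_left.mp hqg hgq ⟨1, pow_one g⟩
        have hQ := hgU (show (⟨q, hq⟩ : PrimeSpectrum R) ∈
          (PrimeSpectrum.basicOpen g : Set (PrimeSpectrum R)) from hgq)
        have hbij := map_bijective φ f h ⟨q, hq⟩ hQ.1 hQ.2
        have h0 : LocalizedModule.map q.primeCompl φ
            (LocalizedModule.mk c' 1) = 0 := by
          rw [LocalizedModule.map_mk, hc', LocalizedModule.zero_mk]
        have h1 := hbij.1 (h0.trans (map_zero _).symm)
        rw [← LocalizedModule.zero_mk (1 : q.primeCompl), LocalizedModule.mk_eq] at h1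
        obtain ⟨u, hu⟩ := h1
        rw [smul_zero, smul_zero, one_smul] at hu
        have huA : (u : R) ∈ A := (hA _).mpr hu
        exact u.2 (hAq huA)
      obtain ⟨j, hj⟩ := hclaim
      rw [← LocalizedModule.zero_mk s, LocalizedModule.mk_eq]
      refine ⟨(⟨g ^ j, ⟨j, rfl⟩⟩ : Submonoid.powers g) * t, ?_⟩
      rw [smul_zero, smul_zero]
      show (g ^ j * (t : R)) • (s : R) • c = 0
      rw [mul_smul, smul_smul (t : R), ← hc'def]
      exact hj
  exact Module.FinitePresentation.of_equiv
    (LinearEquiv.ofBijective (LocalizedModule.map (Submonoid.powers g) φ) ⟨hinj, hsurj⟩)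

/-- If closed generalization-stable subsets of `Spec R` are open, finite flat modules are
projective. -/
theorem projective_of_isOpen
    (H : ∀ Z : Set (PrimeSpectrum R), IsClosed Z → StableUnderGeneralization Z → IsOpen Z) :
    Module.Projective R M := by
  let s : Set R :=
    {g | Module.FinitePresentation (Localization.Away g) (LocalizedModule.Away g M)}
  have hs : Ideal.span s = ⊤ := by
    by_contra hne
    obtain ⟨m, hm, hle⟩ := Ideal.exists_le_maximal _ hne
    obtain ⟨g, hg, hfp⟩ := finitePresentation_away (M := M) H ⟨m, hm.isPrime⟩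
    exact hg (hle (Ideal.subset_span hfp))
  haveI : Module.FinitePresentation R M :=
    Module.FinitePresentation.of_localizationSpan s hs (fun g => g.2)
  exact Module.Flat.projective_of_finitePresentation

end Main

end Groth.Agent.Lib.Helper23.FlatRank
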