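import Mathlib

/-!
# Small flat subalgebras of a flat algebra (Löwenheim–Skolem style, via the equational criterion)
-/

namespace Groth.Agent.Lib.Helper23.FlatSub

open Cardinal

universe u

variable (A B : Type u) [CommRing A] [CommRing B] [Algebra A B]

section triv

variable [Module.Flat A B]

open Classical in
/-- a finite set of elements of `B` trivialising the relation `∑ f i • x i = 0` (if it holds) -/
noncomputable def triv (l : ℕ) (f : Fin l → A) (x : Fin l → B) : Set B :=
  if h : ∑ i, f i • x i = 0 then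
    Set.range (Module.Flat.isTrivialRelation_of_sum_smul_eq_zero (R := A) (M := B)
      (f := f) (x := x) h).choose_spec.choose_spec.choose
  else ∅

theorem triv_finite (l : ℕ) (f : Fin l → A) (x : Fin l → B) : (triv A B l f x).Finite := by
  unfold triv
  split_ifs
  · exact Set.finite_range _
  · exact Set.finite_empty

theorem triv_spec (l : ℕ) (f : Fin l → A) (x : Fin l → B) (h : ∑ i, f i • x i = 0) :
    ∃ (k : ℕ) (a : Fin l → Fin k → A) (y : Fin k → B), (∀ j, y j ∈ triv A B l f x) ∧
      (∀ i, x i = ∑ j, a i j • y j) ∧ ∀ j, ∑ i, f i * a i j = 0 := by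
  have H := Module.Flat.isTrivialRelation_of_sum_smul_eq_zero (R := A) (M := B) (f := f) (x := x) h
  refine ⟨H.choose, H.choose_spec.choose, H.choose_spec.choose_spec.choose, ?_,
    H.choose_spec.choose_spec.choose_spec.1, H.choose_spec.choose_spec.choose_spec.2⟩
  intro j
  unfold triv
  rw [dif_pos h]
  exact ⟨j, rfl⟩

/-- all trivialising elements for relations with coefficients in `C` -/
noncomputable def W (C : Subalgebra A B) : Set B :=
  ⋃ (t : Σ l : ℕ, Fin l → A × C), triv A B t.1 (fun i => (t.2 i).1) (fun i => ((t.2 i).2 : B))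

/-- one closure step -/
noncomputable def next (C : Subalgebra A B) : Subalgebra A B :=
  Algebra.adjoin A ((C : Set B) ∪ W A B C)

theorem le_next (C : Subalgebra A B) : C ≤ next A B C := fun _ hx =>
  Algebra.subset_adjoin (Or.inl hx)

theorem W_subset_next (C : Subalgebra A B) : W A B C ⊆ next A B C := fun _ hx =>
  Algebra.subset_adjoin (Or.inr hx)

theorem card_W (C : Subalgebra A B) (hC : #C ≤ max #A ℵ₀) : #(W A B C) ≤ max #A ℵ₀ := by
  have hκ : ℵ₀ ≤ max #A ℵ₀ := le_max_right _ _
  unfold W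
  refine (mk_iUnion_le _).trans ?_
  refine mul_le_of_le hκ ?_ ?_
  · rw [← Cardinal.mk_congr (List.equivSigmaTuple (α := A × C))]
    refine (mk_list_le_max _).trans (max_le hκ ?_)
    rw [mk_prod, lift_id, lift_id]
    exact mul_le_of_le hκ (le_max_left _ _) hC
  · refine (ciSup_le' fun t => ?_).trans hκ
    exact (lt_aleph0_iff_set_finite.2 (triv_finite A B _ _ _)).le

theorem card_next (C : Subalgebra A B) (hC : #C ≤ max #A ℵ₀) : #(next A B C) ≤ max #A ℵ₀ := by
  have hκ : ℵ₀ ≤ max #A ℵ₀ := le_max_right _ _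
  unfold next
  refine (Algebra.cardinalMk_adjoin_le A _).trans ?_
  refine sup_le (sup_le (le_max_left _ _) ?_) hκ
  refine (mk_union_le _ _).trans (add_le_of_le hκ hC (card_W A B C hC))

/-- the iteration -/
noncomputable def Eseq (E : Subalgebra A B) : ℕ → Subalgebra A B
  | 0 => E
  | n + 1 => next A B (Eseq E n)

theorem Eseq_mono (E : Subalgebra A B) : Monotone (Eseq A B E) :=
  monotone_nat_of_le_succ fun n => le_next A B _

theorem card_Eseq (E : Subalgebra A B) (hE : #E ≤ max #A ℵ₀) (n : ℕ) :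
    #(Eseq A B E n) ≤ max #A ℵ₀ := by
  induction n with
  | zero => exact hE
  | succ n ih => exact card_next A B _ ih

theorem main (E : Subalgebra A B) (hE : #E ≤ max #A ℵ₀) :
    ∃ B' : Subalgebra A B, E ≤ B' ∧ Module.Flat A B' ∧ #B' ≤ max #A ℵ₀ := by
  have hκ : ℵ₀ ≤ max #A ℵ₀ := le_max_right _ _
  have hdir : Directed (· ≤ ·) (Eseq A B E) := (Eseq_mono A B E).directed_le
  refine ⟨⨆ n, Eseq A B E n, le_iSup (Eseq A B E) 0, ?_, ?_⟩
  · apply Module.Flat.of_forall_isTrivialRelation
    intro l f x h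
    have hx : ∀ i, ∃ n, (x i : B) ∈ Eseq A B E n := fun i => by
      have h1 : (x i : B) ∈ ((⨆ n, Eseq A B E n : Subalgebra A B) : Set B) := (x i).2
      rw [Subalgebra.coe_iSup_of_directed hdir] at h1
      exact Set.mem_iUnion.1 h1
    choose n hn using hx
    set N := Finset.univ.sup n with hN
    have hxN : ∀ i, (x i : B) ∈ Eseq A B E N := fun i =>
      Eseq_mono A B E (Finset.le_sup (Finset.mem_univ i)) (hn i)
    have hB : ∑ i, f i • (x i : B) = 0 := by
      have := congrArg Subtype.val h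
      simpa using this
    obtain ⟨k, a, y, hy, hxy, hfa⟩ := triv_spec A B l f (fun i => (x i : B)) hB
    have hyB' : ∀ j, y j ∈ ⨆ n, Eseq A B E n := by
      intro j
      have h1 : y j ∈ W A B (Eseq A B E N) := by
        refine Set.mem_iUnion.2 ⟨⟨l, fun i => (f i, ⟨(x i : B), hxN i⟩)⟩, ?_⟩
        exact hy j
      have h2 : y j ∈ Eseq A B E (N + 1) := W_subset_next A B _ h1
      exact le_iSup (Eseq A B E) (N + 1) h2
    refine ⟨k, a, fun j => ⟨y j, hyB' j⟩, ?_, hfa⟩
    intro i
    apply Subtype.ext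
    rw [hxy i]
    simp
  · have hcoe : ((⨆ n, Eseq A B E n : Subalgebra A B) : Set B) =
        ⋃ n : ULift.{u} ℕ, (Eseq A B E n.down : Set B) := by
      rw [Subalgebra.coe_iSup_of_directed hdir]
      ext b
      simp only [Set.mem_iUnion]
      exact ⟨fun ⟨n, hn⟩ => ⟨⟨n⟩, hn⟩, fun ⟨n, hn⟩ => ⟨n.down, hn⟩⟩
    have : #(⨆ n, Eseq A B E n : Subalgebra A B) =
        #(⋃ n : ULift.{u} ℕ, (Eseq A B E n.down : Set B)) := by
      rw [← hcoe]; rfl
    rw [this]
    refine (mk_iUnion_le _).trans (mul_le_of_le hκ ?_ ?_)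
    · simp
    · exact ciSup_le' fun n => card_Eseq A B E hE n.down

end triv

end Groth.Agent.Lib.Helper23.FlatSub
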