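import Groth.Agent.Lib.Helper23.FlcKer
import Mathlib.Algebra.Homology.ShortComplex.Ab

/-!
# Extensions of constant sheaves with finite values are locally constant with finite values
-/

set_option autoImplicit false
universe u

namespace Groth.Agent.Lib.Helper23.FlcLoc

open CategoryTheory CategoryTheory.Limits AlgebraicGeometry Opposite EtCore
open PullConstComp EtGlue

variable {Y : Scheme.{u}}

lemma sections_exact {P₁ P₂ P₃ : EtCoh.Ab Y} (f : P₁ ⟶ P₂) (g : P₂ ⟶ P₃) (w : f ≫ g = 0)
    (hS : (ShortComplex.mk f g w).ShortExact) (W : Y.Etale) (p : P₂.obj.obj (op W))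
    (hp : g.hom.app (op W) p = 0) : ∃ u : P₁.obj.obj (op W), f.hom.app (op W) u = p := by
  let F := (sheafSections Y.smallEtaleTopology AddCommGrpCat.{u + 1}).obj (op W)
  haveI : PreservesFiniteLimits F :=
    inferInstanceAs (PreservesFiniteLimits (sheafToPresheaf Y.smallEtaleTopology
      AddCommGrpCat.{u + 1} ⋙ (evaluation Y.Etaleᵒᵖ AddCommGrpCat.{u + 1}).obj (op W)))
  have hm : Mono f := hS.mono_f
  have hex : ((ShortComplex.mk f g w).map F).Exact :=
    hS.exact.map_of_mono_of_preservesKernel F hm inferInstance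
  exact (ShortComplex.ab_exact_iff _).1 hex p hp

lemma comp_zero_apply {P₁ P₂ P₃ : EtCoh.Ab Y} (f : P₁ ⟶ P₂) (g : P₂ ⟶ P₃) (w : f ≫ g = 0)
    (W : Y.Etale) (x : P₁.obj.obj (op W)) : g.hom.app (op W) (f.hom.app (op W) x) = 0 := by
  have h : f.hom.app (op W) ≫ g.hom.app (op W) = 0 := congrArg (fun t => t.hom.app (op W)) w
  have h2 := congrArg (fun t => t x) h
  exact h2

set_option backward.isDefEq.respectTransparency.types false in
set_option backward.isDefEq.respectTransparency false in
set_option maxHeartbeats 1600000 in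
/-- an extension of constant sheaves with finite values is locally constant with finite values -/
theorem exists_triv_ext {A B : AddCommGrpCat.{u + 1}} [Finite A] [Finite B] {P : EtCoh.Ab Y}
    (f : (C Y).obj A ⟶ P) (g : P ⟶ (C Y).obj B) (w : f ≫ g = 0)
    (hS : (ShortComplex.mk f g w).ShortExact) (y : Y) :
    ∃ (V : Y.Etale) (v : V.left), V.hom v = y ∧ Triv ((EtCoh.pull V.hom).obj P) := by
  haveI : Mono f := hS.mono_f
  haveI : Epi g := hS.epi_g
  -- local lifts of the constant sections
  obtain ⟨V₁, k₁, v₁, hv₁, hl⟩ := exists_lift_of_epi g (V := EtCoh.top Y)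
    (y : (EtCoh.top Y).left) (fun b : B => ts B (EtCoh.top Y) b)
  choose σ₀ hσ₀ using hl
  have hσ₀' : ∀ b, g.hom.app (op V₁) (σ₀ b) = ts B V₁ b := by
    intro b
    rw [hσ₀ b, ← ts_map B k₁]
    rfl
  -- the cocycle
  have hc : ∀ bb : B × B, ∃ u : ((C Y).obj A).obj.obj (op V₁),
      f.hom.app (op V₁) u = σ₀ bb.1 + σ₀ bb.2 - σ₀ (bb.1 + bb.2) := by
    intro bb
    apply sections_exact f g w hS
    rw [map_sub, map_add, hσ₀', hσ₀', hσ₀', map_add, sub_self]
  choose u hu using hc
  obtain ⟨V, k₂, v, hv, hα⟩ := exists_const_of_sections A v₁ u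
  choose α hα using hα
  let σ : B → P.obj.obj (op V) := fun b => P.obj.map k₂.op (σ₀ b)
  have hσ : ∀ b, g.hom.app (op V) (σ b) = ts B V b := by
    intro b
    have h1 := NatTrans.naturality_apply g.hom k₂.op (σ₀ b)
    rw [h1, hσ₀', ← ts_map B k₂]
    rfl
  let iM : A ⟶ P.obj.obj (op V) := ts A V ≫ f.hom.app (op V)
  have hiM : ∀ a, iM a = f.hom.app (op V) (ts A V a) := fun a => rfl
  have hcoc : ∀ b b', σ b + σ b' = σ (b + b') + iM (α (b, b')) := by
    intro b b'
    have h1 := congrArg (P.obj.map k₂.op) (hu (b, b'))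
    have h2 := NatTrans.naturality_apply f.hom k₂.op (u (b, b'))
    rw [← h2, ← hα (b, b'), map_sub, map_add] at h1
    rw [hiM, h1]
    abel
  have giM : ∀ a, g.hom.app (op V) (iM a) = 0 := fun a => comp_zero_apply f g w V _
  have h0 : σ 0 = iM (α (0, 0)) := by
    have h := hcoc 0 0
    rw [zero_add] at h
    exact add_left_cancel h
  let E : AddSubgroup (P.obj.obj (op V)) :=
    { carrier := {p | ∃ a b, p = iM a + σ b}
      zero_mem' := ⟨-α (0, 0), 0, by rw [map_neg, h0, neg_add_cancel]⟩
      add_mem' := by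
        rintro _ _ ⟨a, b, rfl⟩ ⟨a', b', rfl⟩
        refine ⟨a + a' + α (b, b'), b + b', ?_⟩
        rw [map_add, map_add, ← sub_eq_zero]
        have e : iM a + σ b + (iM a' + σ b') - (iM a + iM a' + iM (α (b, b')) + σ (b + b')) =
            (σ b + σ b') - (σ (b + b') + iM (α (b, b'))) := by abel
        rw [e, hcoc, sub_self]
      neg_mem' := by
        rintro _ ⟨a, b, rfl⟩
        refine ⟨-a - α (0, 0) - α (b, -b), -b, ?_⟩
        have h1 := hcoc b (-b)
        rw [add_neg_cancel, h0] at h1
        rw [map_sub, map_sub, map_neg, ← sub_eq_zero]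
        have e : -(iM a + σ b) - (-iM a - iM (α (0, 0)) - iM (α (b, -b)) + σ (-b)) =
            -((σ b + σ (-b)) - (iM (α (0, 0)) + iM (α (b, -b)))) := by abel
        rw [e, h1, sub_self, neg_zero] }
  have hEfin : Finite E := by
    have hsurj : Function.Surjective
        (fun ab : A × B => (⟨iM ab.1 + σ ab.2, ⟨ab.1, ab.2, rfl⟩⟩ : E)) := by
      rintro ⟨p, a, b, rfl⟩
      exact ⟨(a, b), rfl⟩
    exact Finite.of_surjective _ hsurj
  let EE : AddCommGrpCat.{u + 1} := AddCommGrpCat.of E
  let incl : EE ⟶ P.obj.obj (op V) := AddCommGrpCat.ofHom E.subtype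
  have hinjB := ts_injective B V v
  have hinjA := ts_injective A V v
  have hinjf := injective_of_mono f V
  have hπ0 : ∀ e : E, ∃ b : B, ts B V b = g.hom.app (op V) e.1 := by
    rintro ⟨p, a, b, rfl⟩
    refine ⟨b, ?_⟩
    rw [map_add, giM, zero_add, hσ]
  choose π hπ using hπ0
  let πE : EE ⟶ B := AddCommGrpCat.ofHom (AddMonoidHom.mk' π (fun e e' => by
    apply hinjB
    have h1 := hπ (e + e')
    have h2 : ((e + e' : E) : P.obj.obj (op V)) = e.1 + e'.1 := rfl
    rw [h1, h2, map_add, map_add, hπ, hπ]))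
  have hiE : ∀ a, iM a ∈ E := fun a => ⟨a - α (0, 0), 0, by
    rw [map_sub, h0, sub_add_cancel]⟩
  let iE : A ⟶ EE := AddCommGrpCat.ofHom (iM.hom.codRestrict E hiE)
  have hπE : ∀ e : E, πE e = π e := fun e => rfl
  have hiE' : ∀ a, ((iE a : E) : P.obj.obj (op V)) = iM a := fun a => rfl
  have hzero : iE ≫ πE = 0 := by
    ext a
    apply hinjB
    change ts B V (π (iE a)) = ts B V 0
    rw [hπ, hiE', giM, map_zero]
  have hT₀ : (ShortComplex.mk iE πE hzero).ShortExact := by
    refine ShortComplex.ShortExact.mk' ?_ ?_ ?_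
    · rw [ShortComplex.ab_exact_iff]
      rintro ⟨p, a, b, rfl⟩ hx
      have hb : b = 0 := by
        apply hinjB
        have h1 := hπ ⟨iM a + σ b, ⟨a, b, rfl⟩⟩
        rw [map_add, giM, zero_add, hσ] at h1
        rw [← h1]
        exact congrArg (ts B V) hx
      subst hb
      refine ⟨a + α (0, 0), ?_⟩
      apply Subtype.ext
      change iM (a + α (0, 0)) = iM a + σ 0
      rw [map_add, h0]
    · rw [AddCommGrpCat.mono_iff_injective]
      intro a a' haa
      have h1 : iM a = iM a' := congrArg (fun e : E => (e : P.obj.obj (op V))) haa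
      exact hinjA (hinjf h1)
    · rw [AddCommGrpCat.epi_iff_surjective]
      intro b
      refine ⟨⟨σ b, ⟨0, b, by rw [map_zero, zero_add]⟩⟩, ?_⟩
      apply hinjB
      change ts B V (π _) = _
      rw [hπ, hσ]
  have hT₁ := hT₀.map_of_exact (C V.left)
  have hT₂ := hS.map_of_exact (EtCoh.pull V.hom)
  let ε : (C V.left).obj EE ⟶ (EtCoh.pull V.hom).obj P :=
    ((constAdj V.left).homEquiv EE ((EtCoh.pull V.hom).obj P)).symm (incl ≫ loc V P)
  have hε : (constAdj V.left).unit.app EE ≫ (gsec V.left).map ε = incl ≫ loc V P := by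
    have h := Adjunction.homEquiv_unit (constAdj V.left) (X := EE)
      (Y := (EtCoh.pull V.hom).obj P) (f := ε)
    exact h.symm.trans (Equiv.apply_symm_apply _ _)
  have hincl : iE ≫ incl = iM := by
    ext a
    rfl
  have hπg : πE ≫ ts B V = incl ≫ g.hom.app (op V) := by
    ext e
    exact hπ e
  have c12 : (C V.left).map iE ≫ ε =
      (pullConstIso V.hom).inv.app A ≫ (EtCoh.pull V.hom).map f := by
    apply ((constAdj V.left).homEquiv _ _).injective
    rw [Adjunction.homEquiv_unit, Adjunction.homEquiv_unit, Functor.map_comp,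
      Functor.map_comp, ← Category.assoc, ← Category.assoc, unit_pullConst_inv,
      Category.assoc (ts A V), ← loc_naturality, ← Category.assoc]
    have h1 : (constAdj V.left).unit.app A ≫ (gsec V.left).map ((C V.left).map iE) =
        iE ≫ (constAdj V.left).unit.app EE := ((constAdj V.left).unit.naturality iE).symm
    rw [h1, Category.assoc, hε, ← Category.assoc, hincl]
  have c23 : (C V.left).map πE ≫ (pullConstIso V.hom).inv.app B =
      ε ≫ (EtCoh.pull V.hom).map g := by
    apply ((constAdj V.left).homEquiv _ _).injective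
    rw [Adjunction.homEquiv_unit, Adjunction.homEquiv_unit, Functor.map_comp,
      Functor.map_comp, ← Category.assoc, ← Category.assoc, hε, Category.assoc incl,
      ← loc_naturality, ← Category.assoc incl, ← hπg]
    have h1 : (constAdj V.left).unit.app EE ≫ (gsec V.left).map ((C V.left).map πE) =
        πE ≫ (constAdj V.left).unit.app B := ((constAdj V.left).unit.naturality πE).symm
    rw [h1, Category.assoc, unit_pullConst_inv, Category.assoc]
  let φ : (ShortComplex.mk iE πE hzero).map (C V.left) ⟶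
      (ShortComplex.mk f g w).map (EtCoh.pull V.hom) :=
    { τ₁ := (pullConstIso V.hom).inv.app A
      τ₂ := ε
      τ₃ := (pullConstIso V.hom).inv.app B
      comm₁₂ := c12.symm
      comm₂₃ := c23.symm }
  have : IsIso φ.τ₁ := inferInstanceAs (IsIso ((pullConstIso V.hom).inv.app A))
  have : IsIso φ.τ₃ := inferInstanceAs (IsIso ((pullConstIso V.hom).inv.app B))
  have hiso : IsIso ε := ShortComplex.isIso₂_of_shortExact_of_isIso₁₃ φ hT₁ hT₂
  refine ⟨V, v, ?_, EE, hEfin, ⟨(asIso ε).symm⟩⟩
  have h1 : k₁.left ≫ 𝟙 Y = V₁.hom := Over.w k₁.hom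
  have h2 : k₂.left ≫ V₁.hom = V.hom := Over.w k₂.hom
  have h3 : V.hom v = k₁.left (k₂.left v) := by
    rw [← h2, ← h1]
    rfl
  rw [h3, hv]
  exact hv₁

end Groth.Agent.Lib.Helper23.FlcLoc
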