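import Groth.Agent.Lib.Helper23.FlcLoc

/-!
# Local constancy and local lifting of finitely many sections on the small etale site
-/

set_option autoImplicit false
universe u

namespace Groth.Agent.Lib.Helper23.FlcLoc

open CategoryTheory CategoryTheory.Limits AlgebraicGeometry Opposite EtCore
open PullConstComp EtGlue

variable {Y : Scheme.{u}}

/-- finite intersections of covering sieves are covering -/
lemma iInf_mem {ι : Type*} [Finite ι] {V : Y.Etale} (S : ι → Sieve V)
    (h : ∀ i, S i ∈ Y.smallEtaleTopology V) : (⨅ i, S i) ∈ Y.smallEtaleTopology V := by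
  induction ι using Finite.induction_empty_option with
  | of_equiv e ih =>
    rename_i α β
    have h2 := ih (fun a => S (e a)) (fun a => h (e a))
    have e3 : (⨅ a, S (e a)) = ⨅ i, S i := e.iInf_comp (g := S)
    rw [← e3]
    exact h2
  | h_empty =>
    rw [iInf_of_empty]
    exact Y.smallEtaleTopology.top_mem V
  | h_option ih =>
    rw [iInf_option]
    exact Y.smallEtaleTopology.intersection_covering (h none) (ih _ (fun a => h (some a)))

/-- finitely many covering sieves have a common member through a given point -/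
lemma exists_common {ι : Type*} [Finite ι] {V : Y.Etale} (v : V.left) (S : ι → Sieve V)
    (h : ∀ i, S i ∈ Y.smallEtaleTopology V) :
    ∃ (W : Y.Etale) (g : W ⟶ V) (w : W.left), g.left w = v ∧ ∀ i, S i g := by
  obtain ⟨W, g, hg, w, hw⟩ := exists_arrow_of_mem _ (iInf_mem S h) v
  refine ⟨W, g, w, hw, fun i => ?_⟩
  have := (Sieve.sInf_apply (Ss := Set.range S) (f := g)).1 hg
  exact this (S i) ⟨i, rfl⟩

lemma ts_injective (B : AddCommGrpCat.{u + 1}) (V : Y.Etale) (v : V.left) :
    Function.Injective (ts B V) := by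
  intro x y hxy
  have h := Presheaf.equalizerSieve_mem Y.smallEtaleTopology
    (toSheafify Y.smallEtaleTopology ((Functor.const Y.Etaleᵒᵖ).obj B)) x y hxy
  obtain ⟨W, g, hg, -⟩ := exists_arrow_of_mem _ h v
  exact hg

lemma exists_const_of_sections {ι : Type*} [Finite ι] (B : AddCommGrpCat.{u + 1}) {V : Y.Etale}
    (v : V.left) (s : ι → ((C Y).obj B).obj.obj (op V)) :
    ∃ (W : Y.Etale) (g : W ⟶ V) (w : W.left), g.left w = v ∧
      ∀ i, ∃ b : B, ts B W b = ((C Y).obj B).obj.map g.op (s i) := by
  obtain ⟨W, g, w, hw, hg⟩ := exists_common v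
    (fun i => Presheaf.imageSieve
      (toSheafify Y.smallEtaleTopology ((Functor.const Y.Etaleᵒᵖ).obj B)) (s i))
    (fun i => Presheaf.imageSieve_mem Y.smallEtaleTopology
      (toSheafify Y.smallEtaleTopology ((Functor.const Y.Etaleᵒᵖ).obj B)) (s i))
  exact ⟨W, g, w, hw, fun i => hg i⟩

lemma exists_lift_of_epi {ι : Type*} [Finite ι] {P Q : EtCoh.Ab Y} (g : P ⟶ Q) [Epi g]
    {V : Y.Etale} (v : V.left) (s : ι → Q.obj.obj (op V)) :
    ∃ (W : Y.Etale) (k : W ⟶ V) (w : W.left), k.left w = v ∧
      ∀ i, ∃ t : P.obj.obj (op W), g.hom.app (op W) t = Q.obj.map k.op (s i) := by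
  have : Sheaf.IsLocallySurjective g :=
    (Sheaf.isLocallySurjective_iff_epi' AddCommGrpCat.{u + 1} g).2 inferInstance
  obtain ⟨W, k, w, hw, hk⟩ := exists_common v
    (fun i => Presheaf.imageSieve g.hom (s i))
    (fun i => Presheaf.imageSieve_mem Y.smallEtaleTopology g.hom (s i))
  exact ⟨W, k, w, hw, fun i => hk i⟩

lemma injective_of_mono {F G : EtCoh.Ab Y} (a : F ⟶ G) [Mono a] (U : Y.Etale) :
    Function.Injective (a.hom.app (op U)) := by
  have : Mono ((sheafToPresheaf _ _).map a) := inferInstance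
  have : Mono a.hom := this
  have : Mono (a.hom.app (op U)) := inferInstance
  exact (AddCommGrpCat.mono_iff_injective _).1 inferInstance

end Groth.Agent.Lib.Helper23.FlcLoc
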