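import Groth.Agent.Lib.Helper23.FlcSerre

/-!
# Finite direct sums of finite locally constant sheaves
-/

set_option autoImplicit false
universe u

namespace Groth.Agent.Lib.Helper23.FlcSum

open CategoryTheory CategoryTheory.Limits AlgebraicGeometry Opposite EtCore
open PullConstComp EtGlue Groth.Agent.Lib.Helper23.FlcLoc

variable {X : Scheme.{u}}

lemma flc_const (M : AddCommGrpCat.{u + 1}) (hM : Finite M) :
    EtCoh.IsFiniteLocallyConstant ((C X).obj M) := by
  rw [flc_iff_locTriv]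
  intro y
  refine ⟨EtCoh.top X, y, rfl, ?_⟩
  exact Triv.pull _ ⟨M, hM, ⟨Iso.refl _⟩⟩

lemma flc_of_isZero {Z : EtCoh.Ab X} (hZ : IsZero Z) : EtCoh.IsFiniteLocallyConstant Z := by
  let F₀ : EtCoh.Ab X := (C X).obj (AddCommGrpCat.of PUnit.{u + 2})
  have h0 : EtCoh.IsFiniteLocallyConstant F₀ :=
    flc_const _ (inferInstanceAs (Finite PUnit.{u + 2}))
  have h1 := flc_kernel (𝟙 F₀) h0 h0
  have hz : IsZero (kernel (𝟙 F₀)) := isZero_kernel_of_mono _
  exact Flc.flc_of_iso (hz.iso hZ) h1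

lemma flc_biprod {F G : EtCoh.Ab X} (hF : EtCoh.IsFiniteLocallyConstant F)
    (hG : EtCoh.IsFiniteLocallyConstant G) : EtCoh.IsFiniteLocallyConstant (F ⊞ G) := by
  let S : ShortComplex (EtCoh.Ab X) :=
    ShortComplex.mk (biprod.inl : F ⟶ F ⊞ G) biprod.snd (by simp)
  have hS : S.ShortExact := (ShortComplex.Splitting.ofHasBinaryBiproduct F G).shortExact
  exact flc_extension hS hF hG

theorem flc_biproduct : ∀ (n : ℕ) (F : Fin n → EtCoh.Ab X),
    (∀ i, EtCoh.IsFiniteLocallyConstant (F i)) → EtCoh.IsFiniteLocallyConstant (⨁ F)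
  | 0, F, _ => by
    apply flc_of_isZero
    rw [IsZero.iff_id_eq_zero]
    apply biproduct.hom_ext
    intro i
    exact i.elim0
  | n + 1, F, h => by
    have ih := flc_biproduct n (fun i => F i.succ) (fun i => h i.succ)
    have h2 := flc_biprod (h 0) ih
    let c₁ : Fan (fun i : Fin n => F i.succ) := (biproduct.bicone (fun i : Fin n => F i.succ)).toCone
    have hc₁ : IsLimit c₁ := biproduct.isLimit _
    let c₂ : BinaryFan (F 0) c₁.pt := (BinaryBiproduct.bicone (F 0) (⨁ fun i : Fin n => F i.succ)).toCone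
    have hc₂ : IsLimit c₂ := BinaryBiproduct.isLimit _ _
    have hl := extendFanIsLimit F hc₁ hc₂
    have e : (F 0 ⊞ ⨁ fun i : Fin n => F i.succ) ≅ ⨁ F :=
      hl.conePointUniqueUpToIso (biproduct.isLimit F)
    exact Flc.flc_of_iso e h2

end Groth.Agent.Lib.Helper23.FlcSum
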