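import Mathlib

/-!
# Formal glueing: `I`-power torsion modules are invariant under flat `R → S` with `R/I ≅ S/IS`
-/

universe u
open TensorProduct

namespace Helper23.FG

variable {R S : Type u} [CommRing R] [CommRing S] [Algebra R S] {I : Ideal R}

theorem exists_approx
    (hq : Function.Surjective (Ideal.quotientMap (I.map (algebraMap R S)) (algebraMap R S) Ideal.le_comap_map))
    (s : S) : ∃ r : R, s - algebraMap R S r ∈ I.map (algebraMap R S) := by
  obtain ⟨q, hq'⟩ := hq (Ideal.Quotient.mk _ s)
  obtain ⟨r, rfl⟩ := Ideal.Quotient.mk_surjective q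
  rw [Ideal.quotientMap_mk, Ideal.Quotient.eq] at hq'
  refine ⟨r, ?_⟩
  rw [← neg_sub]
  exact neg_mem hq'

theorem mem_of_map_mem
    (hq : Function.Injective (Ideal.quotientMap (I.map (algebraMap R S)) (algebraMap R S) Ideal.le_comap_map))
    (r : R) (h : algebraMap R S r ∈ I.map (algebraMap R S)) : r ∈ I := by
  have h0 : Ideal.quotientMap (I.map (algebraMap R S)) (algebraMap R S)
      Ideal.le_comap_map (Ideal.Quotient.mk _ r) =
      Ideal.quotientMap (I.map (algebraMap R S)) (algebraMap R S)
      Ideal.le_comap_map (Ideal.Quotient.mk _ 0) := by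
    rw [Ideal.quotientMap_mk, Ideal.quotientMap_mk, Ideal.Quotient.eq, map_zero, sub_zero]
    exact h
  have h1 := hq h0
  rwa [Ideal.Quotient.eq, sub_zero] at h1

section

variable {M : Type u} [AddCommGroup M] [Module R M]

theorem tmul_eq_zero_of_mem_map {z : S} (hz : z ∈ I.map (algebraMap R S)) {m : M}
    (hm : ∀ a ∈ I, a • m = 0) : z ⊗ₜ[R] m = 0 := by
  unfold Ideal.map at hz
  induction hz using Submodule.span_induction with
  | mem x hx =>
    obtain ⟨a, ha, rfl⟩ := hx
    rw [← mul_one (algebraMap R S a), ← Algebra.smul_def, TensorProduct.smul_tmul, hm a ha,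
      TensorProduct.tmul_zero]
  | zero => exact TensorProduct.zero_tmul _ _
  | add x y _ _ hx hy => rw [TensorProduct.add_tmul, hx, hy, add_zero]
  | smul c x _ hx =>
    rw [smul_eq_mul, ← smul_eq_mul, ← TensorProduct.smul_tmul', hx, smul_zero]

variable (hq : Function.Bijective
  (Ideal.quotientMap (I.map (algebraMap R S)) (algebraMap R S) Ideal.le_comap_map))

section KilledByI

variable (hM : ∀ a ∈ I, ∀ m : M, a • m = 0)

include hq hM in
theorem act_wd {s : S} {r₁ r₂ : R} (h₁ : s - algebraMap R S r₁ ∈ I.map (algebraMap R S))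
    (h₂ : s - algebraMap R S r₂ ∈ I.map (algebraMap R S)) (m : M) : r₁ • m = r₂ • m := by
  have : r₁ - r₂ ∈ I := mem_of_map_mem hq.1 _ (by
    rw [map_sub]
    have := sub_mem h₂ h₁
    rwa [sub_sub_sub_cancel_left] at this)
  rw [← sub_eq_zero, ← sub_smul]
  exact hM _ this m

/-- action of `S` on a module killed by `I`. -/
noncomputable def act (s : S) (m : M) : M := (exists_approx hq.2 s).choose • m

include hM in
theorem act_eq {s : S} {r : R} (h : s - algebraMap R S r ∈ I.map (algebraMap R S)) (m : M) :
    act hq s m = r • m :=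
  act_wd hq hM (exists_approx hq.2 s).choose_spec h m

/-- The inverse of `m ↦ 1 ⊗ m` for a module killed by `I`. -/
noncomputable def mu1 : S ⊗[R] M →ₗ[R] M :=
  TensorProduct.lift (LinearMap.mk₂ R (act hq)
    (by
      intro s₁ s₂ m
      obtain ⟨r₁, h₁⟩ := exists_approx hq.2 s₁
      obtain ⟨r₂, h₂⟩ := exists_approx hq.2 s₂
      rw [act_eq hq hM h₁, act_eq hq hM h₂, act_eq hq hM (r := r₁ + r₂) (by
        rw [map_add]
        have := add_mem h₁ h₂
        rwa [sub_add_sub_comm] at this), add_smul])
    (by
      intro c s m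
      obtain ⟨r, h⟩ := exists_approx hq.2 s
      rw [act_eq hq hM h, act_eq hq hM (r := c * r) (by
        rw [map_mul, Algebra.smul_def, ← mul_sub]
        exact Ideal.mul_mem_left _ _ h), mul_smul])
    (by
      intro s m₁ m₂
      obtain ⟨r, h⟩ := exists_approx hq.2 s
      rw [act_eq hq hM h, act_eq hq hM h, act_eq hq hM h, smul_add])
    (by
      intro c s m
      obtain ⟨r, h⟩ := exists_approx hq.2 s
      rw [act_eq hq hM h, act_eq hq hM h, smul_comm]))

theorem mu1_one_tmul (m : M) : mu1 hq hM ((1 : S) ⊗ₜ[R] m) = m := by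
  rw [mu1, TensorProduct.lift.tmul, LinearMap.mk₂_apply, act_eq hq hM (r := 1) (by simp), one_smul]

include hq hM in
theorem mk_bijective_of_killed : Function.Bijective (TensorProduct.mk R S M 1) := by
  constructor
  · intro a b h
    have := congrArg (mu1 hq hM) h
    simpa [mu1_one_tmul] using this
  · intro t
    induction t using TensorProduct.induction_on with
    | zero => exact ⟨0, map_zero _⟩
    | tmul s m =>
      obtain ⟨r, h⟩ := exists_approx hq.2 s
      refine ⟨r • m, ?_⟩
      have h1 := tmul_eq_zero_of_mem_map h (m := m) (fun a ha => hM a ha m)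
      rw [TensorProduct.sub_tmul, sub_eq_zero] at h1
      rw [TensorProduct.mk_apply, h1, ← mul_one (algebraMap R S r), ← Algebra.smul_def,
        TensorProduct.smul_tmul]
    | add a b ha hb =>
      obtain ⟨a', rfl⟩ := ha
      obtain ⟨b', rfl⟩ := hb
      exact ⟨a' + b', map_add _ _ _⟩

end KilledByI

include hq in
theorem mk_bijective_of_killed_pow [Module.Flat R S] (n : ℕ) :
    ∀ (M : Type u) [AddCommGroup M] [Module R M], (∀ a ∈ I ^ n, ∀ m : M, a • m = 0) →
      Function.Bijective (TensorProduct.mk R S M 1) := by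
  induction n with
  | zero =>
    intro M _ _ hM
    have : ∀ m : M, m = 0 := fun m => by
      have := hM 1 (by simp) m
      simpa using this
    have hs : Subsingleton M := ⟨fun a b => by rw [this a, this b]⟩
    constructor
    · intro a b _
      exact Subsingleton.elim _ _
    · intro t
      refine ⟨0, ?_⟩
      induction t using TensorProduct.induction_on with
      | zero => simp
      | tmul s m => rw [this m]; simp
      | add a b ha hb => rw [← ha, ← hb]; simp
  | succ n ih =>
    intro M _ _ hM
    let N : Submodule R M := I • (⊤ : Submodule R M)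
    have hN : ∀ a ∈ I ^ n, ∀ x : N, a • x = 0 := by
      intro a ha x
      apply Subtype.ext
      rw [Submodule.coe_smul, Submodule.coe_zero]
      refine Submodule.smul_induction_on (p := fun y => a • y = 0) x.2 ?_ ?_
      · intro b hb m _
        rw [← mul_smul]
        exact hM _ (by rw [pow_succ]; exact Ideal.mul_mem_mul ha hb) m
      · intro x y hx hy
        rw [smul_add, hx, hy, add_zero]
    have hQ : ∀ a ∈ I, ∀ x : M ⧸ N, a • x = 0 := by
      intro a ha x
      obtain ⟨m, rfl⟩ := N.mkQ_surjective x
      rw [← map_smul, Submodule.mkQ_apply, Submodule.Quotient.mk_eq_zero]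
      exact Submodule.smul_mem_smul ha Submodule.mem_top
    have h1 := ih N hN
    have h2 := mk_bijective_of_killed hq hQ
    have hinjN : Function.Injective (N.subtype.lTensor S) :=
      Module.Flat.lTensor_preserves_injective_linearMap _ N.injective_subtype
    have hex : Function.Exact (N.subtype.lTensor S) (N.mkQ.lTensor S) :=
      lTensor_exact S (LinearMap.exact_subtype_mkQ N) N.mkQ_surjective
    constructor
    · rw [injective_iff_map_eq_zero]
      intro m hm
      have h3 : N.mkQ m = 0 := by
        apply h2.1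
        rw [map_zero]
        have := congrArg (N.mkQ.lTensor S) hm
        simpa using this
      rw [Submodule.mkQ_apply, Submodule.Quotient.mk_eq_zero] at h3
      have h4 : (⟨m, h3⟩ : N) = 0 := by
        apply h1.1
        rw [map_zero]
        apply hinjN
        rw [map_zero]
        simpa using hm
      exact congrArg Subtype.val h4
    · intro x
      obtain ⟨q, hq'⟩ := h2.2 (N.mkQ.lTensor S x)
      obtain ⟨m₀, rfl⟩ := N.mkQ_surjective q
      have h3 : N.mkQ.lTensor S (x - (1 : S) ⊗ₜ[R] m₀) = 0 := by
        rw [map_sub, ← hq']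
        simp
      obtain ⟨y, hy⟩ := (hex _).mp h3
      obtain ⟨n₀, rfl⟩ := h1.2 y
      refine ⟨m₀ + n₀, ?_⟩
      have : N.subtype.lTensor S ((1 : S) ⊗ₜ[R] n₀) = (1 : S) ⊗ₜ[R] (n₀ : M) := by simp
      rw [TensorProduct.mk_apply] at hy
      rw [this] at hy
      rw [TensorProduct.mk_apply, TensorProduct.tmul_add, hy]
      abel

include hq in
/-- **Lemma T'**: an `I`-power torsion module is invariant under `S ⊗_R -`. -/
theorem mk_bijective_of_torsion [Module.Flat R S]
    (hM : ∀ m : M, ∃ n : ℕ, ∀ a ∈ I ^ n, a • m = 0) :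
    Function.Bijective (TensorProduct.mk R S M 1) := by
  let T : ℕ → Submodule R M := fun n => Submodule.torsionBySet R M ((I ^ n : Ideal R) : Set R)
  have hT : ∀ n, ∀ a ∈ I ^ n, ∀ x : T n, a • x = 0 := by
    intro n a ha x
    apply Subtype.ext
    rw [Submodule.coe_smul, Submodule.coe_zero]
    exact (Submodule.mem_torsionBySet_iff _ _).mp x.2 ⟨a, ha⟩
  have hb := fun n => mk_bijective_of_killed_pow hq n (T n) (hT n)
  have hinj : ∀ n, Function.Injective ((T n).subtype.lTensor S) := fun n =>
    Module.Flat.lTensor_preserves_injective_linearMap _ (T n).injective_subtype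
  have hmemT : ∀ m : M, ∃ n, m ∈ T n := by
    intro m
    obtain ⟨n, hn⟩ := hM m
    exact ⟨n, (Submodule.mem_torsionBySet_iff _ _).mpr fun a => hn a.1 a.2⟩
  constructor
  · rw [injective_iff_map_eq_zero]
    intro m hm
    obtain ⟨n, hn⟩ := hmemT m
    have h4 : (⟨m, hn⟩ : T n) = 0 := by
      apply (hb n).1
      rw [map_zero]
      apply hinj n
      rw [map_zero]
      simpa using hm
    exact congrArg Subtype.val h4
  · intro t
    induction t using TensorProduct.induction_on with
    | zero => exact ⟨0, map_zero _⟩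
    | tmul s m =>
      obtain ⟨n, hn⟩ := hmemT m
      obtain ⟨m', hm'⟩ := (hb n).2 (s ⊗ₜ[R] (⟨m, hn⟩ : T n))
      refine ⟨m', ?_⟩
      have := congrArg ((T n).subtype.lTensor S) hm'
      simpa using this
    | add a b ha hb =>
      obtain ⟨a', rfl⟩ := ha
      obtain ⟨b', rfl⟩ := hb
      exact ⟨a' + b', map_add _ _ _⟩

end

end Helper23.FG
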