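import Groth.Agent.Lib.Helper23.FormalGlue

/-!
# Formal glueing II: consequences of Lemma T'
-/

universe u
open TensorProduct

namespace Helper23.FG

variable {R S : Type u} [CommRing R] [CommRing S] [Algebra R S]

theorem smul_one_eq_zero_of_mem (J : Ideal R) {a : R} (ha : a ∈ J) : a • (1 : R ⧸ J) = 0 := by
  rw [Algebra.smul_def, Ideal.Quotient.algebraMap_eq, Ideal.Quotient.eq_zero_iff_mem.mpr ha,
    zero_mul]

theorem quotientMap_bijective_of_mk_bijective (J : Ideal R)
    (hb : Function.Bijective (TensorProduct.mk R S (R ⧸ J) 1)) :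
    Function.Bijective
      (Ideal.quotientMap (J.map (algebraMap R S)) (algebraMap R S) Ideal.le_comap_map) := by
  have hkill : ∀ a ∈ J, a • (1 : R ⧸ J) = 0 := fun a ha => smul_one_eq_zero_of_mem J ha
  have hone : ∀ r : R, Ideal.Quotient.mk J r = r • (1 : R ⧸ J) := by
    intro r
    rw [Algebra.smul_def, Ideal.Quotient.algebraMap_eq, mul_one]
  constructor
  · rw [injective_iff_map_eq_zero]
    intro x hx
    obtain ⟨r, rfl⟩ := Ideal.Quotient.mk_surjective x
    rw [Ideal.quotientMap_mk, Ideal.Quotient.eq_zero_iff_mem] at hx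
    apply hb.1
    rw [map_zero, TensorProduct.mk_apply, hone, TensorProduct.tmul_smul, TensorProduct.smul_tmul',
      Algebra.smul_def, mul_one]
    exact tmul_eq_zero_of_mem_map hx hkill
  · intro y
    obtain ⟨s, rfl⟩ := Ideal.Quotient.mk_surjective y
    obtain ⟨x, hx⟩ := hb.2 (s ⊗ₜ[R] (1 : R ⧸ J))
    obtain ⟨r, rfl⟩ := Ideal.Quotient.mk_surjective x
    refine ⟨Ideal.Quotient.mk J r, ?_⟩
    rw [Ideal.quotientMap_mk, Ideal.Quotient.eq]
    have h1 := congrArg (TensorProduct.tensorQuotEquivQuotSMul S J) hx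
    rw [TensorProduct.mk_apply, ← map_one (Ideal.Quotient.mk J),
      TensorProduct.tensorQuotEquivQuotSMul_tmul_mk,
      TensorProduct.tensorQuotEquivQuotSMul_tmul_mk, Submodule.Quotient.eq,
      Ideal.smul_top_eq_map, Submodule.restrictScalars_mem, one_smul, Algebra.smul_def,
      mul_one] at h1
    exact h1

theorem quotientMap_pow_bijective [Module.Flat R S] {I : Ideal R}
    (hq : Function.Bijective
      (Ideal.quotientMap (I.map (algebraMap R S)) (algebraMap R S) Ideal.le_comap_map)) (k : ℕ) :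
    Function.Bijective
      (Ideal.quotientMap ((I ^ k).map (algebraMap R S)) (algebraMap R S) Ideal.le_comap_map) := by
  apply quotientMap_bijective_of_mk_bijective
  apply mk_bijective_of_torsion hq
  intro m
  refine ⟨k, fun a ha => ?_⟩
  rw [Algebra.smul_def, Ideal.Quotient.algebraMap_eq, Ideal.Quotient.eq_zero_iff_mem.mpr ha,
    zero_mul]

/-- For an `S`-module `Q` which is `I`-power torsion, the multiplication `S ⊗_R Q → Q` is bijective. -/
theorem mult_bijective [Module.Flat R S] {I : Ideal R}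
    (hq : Function.Bijective
      (Ideal.quotientMap (I.map (algebraMap R S)) (algebraMap R S) Ideal.le_comap_map))
    {Q : Type u} [AddCommGroup Q] [Module R Q] [Module S Q] [IsScalarTower R S Q]
    (hQ : ∀ m : Q, ∃ n : ℕ, ∀ a ∈ I ^ n, a • m = 0) :
    Function.Bijective (LinearMap.liftBaseChange S (LinearMap.id : Q →ₗ[R] Q)) := by
  have hb := mk_bijective_of_torsion hq hQ
  have hleft : ∀ q : Q, LinearMap.liftBaseChange S (LinearMap.id : Q →ₗ[R] Q)
      (TensorProduct.mk R S Q 1 q) = q := by
    intro q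
    simp
  constructor
  · intro a b hab
    obtain ⟨a', rfl⟩ := hb.2 a
    obtain ⟨b', rfl⟩ := hb.2 b
    rw [hleft, hleft] at hab
    rw [hab]
  · intro q
    exact ⟨_, hleft q⟩

end Helper23.FG
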