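import Groth.Agent.Lib.Helper23.FormalGlue
import Groth.Agent.Lib.Helper23.BLGlue
import Mathlib.LinearAlgebra.TensorProduct.Pi
import Mathlib.RingTheory.Finiteness.Ideal
import Mathlib.RingTheory.Flat.Basic

/-!
# The glueing complex for a flat map `R → S` with `R/I ≅ S/IS`, `I = (f_1, …, f_t)`
-/

universe u
open TensorProduct

namespace Helper23.FG

variable {R S : Type u} [CommRing R] [CommRing S] [Algebra R S] {I : Ideal R}

/-- The `I`-power torsion submodule. -/
def torsI (I : Ideal R) (M : Type u) [AddCommGroup M] [Module R M] : Submodule R M where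
  carrier := {m | ∃ n : ℕ, ∀ a ∈ I ^ n, a • m = 0}
  zero_mem' := ⟨0, fun a _ => smul_zero a⟩
  add_mem' := by
    rintro x y ⟨n, hn⟩ ⟨k, hk⟩
    refine ⟨n + k, fun a ha => ?_⟩
    rw [smul_add, hn a (Ideal.pow_le_pow_right (Nat.le_add_right n k) ha),
      hk a (Ideal.pow_le_pow_right (Nat.le_add_left k n) ha), add_zero]
  smul_mem' := by
    rintro c x ⟨n, hn⟩
    exact ⟨n, fun a ha => by rw [smul_comm, hn a ha, smul_zero]⟩

theorem mem_torsI {M : Type u} [AddCommGroup M] [Module R M] {m : M} :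
    m ∈ torsI I M ↔ ∃ n : ℕ, ∀ a ∈ I ^ n, a • m = 0 := Iff.rfl

theorem mem_torsI_of_pow_smul {t : ℕ} (f : Fin t → R) (hI : Ideal.span (Set.range f) = I)
    {M : Type u} [AddCommGroup M] [Module R M] (m : M) (h : ∀ i, ∃ k : ℕ, f i ^ k • m = 0) :
    m ∈ torsI I M := by
  have hle : I ≤ (Ideal.torsionOf R M m).radical := by
    rw [← hI, Ideal.span_le]
    rintro _ ⟨i, rfl⟩
    obtain ⟨k, hk⟩ := h i
    exact ⟨k, (Ideal.mem_torsionOf_iff _ _).mpr hk⟩
  have hfg : I.FG := by
    rw [← hI]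
    exact Submodule.fg_span (Set.finite_range f)
  obtain ⟨n, hn⟩ := Ideal.exists_pow_le_of_le_radical_of_fg hle hfg
  exact ⟨n, fun a ha => (Ideal.mem_torsionOf_iff _ _).mp (hn ha)⟩

section flat

variable [Module.Flat R S]
variable (hq : Function.Bijective
  (Ideal.quotientMap (I.map (algebraMap R S)) (algebraMap R S) Ideal.le_comap_map))
variable {M : Type u} [AddCommGroup M] [Module R M]

include hq in
theorem torsI_mk_bijective : Function.Bijective (TensorProduct.mk R S (torsI I M) 1) :=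
  mk_bijective_of_torsion hq (fun ⟨_, n, hn⟩ => ⟨n, fun a ha => Subtype.ext (hn a ha)⟩)

include hq in
theorem eq_zero_of_mem_torsI_of_tmul_eq_zero (τ : M) (hτ : τ ∈ torsI I M)
    (h : (1 : S) ⊗ₜ[R] τ = 0) : τ = 0 := by
  have hinj : Function.Injective ((torsI I M).subtype.lTensor S) :=
    Module.Flat.lTensor_preserves_injective_linearMap _ (Submodule.injective_subtype _)
  have h1 : (torsI I M).subtype.lTensor S ((1 : S) ⊗ₜ[R] (⟨τ, hτ⟩ : torsI I M)) = 0 := by
    rw [LinearMap.lTensor_tmul]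
    exact h
  have h2 : (1 : S) ⊗ₜ[R] (⟨τ, hτ⟩ : torsI I M) = 0 := hinj (h1.trans (map_zero _).symm)
  have h3 : (⟨τ, hτ⟩ : torsI I M) = 0 :=
    (torsI_mk_bijective hq).1 (h2.trans (map_zero (TensorProduct.mk R S (torsI I M) 1)).symm)
  exact congrArg Subtype.val h3

include hq in
theorem exists_of_mem_range_lTensor_torsI (z : S ⊗[R] M)
    (hz : z ∈ LinearMap.range ((torsI I M).subtype.lTensor S)) :
    ∃ τ ∈ torsI I M, (1 : S) ⊗ₜ[R] τ = z := by
  obtain ⟨w, rfl⟩ := hz
  obtain ⟨τ, rfl⟩ := (torsI_mk_bijective hq).2 w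
  exact ⟨τ.1, τ.2, by simp⟩

end flat

section smulInj

variable {L : Type u} [AddCommGroup L] [Module R L]

theorem smul_lTensor_injective (r : R) (hr : IsUnit (algebraMap R (Module.End R L) r)) :
    Function.Injective (fun z : S ⊗[R] L => r • z) := by
  obtain ⟨u, hu⟩ := hr
  have huinv : ∀ y : L, (↑u⁻¹ : Module.End R L) (r • y) = y := by
    intro y
    have h1 : r • y = (↑u : Module.End R L) y := by rw [hu]; rfl
    rw [h1, ← Module.End.mul_apply, Units.inv_mul, Module.End.one_apply]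
  have key : ∀ z : S ⊗[R] L, (↑u⁻¹ : Module.End R L).lTensor S (r • z) = z := by
    intro z
    induction z using TensorProduct.induction_on with
    | zero => simp
    | tmul s y => rw [← TensorProduct.tmul_smul, LinearMap.lTensor_tmul, huinv]
    | add a b ha hb => rw [smul_add, map_add, ha, hb]
  intro z1 z2 h
  rw [← key z1, ← key z2]
  exact congrArg _ h

end smulInj

section pi

variable {t : ℕ} (f : Fin t → R) (M : Type u) [AddCommGroup M] [Module R M]

/-- `M → ∏ M_{f_i}`. -/
noncomputable def rho : M →ₗ[R] (∀ i : Fin t, LocalizedModule (Submonoid.powers (f i)) M) :=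
  LinearMap.pi fun i => LocalizedModule.mkLinearMap (Submonoid.powers (f i)) M

theorem rho_apply (m : M) (i : Fin t) :
    rho f M m i = LocalizedModule.mkLinearMap (Submonoid.powers (f i)) M m := rfl

theorem ker_rho_le (hI : Ideal.span (Set.range f) = I) : LinearMap.ker (rho f M) ≤ torsI I M := by
  intro m hm
  apply mem_torsI_of_pow_smul f hI
  intro i
  have : LocalizedModule.mkLinearMap (Submonoid.powers (f i)) M m = 0 :=
    congrFun (LinearMap.mem_ker.mp hm) i
  exact (BL.mkLinearMap_eq_zero_iff m).mp this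

theorem piRight_apply_eq (z : S ⊗[R] (∀ i : Fin t, LocalizedModule (Submonoid.powers (f i)) M))
    (i : Fin t) :
    TensorProduct.piRight R R S (fun i : Fin t => LocalizedModule (Submonoid.powers (f i)) M) z i =
      (LinearMap.proj i).lTensor S z := by
  induction z using TensorProduct.induction_on with
  | zero => simp
  | tmul s y => simp
  | add a b ha hb => simp only [map_add, Pi.add_apply, ha, hb]

variable {M}

theorem exists_pow_smul_mem_range_rho (N : ℕ) (m : Fin t → M)
    (H2 : ∀ i j : Fin t, ∃ e : ℕ, (f i * f j) ^ e • (f j ^ N • m i - f i ^ N • m j) = 0)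
    (i : Fin t) :
    ∃ k : ℕ, f i ^ k • (fun j => LocalizedModule.mk (m j)
      ⟨f j ^ N, Submonoid.pow_mem _ (Submonoid.mem_powers (f j)) N⟩ :
        ∀ j : Fin t, LocalizedModule (Submonoid.powers (f j)) M) ∈ LinearMap.range (rho f M) := by
  choose e he using H2
  let E := ∑ j, e i j
  refine ⟨N + E, f i ^ E • m i, ?_⟩
  funext j
  rw [rho_apply, LocalizedModule.mkLinearMap_apply, Pi.smul_apply, LocalizedModule.smul'_mk,
    LocalizedModule.mk_eq]
  have hle : e i j ≤ E := Finset.single_le_sum (f := fun j => e i j) (fun _ _ => Nat.zero_le _)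
    (Finset.mem_univ j)
  refine ⟨⟨f j ^ e i j, e i j, rfl⟩, ?_⟩
  have h0 := he i j
  rw [smul_sub, sub_eq_zero, smul_smul, smul_smul] at h0
  have h1 := congrArg (fun y => f i ^ (E - e i j) • y) h0
  simp only [smul_smul] at h1
  simp only [Submonoid.smul_def, Submonoid.coe_one, one_smul, smul_smul]
  have hE : f i ^ E = f i ^ (E - e i j) * f i ^ e i j := by
    rw [← pow_add, Nat.sub_add_cancel hle]
  have e1 : f j ^ e i j * (f j ^ N * f i ^ E) =
      f i ^ (E - e i j) * ((f i * f j) ^ e i j * f j ^ N) := by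
    rw [hE]; ring
  have e2 : f j ^ e i j * f i ^ (N + E) =
      f i ^ (E - e i j) * ((f i * f j) ^ e i j * f i ^ N) := by
    rw [pow_add, hE]; ring
  rw [e1, e2]
  exact h1

theorem lTensor_rho_eq (x : S ⊗[R] M) (N : ℕ) (m : Fin t → M)
    (H1 : ∀ i, ∃ c : ℕ, f i ^ c • f i ^ N • x = f i ^ c • ((1 : S) ⊗ₜ[R] m i)) :
    (rho f M).lTensor S x = (1 : S) ⊗ₜ[R] (fun j => LocalizedModule.mk (m j)
      ⟨f j ^ N, Submonoid.pow_mem _ (Submonoid.mem_powers (f j)) N⟩ :
        ∀ j : Fin t, LocalizedModule (Submonoid.powers (f j)) M) := by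
  apply (TensorProduct.piRight R R S
    (fun i : Fin t => LocalizedModule (Submonoid.powers (f i)) M)).injective
  funext i
  rw [piRight_apply_eq, piRight_apply_eq, ← LinearMap.comp_apply, ← LinearMap.lTensor_comp,
    LinearMap.lTensor_tmul]
  have hproj : LinearMap.proj i ∘ₗ rho f M =
      LocalizedModule.mkLinearMap (Submonoid.powers (f i)) M := rfl
  rw [hproj, LinearMap.proj_apply]
  obtain ⟨c, hc⟩ := H1 i
  apply smul_lTensor_injective (f i ^ (c + N))
    (IsLocalizedModule.map_units (LocalizedModule.mkLinearMap (Submonoid.powers (f i)) M)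
      (⟨f i ^ (c + N), c + N, rfl⟩ : Submonoid.powers (f i)))
  show f i ^ (c + N) • _ = f i ^ (c + N) • _
  rw [← map_smul, pow_add, mul_smul, hc, map_smul, LinearMap.lTensor_tmul,
    LocalizedModule.mkLinearMap_apply, ← TensorProduct.tmul_smul,
    ← TensorProduct.tmul_smul, LocalizedModule.smul'_mk, LocalizedModule.smul'_mk]
  congr 1
  rw [LocalizedModule.mk_eq]
  refine ⟨1, ?_⟩
  simp only [Submonoid.smul_def, Submonoid.coe_one, one_smul, smul_smul]
  rw [mul_comm]

end pi

section main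

variable [Module.Flat R S] {t : ℕ} (f : Fin t → R) (hI : Ideal.span (Set.range f) = I)
variable (hq : Function.Bijective
  (Ideal.quotientMap (I.map (algebraMap R S)) (algebraMap R S) Ideal.le_comap_map))
variable {M : Type u} [AddCommGroup M] [Module R M]

include hI hq in
theorem eq_zero_of_rho_eq_zero (m : M) (h1 : (1 : S) ⊗ₜ[R] m = 0) (h2 : rho f M m = 0) : m = 0 :=
  eq_zero_of_mem_torsI_of_tmul_eq_zero hq m (ker_rho_le f M hI (LinearMap.mem_ker.mpr h2)) h1

include hI hq in
theorem exists_glue (x : S ⊗[R] M) (N : ℕ) (m : Fin t → M)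
    (H1 : ∀ i, ∃ c : ℕ, f i ^ c • f i ^ N • x = f i ^ c • ((1 : S) ⊗ₜ[R] m i))
    (H2 : ∀ i j : Fin t, ∃ e : ℕ, (f i * f j) ^ e • (f j ^ N • m i - f i ^ N • m j) = 0) :
    ∃ μ : M, (1 : S) ⊗ₜ[R] μ = x ∧ rho f M μ = (fun j => LocalizedModule.mk (m j)
      ⟨f j ^ N, Submonoid.pow_mem _ (Submonoid.mem_powers (f j)) N⟩ :
        ∀ j : Fin t, LocalizedModule (Submonoid.powers (f j)) M) := by
  set h : ∀ j : Fin t, LocalizedModule (Submonoid.powers (f j)) M := fun j =>
    LocalizedModule.mk (m j) ⟨f j ^ N, Submonoid.pow_mem _ (Submonoid.mem_powers (f j)) N⟩ with hh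
  have hE : (rho f M).lTensor S x = (1 : S) ⊗ₜ[R] h := lTensor_rho_eq f x N m H1
  -- the class of `h` in the cokernel is torsion and dies in `S ⊗ -`
  have hQt : (LinearMap.range (rho f M)).mkQ h ∈
      torsI I ((∀ j : Fin t, LocalizedModule (Submonoid.powers (f j)) M) ⧸
        LinearMap.range (rho f M)) := by
    apply mem_torsI_of_pow_smul f hI
    intro i
    obtain ⟨k, hk⟩ := exists_pow_smul_mem_range_rho f N m H2 i
    exact ⟨k, by rw [← map_smul, Submodule.mkQ_apply, Submodule.Quotient.mk_eq_zero]; exact hk⟩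
  have hQ0 : (1 : S) ⊗ₜ[R] ((LinearMap.range (rho f M)).mkQ h) = 0 := by
    have : (LinearMap.range (rho f M)).mkQ.lTensor S ((rho f M).lTensor S x) = 0 := by
      rw [← LinearMap.comp_apply, ← LinearMap.lTensor_comp, LinearMap.range_mkQ_comp,
        LinearMap.lTensor_zero, LinearMap.zero_apply]
    rw [hE, LinearMap.lTensor_tmul] at this
    exact this
  have hh0 := eq_zero_of_mem_torsI_of_tmul_eq_zero hq _ hQt hQ0
  rw [Submodule.mkQ_apply, Submodule.Quotient.mk_eq_zero] at hh0
  obtain ⟨μ0, hμ0⟩ := hh0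
  -- correct by a torsion element
  have hz : (rho f M).lTensor S (x - (1 : S) ⊗ₜ[R] μ0) = 0 := by
    rw [map_sub, hE, LinearMap.lTensor_tmul, hμ0, sub_self]
  have hex := Module.Flat.lTensor_exact S (LinearMap.exact_subtype_ker_map (rho f M))
  obtain ⟨w, hw⟩ := (hex _).mp hz
  have hbij : Function.Bijective (TensorProduct.mk R S (LinearMap.ker (rho f M)) 1) :=
    mk_bijective_of_torsion hq (fun κ => by
      obtain ⟨n, hn⟩ := ker_rho_le f M hI κ.2
      exact ⟨n, fun a ha => Subtype.ext (hn a ha)⟩)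
  obtain ⟨κ, rfl⟩ := hbij.2 w
  refine ⟨μ0 + κ.1, ?_, ?_⟩
  · have : (1 : S) ⊗ₜ[R] (κ : M) = x - (1 : S) ⊗ₜ[R] μ0 := by
      rw [← hw]; simp
    rw [TensorProduct.tmul_add, this, add_sub_cancel]
  · rw [map_add, hμ0, LinearMap.mem_ker.mp κ.2, add_zero]

end main

end Helper23.FG
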