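import Mathlib

set_option autoImplicit false

namespace Helper23.FundCycle

open Matrix

variable {r : ℕ} (A : Matrix (Fin r) (Fin r) ℤ)

/-- The admissible vectors. -/
def P (z : Fin r → ℤ) : Prop := (∀ i, 1 ≤ z i) ∧ (∀ i, A.mulVec z i ≤ 0)

theorem pos_of_neg (hoff : ∀ i j, i ≠ j → 0 ≤ A i j)
    (hneg : ∀ a : Fin r → ℤ, a ≠ 0 → a ⬝ᵥ A.mulVec a < 0)
    (z : Fin r → ℤ) (hz : ∀ i, A.mulVec z i ≤ -1) : ∀ i, 1 ≤ z i := by
  set zm : Fin r → ℤ := fun i => max (-z i) 0 with hzm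
  set zp : Fin r → ℤ := fun i => max (z i) 0 with hzp
  have hzsub : z = zp - zm := by
    funext i
    simp only [hzm, hzp, Pi.sub_apply]
    rcases le_total (z i) 0 with h | h
    · rw [max_eq_right h, max_eq_left (by omega)]; omega
    · rw [max_eq_left h, max_eq_right (by omega)]; omega
  have hzm0 : ∀ i, 0 ≤ zm i := fun i => le_max_right _ _
  have hzp0 : ∀ i, 0 ≤ zp i := fun i => le_max_right _ _
  have hmp : ∀ i, zm i * zp i = 0 := by
    intro i
    simp only [hzm, hzp]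
    rcases le_total (z i) 0 with h | h
    · rw [max_eq_right h (a := z i)]; ring
    · rw [max_eq_right (by omega : -z i ≤ 0)]; ring
  have h1 : zm ⬝ᵥ A.mulVec z ≤ 0 := by
    simp only [dotProduct]
    apply Finset.sum_nonpos
    intro i _
    have := hz i
    nlinarith [hzm0 i]
  have h2 : 0 ≤ zm ⬝ᵥ A.mulVec zp := by
    simp only [dotProduct, mulVec]
    apply Finset.sum_nonneg
    intro i _
    rw [Finset.mul_sum]
    apply Finset.sum_nonneg
    intro j _
    by_cases hij : i = j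
    · subst hij
      have : zm i * (A i i * zp i) = A i i * (zm i * zp i) := by ring
      rw [this, hmp i, mul_zero]
    · have := hoff i j hij
      have := hzm0 i
      have := hzp0 j
      positivity
  have h3 : zm ⬝ᵥ A.mulVec z = zm ⬝ᵥ A.mulVec zp - zm ⬝ᵥ A.mulVec zm := by
    conv_lhs => rw [hzsub]
    rw [mulVec_sub, dotProduct_sub]
  have hzm_zero : zm = 0 := by
    by_contra hne
    have := hneg zm hne
    omega
  have hz0 : ∀ i, 0 ≤ z i := by
    intro i
    have := congrFun hzm_zero i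
    simp only [hzm, Pi.zero_apply] at this
    have h4 : -z i ≤ max (-z i) 0 := le_max_left _ _
    omega
  intro i
  by_contra hlt
  have hzi : z i = 0 := by have := hz0 i; omega
  have h5 : 0 ≤ A.mulVec z i := by
    simp only [mulVec, dotProduct]
    apply Finset.sum_nonneg
    intro j _
    by_cases hij : i = j
    · subst hij; rw [hzi, mul_zero]
    · exact mul_nonneg (hoff i j hij) (hz0 j)
  have := hz i
  omega

theorem exists_P (hoff : ∀ i j, i ≠ j → 0 ≤ A i j)
    (hneg : ∀ a : Fin r → ℤ, a ≠ 0 → a ⬝ᵥ A.mulVec a < 0) : ∃ z, P A z := by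
  have hdet : A.det ≠ 0 := by
    intro h0
    obtain ⟨v, hv, hAv⟩ := (Matrix.exists_mulVec_eq_zero_iff (M := A)).mpr h0
    have := hneg v hv
    rw [hAv, dotProduct_zero] at this
    exact lt_irrefl _ this
  set z₀ : Fin r → ℤ := A.adjugate.mulVec 1 with hz₀
  have hAz₀ : A.mulVec z₀ = fun _ => A.det := by
    rw [hz₀, mulVec_mulVec, mul_adjugate]
    funext i
    simp [mulVec, dotProduct, Matrix.smul_apply, Matrix.one_apply]
  rcases lt_or_gt_of_ne hdet with hd | hd
  · have hz : ∀ i, A.mulVec z₀ i ≤ -1 := fun i => by rw [hAz₀]; show A.det ≤ -1; omega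
    exact ⟨z₀, pos_of_neg A hoff hneg z₀ hz, fun i => by have := hz i; omega⟩
  · have hz : ∀ i, A.mulVec (-z₀) i ≤ -1 := fun i => by
      rw [mulVec_neg, Pi.neg_apply, hAz₀]; show -A.det ≤ -1; omega
    exact ⟨-z₀, pos_of_neg A hoff hneg _ hz, fun i => by have := hz i; omega⟩

theorem P_inf (hoff : ∀ i j, i ≠ j → 0 ≤ A i j) {z z' : Fin r → ℤ} (hz : P A z) (hz' : P A z') :
    P A (z ⊓ z') := by
  refine ⟨fun i => le_inf (hz.1 i) (hz'.1 i), fun i => ?_⟩
  have key : ∀ (w : Fin r → ℤ), P A w → (z ⊓ z') i = w i → (∀ j, (z ⊓ z') j ≤ w j) →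
      A.mulVec (z ⊓ z') i ≤ 0 := by
    intro w hw hwi hle
    refine le_trans ?_ (hw.2 i)
    simp only [mulVec, dotProduct]
    apply Finset.sum_le_sum
    intro j _
    by_cases hij : i = j
    · subst hij; rw [hwi]
    · exact mul_le_mul_of_nonneg_left (hle j) (hoff i j hij)
  rcases le_total (z i) (z' i) with h | h
  · exact key z hz (by simp [h]) (fun j => inf_le_left)
  · exact key z' hz' (by simp [h]) (fun j => inf_le_right)

theorem exists_least (hoff : ∀ i j, i ≠ j → 0 ≤ A i j)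
    (hneg : ∀ a : Fin r → ℤ, a ≠ 0 → a ⬝ᵥ A.mulVec a < 0) :
    ∃ z, P A z ∧ ∀ z', P A z' → ∀ i, z i ≤ z' i := by
  classical
  obtain ⟨z₁, hz₁⟩ := exists_P A hoff hneg
  have hex : ∃ k : ℕ, ∃ z, P A z ∧ (∑ i, z i).toNat = k := ⟨_, z₁, hz₁, rfl⟩
  obtain ⟨z, hz, hzk⟩ := Nat.find_spec hex
  refine ⟨z, hz, fun z' hz' => ?_⟩
  have hw := P_inf A hoff hz hz'
  have hmin := Nat.find_min' hex ⟨z ⊓ z', hw, rfl⟩
  rw [← hzk] at hmin
  have hnn : 0 ≤ ∑ i, (z ⊓ z') i := Finset.sum_nonneg fun i _ => by have := hw.1 i; omega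
  have hle : ∑ i, (z ⊓ z') i ≤ ∑ i, z i := Finset.sum_le_sum fun i _ => inf_le_left
  have heq : ∑ i, (z ⊓ z') i = ∑ i, z i := by omega
  have := (Finset.sum_eq_sum_iff_of_le (fun i _ => (inf_le_left : (z ⊓ z') i ≤ z i))).mp heq
  intro i
  have h1 := this i (Finset.mem_univ i)
  have h2 : (z ⊓ z') i ≤ z' i := inf_le_right
  omega

end Helper23.FundCycle
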