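import Mathlib

set_option autoImplicit false
open Polynomial DividedPowerAlgebra

namespace Helper23.GammaEsymm

section General

variable {A M B ι : Type*} [CommRing A] [AddCommGroup M] [Module A M] [CommRing B] [Algebra A B]
  [Fintype ι]

/-- generating polynomial `∏ (1 + z_i(m) X)`. -/
noncomputable def Q (z : ι → M →ₗ[A] B) (m : M) : B[X] := ∏ i, (1 + C (z i m) * X)

theorem Q_add (z : ι → M →ₗ[A] B) (hz : ∀ i u v, z i u * z i v = 0) (u v : M) :
    Q z (u + v) = Q z u * Q z v := by
  unfold Q
  rw [← Finset.prod_mul_distrib]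
  refine Finset.prod_congr rfl fun i _ => ?_
  have h : C (z i u) * C (z i v) = 0 := by rw [← C_mul, hz, C_0]
  rw [map_add, C_add]
  linear_combination (-(X : B[X]) ^ 2) * h

theorem Q_smul (z : ι → M →ₗ[A] B) (r : A) (m : M) :
    Q z (r • m) = (Q z m).comp (C (algebraMap A B r) * X) := by
  unfold Q
  rw [prod_comp]
  refine Finset.prod_congr rfl fun i _ => ?_
  simp only [map_smul, Algebra.smul_def, add_comp, one_comp, mul_comp, C_comp, X_comp, C_mul]
  ring

theorem Q_coeff_zero (z : ι → M →ₗ[A] B) (m : M) : (Q z m).coeff 0 = 1 := by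
  unfold Q
  rw [coeff_zero_prod]
  simp

theorem coeff_mul_succ (c : B) (P : B[X]) (n : ℕ) :
    (P * (1 + C c * X)).coeff (n + 1) = P.coeff (n + 1) + c * P.coeff n := by
  rw [mul_add, mul_one, ← mul_assoc, coeff_add, coeff_mul_X, coeff_mul_C, mul_comm]

theorem coeff_mul_zero' (c : B) (P : B[X]) :
    (P * (1 + C c * X)).coeff 0 = P.coeff 0 := by
  rw [mul_add, mul_one, ← mul_assoc, coeff_add, coeff_mul_X_zero, add_zero]

omit [Fintype ι] [Algebra A B] in
theorem prod_coeff_zero (c : ι → B) (s : Finset ι) :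
    (∏ i ∈ s, (1 + C (c i) * X)).coeff 0 = 1 := by
  rw [coeff_zero_prod]
  simp

theorem coeff_mul_coeff (c : ι → B) (hc : ∀ i, c i * c i = 0) (s : Finset ι) : ∀ n p : ℕ,
    (∏ i ∈ s, (1 + C (c i) * X)).coeff n * (∏ i ∈ s, (1 + C (c i) * X)).coeff p =
      ((n + p).choose n : B) * (∏ i ∈ s, (1 + C (c i) * X)).coeff (n + p) := by
  classical
  induction s using Finset.induction_on with
  | empty =>
    intro n p
    simp only [Finset.prod_empty, coeff_one]
    by_cases hn : n = 0
    · subst hn; simp
    · have : ¬ (n + p = 0) := by omega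
      simp [hn, this]
  | insert i s hi ih =>
    intro n p
    rw [Finset.prod_insert hi, mul_comm (1 + C (c i) * X)]
    set P := ∏ i ∈ s, (1 + C (c i) * X) with hP
    have h0 : P.coeff 0 = 1 := prod_coeff_zero c s
    rcases n with _ | n
    · simp [coeff_mul_zero', h0]
    rcases p with _ | p
    · simp [coeff_mul_zero', h0]
    have e1 : n + 1 + (p + 1) = (n + p + 1) + 1 := by omega
    rw [e1, coeff_mul_succ, coeff_mul_succ, coeff_mul_succ]
    have ih1 := ih (n + 1) (p + 1)
    have ih2 := ih n (p + 1)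
    have ih3 := ih (n + 1) p
    have e2 : n + (p + 1) = n + p + 1 := by omega
    have e3 : n + 1 + p = n + p + 1 := by omega
    rw [e1] at ih1
    rw [e2] at ih2
    rw [e3] at ih3
    have hpas : ((n + p + 1 + 1).choose (n + 1) : B) =
        ((n + p + 1).choose n : B) + ((n + p + 1).choose (n + 1) : B) := by
      rw [Nat.choose_succ_succ, Nat.cast_add]
    linear_combination ih1 + c i * ih2 + c i * ih3 + P.coeff n * P.coeff p * hc i -
      c i * P.coeff (n + p + 1) * hpas

variable (z : ι → M →ₗ[A] B) (hz : ∀ i u v, z i u * z i v = 0)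

/-- The algebra map `Γ_A(M) → B` with `γ_n(m) ↦ e_n(z_i(m))`. -/
noncomputable def Φ : DividedPowerAlgebra A M →ₐ[A] B :=
  lift' (f := fun nm : ℕ × M => (Q z nm.2).coeff nm.1)
    (fun m => Q_coeff_zero z m)
    (fun n r m => by
      simp only
      rw [Q_smul, comp_C_mul_X_coeff, Algebra.smul_def, map_pow, mul_comm])
    (fun n p m => by
      simp only
      rw [nsmul_eq_mul]
      exact coeff_mul_coeff (fun i => z i m) (fun i => hz i m m) Finset.univ n p)
    (fun n u v => by
      simp only
      rw [Q_add z hz, coeff_mul])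

theorem Φ_dp (n : ℕ) (m : M) : Φ z hz (dp A n m) = (Q z m).coeff n := by
  unfold Φ
  rw [lift'_apply_dp]

end General


section Sq

variable (ι k : Type*) [Fintype ι] [CommRing k]

/-- the ideal `(X_i²)`. -/
noncomputable abbrev SqI : Ideal (MvPolynomial ι k) :=
  Ideal.span (Set.range fun i => (MvPolynomial.X i : MvPolynomial ι k) ^ 2)

/-- `k[ε_i]/(ε_i²)` -/
abbrev Sq := MvPolynomial ι k ⧸ SqI ι k

/-- the class of `X_i`. -/
noncomputable def ε (i : ι) : Sq ι k := Ideal.Quotient.mk _ (MvPolynomial.X i)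

theorem ε_mul_self (i : ι) : ε ι k i * ε ι k i = 0 := by
  unfold ε
  rw [← map_mul, ← pow_two]
  exact Ideal.Quotient.eq_zero_iff_mem.mpr (Ideal.subset_span ⟨i, rfl⟩)

theorem prod_ε_ne_zero [Nontrivial k] : ∏ i, ε ι k i ≠ 0 := by
  classical
  unfold ε
  rw [← map_prod]
  intro h
  rw [Ideal.Quotient.eq_zero_iff_mem] at h
  obtain ⟨c, hc⟩ := (Submodule.mem_span_range_iff_exists_fun _).mp h
  let μ : ι →₀ ℕ := ∑ i, Finsupp.single i 1
  have hμ : ∀ i, μ i = 1 := by
    intro i
    simp [μ, Finsupp.finset_sum_apply, Finsupp.single_apply]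
  have h1 := congrArg (MvPolynomial.coeff μ) hc
  have h2 : (∏ i, (MvPolynomial.X i : MvPolynomial ι k)) = MvPolynomial.monomial μ 1 := by
    rw [MvPolynomial.monomial_sum_one]
    rfl
  rw [h2, MvPolynomial.coeff_monomial, if_pos rfl, MvPolynomial.coeff_sum] at h1
  have h3 : ∀ i, MvPolynomial.coeff μ (c i • (MvPolynomial.X i : MvPolynomial ι k) ^ 2) = 0 := by
    intro i
    rw [smul_eq_mul, MvPolynomial.X_pow_eq_monomial, MvPolynomial.coeff_mul_monomial', if_neg]
    intro hle
    have := hle i
    rw [hμ, Finsupp.single_eq_same] at this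
    omega
  simp only [h3, Finset.sum_const_zero] at h1
  exact zero_ne_one h1

end Sq


section Apply

theorem natDegree_one_add_le {B : Type*} [CommRing B] (c : B) :
    (1 + C c * X : B[X]).natDegree ≤ 1 := by
  have : (1 + C c * X : B[X]) = C c * X + C 1 := by rw [C_1, add_comm]
  rw [this]
  exact natDegree_linear_le

theorem prod_coeff_one {B ι : Type*} [CommRing B] (c : ι → B) (s : Finset ι) :
    (∏ i ∈ s, (1 + C (c i) * X)).coeff 1 = ∑ i ∈ s, c i := by
  classical
  induction s using Finset.induction_on with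
  | empty => simp [coeff_one]
  | insert i s hi ih =>
    rw [Finset.prod_insert hi, Finset.sum_insert hi, mul_comm, coeff_mul_succ, ih,
      prod_coeff_zero, mul_one, add_comm]

variable {A M k B : Type*} [CommRing A] [AddCommGroup M] [Module A M] [Field k] [Algebra A k]
  [CommRing B] [Algebra k B] [Algebra A B] [IsScalarTower A k B]

/-- `m ↦ c(m) • e`. -/
noncomputable def zmap (c : M →ₗ[A] k) (e : B) : M →ₗ[A] B where
  toFun m := algebraMap k B (c m) * e
  map_add' := by intro x y; rw [map_add, map_add, add_mul]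
  map_smul' := by
    intro r x
    rw [map_smul, RingHom.id_apply, Algebra.smul_def, map_mul,
      ← IsScalarTower.algebraMap_apply, Algebra.smul_def, mul_assoc]

theorem zmap_apply (c : M →ₗ[A] k) (e : B) (m : M) : zmap c e m = algebraMap k B (c m) * e := rfl

end Apply


section Main

variable {A M k : Type*} [CommRing A] [AddCommGroup M] [Module A M] [Field k] [Algebra A k]
  [Fintype k]

theorem not_mem_span_of_small_field (d : ℕ) (hd : Fintype.card k < d) (ℓ₁ ℓ₂ : M →ₗ[A] k)
    (m1 m2 : M) (h11 : ℓ₁ m1 = 1) (h12 : ℓ₁ m2 = 0) (h21 : ℓ₂ m1 = 0) (h22 : ℓ₂ m2 = 1) :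
    dp A (d - 1) m1 * dp A 1 m2 ∉
      Submodule.span A (Set.range (dp A d : M → DividedPowerAlgebra A M)) := by
  classical
  let J := k ⊕ Fin (d - Fintype.card k - 1)
  have hJ : Fintype.card J = d - 1 := by
    simp only [J, Fintype.card_sum, Fintype.card_fin]; omega
  have hι : Fintype.card (Option J) = d := by
    rw [Fintype.card_option, hJ]; omega
  let B := Sq (Option J) k
  let c : Option J → (M →ₗ[A] k) := fun i =>
    match i with
    | none => ℓ₂
    | some (Sum.inl a) => ℓ₁ - a • ℓ₂
    | some (Sum.inr _) => ℓ₁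
  let z : Option J → (M →ₗ[A] B) := fun i => zmap (c i) (ε (Option J) k i)
  have hz : ∀ i u v, z i u * z i v = 0 := by
    intro i u v
    simp only [z, zmap_apply]
    rw [mul_mul_mul_comm, ε_mul_self, mul_zero]
  -- vanishing on d-th divided powers
  have hvan : ∀ m : M, Φ z hz (dp A d m) = 0 := by
    intro m
    rw [Φ_dp]
    obtain ⟨i₀, hi₀⟩ : ∃ i₀, c i₀ m = 0 := by
      by_cases hβ : ℓ₂ m = 0
      · exact ⟨none, hβ⟩
      · refine ⟨some (Sum.inl (ℓ₁ m / ℓ₂ m)), ?_⟩
        simp only [c, LinearMap.sub_apply, LinearMap.smul_apply, smul_eq_mul]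
        rw [div_mul_cancel₀ _ hβ, sub_self]
    have hz0 : z i₀ m = 0 := by simp only [z, zmap_apply, hi₀, map_zero, zero_mul]
    unfold Q
    rw [← Finset.mul_prod_erase Finset.univ _ (Finset.mem_univ i₀), hz0, C_0, zero_mul, add_zero,
      one_mul]
    apply coeff_eq_zero_of_natDegree_lt
    refine lt_of_le_of_lt (natDegree_prod_le _ _) ?_
    refine lt_of_le_of_lt (Finset.sum_le_sum fun i _ => natDegree_one_add_le _) ?_
    rw [Finset.sum_const, smul_eq_mul, mul_one, Finset.card_erase_of_mem (Finset.mem_univ _),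
      Finset.card_univ, hι]
    omega
  intro hmem
  have hker : Submodule.span A (Set.range (dp A d : M → DividedPowerAlgebra A M)) ≤
      LinearMap.ker (Φ z hz).toLinearMap := by
    apply Submodule.span_le.mpr
    rintro _ ⟨m, rfl⟩
    exact hvan m
  have h0 : Φ z hz (dp A (d - 1) m1 * dp A 1 m2) = 0 := hker hmem
  rw [map_mul, Φ_dp, Φ_dp] at h0
  -- first factor
  have hz1none : z none m1 = 0 := by simp only [z, zmap_apply, c, h21, map_zero, zero_mul]
  have hz1some : ∀ j : J, z (some j) m1 = ε (Option J) k (some j) := by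
    intro j
    rcases j with a | j
    · simp only [z, zmap_apply, c, LinearMap.sub_apply, LinearMap.smul_apply, h11, h21,
        smul_zero, sub_zero, map_one, one_mul]
    · simp only [z, zmap_apply, c, h11, map_one, one_mul]
  have hQ1 : (Q z m1).coeff (d - 1) = ∏ j : J, ε (Option J) k (some j) := by
    unfold Q
    rw [Fintype.prod_option, hz1none, C_0, zero_mul, add_zero, one_mul]
    have := coeff_prod_of_natDegree_le (s := (Finset.univ : Finset J))
      (fun j : J => (1 + C (z (some j) m1) * X : B[X])) 1 (fun j _ => natDegree_one_add_le _)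
    rw [Finset.card_univ, hJ, mul_one] at this
    rw [this]
    refine Finset.prod_congr rfl fun j _ => ?_
    rw [hz1some]
    simp [coeff_one]
  have hQ2 : (Q z m2).coeff 1 = ∑ i, z i m2 := prod_coeff_one _ _
  rw [hQ1, hQ2, Fintype.sum_option, mul_add] at h0
  have hz2none : z none m2 = ε (Option J) k none := by
    simp only [z, zmap_apply, c, h22, map_one, one_mul]
  have hsome : (∏ j : J, ε (Option J) k (some j)) * ∑ j : J, z (some j) m2 = 0 := by
    rw [Finset.mul_sum]
    refine Finset.sum_eq_zero fun j _ => ?_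
    rw [← Finset.mul_prod_erase Finset.univ _ (Finset.mem_univ j)]
    simp only [z, zmap_apply]
    have := ε_mul_self (Option J) k (some j)
    linear_combination (algebraMap k B ((c (some j)) m2) *
      ∏ x ∈ Finset.univ.erase j, ε (Option J) k (some x)) * this
  rw [hsome, add_zero, hz2none, mul_comm, ← Fintype.prod_option (fun i => ε (Option J) k i)] at h0
  exact prod_ε_ne_zero (Option J) k h0

end Main

end Helper23.GammaEsymm
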