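import Mathlib
import Groth.Agent.Lib.Helper23.GammaEsymm
import Groth.Agent.Lib.Helper23.Fitting8

set_option autoImplicit false
open TensorProduct

namespace Helper23.GammaEsymm

theorem exists_dual_pair {A M k : Type*} [CommRing A] [AddCommGroup M] [Module A M] [Field k]
    [Algebra A k] (h2 : 2 ≤ Module.finrank k (k ⊗[A] M)) :
    ∃ (m1 m2 : M) (ℓ₁ ℓ₂ : M →ₗ[A] k), ℓ₁ m1 = 1 ∧ ℓ₁ m2 = 0 ∧ ℓ₂ m1 = 0 ∧ ℓ₂ m2 = 1 := by
  classical
  let S : Set (k ⊗[A] M) := Set.range fun m : M => (1 : k) ⊗ₜ[A] m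
  have hS : Submodule.span k S = ⊤ := by
    have : S = TensorProduct.mk A k M 1 '' Set.univ := by
      rw [Set.image_univ]; rfl
    rw [this, ← Submodule.baseChange_span, Submodule.span_univ, Submodule.baseChange_top]
  obtain ⟨b, hbS, hbspan, hli⟩ := exists_linearIndependent k S
  have hbtop : ⊤ ≤ Submodule.span k (Set.range (Subtype.val : b → k ⊗[A] M)) := by
    rw [Subtype.range_coe, hbspan, hS]
  let bs : Module.Basis b k (k ⊗[A] M) := Module.Basis.mk hli hbtop
  have hcard : 2 ≤ Nat.card b := by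
    rw [← Module.finrank_eq_nat_card_basis bs]; exact h2
  have hfin : Finite b := Nat.finite_of_card_ne_zero (by omega)
  have hnt : Nontrivial b := Finite.one_lt_card_iff_nontrivial.mp (by omega)
  obtain ⟨v1, v2, hne⟩ := exists_pair_ne b
  obtain ⟨m1, hm1⟩ := hbS v1.2
  obtain ⟨m2, hm2⟩ := hbS v2.2
  have hb1 : bs v1 = (1 : k) ⊗ₜ[A] m1 := by rw [Module.Basis.mk_apply]; exact hm1.symm
  have hb2 : bs v2 = (1 : k) ⊗ₜ[A] m2 := by rw [Module.Basis.mk_apply]; exact hm2.symm
  refine ⟨m1, m2, ((bs.coord v1).restrictScalars A).comp (TensorProduct.mk A k M 1),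
    ((bs.coord v2).restrictScalars A).comp (TensorProduct.mk A k M 1), ?_, ?_, ?_, ?_⟩
  · simp only [LinearMap.comp_apply, LinearMap.restrictScalars_apply, TensorProduct.mk_apply]
    rw [← hb1, Module.Basis.coord_apply, Module.Basis.repr_self, Finsupp.single_eq_same]
  · simp only [LinearMap.comp_apply, LinearMap.restrictScalars_apply, TensorProduct.mk_apply]
    rw [← hb2, Module.Basis.coord_apply, Module.Basis.repr_self, Finsupp.single_eq_of_ne hne]
  · simp only [LinearMap.comp_apply, LinearMap.restrictScalars_apply, TensorProduct.mk_apply]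
    rw [← hb1, Module.Basis.coord_apply, Module.Basis.repr_self, Finsupp.single_eq_of_ne hne.symm]
  · simp only [LinearMap.comp_apply, LinearMap.restrictScalars_apply, TensorProduct.mk_apply]
    rw [← hb2, Module.Basis.coord_apply, Module.Basis.repr_self, Finsupp.single_eq_same]

end Helper23.GammaEsymm
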