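import Groth.Agent.S13389
import Mathlib

set_option autoImplicit false
universe u
open DividedPowerAlgebra

namespace Helper23.GammaSpan

open Groth.Agent.S13389 (W)

/-- adjugate extraction: if `P u ∈ W` componentwise then `det P • u j ∈ W`. -/
theorem det_smul_mem {A N : Type*} [CommRing A] [AddCommGroup N] [Module A N]
    (W : Submodule A N) {n : ℕ} (P : Matrix (Fin n) (Fin n) A) (u : Fin n → N)
    (h : ∀ i, ∑ j, P i j • u j ∈ W) : ∀ j, P.det • u j ∈ W := by
  intro j
  have key : P.det • u j = ∑ i, P.adjugate j i • ∑ l, P i l • u l := by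
    simp_rw [Finset.smul_sum, smul_smul]
    rw [Finset.sum_comm]
    simp_rw [← Finset.sum_smul]
    have h1 : ∀ l, ∑ i, P.adjugate j i * P i l = (P.det • (1 : Matrix (Fin n) (Fin n) A)) j l := by
      intro l
      rw [← Matrix.adjugate_mul, Matrix.mul_apply]
    simp_rw [h1, Matrix.smul_apply, Matrix.one_apply]
    simp
  rw [key]
  exact W.sum_mem fun i _ => W.smul_mem _ (h i)

variable {A M : Type u} [CommRing A] [AddCommGroup M] [Module A M]

theorem det_smul_dp_mul_dp_mem (e : ℕ) (v w : Fin (e + 1) → A) (x y : M) (j : Fin (e + 1)) :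
    (Matrix.projVandermonde v w).det • (dp A (j : ℕ) x * dp A (e - j) y) ∈ W A M e := by
  refine det_smul_mem (W A M e) (Matrix.projVandermonde v w)
    (fun j : Fin (e + 1) => dp A (j : ℕ) x * dp A (e - j) y) ?_ j
  intro i
  have hmem : dp A e (v i • x + w i • y) ∈ W A M e := Submodule.subset_span ⟨_, rfl⟩
  rw [dp_add, Finset.Nat.sum_antidiagonal_eq_sum_range_succ
    (fun a b => dp A a (v i • x) * dp A b (w i • y)),
    ← Fin.sum_univ_eq_sum_range (fun a => dp A a (v i • x) * dp A (e - a) (w i • y))] at hmem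
  convert hmem using 2 with l
  rw [dp_smul, dp_smul, Matrix.projVandermonde_apply, smul_mul_smul_comm, Fin.val_rev]
  congr 3
  omega


theorem exists_frac (p : Ideal A) [p.IsPrime] (z : p.ResidueField) :
    ∃ a s : A, s ∉ p ∧ z * algebraMap A p.ResidueField s = algebraMap A p.ResidueField a := by
  obtain ⟨x, rfl⟩ := IsLocalRing.residue_surjective z
  obtain ⟨a, ⟨s, hs⟩, rfl⟩ := IsLocalization.exists_mk'_eq p.primeCompl x
  refine ⟨a, s, hs, ?_⟩
  rw [IsScalarTower.algebraMap_apply A (Localization.AtPrime p) p.ResidueField,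
    IsScalarTower.algebraMap_apply A (Localization.AtPrime p) p.ResidueField,
    IsLocalRing.ResidueField.algebraMap_eq, ← map_mul]
  congr 1
  exact IsLocalization.mk'_spec _ a ⟨s, hs⟩

theorem exists_points (p : Ideal A) [p.IsPrime] (d : ℕ)
    (h : (d : Cardinal) ≤ Cardinal.mk p.ResidueField) :
    ∃ v w : Fin (d + 1) → A, ∀ i j, i ≠ j → v j * w i - v i * w j ∉ p := by
  classical
  obtain ⟨f⟩ : Nonempty (Fin d ↪ p.ResidueField) := by
    rw [← Cardinal.lift_mk_le', Cardinal.mk_fin, Cardinal.lift_natCast, Cardinal.lift_uzero]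
    exact h
  choose a s hs has using fun i => exists_frac p (f i)
  have hs0 : ∀ i, algebraMap A p.ResidueField (s i) ≠ 0 := fun i h0 =>
    hs i (Ideal.algebraMap_residueField_eq_zero.mp h0)
  have key : ∀ i j, i ≠ j → a j * s i - a i * s j ∉ p := by
    intro i j hij hmem
    apply hij
    apply f.injective
    have h0 := Ideal.algebraMap_residueField_eq_zero.mpr hmem
    rw [map_sub, map_mul, map_mul, ← has i, ← has j, sub_eq_zero] at h0
    have h1 : f j * (algebraMap A p.ResidueField (s j) * algebraMap A p.ResidueField (s i)) =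
        f i * (algebraMap A p.ResidueField (s j) * algebraMap A p.ResidueField (s i)) := by
      rw [← mul_assoc, h0]; ring
    exact (mul_right_cancel₀ (mul_ne_zero (hs0 j) (hs0 i)) h1).symm
  refine ⟨Fin.snoc a 1, Fin.snoc s 0, ?_⟩
  intro i j hij
  induction i using Fin.lastCases with
  | last =>
    induction j using Fin.lastCases with
    | last => exact absurd rfl hij
    | cast j =>
      simp only [Fin.snoc_last, Fin.snoc_castSucc, mul_zero, one_mul, zero_sub]
      exact fun hmem => hs j (by simpa using p.neg_mem hmem)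
  | cast i =>
    induction j using Fin.lastCases with
    | last =>
      simp only [Fin.snoc_last, Fin.snoc_castSucc, mul_zero, one_mul, sub_zero]
      exact hs i
    | cast j =>
      simp only [Fin.snoc_castSucc]
      exact key i j (fun h => hij (by rw [h]))

theorem det_not_mem (p : Ideal A) [p.IsPrime] {n : ℕ} (v w : Fin n → A)
    (hvw : ∀ i j, i ≠ j → v j * w i - v i * w j ∉ p) :
    (Matrix.projVandermonde v w).det ∉ p := by
  rw [Matrix.det_projVandermonde]
  intro hmem
  obtain ⟨i, _, hi⟩ := Ideal.IsPrime.prod_mem_iff.mp hmem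
  obtain ⟨j, hj, hij⟩ := Ideal.IsPrime.prod_mem_iff.mp hi
  exact hvw i j (ne_of_lt (Finset.mem_Ioi.mp hj)) hij


/-- local-global principle for membership in a submodule. -/
theorem mem_of_local {N : Type*} [AddCommGroup N] [Module A N] (W : Submodule A N) (g : N)
    (h : ∀ p : Ideal A, p.IsPrime → ∃ t, t ∉ p ∧ t • g ∈ W) : g ∈ W := by
  let I : Ideal A := W.comap (LinearMap.toSpanSingleton A N g)
  have hI : I = ⊤ := by
    by_contra hne
    obtain ⟨P, hP, hIP⟩ := Ideal.exists_le_maximal I hne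
    obtain ⟨t, ht, htg⟩ := h P hP.isPrime
    exact ht (hIP (by simpa [I] using htg))
  have h1 : (1 : A) ∈ I := by rw [hI]; trivial
  simpa [I] using h1

theorem exists_smul_dp_mul_dp_mem (p : Ideal A) [p.IsPrime] (d : ℕ) (v w : Fin (d + 1) → A)
    (hvw : ∀ i j, i ≠ j → v j * w i - v i * w j ∉ p) (e : ℕ) (he : e ≤ d) :
    ∃ t, t ∉ p ∧ ∀ (x y : M) (j : ℕ), j ≤ e → t • (dp A j x * dp A (e - j) y) ∈ W A M e := by
  have hle : e + 1 ≤ d + 1 := by omega
  refine ⟨(Matrix.projVandermonde (v ∘ Fin.castLE hle) (w ∘ Fin.castLE hle)).det,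
    det_not_mem p _ _ ?_, ?_⟩
  · intro i j hij
    exact hvw _ _ (fun h => hij (Fin.castLE_injective hle h))
  · intro x y j hj
    exact det_smul_dp_mul_dp_mem e _ _ x y ⟨j, by omega⟩

theorem exists_smul_W_mul_dp_mem (p : Ideal A) [p.IsPrime] (d : ℕ) (v w : Fin (d + 1) → A)
    (hvw : ∀ i j, i ≠ j → v j * w i - v i * w j ∉ p) (a b : ℕ) (hab : a + b ≤ d) :
    ∃ t, t ∉ p ∧ ∀ (w₀ : DividedPowerAlgebra A M), w₀ ∈ W A M a → ∀ y : M,
      t • (w₀ * dp A b y) ∈ W A M (a + b) := by
  obtain ⟨t, ht, h⟩ := exists_smul_dp_mul_dp_mem (M := M) p d v w hvw (a + b) hab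
  refine ⟨t, ht, ?_⟩
  intro w₀ hw y
  unfold W at hw
  induction hw using Submodule.span_induction with
  | mem w hw =>
    obtain ⟨x, rfl⟩ := hw
    have := h x y a (Nat.le_add_right a b)
    rw [Nat.add_sub_cancel_left] at this
    exact this
  | zero => rw [zero_mul, smul_zero]; exact Submodule.zero_mem _
  | add w₁ w₂ _ _ h₁ h₂ => rw [add_mul, smul_add]; exact Submodule.add_mem _ h₁ h₂
  | smul r w _ h =>
    rw [smul_mul_assoc, smul_comm]; exact Submodule.smul_mem _ r h

theorem exists_smul_prod_dp_mem (p : Ideal A) [p.IsPrime] (d : ℕ) (v w : Fin (d + 1) → A)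
    (hvw : ∀ i j, i ≠ j → v j * w i - v i * w j ∉ p) :
    ∀ (n : ℕ) (k : Fin n → ℕ) (m : Fin n → M), (∑ i, k i) ≤ d →
      ∃ t, t ∉ p ∧ t • ∏ i, dp A (k i) (m i) ∈ W A M (∑ i, k i) := by
  intro n
  induction n with
  | zero =>
    intro k m _
    refine ⟨1, (Ideal.ne_top_iff_one p).mp (Ideal.IsPrime.ne_top inferInstance), ?_⟩
    simp only [Finset.univ_eq_empty, Finset.prod_empty, Finset.sum_empty, one_smul]
    have : (1 : DividedPowerAlgebra A M) = dp A 0 (0 : M) := dp_zero.symm
    rw [this]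
    exact Submodule.subset_span ⟨_, rfl⟩
  | succ n ih =>
    intro k m hk
    rw [Fin.prod_univ_castSucc, Fin.sum_univ_castSucc]
    rw [Fin.sum_univ_castSucc] at hk
    obtain ⟨t₁, ht₁, h₁⟩ := ih (fun i => k i.castSucc) (fun i => m i.castSucc) (by omega)
    obtain ⟨t₂, ht₂, h₂⟩ := exists_smul_W_mul_dp_mem (M := M) p d v w hvw _ _ hk
    refine ⟨t₂ * t₁, fun hmem => ?_, ?_⟩
    · rcases Ideal.IsPrime.mem_or_mem inferInstance hmem with h | h
      · exact ht₂ h
      · exact ht₁ h
    · have := h₂ _ h₁ (m (Fin.last n))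
      rwa [smul_mul_assoc, smul_smul] at this


theorem exists_smul_eq_of_cyclic (p : Ideal A) [p.IsPrime] (x : LocalizedModule p.primeCompl M)
    (hx : Submodule.span (Localization.AtPrime p) {x} = ⊤) :
    ∃ m₀ : M, ∀ m : M, ∃ s a : A, s ∉ p ∧ s • m = a • m₀ := by
  induction x using LocalizedModule.induction_on with
  | h m₀ s₀ =>
    refine ⟨m₀, fun m => ?_⟩
    have hm : LocalizedModule.mk m 1 ∈
        Submodule.span (Localization.AtPrime p) {LocalizedModule.mk m₀ s₀} := by
      rw [hx]; trivial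
    obtain ⟨c, hc⟩ := Submodule.mem_span_singleton.mp hm
    obtain ⟨a, t, rfl⟩ := IsLocalization.exists_mk'_eq p.primeCompl c
    rw [← Localization.mk_eq_mk', LocalizedModule.mk_smul_mk, LocalizedModule.mk_eq] at hc
    obtain ⟨u, hu⟩ := hc
    refine ⟨u * (t * s₀), u * a, ?_, ?_⟩
    · exact (u * (t * s₀)).2
    · simp only [Submonoid.smul_def, Submonoid.coe_mul, one_smul] at hu
      rw [mul_smul, mul_smul u.1 a, hu]

theorem prod_dp_same (x : M) : ∀ (n : ℕ) (k : Fin n → ℕ),
    ∏ i, dp A (k i) x ∈ Submodule.span A {dp A (∑ i, k i) x} := by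
  intro n
  induction n with
  | zero =>
    intro k
    simp only [Finset.univ_eq_empty, Finset.prod_empty, Finset.sum_empty, dp_zero]
    exact Submodule.mem_span_singleton_self _
  | succ n ih =>
    intro k
    rw [Fin.prod_univ_castSucc, Fin.sum_univ_castSucc]
    obtain ⟨c, hc⟩ := Submodule.mem_span_singleton.mp (ih (fun i => k i.castSucc))
    rw [← hc, smul_mul_assoc, dp_mul]
    exact Submodule.smul_mem _ _ (Submodule.smul_of_tower_mem _ _
      (Submodule.mem_span_singleton_self _))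

theorem exists_smul_prod_dp_mem_of_cyclic (p : Ideal A) [p.IsPrime] (m₀ : M)
    (h : ∀ m : M, ∃ s a : A, s ∉ p ∧ s • m = a • m₀) (n : ℕ) (k : Fin n → ℕ) (m : Fin n → M) :
    ∃ t, t ∉ p ∧ t • ∏ i, dp A (k i) (m i) ∈ W A M (∑ i, k i) := by
  choose s a hs hsa using h
  refine ⟨∏ i, s (m i) ^ k i, fun hmem => ?_, ?_⟩
  · obtain ⟨i, _, hi⟩ := Ideal.IsPrime.prod_mem_iff.mp hmem
    exact hs _ (Ideal.IsPrime.mem_of_pow_mem inferInstance _ hi)
  · rw [← Finset.prod_smul]
    simp_rw [← dp_smul, hsa, dp_smul]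
    rw [Finset.prod_smul]
    refine Submodule.smul_mem _ _ ?_
    have h1 := prod_dp_same (A := A) m₀ n k
    have h2 : Submodule.span A {dp A (∑ i, k i) m₀} ≤ W A M (∑ i, k i) :=
      Submodule.span_mono (by rintro _ rfl; exact ⟨m₀, rfl⟩)
    exact h2 h1

end Helper23.GammaSpan
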