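import Groth.Agent.Lib.Helper23.StalkLocal

/-!
# Finitely many germs are represented on a common etale neighbourhood; finite stalks lift additively
-/

set_option autoImplicit false
universe u

namespace Groth.Agent.Lib.Helper23.GermLift

open CategoryTheory CategoryTheory.Limits AlgebraicGeometry Opposite GrothendieckTopology
open Groth.Agent.Lib.Helper23.GenConst

variable {X : Scheme.{u}} {Ω : Type u} [Field Ω] [IsSepClosed Ω]
  (ξ : Spec (CommRingCat.of Ω) ⟶ X) (P : EtCoh.Ab X)

set_option backward.isDefEq.respectTransparency.types false in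
set_option backward.isDefEq.respectTransparency false in
/-- finitely many equalities of germs hold on a common smaller neighbourhood -/
lemma exists_refine_eq {I : Type*} [Finite I] (W : X.Etale)
    (w : (Scheme.pointSmallEtale ξ).fiber.obj W) (a b : I → P.obj.obj (op W))
    (h : ∀ i, (Scheme.pointSmallEtale ξ).toPresheafFiber W w P.obj (a i) =
      (Scheme.pointSmallEtale ξ).toPresheafFiber W w P.obj (b i)) :
    ∃ (W' : X.Etale) (g : W' ⟶ W) (w' : (Scheme.pointSmallEtale ξ).fiber.obj W'),
      (Scheme.pointSmallEtale ξ).fiber.map g w' = w ∧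
      ∀ i, P.obj.map g.op (a i) = P.obj.map g.op (b i) := by
  let Φ := Scheme.pointSmallEtale ξ
  induction I using Finite.induction_empty_option with
  | of_equiv e ih =>
    obtain ⟨W', g, w', hw', hg⟩ := ih (fun i => a (e i)) (fun i => b (e i)) (fun i => h (e i))
    refine ⟨W', g, w', hw', fun i => ?_⟩
    have := hg (e.symm i)
    rwa [e.apply_symm_apply] at this
  | h_empty => exact ⟨W, 𝟙 W, w, by rw [Φ.fiber.map_id]; rfl, fun i => i.elim⟩
  | h_option ih =>
    obtain ⟨W₁, g₁, w₁, hw₁, hg₁⟩ := ih (fun i => a (some i)) (fun i => b (some i))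
      (fun i => h (some i))
    have h0 : Φ.toPresheafFiber W₁ w₁ P.obj (P.obj.map g₁.op (a none)) =
        Φ.toPresheafFiber W₁ w₁ P.obj (P.obj.map g₁.op (b none)) := by
      rw [Φ.toPresheafFiber_w_apply, Φ.toPresheafFiber_w_apply, hw₁]
      exact h none
    rw [Φ.toPresheafFiber_eq_iff'] at h0
    obtain ⟨W₂, g₂, w₂, hw₂, hg₂⟩ := h0
    refine ⟨W₂, g₂ ≫ g₁, w₂, ?_, fun i => ?_⟩
    · rw [Φ.fiber.map_comp]
      change Φ.fiber.map g₁ (Φ.fiber.map g₂ w₂) = w
      rw [hw₂, hw₁]
    · rw [map_comp_apply, map_comp_apply]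
      cases i with
      | none => exact hg₂
      | some i => rw [hg₁ i]

set_option backward.isDefEq.respectTransparency.types false in
set_option backward.isDefEq.respectTransparency false in
/-- finitely many germs are represented by sections over a common neighbourhood -/
lemma exists_joint_lift {I : Type*} [Finite I]
    (z : I → ToType ((Scheme.pointSmallEtale ξ).presheafFiber.obj P.obj)) :
    ∃ (W : X.Etale) (w : (Scheme.pointSmallEtale ξ).fiber.obj W) (σ : I → P.obj.obj (op W)),
      ∀ i, (Scheme.pointSmallEtale ξ).toPresheafFiber W w P.obj (σ i) = z i := by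
  let Φ := Scheme.pointSmallEtale ξ
  induction I using Finite.induction_empty_option with
  | of_equiv e ih =>
    obtain ⟨W, w, σ, hσ⟩ := ih (fun i => z (e i))
    refine ⟨W, w, fun i => σ (e.symm i), fun i => ?_⟩
    have := hσ (e.symm i)
    rwa [e.apply_symm_apply] at this
  | h_empty =>
    obtain ⟨W, w, -, -⟩ := Φ.toPresheafFiber_jointly_surjective (P := P.obj)
      (0 : ToType (Φ.presheafFiber.obj P.obj))
    exact ⟨W, w, fun i => i.elim, fun i => i.elim⟩
  | h_option ih =>
    obtain ⟨W₁, w₁, σ₁, hσ₁⟩ := ih (fun i => z (some i))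
    obtain ⟨W₂, w₂, t, ht⟩ := Φ.toPresheafFiber_jointly_surjective (z none)
    let e₁ : Φ.fiber.Elements := ⟨W₁, w₁⟩
    let e₂ : Φ.fiber.Elements := ⟨W₂, w₂⟩
    let e₀ := IsCofiltered.min e₁ e₂
    let f₁ : e₀ ⟶ e₁ := IsCofiltered.minToLeft e₁ e₂
    let f₂ : e₀ ⟶ e₂ := IsCofiltered.minToRight e₁ e₂
    refine ⟨e₀.1, e₀.2, fun i => match i with
      | none => P.obj.map f₂.1.op t
      | some i => P.obj.map f₁.1.op (σ₁ i), fun i => ?_⟩
    cases i with
    | none =>
      change Φ.toPresheafFiber e₀.1 e₀.2 P.obj (P.obj.map f₂.1.op t) = z none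
      rw [Φ.toPresheafFiber_w_apply, f₂.2]
      exact ht
    | some i =>
      change Φ.toPresheafFiber e₀.1 e₀.2 P.obj (P.obj.map f₁.1.op (σ₁ i)) = z (some i)
      rw [Φ.toPresheafFiber_w_apply, f₁.2]
      exact hσ₁ i

set_option backward.isDefEq.respectTransparency.types false in
set_option backward.isDefEq.respectTransparency false in
/-- a finite stalk lifts additively to the sections over some etale neighbourhood -/
theorem exists_additive_lift [Finite (ToType ((Scheme.pointSmallEtale ξ).presheafFiber.obj P.obj))] :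
    ∃ (W : X.Etale) (w : (Scheme.pointSmallEtale ξ).fiber.obj W)
      (s : (Scheme.pointSmallEtale ξ).presheafFiber.obj P.obj ⟶ P.obj.obj (op W)),
      s ≫ (Scheme.pointSmallEtale ξ).toPresheafFiber W w P.obj = 𝟙 _ := by
  let Φ := Scheme.pointSmallEtale ξ
  let M := ToType (Φ.presheafFiber.obj P.obj)
  obtain ⟨W₁, w₁, σ, hσ⟩ := exists_joint_lift ξ P (fun m : M => m)
  obtain ⟨W, g, w, hw, hg⟩ := exists_refine_eq ξ P W₁ w₁
    (fun p : M × M => σ (p.1 + p.2)) (fun p : M × M => σ p.1 + σ p.2) (fun p => by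
      rw [map_add, hσ, hσ, hσ])
  let s : Φ.presheafFiber.obj P.obj ⟶ P.obj.obj (op W) :=
    AddCommGrpCat.ofHom (AddMonoidHom.mk' (fun m : M => P.obj.map g.op (σ m)) (fun m m' => by
      have := hg (m, m')
      rw [map_add] at this
      exact this))
  refine ⟨W, w, s, ?_⟩
  ext m
  change Φ.toPresheafFiber W w P.obj (P.obj.map g.op (σ m)) = m
  rw [Φ.toPresheafFiber_w_apply, hw]
  exact hσ m

end Groth.Agent.Lib.Helper23.GermLift
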