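import Groth.Agent.Lib.Helper23.BLTorsion

/-!
# Finite generation of an ideal descends along a glueing pair (given Tor-vanishing)
-/

universe u
open TensorProduct

namespace Helper23.GFG

variable {R R' : Type u} [CommRing R] [CommRing R'] [Algebra R R'] {f : R}

/-- Module version. -/
theorem le_of_torsion_of_tensor (hq : EtGlue.QuotPowBijective R R' f)
    {M : Type u} [AddCommGroup M] [Module R M] (K₀ K : Submodule R M) (h0 : K₀ ≤ K)
    (ha : ∀ k ∈ K, ∃ m : ℕ, f ^ m • k ∈ K₀)
    (hb : ∀ k ∈ K, (1 : R') ⊗ₜ[R] k ∈ LinearMap.range (K₀.subtype.lTensor R'))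
    (hc : Function.Injective (K.subtype.lTensor R')) : K ≤ K₀ := by
  let incl : K₀ →ₗ[R] K := Submodule.inclusion h0
  let N : Submodule R K := LinearMap.range incl
  have hQ : ∀ q : K ⧸ N, ∃ n : ℕ, f ^ n • q = 0 := by
    intro q
    obtain ⟨⟨k, hk⟩, rfl⟩ := Submodule.Quotient.mk_surjective N q
    obtain ⟨m, hm⟩ := ha k hk
    refine ⟨m, ?_⟩
    rw [← Submodule.Quotient.mk_smul, Submodule.Quotient.mk_eq_zero]
    exact ⟨⟨f ^ m • k, hm⟩, rfl⟩
  intro k hk
  have h1 : (1 : R') ⊗ₜ[R] (Submodule.Quotient.mk (⟨k, hk⟩ : K) : K ⧸ N) = 0 := by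
    obtain ⟨t, ht⟩ := hb k hk
    have h2 : K₀.subtype = K.subtype ∘ₗ incl := by
      ext x
      rfl
    have h3 : (incl.lTensor R') t = (1 : R') ⊗ₜ[R] (⟨k, hk⟩ : K) := by
      apply hc
      rw [← LinearMap.comp_apply, ← LinearMap.lTensor_comp, ← h2, ht, LinearMap.lTensor_tmul]
      rfl
    have h4 : (1 : R') ⊗ₜ[R] (Submodule.Quotient.mk (⟨k, hk⟩ : K) : K ⧸ N) =
        (N.mkQ.lTensor R') ((1 : R') ⊗ₜ[R] (⟨k, hk⟩ : K)) := by
      rw [LinearMap.lTensor_tmul]
      rfl
    rw [h4, ← h3, ← LinearMap.comp_apply, ← LinearMap.lTensor_comp]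
    have h5 : N.mkQ ∘ₗ incl = 0 := by
      ext x
      simp only [LinearMap.comp_apply, LinearMap.zero_apply, Submodule.mkQ_apply,
        Submodule.Quotient.mk_eq_zero]
      exact ⟨x, rfl⟩
    rw [h5, LinearMap.lTensor_zero, LinearMap.zero_apply]
  have h6 := Helper23.BL.mk_injective hq hQ (h1.trans (TensorProduct.tmul_zero _ _).symm)
  rw [Submodule.Quotient.mk_eq_zero] at h6
  obtain ⟨⟨x, hx⟩, hxk⟩ := h6
  have : x = k := congrArg Subtype.val hxk
  rw [← this]
  exact hx

variable {P : Type u} [CommRing P] [Algebra R P]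

theorem map_includeRight_le_range (K : Ideal P) (x : R' ⊗[R] P)
    (hx : x ∈ K.map (Algebra.TensorProduct.includeRight : P →ₐ[R] R' ⊗[R] P).toRingHom) :
    x ∈ LinearMap.range ((K.restrictScalars R).subtype.lTensor R') := by
  unfold Ideal.map at hx
  induction hx using Submodule.span_induction with
  | mem x hx =>
    obtain ⟨k, hk, rfl⟩ := hx
    exact ⟨(1 : R') ⊗ₜ[R] (⟨k, hk⟩ : K.restrictScalars R), by simp⟩
  | zero => exact zero_mem _
  | add x y _ _ hx hy => exact add_mem hx hy
  | smul a x hmem hx =>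
    clear hmem
    obtain ⟨t, rfl⟩ := hx
    rw [smul_eq_mul]
    induction a using TensorProduct.induction_on with
    | zero => rw [zero_mul]; exact zero_mem _
    | add a b ha hb => rw [add_mul]; exact add_mem ha hb
    | tmul s' p =>
      induction t using TensorProduct.induction_on with
      | zero => rw [map_zero, mul_zero]; exact zero_mem _
      | add t₁ t₂ h₁ h₂ => rw [map_add, mul_add]; exact add_mem h₁ h₂
      | tmul r' k =>
        refine ⟨(s' * r') ⊗ₜ[R] (⟨p * k.1, K.mul_mem_left p k.2⟩ : K.restrictScalars R), ?_⟩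
        rw [LinearMap.lTensor_tmul, LinearMap.lTensor_tmul, Submodule.subtype_apply,
          Submodule.subtype_apply, Algebra.TensorProduct.tmul_mul_tmul]

theorem range_le_map_includeRight (K : Ideal P) (t : R' ⊗[R] (K.restrictScalars R)) :
    (K.restrictScalars R).subtype.lTensor R' t ∈
      K.map (Algebra.TensorProduct.includeRight : P →ₐ[R] R' ⊗[R] P).toRingHom := by
  induction t using TensorProduct.induction_on with
  | zero => rw [map_zero]; exact zero_mem _
  | add t₁ t₂ h₁ h₂ => rw [map_add]; exact add_mem h₁ h₂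
  | tmul r' k =>
    rw [LinearMap.lTensor_tmul, Submodule.subtype_apply]
    have : r' ⊗ₜ[R] (k.1 : P) = (r' ⊗ₜ[R] (1 : P)) * ((1 : R') ⊗ₜ[R] k.1) := by
      rw [Algebra.TensorProduct.tmul_mul_tmul, mul_one, one_mul]
    rw [this]
    exact Ideal.mul_mem_left _ _ (Ideal.mem_map_of_mem _ k.2)

/-- Ideal version: finite generation descends. -/
theorem ideal_fg_of_glueing (hq : EtGlue.QuotPowBijective R R' f) (K : Ideal P)
    (h1 : (K.map (algebraMap P (Localization.Away (algebraMap R P f)))).FG)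
    (h2 : (K.map (Algebra.TensorProduct.includeRight : P →ₐ[R] R' ⊗[R] P).toRingHom).FG)
    (h3 : Function.Injective ((K.restrictScalars R).subtype.lTensor R')) : K.FG := by
  classical
  set g₁ := algebraMap P (Localization.Away (algebraMap R P f)) with hg₁
  set g₂ := (Algebra.TensorProduct.includeRight : P →ₐ[R] R' ⊗[R] P).toRingHom with hg₂
  have key : ∀ (S : Type u) [CommRing S] (g : P →+* S), (K.map g).FG →
      ∃ T : Finset P, (T : Set P) ⊆ K ∧ K.map g = (Ideal.span (T : Set P)).map g := by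
    intro S _ g hfg
    unfold Ideal.map at hfg
    obtain ⟨s', hs', hspan⟩ := (Submodule.fg_span_iff_fg_span_finset_subset _).mp hfg
    obtain ⟨T, hT, rfl⟩ := Finset.subset_set_image_iff.mp hs'
    refine ⟨T, hT, ?_⟩
    rw [Ideal.map_span]
    unfold Ideal.map
    rw [Finset.coe_image] at hspan
    exact hspan
  obtain ⟨T₁, hT₁, e₁⟩ := key _ g₁ h1
  obtain ⟨T₂, hT₂, e₂⟩ := key _ g₂ h2
  set K₀ : Ideal P := Ideal.span ((T₁ ∪ T₂ : Finset P) : Set P) with hK₀
  have hK₀K : K₀ ≤ K := by
    rw [hK₀, Ideal.span_le, Finset.coe_union]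
    exact Set.union_subset hT₁ hT₂
  have hle₁ : Ideal.span (T₁ : Set P) ≤ K₀ := by
    apply Ideal.span_mono
    rw [Finset.coe_union]
    exact Set.subset_union_left
  have hle₂ : Ideal.span (T₂ : Set P) ≤ K₀ := by
    apply Ideal.span_mono
    rw [Finset.coe_union]
    exact Set.subset_union_right
  have hKK₀ : K.restrictScalars R ≤ K₀.restrictScalars R := by
    apply le_of_torsion_of_tensor hq (K₀.restrictScalars R) (K.restrictScalars R) hK₀K
    · intro k hk
      have hk1 : g₁ k ∈ K₀.map g₁ := by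
        have : g₁ k ∈ K.map g₁ := Ideal.mem_map_of_mem _ hk
        rw [e₁] at this
        exact Ideal.map_mono hle₁ this
      obtain ⟨_, ⟨m, rfl⟩, hm⟩ := (IsLocalization.algebraMap_mem_map_algebraMap_iff
        (Submonoid.powers (algebraMap R P f)) _ K₀ k).mp hk1
      refine ⟨m, ?_⟩
      rw [Submodule.restrictScalars_mem, Algebra.smul_def, map_pow]
      exact hm
    · intro k hk
      have hk2 : g₂ k ∈ K₀.map g₂ := by
        have : g₂ k ∈ K.map g₂ := Ideal.mem_map_of_mem _ hk
        rw [e₂] at this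
        exact Ideal.map_mono hle₂ this
      exact map_includeRight_le_range K₀ _ hk2
    · exact h3
  have : K = K₀ := le_antisymm hKK₀ hK₀K
  rw [this]
  exact ⟨_, rfl⟩

end Helper23.GFG
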