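import Mathlib.RingTheory.Flat.Equalizer
import Mathlib.RingTheory.Flat.Stability
import Mathlib.LinearAlgebra.TensorProduct.RightExactness
import Mathlib.LinearAlgebra.TensorProduct.Tower

/-!
# Elementary (Tor-free) homological lemmas on tensor products

`chase` is an abstract 3x3 diagram chase; `balance` says that for a presentation `K → F → M`
with `F` flat, injectivity of `C ⊗ K → C ⊗ F` gives injectivity of `A ⊗ M → B ⊗ M` for
`0 → A → B → C → 0`; `mid` is middle exactness of `Tor_1`; `baseChange_lTensor_injective`
is the base change statement, `flat_of_ker` flatness of the kernel of a surjection of flat modules.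
-/

universe u v
open TensorProduct

namespace Helper23.GF

section chase

variable {R : Type*} [Ring R]
variable {X11 X12 X13 X21 X22 X23 X31 X32 : Type*}
  [AddCommGroup X11] [AddCommGroup X12] [AddCommGroup X13] [AddCommGroup X21] [AddCommGroup X22]
  [AddCommGroup X23] [AddCommGroup X31] [AddCommGroup X32]
  [Module R X11] [Module R X12] [Module R X13] [Module R X21] [Module R X22]
  [Module R X23] [Module R X31] [Module R X32]

theorem chase (α1 : X11 →ₗ[R] X12) (β1 : X12 →ₗ[R] X13) (α2 : X21 →ₗ[R] X22) (β2 : X22 →ₗ[R] X23)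
    (α3 : X31 →ₗ[R] X32) (γ1 : X11 →ₗ[R] X21) (γ2 : X12 →ₗ[R] X22) (γ3 : X13 →ₗ[R] X23)
    (δ1 : X21 →ₗ[R] X31) (δ2 : X22 →ₗ[R] X32)
    (h1 : Function.Exact α1 β1) (h2 : Function.Exact γ2 δ2) (h3 : Function.Surjective δ1)
    (h4 : ∀ x, δ1 (γ1 x) = 0) (h5 : ∀ x, β2 (α2 x) = 0) (h6 : Function.Injective α2)
    (h7 : Function.Injective γ3)
    (c1 : ∀ x, γ2 (α1 x) = α2 (γ1 x)) (c2 : ∀ x, γ3 (β1 x) = β2 (γ2 x))
    (c3 : ∀ x, δ2 (α2 x) = α3 (δ1 x)) : Function.Injective α3 := by
  rw [injective_iff_map_eq_zero]
  intro z hz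
  obtain ⟨y, rfl⟩ := h3 z
  have e1 : δ2 (α2 y) = 0 := by rw [c3, hz]
  obtain ⟨x, hx⟩ := (h2 _).mp e1
  have e2 : γ3 (β1 x) = 0 := by rw [c2, hx, h5]
  have e3 : β1 x = 0 := h7 (by rw [e2, map_zero])
  obtain ⟨w, rfl⟩ := (h1 _).mp e3
  have e4 : α2 (γ1 w) = α2 y := by rw [← c1, hx]
  rw [← h6 e4, h4]

end chase

section balance

variable {R : Type*} [CommRing R]
variable {K F M A B C : Type*} [AddCommGroup K] [AddCommGroup F] [AddCommGroup M]
  [AddCommGroup A] [AddCommGroup B] [AddCommGroup C]
  [Module R K] [Module R F] [Module R M] [Module R A] [Module R B] [Module R C]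

/-- If `C ⊗ K → C ⊗ F` and `A ⊗ F → B ⊗ F` are injective then so is `A ⊗ M → B ⊗ M`. -/
theorem balance (j : K →ₗ[R] F) (q : F →ₗ[R] M) (i : A →ₗ[R] B) (p : B →ₗ[R] C)
    (hjq : Function.Exact j q) (hq : Function.Surjective q)
    (hip : Function.Exact i p) (hp : Function.Surjective p)
    (hiF : Function.Injective (i.rTensor F)) (hCj : Function.Injective (j.lTensor C)) :
    Function.Injective (i.rTensor M) := by
  refine chase (i.rTensor K) (p.rTensor K) (i.rTensor F) (p.rTensor F) (i.rTensor M)
    (j.lTensor A) (j.lTensor B) (j.lTensor C) (q.lTensor A) (q.lTensor B)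
    (rTensor_exact K hip hp) (lTensor_exact B hjq hq) (LinearMap.lTensor_surjective A hq)
    ?_ ?_ hiF hCj ?_ ?_ ?_
  · intro x
    rw [← LinearMap.comp_apply, ← LinearMap.lTensor_comp, hjq.linearMap_comp_eq_zero]
    simp
  · intro x
    rw [← LinearMap.comp_apply, ← LinearMap.rTensor_comp, hip.linearMap_comp_eq_zero]
    simp
  · intro x
    rw [← LinearMap.comp_apply, ← LinearMap.comp_apply, LinearMap.lTensor_comp_rTensor,
      LinearMap.rTensor_comp_lTensor]
  · intro x
    rw [← LinearMap.comp_apply, ← LinearMap.comp_apply, LinearMap.lTensor_comp_rTensor,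
      LinearMap.rTensor_comp_lTensor]
  · intro x
    rw [← LinearMap.comp_apply, ← LinearMap.comp_apply, LinearMap.lTensor_comp_rTensor,
      LinearMap.rTensor_comp_lTensor]

/-- Middle exactness of `Tor_1(-, M)`. -/
theorem mid (j : K →ₗ[R] F) (i : A →ₗ[R] B) (p : B →ₗ[R] C)
    (hip : Function.Exact i p) (hp : Function.Surjective p)
    (hiF : Function.Injective (i.rTensor F)) (hAj : Function.Injective (j.lTensor A))
    (hCj : Function.Injective (j.lTensor C)) : Function.Injective (j.lTensor B) := by
  rw [injective_iff_map_eq_zero]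
  intro b hb
  have e1 : j.lTensor C (p.rTensor K b) = 0 := by
    rw [← LinearMap.comp_apply, LinearMap.lTensor_comp_rTensor, ← LinearMap.rTensor_comp_lTensor,
      LinearMap.comp_apply, hb, map_zero]
  have e2 : p.rTensor K b = 0 := hCj (by rw [e1, map_zero])
  obtain ⟨a, rfl⟩ := (rTensor_exact K hip hp _).mp e2
  have e3 : i.rTensor F (j.lTensor A a) = 0 := by
    rw [← LinearMap.comp_apply, LinearMap.rTensor_comp_lTensor, ← LinearMap.lTensor_comp_rTensor,
      LinearMap.comp_apply, hb]
  have e4 : j.lTensor A a = 0 := hiF (by rw [e3, map_zero])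
  have e5 : a = 0 := hAj (by rw [e4, map_zero])
  rw [e5, map_zero]

end balance

section baseChange

variable {R : Type u} [CommRing R] (S : Type u) [CommRing S] [Algebra R S]
variable {K F M : Type u} [AddCommGroup K] [AddCommGroup F] [AddCommGroup M]
  [Module R K] [Module R F] [Module R M]
variable (C : Type u) [AddCommGroup C] [Module R C] [Module S C] [IsScalarTower R S C]

/-- If `S ⊗ K → S ⊗ F` is injective with `S`-flat cokernel `S ⊗ M`, then `C ⊗_R K → C ⊗_R F`
is injective for every `S`-module `C`. -/
theorem baseChange_lTensor_injective (j : K →ₗ[R] F) (q : F →ₗ[R] M)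
    (hjq : Function.Exact j q) (hq : Function.Surjective q)
    (hSj : Function.Injective (j.lTensor S)) [Module.Flat S (S ⊗[R] M)] :
    Function.Injective (j.lTensor C) := by
  have hex : Function.Exact (j.baseChange S) (q.baseChange S) := lTensor_exact S hjq hq
  have hsurj : Function.Surjective (q.baseChange S) := LinearMap.lTensor_surjective S hq
  have hinj : Function.Injective (j.baseChange S) := hSj
  have key := LinearMap.lTensor_injective_of_exact_of_flat (q.baseChange S) hsurj
    (j.baseChange S) hinj hex C
  let eK := TensorProduct.AlgebraTensorModule.cancelBaseChange R S S C K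
  let eF := TensorProduct.AlgebraTensorModule.cancelBaseChange R S S C F
  have hcomm : ∀ x, eF ((j.baseChange S).lTensor C x) = j.lTensor C (eK x) := by
    intro x
    induction x using TensorProduct.induction_on with
    | zero => simp
    | add x y hx hy => simp only [map_add, hx, hy]
    | tmul c y =>
      induction y using TensorProduct.induction_on with
      | zero => simp
      | add x y hx hy => simp only [tmul_add, map_add, hx, hy]
      | tmul s k => simp [eK, eF]
  intro x y hxy
  obtain ⟨x', rfl⟩ := eK.surjective x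
  obtain ⟨y', rfl⟩ := eK.surjective y
  rw [← hcomm, ← hcomm] at hxy
  rw [key (eF.injective hxy)]

end baseChange

section kerFlat

variable {S : Type u} [CommRing S]
variable {K F M : Type u} [AddCommGroup K] [AddCommGroup F] [AddCommGroup M]
  [Module S K] [Module S F] [Module S M]

/-- The kernel of a surjection of flat modules is flat. -/
theorem flat_of_ker (j : K →ₗ[S] F) (q : F →ₗ[S] M) (hj : Function.Injective j)
    (hjq : Function.Exact j q) (hq : Function.Surjective q) [Module.Flat S F] [Module.Flat S M] :
    Module.Flat S K := by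
  rw [Module.Flat.iff_rTensor_preserves_injective_linearMap]
  intro N N' _ _ _ _ i hi
  have h1 : Function.Injective (j.lTensor N) :=
    LinearMap.lTensor_injective_of_exact_of_flat q hq j hj hjq N
  have h2 : Function.Injective (i.rTensor F) :=
    Module.Flat.rTensor_preserves_injective_linearMap i hi
  have h3 : Function.Injective ((j.lTensor N').comp (i.rTensor K)) := by
    rw [LinearMap.lTensor_comp_rTensor, ← LinearMap.rTensor_comp_lTensor]
    exact h2.comp h1
  exact Function.Injective.of_comp h3

end kerFlat

end Helper23.GF
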