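import Groth.Agent.Lib.Helper23.GlueFlat
import Groth.Agent.Lib.Helper23.BLGlue2
import Groth.Agent.Lib.Helper23.BLTorsion

/-!
# Flatness descends along a glueing pair (elementary, Tor-free proof)
-/

universe u
open TensorProduct

namespace Helper23.GF

section retract

variable {R : Type*} [CommRing R]
variable {K F A B : Type*} [AddCommGroup K] [AddCommGroup F] [AddCommGroup A] [AddCommGroup B]
  [Module R K] [Module R F] [Module R A] [Module R B]

theorem lTensor_injective_of_retract (j : K →ₗ[R] F) (s : A →ₗ[R] B) (r : B →ₗ[R] A)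
    (hrs : ∀ a, r (s a) = a) (h : Function.Injective (j.lTensor B)) :
    Function.Injective (j.lTensor A) := by
  rw [injective_iff_map_eq_zero]
  intro x hx
  have e1 : j.lTensor B (s.rTensor K x) = 0 := by
    rw [← LinearMap.comp_apply, LinearMap.lTensor_comp_rTensor, ← LinearMap.rTensor_comp_lTensor,
      LinearMap.comp_apply, hx, map_zero]
  have e2 : s.rTensor K x = 0 := h (by rw [e1, map_zero])
  have e3 : r.rTensor K (s.rTensor K x) = x := by
    rw [← LinearMap.comp_apply, ← LinearMap.rTensor_comp]
    have : r ∘ₗ s = LinearMap.id := LinearMap.ext hrs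
    rw [this, LinearMap.rTensor_id, LinearMap.id_apply]
  rw [← e3, e2, map_zero]

theorem lTensor_injective_of_equiv (j : K →ₗ[R] F) (e : A ≃ₗ[R] B)
    (h : Function.Injective (j.lTensor B)) : Function.Injective (j.lTensor A) :=
  lTensor_injective_of_retract j e.toLinearMap e.symm.toLinearMap (fun a => e.symm_apply_apply a) h

end retract

variable {R R' : Type u} [CommRing R] [CommRing R'] [Algebra R R'] {f : R}
variable {K F M : Type u} [AddCommGroup K] [AddCommGroup F] [AddCommGroup M]
  [Module R K] [Module R F] [Module R M]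

/-- `Tor_1^R(R', M) = 0` when `M_f` is flat over `R_f`. -/
theorem lTensor_R'_injective (hRR : EtGlue.IsGlueingPair R R' f)
    (j : K →ₗ[R] F) (q : F →ₗ[R] M) (hj : Function.Injective j)
    (hjq : Function.Exact j q) (hq : Function.Surjective q) [Module.Flat R F]
    [Module.Flat (Localization.Away f) (Localization.Away f ⊗[R] M)] :
    Function.Injective (j.lTensor R') := by
  obtain ⟨_, hinj, hmid, hsur⟩ := hRR
  let Rf := Localization.Away f
  let C := Localization.Away (algebraMap R R' f)
  let ι' : R' →ₗ[R] C := (IsScalarTower.toAlgHom R R' C).toLinearMap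
  let ιA : R →ₗ[R] R' × Rf := (Algebra.linearMap R R').prod (Algebra.linearMap R Rf)
  let gA : R' × Rf →ₗ[R] C := ι'.coprod (-BL.awLin R R' f)
  have hgA : ∀ a : R' × Rf, gA a = algebraMap R' C a.1 - Localization.awayMap (algebraMap R R') f a.2 := by
    intro a
    rw [sub_eq_add_neg]
    rfl
  have hcomm : ∀ r : R, Localization.awayMap (algebraMap R R') f (algebraMap R Rf r) =
      algebraMap R' C (algebraMap R R' r) := by
    intro r
    exact IsLocalization.map_eq _ _
  have hex : Function.Exact ιA gA := by
    intro a
    constructor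
    · intro h
      rw [hgA, sub_eq_zero] at h
      obtain ⟨r, h1, h2⟩ := hmid a.1 a.2 h
      exact ⟨r, Prod.ext h1 h2⟩
    · rintro ⟨r, rfl⟩
      rw [hgA]
      simp [ιA, hcomm]
  have hsurj : Function.Surjective gA := by
    intro z
    obtain ⟨x, y, h⟩ := hsur z
    exact ⟨(x, y), by rw [hgA]; exact h⟩
  have hιA : Function.Injective ιA := hinj
  letI : Algebra Rf C := (Localization.awayMap (algebraMap R R') f).toAlgebra
  haveI : IsScalarTower R Rf C := IsScalarTower.of_algebraMap_eq fun r => by
    rw [IsScalarTower.algebraMap_apply R R' C]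
    exact (hcomm r).symm
  have hC : Function.Injective (j.lTensor C) :=
    baseChange_lTensor_injective Rf C j q hjq hq
      (Module.Flat.lTensor_preserves_injective_linearMap j hj)
  have hR : Function.Injective (j.lTensor R) :=
    Module.Flat.lTensor_preserves_injective_linearMap j hj
  have hB : Function.Injective (j.lTensor (R' × Rf)) :=
    mid j ιA gA hex hsurj (Module.Flat.rTensor_preserves_injective_linearMap ιA hιA) hR hC
  exact lTensor_injective_of_retract j (LinearMap.inl R R' Rf) (LinearMap.fst R R' Rf)
    (fun a => rfl) hB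

/-- Base change of the kernel of a presentation is flat when the base-changed sequence stays
left exact and the base change of the cokernel is flat. -/
theorem flat_baseChange_ker (S : Type u) [CommRing S] [Algebra R S]
    (j : K →ₗ[R] F) (q : F →ₗ[R] M)
    (hjq : Function.Exact j q) (hq : Function.Surjective q) [Module.Flat R F]
    (hSj : Function.Injective (j.lTensor S)) [Module.Flat S (S ⊗[R] M)] :
    Module.Flat S (S ⊗[R] K) :=
  flat_of_ker (j.baseChange S) (q.baseChange S) hSj (lTensor_exact S hjq hq)
    (LinearMap.lTensor_surjective S hq)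

section torsion

variable (hRR : EtGlue.IsGlueingPair R R' f)
  (j : K →ₗ[R] F) (q : F →ₗ[R] M) (hj : Function.Injective j)
  (hjq : Function.Exact j q) (hq : Function.Surjective q) [Module.Flat R F]
  [Module.Flat (Localization.Away f) (Localization.Away f ⊗[R] M)]
  [Module.Flat R' (R' ⊗[R] M)]

include hRR hj hjq hq in
theorem lTensor_injective_of_module (T : Type u) [AddCommGroup T] [Module R T] [Module R' T]
    [IsScalarTower R R' T] : Function.Injective (j.lTensor T) :=
  baseChange_lTensor_injective R' T j q hjq hq (lTensor_R'_injective hRR j q hj hjq hq)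

include hRR hj hjq hq in
theorem lTensor_injective_of_torsion (T : Type u) [AddCommGroup T] [Module R T]
    (hT : ∀ t : T, ∃ n : ℕ, f ^ n • t = 0) : Function.Injective (j.lTensor T) :=
  lTensor_injective_of_equiv j
    (LinearEquiv.ofBijective (TensorProduct.mk R R' T 1) (BL.mk_bijective hRR.1 hT))
    (lTensor_injective_of_module hRR j q hj hjq hq (R' ⊗[R] T))

include hRR hj hjq hq in
theorem flat_Rf_ker : Module.Flat (Localization.Away f) (Localization.Away f ⊗[R] K) :=
  flat_baseChange_ker (Localization.Away f) j q hjq hq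
    (Module.Flat.lTensor_preserves_injective_linearMap j hj)

include hRR hj hjq hq in
theorem flat_R'_ker : Module.Flat R' (R' ⊗[R] K) :=
  flat_baseChange_ker R' j q hjq hq (lTensor_R'_injective hRR j q hj hjq hq)

end torsion

/-- The `f`-power torsion submodule. -/
def tors (f : R) (N : Type u) [AddCommGroup N] [Module R N] : Submodule R N where
  carrier := {n | ∃ k : ℕ, f ^ k • n = 0}
  zero_mem' := ⟨0, by simp⟩
  add_mem' := by
    rintro a b ⟨k, hk⟩ ⟨l, hl⟩
    refine ⟨k + l, ?_⟩
    have ha : f ^ (k + l) • a = 0 := by rw [pow_add, mul_comm, mul_smul, hk, smul_zero]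
    have hb : f ^ (k + l) • b = 0 := by rw [pow_add, mul_smul, hl, smul_zero]
    rw [smul_add, ha, hb, add_zero]
  smul_mem' := by
    rintro c a ⟨k, hk⟩
    exact ⟨k, by rw [smul_comm, hk, smul_zero]⟩

theorem mem_tors {f : R} {N : Type u} [AddCommGroup N] [Module R N] {n : N} :
    n ∈ tors f N ↔ ∃ k : ℕ, f ^ k • n = 0 := Iff.rfl

end Helper23.GF
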