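import Groth.Agent.Lib.Helper23.GlueFlat2

/-!
# Flatness descends along a glueing pair: the devissage
-/

universe u
open TensorProduct

namespace Helper23.GF

variable {R R' : Type u} [CommRing R] [CommRing R'] [Algebra R R'] {f : R}
variable {K F M : Type u} [AddCommGroup K] [AddCommGroup F] [AddCommGroup M]
  [Module R K] [Module R F] [Module R M]

section pieces

variable (N : Type u) [AddCommGroup N] [Module R N]

theorem mkLinearMap_tors_injective :
    Function.Injective (LocalizedModule.mkLinearMap (Submonoid.powers f) (N ⧸ tors f N)) := by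
  rw [injective_iff_map_eq_zero]
  intro x hx
  obtain ⟨n, rfl⟩ := Submodule.Quotient.mk_surjective _ x
  obtain ⟨⟨_, k, rfl⟩, hs⟩ := (IsLocalizedModule.eq_zero_iff (Submonoid.powers f)
    (LocalizedModule.mkLinearMap (Submonoid.powers f) (N ⧸ tors f N))).mp hx
  have hs' : f ^ k • (Submodule.Quotient.mk n : N ⧸ tors f N) = 0 := hs
  rw [← Submodule.Quotient.mk_smul, Submodule.Quotient.mk_eq_zero] at hs'
  obtain ⟨l, hl⟩ := hs'
  rw [Submodule.Quotient.mk_eq_zero]
  exact ⟨l + k, by rw [pow_add, mul_smul, hl]⟩

theorem coker_mkLinearMap_torsion (N : Type u) [AddCommGroup N] [Module R N]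
    (t : LocalizedModule (Submonoid.powers f) N ⧸
      LinearMap.range (LocalizedModule.mkLinearMap (Submonoid.powers f) N)) :
    ∃ k : ℕ, f ^ k • t = 0 := by
  obtain ⟨y, rfl⟩ := Submodule.Quotient.mk_surjective _ t
  obtain ⟨⟨n, ⟨_, k, rfl⟩⟩, rfl⟩ := IsLocalizedModule.mk'_surjective (Submonoid.powers f)
    (LocalizedModule.mkLinearMap (Submonoid.powers f) N) y
  have h1 : f ^ k • IsLocalizedModule.mk' (LocalizedModule.mkLinearMap (Submonoid.powers f) N) n
      (⟨f ^ k, k, rfl⟩ : Submonoid.powers f) = LocalizedModule.mkLinearMap (Submonoid.powers f) N n :=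
    IsLocalizedModule.mk'_cancel' _ n (⟨f ^ k, k, rfl⟩ : Submonoid.powers f)
  refine ⟨k, ?_⟩
  rw [Function.uncurry_apply_pair, ← Submodule.Quotient.mk_smul, Submodule.Quotient.mk_eq_zero]
  exact LinearMap.mem_range.mpr ⟨n, h1.symm⟩

end pieces

section devissage

variable (hRR : EtGlue.IsGlueingPair R R' f)
  (j : K →ₗ[R] F) (q : F →ₗ[R] M) (hj : Function.Injective j)
  (hjq : Function.Exact j q) (hq : Function.Surjective q) [Module.Flat R F]
  [Module.Flat (Localization.Away f) (Localization.Away f ⊗[R] M)]
  [Module.Flat R' (R' ⊗[R] M)]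

include hRR hj hjq hq in
/-- `A ⊗ M → B ⊗ M` is injective when `A → B` is injective with `f`-power torsion cokernel. -/
theorem rTensor_injective_of_torsion_coker {A B C : Type u} [AddCommGroup A] [AddCommGroup B]
    [AddCommGroup C] [Module R A] [Module R B] [Module R C] (i : A →ₗ[R] B) (p : B →ₗ[R] C)
    (hi : Function.Injective i) (hip : Function.Exact i p) (hp : Function.Surjective p)
    (hC : ∀ t : C, ∃ n : ℕ, f ^ n • t = 0) : Function.Injective (i.rTensor M) :=
  balance j q i p hjq hq hip hp (Module.Flat.rTensor_preserves_injective_linearMap i hi)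
    (lTensor_injective_of_torsion hRR j q hj hjq hq C hC)

include hj hjq hq in
omit [Module.Flat R' (R' ⊗[R] M)] in
theorem lTensor_injective_of_Rf_module (P : Type u) [AddCommGroup P] [Module R P]
    [Module (Localization.Away f) P] [IsScalarTower R (Localization.Away f) P] :
    Function.Injective (j.lTensor P) :=
  baseChange_lTensor_injective (Localization.Away f) P j q hjq hq
    (Module.Flat.lTensor_preserves_injective_linearMap j hj)

include hRR hj hjq hq in
/-- the step (c): `N̄ ⊗ K → N̄_f ⊗ K` is injective. -/
theorem rTensor_ker_injective (N : Type u) [AddCommGroup N] [Module R N]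
    (hN : Function.Injective (LocalizedModule.mkLinearMap (Submonoid.powers f) N)) :
    Function.Injective ((LocalizedModule.mkLinearMap (Submonoid.powers f) N).rTensor K) := by
  haveI := flat_Rf_ker hRR j q hj hjq hq
  haveI := flat_R'_ker hRR j q hj hjq hq
  have hq2 : Function.Surjective (Finsupp.linearCombination R (id : K → K)) :=
    Finsupp.linearCombination_id_surjective R K
  have hjq2 : Function.Exact (LinearMap.ker (Finsupp.linearCombination R (id : K → K))).subtype
      (Finsupp.linearCombination R (id : K → K)) := LinearMap.exact_subtype_ker_map _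
  have hj2 : Function.Injective
      (LinearMap.ker (Finsupp.linearCombination R (id : K → K))).subtype :=
    Submodule.injective_subtype _
  exact rTensor_injective_of_torsion_coker
    (K := ↥(LinearMap.ker (Finsupp.linearCombination R (id : K → K)))) hRR _ _ hj2 hjq2 hq2
    (LocalizedModule.mkLinearMap (Submonoid.powers f) N)
    (LinearMap.range (LocalizedModule.mkLinearMap (Submonoid.powers f) N)).mkQ hN
    (LinearMap.exact_map_mkQ_range _) (Submodule.mkQ_surjective _)
    (coker_mkLinearMap_torsion N)

include hRR hj hjq hq in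
/-- `Tor_1^R(N, M) = 0` for every `N`. -/
theorem lTensor_injective (N : Type u) [AddCommGroup N] [Module R N] :
    Function.Injective (j.lTensor N) := by
  have hc := rTensor_ker_injective hRR j q hj hjq hq (N ⧸ tors f N)
    (mkLinearMap_tors_injective N)
  have hb := lTensor_injective_of_Rf_module (f := f) j q hj hjq hq
    (LocalizedModule (Submonoid.powers f) (N ⧸ tors f N))
  have ha : Function.Injective (j.lTensor (tors f N)) :=
    lTensor_injective_of_torsion hRR j q hj hjq hq (tors f N) (by
      rintro ⟨t, k, hk⟩
      exact ⟨k, Subtype.ext hk⟩)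
  rw [injective_iff_map_eq_zero]
  intro x hx
  have e1 : j.lTensor _ (((LocalizedModule.mkLinearMap (Submonoid.powers f) (N ⧸ tors f N)) ∘ₗ
      (tors f N).mkQ).rTensor K x) = 0 := by
    rw [← LinearMap.comp_apply, LinearMap.lTensor_comp_rTensor, ← LinearMap.rTensor_comp_lTensor,
      LinearMap.comp_apply, hx, map_zero]
  have e2 := hb (e1.trans (map_zero _).symm)
  rw [LinearMap.rTensor_comp, LinearMap.comp_apply] at e2
  have e3 : (tors f N).mkQ.rTensor K x = 0 := hc (e2.trans (map_zero _).symm)
  obtain ⟨xt, rfl⟩ := (rTensor_exact K (LinearMap.exact_subtype_mkQ (tors f N))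
    (Submodule.mkQ_surjective (tors f N)) _).mp e3
  have e4 : (tors f N).subtype.rTensor F (j.lTensor (tors f N) xt) = 0 := by
    rw [← LinearMap.comp_apply, LinearMap.rTensor_comp_lTensor, ← LinearMap.lTensor_comp_rTensor,
      LinearMap.comp_apply, hx]
  have e5 : j.lTensor (tors f N) xt = 0 :=
    Module.Flat.rTensor_preserves_injective_linearMap (tors f N).subtype
      (tors f N).injective_subtype (e4.trans (map_zero _).symm)
  have e6 : xt = 0 := ha (e5.trans (map_zero _).symm)
  rw [e6, map_zero]

end devissage

/-- Flatness descends along a glueing pair. -/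
theorem flat_of_glueingPair (hRR : EtGlue.IsGlueingPair R R' f) (M : Type u) [AddCommGroup M]
    [Module R M] [Module.Flat (Localization.Away f) (Localization.Away f ⊗[R] M)]
    [Module.Flat R' (R' ⊗[R] M)] : Module.Flat R M := by
  rw [Module.Flat.iff_rTensor_preserves_injective_linearMap]
  intro A B _ _ _ _ i hi
  have hq2 : Function.Surjective (Finsupp.linearCombination R (id : M → M)) :=
    Finsupp.linearCombination_id_surjective R M
  have hjq2 : Function.Exact (LinearMap.ker (Finsupp.linearCombination R (id : M → M))).subtype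
      (Finsupp.linearCombination R (id : M → M)) := LinearMap.exact_subtype_ker_map _
  have hj2 : Function.Injective
      (LinearMap.ker (Finsupp.linearCombination R (id : M → M))).subtype :=
    Submodule.injective_subtype _
  exact balance (K := ↥(LinearMap.ker (Finsupp.linearCombination R (id : M → M)))) _ _ i
    (LinearMap.range i).mkQ hjq2 hq2 (LinearMap.exact_map_mkQ_range i)
    (Submodule.mkQ_surjective _) (Module.Flat.rTensor_preserves_injective_linearMap i hi)
    (lTensor_injective (K := ↥(LinearMap.ker (Finsupp.linearCombination R (id : M → M))))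
      hRR _ _ hj2 hjq2 hq2 (B ⧸ LinearMap.range i))

end Helper23.GF
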