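import Groth.Agent.Lib.Helper23.GluePairBC
import Mathlib.RingTheory.RingHom.Flat

/-!
# Flatness of a ring map descends along a glueing pair
-/

universe u
open TensorProduct

namespace Helper23.GPA

attribute [local instance] Algebra.TensorProduct.rightAlgebra

variable {R R' : Type u} [CommRing R] [CommRing R'] [Algebra R R'] {f : R}
variable {A B : Type u} [CommRing A] [Algebra R A] [CommRing B] [Algebra R B]

/-- With `B` an `A`-algebra, `(R' ⊗ A) ⊗_A B ≃ R' ⊗ B` over `R' ⊗ A`. -/
theorem flat_tensor_of_map_flat [Algebra A B] [IsScalarTower R A B]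
    (h2 : (Algebra.TensorProduct.map (AlgHom.id R R') (IsScalarTower.toAlgHom R A B)).toRingHom.Flat) :
    Module.Flat (R' ⊗[R] A) ((R' ⊗[R] A) ⊗[A] B) := by
  letI : Algebra (R' ⊗[R] A) (R' ⊗[R] B) :=
    (Algebra.TensorProduct.map (AlgHom.id R R') (IsScalarTower.toAlgHom R A B)).toRingHom.toAlgebra
  have hfl : Module.Flat (R' ⊗[R] A) (R' ⊗[R] B) := h2
  let e0 : ((R' ⊗[R] A) ⊗[A] B) ≃ₐ[R'] R' ⊗[R] B :=
    Algebra.IsPushout.cancelBaseChangeAlg R R' A (R' ⊗[R] A) B
  have hcomm : ∀ (x : R' ⊗[R] A) (y : (R' ⊗[R] A) ⊗[A] B), e0 (x • y) = x • e0 y := by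
    intro x y
    obtain ⟨y, rfl⟩ := e0.symm.surjective y
    rw [AlgEquiv.apply_symm_apply]
    apply e0.symm.injective
    rw [AlgEquiv.symm_apply_apply]
    induction y using TensorProduct.induction_on with
    | zero => simp
    | add y₁ y₂ h₁ h₂ => rw [map_add, smul_add, smul_add, map_add, h₁, h₂]
    | tmul r' b =>
      induction x using TensorProduct.induction_on with
      | zero => simp
      | add x₁ x₂ h₁ h₂ => rw [add_smul, add_smul, map_add, h₁, h₂]
      | tmul s' a =>
        rw [Algebra.IsPushout.cancelBaseChangeAlg_symm_tmul]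
        have : (s' ⊗ₜ[R] a : R' ⊗[R] A) • (r' ⊗ₜ[R] b : R' ⊗[R] B) = (s' * r') ⊗ₜ[R] (a • b) := by
          rw [Algebra.smul_def]
          change (Algebra.TensorProduct.map (AlgHom.id R R') (IsScalarTower.toAlgHom R A B))
            (s' ⊗ₜ[R] a) * _ = _
          rw [Algebra.TensorProduct.map_tmul, Algebra.TensorProduct.tmul_mul_tmul,
            AlgHom.id_apply, IsScalarTower.toAlgHom_apply, Algebra.smul_def]
        rw [this, Algebra.IsPushout.cancelBaseChangeAlg_symm_tmul, TensorProduct.smul_tmul',
          TensorProduct.tmul_smul, TensorProduct.smul_tmul']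
        congr 1
        rw [Algebra.TensorProduct.algebraMap_apply, Algebra.TensorProduct.algebraMap_apply,
          smul_eq_mul, Algebra.smul_def]
        simp [Algebra.TensorProduct.tmul_mul_tmul, RingHom.algebraMap_toAlgebra, mul_comm]
  let e : ((R' ⊗[R] A) ⊗[A] B) ≃ₗ[R' ⊗[R] A] R' ⊗[R] B :=
    { e0.toLinearEquiv.toAddEquiv with
      map_smul' := hcomm }
  exact Module.Flat.of_linearEquiv e

/-- The localization piece. -/
theorem flat_away_tensor_of_awayMap_flat [Algebra A B] (a : A)
    (h1 : (Localization.awayMap (algebraMap A B) a).Flat) :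
    Module.Flat (Localization.Away a) (Localization.Away a ⊗[A] B) := by
  set b := algebraMap A B a with hb
  set g := Localization.awayMap (algebraMap A B) a with hg
  letI : Algebra (Localization.Away a) (Localization.Away b) := g.toAlgebra
  haveI : IsScalarTower A (Localization.Away a) (Localization.Away b) :=
    IsScalarTower.of_algebraMap_eq (fun x => by
      rw [IsScalarTower.algebraMap_apply A B (Localization.Away b)]
      change algebraMap B (Localization.Away b) (algebraMap A B x) =
        g (algebraMap A (Localization.Away a) x)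
      rw [hg]
      exact (IsLocalization.map_eq _ _).symm)
  have hfl : Module.Flat (Localization.Away a) (Localization.Away b) := h1
  haveI : IsLocalizedModule (Submonoid.powers a)
      (IsScalarTower.toAlgHom A B (Localization.Away b)).toLinearMap := by
    rw [isLocalizedModule_iff_isLocalization]
    have : Algebra.algebraMapSubmonoid B (Submonoid.powers a) = Submonoid.powers b :=
      Submonoid.map_powers _ _
    rw [this]
    infer_instance
  have hbc : IsBaseChange (Localization.Away a)
      (IsScalarTower.toAlgHom A B (Localization.Away b)).toLinearMap :=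
    IsLocalizedModule.isBaseChange (Submonoid.powers a) (Localization.Away a) _
  exact Module.Flat.of_linearEquiv hbc.equiv

/-- Flatness of a ring map descends along a glueing pair (the source being glueable). -/
theorem flat_of_glueing (hq : EtGlue.QuotPowBijective R R' f) (hA : EtGlue.IsGlueable R R' f A)
    (φ : A →ₐ[R] B)
    (h1 : (Localization.awayMap φ.toRingHom (algebraMap R A f)).Flat)
    (h2 : (Algebra.TensorProduct.map (AlgHom.id R R') φ).toRingHom.Flat) :
    φ.toRingHom.Flat := by
  letI : Algebra A B := φ.toRingHom.toAlgebra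
  haveI : IsScalarTower R A B := IsScalarTower.of_algebraMap_eq (fun r => (φ.commutes r).symm)
  have hφ : IsScalarTower.toAlgHom R A B = φ := by
    ext x
    rfl
  have hpair := Helper23.GPBC.isGlueingPair_baseChange hq hA
  haveI := flat_away_tensor_of_awayMap_flat (B := B) (algebraMap R A f) h1
  haveI := flat_tensor_of_map_flat (R := R) (R' := R') (A := A) (B := B) (by rw [hφ]; exact h2)
  exact Helper23.GF.flat_of_glueingPair hpair B

/-- The `R' ⊗ A`-algebra isomorphism `(R' ⊗ A) ⊗_A B ≃ R' ⊗ B`. -/
noncomputable def tensorEquiv [Algebra A B] [IsScalarTower R A B]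
    [Algebra (R' ⊗[R] A) (R' ⊗[R] B)]
    (h : algebraMap (R' ⊗[R] A) (R' ⊗[R] B) =
      (Algebra.TensorProduct.map (AlgHom.id R R') (IsScalarTower.toAlgHom R A B)).toRingHom) :
    ((R' ⊗[R] A) ⊗[A] B) ≃ₐ[R' ⊗[R] A] R' ⊗[R] B :=
  { (Algebra.IsPushout.cancelBaseChangeAlg R R' A (R' ⊗[R] A) B).toRingEquiv with
    commutes' := by
      intro x
      change (Algebra.IsPushout.cancelBaseChangeAlg R R' A (R' ⊗[R] A) B)
        (algebraMap (R' ⊗[R] A) ((R' ⊗[R] A) ⊗[A] B) x) = algebraMap (R' ⊗[R] A) (R' ⊗[R] B) x
      apply (Algebra.IsPushout.cancelBaseChangeAlg R R' A (R' ⊗[R] A) B).symm.injective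
      rw [AlgEquiv.symm_apply_apply, h]
      induction x using TensorProduct.induction_on with
      | zero => simp
      | add x y hx hy => rw [map_add, map_add, map_add, hx, hy]
      | tmul s' a =>
        change _ = (Algebra.IsPushout.cancelBaseChangeAlg R R' A (R' ⊗[R] A) B).symm
          ((Algebra.TensorProduct.map (AlgHom.id R R') (IsScalarTower.toAlgHom R A B)) (s' ⊗ₜ[R] a))
        rw [Algebra.TensorProduct.map_tmul, Algebra.IsPushout.cancelBaseChangeAlg_symm_tmul,
          Algebra.TensorProduct.algebraMap_apply, Algebra.TensorProduct.algebraMap_apply,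
          AlgHom.id_apply, IsScalarTower.toAlgHom_apply, Algebra.algebraMap_eq_smul_one a,
          ← TensorProduct.smul_tmul, Algebra.algebraMap_self, RingHom.id_apply]
        congr 1
        rw [Algebra.smul_def, Helper23.GPBC.algebraMap_right_apply,
          Algebra.TensorProduct.tmul_mul_tmul, one_mul, mul_one, Algebra.algebraMap_self,
          RingHom.id_apply] }

end Helper23.GPA
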