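import Groth.Agent.Lib.Helper23.GlueFlat3
import Groth.Agent.Lib.Helper23.BLGlue2
import Groth.Agent.Lib.Helper23.BLTorsion

/-!
# Base change of a glueing pair along a glueable algebra

If `(R → R', f)` has bijective quotients mod powers of `f` and `A` is a glueable `R`-algebra then
`(A → R' ⊗_R A, f)` is a glueing pair.
-/

universe u
open TensorProduct

namespace Helper23.GPBC

attribute [local instance] Algebra.TensorProduct.rightAlgebra

variable {R R' : Type u} [CommRing R] [CommRing R'] [Algebra R R'] {f : R}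
variable {A : Type u} [CommRing A] [Algebra R A]

theorem algebraMap_right_apply (a : A) : algebraMap A (R' ⊗[R] A) a = (1 : R') ⊗ₜ[R] a := rfl

theorem algebraMap_f_pow_mul (k : ℕ) (x : R' ⊗[R] A) :
    algebraMap A (R' ⊗[R] A) (algebraMap R A f) ^ k * x = f ^ k • x := by
  rw [← map_pow, ← map_pow, algebraMap_right_apply, Algebra.algebraMap_eq_smul_one,
    TensorProduct.tmul_smul, ← Algebra.TensorProduct.one_def, smul_mul_assoc, one_mul]

theorem exists_approx_tensor (hq : EtGlue.QuotPowBijective R R' f) (n : ℕ) (x : R' ⊗[R] A) :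
    ∃ (a : A) (y : R' ⊗[R] A), x = (1 : R') ⊗ₜ[R] a + f ^ n • y := by
  induction x using TensorProduct.induction_on with
  | zero => exact ⟨0, 0, by simp⟩
  | tmul r' a₀ =>
    obtain ⟨r, y', h⟩ := Helper23.BL.exists_approx hq n r'
    refine ⟨r • a₀, y' ⊗ₜ[R] a₀, ?_⟩
    rw [h, TensorProduct.add_tmul, ← Algebra.smul_def, TensorProduct.smul_tmul',
      Algebra.algebraMap_eq_smul_one, TensorProduct.smul_tmul]
  | add x y hx hy =>
    obtain ⟨a₁, y₁, h₁⟩ := hx
    obtain ⟨a₂, y₂, h₂⟩ := hy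
    refine ⟨a₁ + a₂, y₁ + y₂, ?_⟩
    rw [h₁, h₂, TensorProduct.tmul_add, smul_add]
    abel

theorem quotPow_baseChange (hq : EtGlue.QuotPowBijective R R' f) :
    EtGlue.QuotPowBijective A (R' ⊗[R] A) (algebraMap R A f) := by
  intro n hn
  constructor
  · rw [injective_iff_map_eq_zero]
    intro q hq0
    obtain ⟨a, rfl⟩ := Ideal.Quotient.mk_surjective q
    rw [Ideal.quotientMap_mk, Ideal.Quotient.eq_zero_iff_mem, Ideal.map_span, Set.image_singleton,
      Ideal.mem_span_singleton'] at hq0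
    obtain ⟨t, ht⟩ := hq0
    rw [map_pow, mul_comm, algebraMap_f_pow_mul] at ht
    obtain ⟨a₀, ha₀⟩ := Helper23.BL.dvd_of_tmul_dvd hq n a t ht.symm
    rw [Ideal.Quotient.eq_zero_iff_mem, Ideal.mem_span_singleton']
    refine ⟨a₀, ?_⟩
    rw [ha₀, Algebra.smul_def, map_pow, mul_comm]
  · intro q
    obtain ⟨x, rfl⟩ := Ideal.Quotient.mk_surjective q
    obtain ⟨a, y, h⟩ := exists_approx_tensor (A := A) hq n x
    refine ⟨Ideal.Quotient.mk _ a, ?_⟩
    rw [Ideal.quotientMap_mk, Ideal.Quotient.eq, Ideal.map_span, Set.image_singleton,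
      Ideal.mem_span_singleton']
    refine ⟨-y, ?_⟩
    rw [map_pow, mul_comm, algebraMap_f_pow_mul, h, algebraMap_right_apply]
    simp

theorem smul_eq_algebraMap_mul (r : R) (a : A) : r • a = algebraMap R A r * a := Algebra.smul_def r a

/-- `(A → R' ⊗_R A, f)` is a glueing pair when `A` is glueable. -/
theorem isGlueingPair_baseChange (hq : EtGlue.QuotPowBijective R R' f)
    (hA : EtGlue.IsGlueable R R' f A) :
    EtGlue.IsGlueingPair A (R' ⊗[R] A) (algebraMap R A f) := by
  set fA := algebraMap R A f with hfA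
  have hqA := quotPow_baseChange (A := A) hq
  refine ⟨hqA, ?_, ?_, ?_⟩
  · -- injectivity
    intro a b hab
    simp only [Prod.mk.injEq] at hab
    obtain ⟨h1, h2⟩ := hab
    apply hA.1
    simp only [Prod.mk.injEq]
    refine ⟨h1, ?_⟩
    rw [← sub_eq_zero, ← map_sub, Helper23.BL.mkLinearMap_eq_zero_iff]
    obtain ⟨⟨_, k, rfl⟩, hc⟩ := (IsLocalization.eq_iff_exists (Submonoid.powers fA) _).mp h2
    refine ⟨k, ?_⟩
    rw [smul_sub, Algebra.smul_def, Algebra.smul_def, map_pow, sub_eq_zero]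
    exact hc
  · -- middle exactness
    intro x y hxy
    obtain ⟨a₀, ⟨_, k, rfl⟩, rfl⟩ := IsLocalization.exists_mk'_eq (Submonoid.powers fA) y
    have h1 : Localization.awayMap (algebraMap A (R' ⊗[R] A)) fA
        (IsLocalization.mk' (Localization.Away fA) a₀ (⟨fA ^ k, k, rfl⟩ : Submonoid.powers fA)) =
        IsLocalization.mk' (Localization.Away (algebraMap A (R' ⊗[R] A) fA))
          (algebraMap A (R' ⊗[R] A) a₀)
          (⟨algebraMap A (R' ⊗[R] A) fA ^ k, k, rfl⟩ :
            Submonoid.powers (algebraMap A (R' ⊗[R] A) fA)) := by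
      unfold Localization.awayMap IsLocalization.Away.map
      rw [IsLocalization.map_mk']
      congr 1
      ext
      simp
    rw [h1, IsLocalization.eq_mk'_iff_mul_eq] at hxy
    rw [← map_mul] at hxy
    obtain ⟨⟨_, j, rfl⟩, hc⟩ :=
      (IsLocalization.eq_iff_exists (Submonoid.powers (algebraMap A (R' ⊗[R] A) fA)) _).mp hxy
    simp only at hc
    rw [mul_comm x, algebraMap_f_pow_mul, algebraMap_f_pow_mul, algebraMap_f_pow_mul,
      algebraMap_right_apply] at hc
    obtain ⟨a, ha1, ha2⟩ := hA.2 x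
      (IsLocalizedModule.mk' (LocalizedModule.mkLinearMap (Submonoid.powers f) A) a₀
        (⟨f ^ k, k, rfl⟩ : Submonoid.powers f))
      ((Helper23.BL.locOfTensor_eq_tensorOfLoc_iff x a₀ k).mpr ⟨j, hc⟩)
    refine ⟨a, ha1, ?_⟩
    rw [IsLocalization.eq_mk'_iff_mul_eq, ← map_mul]
    have h3 : LocalizedModule.mkLinearMap (Submonoid.powers f) A (f ^ k • a - a₀) = 0 := by
      rw [map_sub, map_smul, ha2]
      have := IsLocalizedModule.mk'_cancel' (LocalizedModule.mkLinearMap (Submonoid.powers f) A) a₀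
        (⟨f ^ k, k, rfl⟩ : Submonoid.powers f)
      rw [Submonoid.smul_def] at this
      rw [this, sub_self]
    obtain ⟨i, hi⟩ := (Helper23.BL.mkLinearMap_eq_zero_iff _).mp h3
    rw [IsLocalization.eq_iff_exists (Submonoid.powers fA)]
    refine ⟨⟨fA ^ i, i, rfl⟩, ?_⟩
    simp only
    rw [smul_sub, sub_eq_zero, Algebra.smul_def, Algebra.smul_def, Algebra.smul_def, map_pow,
      map_pow] at hi
    rw [mul_comm a, hi]
  · -- surjectivity
    intro z
    obtain ⟨x₀, ⟨_, k, rfl⟩, rfl⟩ :=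
      IsLocalization.exists_mk'_eq (Submonoid.powers (algebraMap A (R' ⊗[R] A) fA)) z
    obtain ⟨a, x₁, h⟩ := exists_approx_tensor (A := A) hq k x₀
    refine ⟨x₁, -IsLocalization.mk' (Localization.Away fA) a (⟨fA ^ k, k, rfl⟩ : Submonoid.powers fA), ?_⟩
    have h1 : Localization.awayMap (algebraMap A (R' ⊗[R] A)) fA
        (IsLocalization.mk' (Localization.Away fA) a (⟨fA ^ k, k, rfl⟩ : Submonoid.powers fA)) =
        IsLocalization.mk' (Localization.Away (algebraMap A (R' ⊗[R] A) fA))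
          (algebraMap A (R' ⊗[R] A) a)
          (⟨algebraMap A (R' ⊗[R] A) fA ^ k, k, rfl⟩ :
            Submonoid.powers (algebraMap A (R' ⊗[R] A) fA)) := by
      unfold Localization.awayMap IsLocalization.Away.map
      rw [IsLocalization.map_mk']
      congr 1
      ext
      simp
    rw [map_neg, sub_neg_eq_add, h1, eq_comm, IsLocalization.mk'_eq_iff_eq_mul, add_mul,
      IsLocalization.mk'_spec, ← map_mul, ← map_add]
    congr 1
    rw [h, mul_comm x₁, algebraMap_f_pow_mul, algebraMap_right_apply, add_comm]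

end Helper23.GPBC
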