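import Groth.Agent.Lib.Helper23.GlueFlat

/-!
# Tensoring a short exact sequence with flat cokernel stays injective; change of base ring
-/

universe u
open TensorProduct

namespace Helper23.GTor

/-- If `0 → K → P → B₀ → 0` is exact with `B₀` flat then `K ⊗ C → P ⊗ C` is injective. -/
theorem rTensor_injective_of_flat_coker {A : Type u} [CommRing A] {K P B₀ : Type u}
    [AddCommGroup K] [AddCommGroup P] [AddCommGroup B₀] [Module A K] [Module A P] [Module A B₀]
    (ι : K →ₗ[A] P) (π : P →ₗ[A] B₀) (hι : Function.Injective ι) (hex : Function.Exact ι π)
    (hπ : Function.Surjective π) [Module.Flat A B₀]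
    (C : Type u) [AddCommGroup C] [Module A C] : Function.Injective (ι.rTensor C) := by
  let F := C →₀ A
  let lc : F →ₗ[A] C := Finsupp.linearCombination A (id : C → C)
  let KC : Submodule A F := LinearMap.ker lc
  have hq2 : Function.Surjective lc := Finsupp.linearCombination_id_surjective A C
  have hjq2 : Function.Exact KC.subtype lc := LinearMap.exact_subtype_ker_map _
  have h1 : Function.Injective (ι.rTensor F) :=
    Module.Flat.rTensor_preserves_injective_linearMap ι hι
  have h2 : Function.Injective (KC.subtype.lTensor B₀) :=
    Module.Flat.lTensor_preserves_injective_linearMap KC.subtype (Submodule.injective_subtype _)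
  exact Helper23.GF.balance (K := ↥KC) _ _ ι π hjq2 hq2 hex hπ h1 h2

/-- Change of base ring: `K ⊗_R C' = K ⊗_A (A ⊗_R C')`. -/
theorem lTensor_injective_of_rTensor_baseChange {R A : Type u} [CommRing R] [CommRing A]
    [Algebra R A] {K P : Type u} [AddCommGroup K] [AddCommGroup P] [Module A K] [Module A P]
    [Module R K] [Module R P] [IsScalarTower R A K] [IsScalarTower R A P] (ι : K →ₗ[A] P)
    (C' : Type u) [AddCommGroup C'] [Module R C']
    (h : Function.Injective (ι.rTensor (A ⊗[R] C'))) :
    Function.Injective ((ι.restrictScalars R).lTensor C') := by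
  have key : ∀ x : K ⊗[R] C',
      (AlgebraTensorModule.cancelBaseChange R A A P C').symm ((ι.restrictScalars R).rTensor C' x) =
        ι.rTensor (A ⊗[R] C') ((AlgebraTensorModule.cancelBaseChange R A A K C').symm x) := by
    intro x
    induction x using TensorProduct.induction_on with
    | zero => simp
    | add x y hx hy => simp only [map_add, hx, hy]
    | tmul k c =>
      rw [LinearMap.rTensor_tmul, AlgebraTensorModule.cancelBaseChange_symm_tmul,
        AlgebraTensorModule.cancelBaseChange_symm_tmul, LinearMap.rTensor_tmul]
      rfl
  have hr : Function.Injective ((ι.restrictScalars R).rTensor C') := by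
    rw [injective_iff_map_eq_zero]
    intro x hx
    have := key x
    rw [hx, map_zero] at this
    have h2 := h (this.symm.trans (map_zero _).symm)
    exact (AlgebraTensorModule.cancelBaseChange R A A K C').symm.injective
      (h2.trans (map_zero _).symm)
  have hcomm : (ι.restrictScalars R).lTensor C' =
      (TensorProduct.comm R P C').toLinearMap ∘ₗ (ι.restrictScalars R).rTensor C' ∘ₗ
        (TensorProduct.comm R C' K).toLinearMap := by
    ext c k
    simp
  rw [hcomm]
  exact (TensorProduct.comm R P C').injective.comp (hr.comp (TensorProduct.comm R C' K).injective)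

end Helper23.GTor
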