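import Groth.Agent.Lib.Helper23.GluePairAlg
import Groth.Agent.Lib.Helper23.GlueFG
import Groth.Agent.Lib.Helper23.GlueTor
import Mathlib.RingTheory.RingHom.FinitePresentation

/-!
# Finite presentation of a flat ring map descends along a glueing pair
-/

universe u
open TensorProduct

namespace Helper23.GPFP

attribute [local instance] Algebra.TensorProduct.rightAlgebra

variable {R R' : Type u} [CommRing R] [CommRing R'] [Algebra R R'] {f : R}
variable {A B : Type u} [CommRing A] [Algebra R A] [CommRing B] [Algebra R B]

/-- The localization piece: the kernel generates a finitely generated ideal in `P_p`. -/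
theorem map_away_fg [Algebra A B] {P : Type u} [CommRing P] [Algebra A P]
    [Algebra.FinitePresentation A P] (π : P →ₐ[A] B) (hπ : Function.Surjective π)
    (p : P) (Pf : Type u) [CommRing Pf] [Algebra P Pf] [IsLocalization.Away p Pf]
    (Bf : Type u) [CommRing Bf] [Algebra B Bf] [IsLocalization.Away (π p) Bf] [Algebra A Bf]
    [IsScalarTower A B Bf] [Algebra.FinitePresentation A Bf] :
    ((RingHom.ker π.toRingHom).map (algebraMap P Pf)).FG := by
  letI : Algebra A Pf := ((algebraMap P Pf).comp (algebraMap A P)).toAlgebra
  haveI : IsScalarTower A P Pf := IsScalarTower.of_algebraMap_eq (fun _ => rfl)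
  haveI : Algebra.FinitePresentation P Pf := IsLocalization.Away.finitePresentation p
  haveI : Algebra.FinitePresentation A Pf := Algebra.FinitePresentation.trans A P Pf
  let g : P →+* Bf := (algebraMap B Bf).comp π.toRingHom
  have hg : IsUnit (g p) := IsLocalization.Away.algebraMap_isUnit (π p)
  let πf0 : Pf →+* Bf := IsLocalization.Away.lift p hg
  have hπf0 : ∀ x, πf0 (algebraMap P Pf x) = algebraMap B Bf (π x) :=
    IsLocalization.Away.lift_eq p hg
  let πf : Pf →ₐ[A] Bf :=
    { πf0 with
      commutes' := fun a => by
        change πf0 (algebraMap A Pf a) = _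
        rw [IsScalarTower.algebraMap_apply A P Pf, hπf0, AlgHom.commutes,
          ← IsScalarTower.algebraMap_apply] }
  have hπf : ∀ x, πf x = πf0 x := fun _ => rfl
  have hsurj : Function.Surjective πf := by
    intro y
    obtain ⟨b, ⟨_, m, rfl⟩, rfl⟩ := IsLocalization.exists_mk'_eq (Submonoid.powers (π p)) y
    obtain ⟨x, rfl⟩ := hπ b
    refine ⟨IsLocalization.mk' Pf x (⟨p ^ m, m, rfl⟩ : Submonoid.powers p), ?_⟩
    rw [IsLocalization.eq_mk'_iff_mul_eq, hπf]
    simp only
    rw [← map_pow, ← hπf0, ← map_mul, IsLocalization.mk'_spec, hπf0]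
  have hker : RingHom.ker πf.toRingHom = (RingHom.ker π.toRingHom).map (algebraMap P Pf) := by
    apply le_antisymm
    · intro x hx
      obtain ⟨x₀, ⟨_, m, rfl⟩, rfl⟩ := IsLocalization.exists_mk'_eq (Submonoid.powers p) x
      rw [IsLocalization.mk'_mem_map_algebraMap_iff (Submonoid.powers p)]
      have h1 : πf0 (IsLocalization.mk' Pf x₀ (⟨p ^ m, m, rfl⟩ : Submonoid.powers p)) = 0 := hx
      have h2 : algebraMap B Bf (π x₀) = 0 := by
        rw [← hπf0, ← IsLocalization.mk'_spec Pf x₀ (⟨p ^ m, m, rfl⟩ : Submonoid.powers p),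
          map_mul, h1, zero_mul]
      obtain ⟨⟨_, j, rfl⟩, hj⟩ := (IsLocalization.map_eq_zero_iff (Submonoid.powers (π p)) Bf _).mp h2
      refine ⟨p ^ j, ⟨j, rfl⟩, ?_⟩
      rw [RingHom.mem_ker]
      change π (p ^ j * x₀) = 0
      rw [map_mul, map_pow]
      exact hj
    · rw [Ideal.map_le_iff_le_comap]
      intro x hx
      rw [Ideal.mem_comap, RingHom.mem_ker]
      change πf0 (algebraMap P Pf x) = 0
      rw [hπf0]
      have : π x = 0 := hx
      rw [this, map_zero]
  rw [← hker]
  exact Algebra.FinitePresentation.ker_fG_of_surjective πf hsurj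

/-- The `R'`-piece: the kernel generates a finitely generated ideal in `R' ⊗ P`. -/
theorem map_tensor_fg [Algebra A B] [IsScalarTower R A B] {P : Type u} [CommRing P] [Algebra A P]
    [Algebra R P] [IsScalarTower R A P] [Algebra.FinitePresentation A P]
    (π : P →ₐ[A] B) (hπ : Function.Surjective π)
    (h2 : (Algebra.TensorProduct.map (AlgHom.id R R')
      (IsScalarTower.toAlgHom R A B)).toRingHom.FinitePresentation) :
    ((RingHom.ker π.toRingHom).map
      (Algebra.TensorProduct.includeRight : P →ₐ[R] R' ⊗[R] P).toRingHom).FG := by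
  letI algB : Algebra (R' ⊗[R] A) (R' ⊗[R] B) :=
    (Algebra.TensorProduct.map (AlgHom.id R R') (IsScalarTower.toAlgHom R A B)).toRingHom.toAlgebra
  letI algP : Algebra (R' ⊗[R] A) (R' ⊗[R] P) :=
    (Algebra.TensorProduct.map (AlgHom.id R R') (IsScalarTower.toAlgHom R A P)).toRingHom.toAlgebra
  haveI fpB : Algebra.FinitePresentation (R' ⊗[R] A) (R' ⊗[R] B) := h2
  haveI fpP : Algebra.FinitePresentation (R' ⊗[R] A) (R' ⊗[R] P) :=
    Algebra.FinitePresentation.equiv (Helper23.GPA.tensorEquiv (R := R) (R' := R') (A := A) (B := P) rfl)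
  let π0 : R' ⊗[R] P →ₐ[R'] R' ⊗[R] B :=
    Algebra.TensorProduct.map (AlgHom.id R' R') (π.restrictScalars R)
  have hπ0 : ∀ (r' : R') (x : P), π0 (r' ⊗ₜ[R] x) = r' ⊗ₜ[R] π x := fun r' x => by
    simp [π0]
  let π' : R' ⊗[R] P →ₐ[R' ⊗[R] A] R' ⊗[R] B :=
    { π0.toRingHom with
      commutes' := fun x => by
        change π0 ((Algebra.TensorProduct.map (AlgHom.id R R') (IsScalarTower.toAlgHom R A P)) x) =
          (Algebra.TensorProduct.map (AlgHom.id R R') (IsScalarTower.toAlgHom R A B)) x
        induction x using TensorProduct.induction_on with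
        | zero => simp
        | add x y hx hy => rw [map_add, map_add, map_add, hx, hy]
        | tmul s' a =>
          simp only [Algebra.TensorProduct.map_tmul, hπ0, AlgHom.id_apply,
            IsScalarTower.toAlgHom_apply, AlgHom.commutes] }
  have hπ' : ∀ x, π' x = π0 x := fun _ => rfl
  have hsurj : Function.Surjective π' := by
    intro y
    induction y using TensorProduct.induction_on with
    | zero => exact ⟨0, map_zero _⟩
    | add x y hx hy =>
      obtain ⟨x', rfl⟩ := hx
      obtain ⟨y', rfl⟩ := hy
      exact ⟨x' + y', map_add _ _ _⟩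
    | tmul r' b =>
      obtain ⟨x, rfl⟩ := hπ b
      exact ⟨r' ⊗ₜ[R] x, by rw [hπ', hπ0]⟩
  have hker : RingHom.ker π'.toRingHom = (RingHom.ker π.toRingHom).map
      (Algebra.TensorProduct.includeRight : P →ₐ[R] R' ⊗[R] P).toRingHom := by
    apply le_antisymm
    · intro x hx
      have hx0 : π0 x = 0 := hx
      have hlin : ∀ y, π0 y = ((π.toLinearMap.restrictScalars R).lTensor R') y := by
        intro y
        induction y using TensorProduct.induction_on with
        | zero => simp
        | add x y hx hy => rw [map_add, map_add, hx, hy]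
        | tmul r' z => rw [hπ0, LinearMap.lTensor_tmul]; rfl
      rw [hlin] at hx0
      have hex : Function.Exact ((RingHom.ker π.toRingHom).restrictScalars R).subtype
          (π.toLinearMap.restrictScalars R) := by
        intro z
        constructor
        · intro hz
          exact ⟨⟨z, hz⟩, rfl⟩
        · rintro ⟨⟨w, hw⟩, rfl⟩
          exact hw
      obtain ⟨t, rfl⟩ := (lTensor_exact R' hex hπ x).mp hx0
      exact Helper23.GFG.range_le_map_includeRight _ t
    · rw [Ideal.map_le_iff_le_comap]
      intro x hx
      rw [Ideal.mem_comap, RingHom.mem_ker]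
      change π0 ((1 : R') ⊗ₜ[R] x) = 0
      rw [hπ0]
      have : π x = 0 := hx
      rw [this, TensorProduct.tmul_zero]
  rw [← hker]
  exact Algebra.FinitePresentation.ker_fG_of_surjective π' hsurj

/-- The Tor-vanishing input: `R' ⊗ K → R' ⊗ P` is injective when `B = P/K` is flat over `A`. -/
theorem tor_injective [Algebra A B] [Module.Flat A B] {P : Type u} [CommRing P] [Algebra A P]
    [Algebra R P] [IsScalarTower R A P] (π : P →ₐ[A] B) (hπ : Function.Surjective π) :
    Function.Injective (((RingHom.ker π.toRingHom).restrictScalars R).subtype.lTensor R') := by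
  set K := RingHom.ker π.toRingHom with hK
  let ι : ↥K →ₗ[A] P := K.subtype.restrictScalars A
  have hι : Function.Injective ι := Subtype.val_injective
  have hex : Function.Exact ι π.toLinearMap := by
    intro z
    constructor
    · intro hz
      exact ⟨⟨z, hz⟩, rfl⟩
    · rintro ⟨⟨w, hw⟩, rfl⟩
      exact hw
  have h := Helper23.GTor.rTensor_injective_of_flat_coker ι π.toLinearMap hι hex hπ (A ⊗[R] R')
  have h' := Helper23.GTor.lTensor_injective_of_rTensor_baseChange (R := R) ι R' h
  let e : ↥(K.restrictScalars R) ≃ₗ[R] ↥K :=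
    (Submodule.restrictScalarsEquiv R P P K).restrictScalars R
  have he : (K.restrictScalars R).subtype = (ι.restrictScalars R) ∘ₗ e.toLinearMap := by
    ext x
    rfl
  rw [he, LinearMap.lTensor_comp]
  exact h'.comp (LinearEquiv.lTensor R' e).injective

/-- Finite presentation of a flat, finite type ring map descends along a glueing pair. -/
theorem finitePresentation_of_glueing (hq : EtGlue.QuotPowBijective R R' f) (φ : A →ₐ[R] B)
    (hflat : φ.toRingHom.Flat) (hft : φ.toRingHom.FiniteType)
    (h1 : (Localization.awayMap φ.toRingHom (algebraMap R A f)).FinitePresentation)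
    (h2 : (Algebra.TensorProduct.map (AlgHom.id R R') φ).toRingHom.FinitePresentation) :
    φ.toRingHom.FinitePresentation := by
  letI : Algebra A B := φ.toRingHom.toAlgebra
  haveI : IsScalarTower R A B := IsScalarTower.of_algebraMap_eq (fun r => (φ.commutes r).symm)
  have hφ : IsScalarTower.toAlgHom R A B = φ := by
    ext x
    rfl
  haveI : Module.Flat A B := hflat
  haveI hft' : Algebra.FiniteType A B := hft
  obtain ⟨n, π, hπ⟩ := Algebra.FiniteType.iff_quotient_mvPolynomial''.mp hft'
  set fA := algebraMap R A f with hfA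
  set fB := φ.toRingHom fA with hfB
  set g := Localization.awayMap φ.toRingHom fA with hg
  letI : Algebra (Localization.Away fA) (Localization.Away fB) := g.toAlgebra
  haveI : IsScalarTower A (Localization.Away fA) (Localization.Away fB) :=
    IsScalarTower.of_algebraMap_eq (fun x => by
      rw [IsScalarTower.algebraMap_apply A B (Localization.Away fB)]
      change algebraMap B (Localization.Away fB) (φ.toRingHom x) =
        g (algebraMap A (Localization.Away fA) x)
      rw [hg]
      exact (IsLocalization.map_eq _ _).symm)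
  haveI : Algebra.FinitePresentation (Localization.Away fA) (Localization.Away fB) := h1
  haveI : Algebra.FinitePresentation A (Localization.Away fA) :=
    IsLocalization.Away.finitePresentation fA
  haveI : Algebra.FinitePresentation A (Localization.Away fB) :=
    Algebra.FinitePresentation.trans A (Localization.Away fA) (Localization.Away fB)
  have hp : π (algebraMap R (MvPolynomial (Fin n) A) f) = fB := by
    rw [IsScalarTower.algebraMap_apply R A (MvPolynomial (Fin n) A), AlgHom.commutes]
    rfl
  haveI : IsLocalization.Away (π (algebraMap R (MvPolynomial (Fin n) A) f))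
      (Localization.Away fB) := by
    rw [hp]
    infer_instance
  have hK : (RingHom.ker π.toRingHom).FG :=
    Helper23.GFG.ideal_fg_of_glueing hq _
      (map_away_fg π hπ (algebraMap R (MvPolynomial (Fin n) A) f) _ (Localization.Away fB))
      (map_tensor_fg (R := R) (R' := R') π hπ (by rw [hφ]; exact h2))
      (tor_injective (R := R) (R' := R') π hπ)
  exact Algebra.FinitePresentation.of_surjective hπ hK

/-- Finite presentation is stable under `R' ⊗ -`. -/
theorem map_finitePresentation (φ : A →ₐ[R] B) (h : φ.toRingHom.FinitePresentation) :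
    (Algebra.TensorProduct.map (AlgHom.id R R') φ).toRingHom.FinitePresentation := by
  letI : Algebra A B := φ.toRingHom.toAlgebra
  haveI : IsScalarTower R A B := IsScalarTower.of_algebraMap_eq (fun r => (φ.commutes r).symm)
  have hφ : IsScalarTower.toAlgHom R A B = φ := by
    ext x
    rfl
  haveI : Algebra.FinitePresentation A B := h
  letI : Algebra (R' ⊗[R] A) (R' ⊗[R] B) :=
    (Algebra.TensorProduct.map (AlgHom.id R R') (IsScalarTower.toAlgHom R A B)).toRingHom.toAlgebra
  have : Algebra.FinitePresentation (R' ⊗[R] A) (R' ⊗[R] B) :=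
    Algebra.FinitePresentation.equiv
      (Helper23.GPA.tensorEquiv (R := R) (R' := R') (A := A) (B := B) rfl)
  rw [← hφ]
  exact this

end Helper23.GPFP
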