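import Groth.Agent.Lib.Helper23.GluePairAlg
import Mathlib.RingTheory.RingHom.Unramified
import Mathlib.RingTheory.Kaehler.TensorProduct

/-!
# Formal unramifiedness of a ring map descends along a glueing pair
-/

universe u
open TensorProduct KaehlerDifferential

namespace Helper23.GPU

attribute [local instance] Algebra.TensorProduct.rightAlgebra

variable {R R' : Type u} [CommRing R] [CommRing R'] [Algebra R R'] {f : R}
variable {A B : Type u} [CommRing A] [Algebra R A] [CommRing B] [Algebra R B]

theorem formallyUnramified_of_glueing (hq : EtGlue.QuotPowBijective R R' f) (φ : A →ₐ[R] B)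
    (h1 : (Localization.awayMap φ.toRingHom (algebraMap R A f)).FormallyUnramified)
    (h2 : (Algebra.TensorProduct.map (AlgHom.id R R') φ).toRingHom.FormallyUnramified) :
    φ.toRingHom.FormallyUnramified := by
  letI : Algebra A B := φ.toRingHom.toAlgebra
  haveI : IsScalarTower R A B := IsScalarTower.of_algebraMap_eq (fun r => (φ.commutes r).symm)
  have hφ : IsScalarTower.toAlgHom R A B = φ := by
    ext x
    rfl
  set fA := algebraMap R A f with hfA
  set fB := φ.toRingHom fA with hfB
  set g := Localization.awayMap φ.toRingHom fA with hg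
  letI : Algebra (Localization.Away fA) (Localization.Away fB) := g.toAlgebra
  haveI : IsScalarTower A (Localization.Away fA) (Localization.Away fB) :=
    IsScalarTower.of_algebraMap_eq (fun x => by
      rw [IsScalarTower.algebraMap_apply A B (Localization.Away fB)]
      change algebraMap B (Localization.Away fB) (φ.toRingHom x) =
        g (algebraMap A (Localization.Away fA) x)
      rw [hg]
      exact (IsLocalization.map_eq _ _).symm)
  haveI : Algebra.FormallyUnramified (Localization.Away fA) (Localization.Away fB) := h1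
  haveI : IsLocalization (Algebra.algebraMapSubmonoid B (Submonoid.powers fA))
      (Localization.Away fB) := by
    have : Algebra.algebraMapSubmonoid B (Submonoid.powers fA) = Submonoid.powers fB :=
      Submonoid.map_powers _ _
    rw [this]
    infer_instance
  -- torsion
  have hQ : ∀ ω : Ω[B⁄A], ∃ n : ℕ, f ^ n • ω = 0 := by
    intro ω
    have hloc := KaehlerDifferential.isLocalizedModule A (Localization.Away fA) B
      (Localization.Away fB) (Submonoid.powers fA)
    have h0 : ((KaehlerDifferential.map A (Localization.Away fA) B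
        (Localization.Away fB)).restrictScalars A) ω = 0 := Subsingleton.elim _ _
    obtain ⟨⟨_, m, rfl⟩, hm⟩ := (IsLocalizedModule.eq_zero_iff (Submonoid.powers fA) _).mp h0
    refine ⟨m, ?_⟩
    rw [Submonoid.smul_def] at hm
    simp only at hm
    rw [← IsScalarTower.algebraMap_smul A (f ^ m) ω, map_pow]
    exact hm
  -- the R'-piece
  letI : Algebra (R' ⊗[R] A) (R' ⊗[R] B) :=
    (Algebra.TensorProduct.map (AlgHom.id R R') (IsScalarTower.toAlgHom R A B)).toRingHom.toAlgebra
  haveI hu2 : Algebra.FormallyUnramified (R' ⊗[R] A) (R' ⊗[R] B) := by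
    have := h2
    rw [← hφ] at this
    exact this
  haveI hu3 : Algebra.FormallyUnramified (R' ⊗[R] A) ((R' ⊗[R] A) ⊗[A] B) :=
    Algebra.FormallyUnramified.of_equiv
      (Helper23.GPA.tensorEquiv (R := R) (R' := R') (A := A) (B := B) rfl).symm
  have hs1 : Subsingleton ((R' ⊗[R] A) ⊗[A] Ω[B⁄A]) :=
    (KaehlerDifferential.tensorKaehlerEquivBase A (R' ⊗[R] A) B
      ((R' ⊗[R] A) ⊗[A] B)).toEquiv.subsingleton
  have hs2 : Subsingleton (R' ⊗[R] Ω[B⁄A]) :=
    (Algebra.IsPushout.cancelBaseChange R R' A (R' ⊗[R] A) Ω[B⁄A]).symm.toEquiv.subsingleton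
  exact ⟨Helper23.BL.subsingleton_of_tensor hq hQ hs2⟩

/-- Formal unramifiedness is stable under `R' ⊗ -`. -/
theorem map_formallyUnramified (φ : A →ₐ[R] B) (h : φ.toRingHom.FormallyUnramified) :
    (Algebra.TensorProduct.map (AlgHom.id R R') φ).toRingHom.FormallyUnramified := by
  letI : Algebra A B := φ.toRingHom.toAlgebra
  haveI : IsScalarTower R A B := IsScalarTower.of_algebraMap_eq (fun r => (φ.commutes r).symm)
  have hφ : IsScalarTower.toAlgHom R A B = φ := by
    ext x
    rfl
  haveI : Algebra.FormallyUnramified A B := h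
  letI : Algebra (R' ⊗[R] A) (R' ⊗[R] B) :=
    (Algebra.TensorProduct.map (AlgHom.id R R') (IsScalarTower.toAlgHom R A B)).toRingHom.toAlgebra
  have : Algebra.FormallyUnramified (R' ⊗[R] A) (R' ⊗[R] B) :=
    Algebra.FormallyUnramified.of_equiv
      (Helper23.GPA.tensorEquiv (R := R) (R' := R') (A := A) (B := B) rfl)
  rw [← hφ]
  exact this

end Helper23.GPU
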