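import Groth.Agent.Lib.Helper23.HensSection
import Groth.Prelude.Def_EtCore
import Mathlib.Algebra.Homology.DerivedCategory.Ext.EnoughProjectives
import Mathlib.CategoryTheory.Sites.EpiMono

set_option autoImplicit false
universe u

namespace Groth.Agent.Lib.Helper23.HensProj

open CategoryTheory CategoryTheory.Limits AlgebraicGeometry Opposite
open Groth.Agent.Lib.Helper23.HensSection

variable (R : Type u) [CommRing R] [HenselianLocalRing R] [IsSepClosed (IsLocalRing.ResidueField R)]

set_option backward.isDefEq.respectTransparency.types false in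
set_option backward.isDefEq.respectTransparency false in
/-- Over a strictly henselian local ring, an epimorphism of abelian etale sheaves is surjective
on global sections. -/
lemma sections_surjective_of_epi {E X : EtCoh.Ab (Spec (CommRingCat.of R))} (e : E ⟶ X) [Epi e] :
    Function.Surjective (e.hom.app (op (EtCoh.top (Spec (CommRingCat.of R))))) := by
  intro z
  haveI : Sheaf.IsLocallySurjective e :=
    (Sheaf.isLocallySurjective_iff_epi' AddCommGrpCat.{u+1} e).2 inferInstance
  let Φ := Scheme.pointSmallEtale (xi R)
  obtain ⟨Y, g, ⟨t, ht⟩, y, hy⟩ := Φ.jointly_surjective _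
    (Presheaf.imageSieve_mem (Spec (CommRingCat.of R)).smallEtaleTopology e.hom z) (x0 R)
  obtain ⟨σ, hσ⟩ := exists_section_site R Y y
  have hσg : σ ≫ g = 𝟙 _ := top_hom_ext _ _
  refine ⟨E.obj.map σ.op t, ?_⟩
  have h1 := congrArg (fun φ => φ t) (e.hom.naturality σ.op)
  simp only [ConcreteCategory.comp_apply] at h1
  rw [h1, ht, ← ConcreteCategory.comp_apply, ← Functor.map_comp, ← op_comp, hσg]
  simp

set_option backward.isDefEq.respectTransparency.types false in
set_option backward.isDefEq.respectTransparency false in
/-- Over a strictly henselian local ring the constant sheaf `ℤ` is a projective object. -/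
lemma projective_constZ :
    Projective ((constantSheaf (Spec (CommRingCat.of R)).smallEtaleTopology AddCommGrpCat.{u+1}).obj
      (AddCommGrpCat.of (ULift.{u+1} ℤ))) := by
  constructor
  intro E X f e _
  let adj := EtCore.constAdj (Spec (CommRingCat.of R))
  let f' := adj.homEquiv _ _ f
  obtain ⟨s, hs⟩ := sections_surjective_of_epi R e
    (AddCommGrpCat.uliftZMultiplesAddEquiv _ f')
  let h : AddCommGrpCat.of (ULift.{u+1} ℤ) ⟶ (EtCore.gsec _).obj E :=
    (AddCommGrpCat.uliftZMultiplesAddEquiv _).symm s
  refine ⟨(adj.homEquiv _ _).symm h, ?_⟩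
  apply (adj.homEquiv _ _).injective
  rw [Adjunction.homEquiv_naturality_right, Equiv.apply_symm_apply]
  apply (AddCommGrpCat.uliftZMultiplesAddEquiv _).injective
  refine Eq.trans ?_ hs
  have : AddCommGrpCat.uliftZMultiplesAddEquiv _ h = s := AddEquiv.apply_symm_apply _ _
  rw [← this]
  rfl

/-- Over a strictly henselian local ring, etale cohomology vanishes in positive degrees. -/
lemma H_subsingleton (F : EtCoh.Ab (Spec (CommRingCat.of R))) (p : ℕ) (hp : 1 ≤ p) :
    Subsingleton (EtCoh.H (Spec (CommRingCat.of R)) F p) := by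
  obtain ⟨n, rfl⟩ : ∃ n, p = n + 1 := ⟨p - 1, by omega⟩
  haveI := projective_constZ R
  exact subsingleton_of_forall_eq 0 fun x => Abelian.Ext.eq_zero_of_projective x

end Groth.Agent.Lib.Helper23.HensProj
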