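import Groth.Prelude.Def_EtBase
import Groth.Agent.S0501
import Mathlib.RingTheory.LocalRing.ResidueField.Ideal
import Mathlib.AlgebraicGeometry.Morphisms.Etale

set_option autoImplicit false
universe u

namespace Groth.Agent.Lib.Helper23.HensSection

open CategoryTheory CategoryTheory.Limits AlgebraicGeometry Opposite

/-- Ring level: an `R`-algebra map from an etale `R`-algebra to the residue field of a henselian
local ring `R` lifts to a retraction `A → R`. -/
lemma exists_algHom_lift (R : Type u) [CommRing R] [HenselianLocalRing R] (A : Type u) [CommRing A]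
    [Algebra R A] [Algebra.Etale R A]
    (θ : A →+* IsLocalRing.ResidueField R)
    (hθ : θ.comp (algebraMap R A) = IsLocalRing.residue R) :
    ∃ f : A →ₐ[R] R, ∀ a, IsLocalRing.residue R (f a) = θ a := by
  let q : Ideal A := RingHom.ker θ
  haveI : q.IsPrime := RingHom.ker_isPrime θ
  have h2 : q.primeCompl ≤ (IsUnit.submonoid (IsLocalRing.ResidueField R)).comap θ := by
    intro a ha
    simp only [Submonoid.mem_comap, IsUnit.mem_submonoid_iff]
    exact isUnit_iff_ne_zero.2 (fun h => ha (RingHom.mem_ker.2 h))
  let τ : q.ResidueField →+* IsLocalRing.ResidueField R := Ideal.ResidueField.lift q θ le_rfl h2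
  have hτ : τ.comp (algebraMap R q.ResidueField) =
      (IsLocalRing.residue R).comp (algebraMap R R) := by
    ext r
    simp only [RingHom.comp_apply]
    rw [IsScalarTower.algebraMap_apply R A q.ResidueField]
    rw [Ideal.ResidueField.lift_algebraMap]
    have := congrArg (fun g : R →+* IsLocalRing.ResidueField R => g r) hθ
    simpa using this
  obtain ⟨f, ⟨_, hf⟩, _⟩ := Groth.Agent.S0501.result R R A q τ hτ
  exact ⟨f, fun a => (hf a).trans (Ideal.ResidueField.lift_algebraMap _ _ _ h2 a)⟩

set_option backward.isDefEq.respectTransparency.types false in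
set_option backward.isDefEq.respectTransparency false in
/-- Scheme level: an etale scheme over a henselian local ring has a section through every rational
point of the closed fibre. -/
lemma exists_section {R : Type u} [CommRing R] [HenselianLocalRing R]
    {U : Scheme.{u}} (f : U ⟶ Spec (CommRingCat.of R)) [Etale f]
    (t : Spec (CommRingCat.of (IsLocalRing.ResidueField R)) ⟶ U)
    (ht : t ≫ f = Spec.map (CommRingCat.ofHom (IsLocalRing.residue R))) :
    ∃ s : Spec (CommRingCat.of R) ⟶ U, s ≫ f = 𝟙 _ ∧
      Spec.map (CommRingCat.ofHom (IsLocalRing.residue R)) ≫ s = t := by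
  obtain ⟨A, j, _, hj, _⟩ := Scheme.exists_affine_mem_range_and_range_subset
    (x := t default) (U := (⊤ : U.Opens)) (by simp)
  have hrange : Set.range t ⊆ Set.range j := by
    rintro _ ⟨a, rfl⟩
    rwa [Subsingleton.elim a default]
  let t' : Spec (CommRingCat.of (IsLocalRing.ResidueField R)) ⟶ Spec A :=
    IsOpenImmersion.lift j t hrange
  have ht' : t' ≫ j = t := IsOpenImmersion.lift_fac j t hrange
  let ψ : CommRingCat.of R ⟶ A := Spec.preimage (j ≫ f)
  have hψ : Spec.map ψ = j ≫ f := Spec.map_preimage _
  let θ : A ⟶ CommRingCat.of (IsLocalRing.ResidueField R) := Spec.preimage t'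
  have hθ : Spec.map θ = t' := Spec.map_preimage _
  have hcomp : ψ ≫ θ = CommRingCat.ofHom (IsLocalRing.residue R) := by
    apply Spec.map_injective
    rw [Spec.map_comp, hθ, hψ, ← Category.assoc, ht', ht]
  have hEt : ψ.hom.Etale := by
    have : Etale (Spec.map ψ) := by rw [hψ]; infer_instance
    exact (HasRingHomProperty.Spec_iff (P := @Etale)).1 this
  algebraize [ψ.hom]
  have hθ' : θ.hom.comp (algebraMap R A) = IsLocalRing.residue R := by
    have := congrArg CommRingCat.Hom.hom hcomp
    exact this
  obtain ⟨g, hg⟩ := exists_algHom_lift R A θ.hom hθ'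
  refine ⟨Spec.map (CommRingCat.ofHom g.toRingHom) ≫ j, ?_, ?_⟩
  · rw [Category.assoc, ← hψ, ← Spec.map_comp]
    have : ψ ≫ CommRingCat.ofHom g.toRingHom = 𝟙 _ := by
      ext r
      exact g.commutes r
    rw [this, Spec.map_id]
  · rw [← Category.assoc, ← Spec.map_comp]
    have : CommRingCat.ofHom g.toRingHom ≫ CommRingCat.ofHom (IsLocalRing.residue R) = θ := by
      ext a
      exact hg a
    rw [this, hθ, ht']

section Site

variable (R : Type u) [CommRing R] [HenselianLocalRing R] [IsSepClosed (IsLocalRing.ResidueField R)]

/-- The closed geometric point of `Spec R`. -/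
noncomputable abbrev xi : Spec (CommRingCat.of (IsLocalRing.ResidueField R)) ⟶ Spec (CommRingCat.of R) :=
  Spec.map (CommRingCat.ofHom (IsLocalRing.residue R))

/-- The tautological element of the fibre over the final object. -/
noncomputable abbrev x0 : (Scheme.pointSmallEtale (xi R)).fiber.obj (EtCoh.top (Spec (CommRingCat.of R))) :=
  Over.homMk (xi R) (Category.comp_id _)

set_option backward.isDefEq.respectTransparency.types false in
set_option backward.isDefEq.respectTransparency false in
lemma exists_section_site (U : (Spec (CommRingCat.of R)).Etale)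
    (u : (Scheme.pointSmallEtale (xi R)).fiber.obj U) :
    ∃ σ : EtCoh.top (Spec (CommRingCat.of R)) ⟶ U,
      (Scheme.pointSmallEtale (xi R)).fiber.map σ (x0 R) = u := by
  haveI : Etale U.hom := U.prop
  have hu : (u.left : Spec (CommRingCat.of (IsLocalRing.ResidueField R)) ⟶ U.left) ≫ U.hom = xi R :=
    Over.w u
  obtain ⟨s, hs1, hs2⟩ := exists_section U.hom u.left hu
  refine ⟨MorphismProperty.Over.homMk s (hs1.trans (Category.id_comp _).symm) trivial, ?_⟩
  apply Over.OverMorphism.ext
  exact hs2

set_option backward.isDefEq.respectTransparency.types false in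
set_option backward.isDefEq.respectTransparency false in
lemma top_hom_ext {S : Scheme.{u}} {V : S.Etale} (a b : V ⟶ EtCoh.top S) : a = b := by
  apply MorphismProperty.Over.Hom.ext
  have ha : a.left ≫ 𝟙 S = V.hom := Over.w a.hom
  have hb : b.left ≫ 𝟙 S = V.hom := Over.w b.hom
  exact ((Category.comp_id _).symm.trans ha).trans ((Category.comp_id _).symm.trans hb).symm

end Site

end Groth.Agent.Lib.Helper23.HensSection
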