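import Groth.Agent.Lib.Helper23.HpullComp
import Groth.Prelude.Def_LefMon

/-!
# Functoriality of `EtAdic.Hmap` (pullback on cohomology with constant coefficients) (helper23)
-/

set_option autoImplicit false
set_option backward.isDefEq.respectTransparency false

universe u

open CategoryTheory CategoryTheory.Limits Opposite AlgebraicGeometry Abelian

namespace Groth.Agent.Lib.Helper23.HmapComp

open Groth.Agent.Lib.Helper23.ExtFunct Groth.Agent.Lib.Helper23.PullConstComp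
  Groth.Agent.Lib.Helper23.HpullNat Groth.Agent.Lib.Helper23.HpullComp

variable {X Y Z : Scheme.{u}}

lemma Hmap_apply (ℓ : ℕ) (f : X ⟶ Y) (hf : PreservesFiniteLimits (EtCoh.pull f)) (i ν : ℕ)
    (x : EtAdic.Hmod Y ℓ i ν) :
    EtAdic.Hmap ℓ f hf i ν x =
      (EtCore.Hpull f (EtCoh.const Y (ZMod (ℓ ^ ν))) i x).comp
        (Ext.mk₀ (EtCore.pullConst f (ZMod (ℓ ^ ν))).hom) (add_zero i) := rfl

lemma pullConst_hom_comp (f : X ⟶ Y) (g : Y ⟶ Z) (f₀ : X ⟶ Z) (w : f ≫ g = f₀)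
    (M : Type) [AddCommGroup M] :
    ((EtCore.pullComp f g).symm ≪≫ EtCore.pullCongr w).hom.app (EtCoh.const Z M) ≫
        (EtCore.pullConst f₀ M).hom =
      (EtCoh.pull f).map (EtCore.pullConst g M).hom ≫ (EtCore.pullConst f M).hom := by
  have h := pullConst_comp f g f₀ w M
  rw [← cancel_epi ((EtCore.pullConst f M).inv ≫ (EtCoh.pull f).map (EtCore.pullConst g M).inv)]
  have h1 : ((EtCore.pullConst f M).inv ≫ (EtCoh.pull f).map (EtCore.pullConst g M).inv) ≫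
      ((EtCore.pullComp f g).symm ≪≫ EtCore.pullCongr w).hom.app (EtCoh.const Z M) ≫
        (EtCore.pullConst f₀ M).hom = 𝟙 _ := by
    have h2 : ((EtCore.pullConst f M).inv ≫ (EtCoh.pull f).map (EtCore.pullConst g M).inv) ≫
        ((EtCore.pullComp f g).symm ≪≫ EtCore.pullCongr w).hom.app (EtCoh.const Z M) ≫
          (EtCore.pullConst f₀ M).hom =
        (EtCore.pullConst f₀ M).inv ≫ (EtCore.pullConst f₀ M).hom := by
      rw [h]
      simp only [Category.assoc]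
    rw [h2, Iso.inv_hom_id]
  have h3 : ((EtCore.pullConst f M).inv ≫ (EtCoh.pull f).map (EtCore.pullConst g M).inv) ≫
      (EtCoh.pull f).map (EtCore.pullConst g M).hom ≫ (EtCore.pullConst f M).hom = 𝟙 _ := by
    rw [Category.assoc, ← Category.assoc ((EtCoh.pull f).map (EtCore.pullConst g M).inv),
      ← Functor.map_comp, Iso.inv_hom_id, CategoryTheory.Functor.map_id, Category.id_comp,
      Iso.inv_hom_id]
  rw [h1, h3]

/-- `Hmap` is compatible with composition -/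
theorem Hmap_comp (ℓ : ℕ) (f : X ⟶ Y) (g : Y ⟶ Z) (f₀ : X ⟶ Z) (w : f ≫ g = f₀)
    (hf : PreservesFiniteLimits (EtCoh.pull f)) (hg : PreservesFiniteLimits (EtCoh.pull g))
    (hf₀ : PreservesFiniteLimits (EtCoh.pull f₀)) (i ν : ℕ) (x : EtAdic.Hmod Z ℓ i ν) :
    EtAdic.Hmap ℓ f hf i ν (EtAdic.Hmap ℓ g hg i ν x) = EtAdic.Hmap ℓ f₀ hf₀ i ν x := by
  have hV := HpullVia_Hpull f g f₀ w (EtCoh.const Z (ZMod (ℓ ^ ν))) i x
  have hv : EtCore.HpullVia f g f₀ w (EtCoh.const Z (ZMod (ℓ ^ ν))) i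
      (EtCore.Hpull g (EtCoh.const Z (ZMod (ℓ ^ ν))) i x) =
      (EtCore.Hpull f _ i (EtCore.Hpull g (EtCoh.const Z (ZMod (ℓ ^ ν))) i x)).comp
        (Ext.mk₀ (((EtCore.pullComp f g).symm ≪≫ EtCore.pullCongr w).hom.app
          (EtCoh.const Z (ZMod (ℓ ^ ν))))) (add_zero i) := rfl
  rw [Hmap_apply, Hmap_apply, Hmap_apply, Hpull_comp_mk₀, ← hV, hv,
    Ext.comp_assoc_of_third_deg_zero, Ext.comp_assoc_of_third_deg_zero, Ext.mk₀_comp_mk₀,
    Ext.mk₀_comp_mk₀, pullConst_hom_comp]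

end Groth.Agent.Lib.Helper23.HmapComp
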