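import Groth.Agent.Lib.Helper23.HpullComp
import Groth.Prelude.Def_EtLim

/-!
# Compatibility of `HofPush`, `Hpull` and the degree-zero base change map (helper23)
-/

set_option autoImplicit false
set_option backward.isDefEq.respectTransparency false

universe u

open CategoryTheory CategoryTheory.Limits Opposite AlgebraicGeometry Abelian

namespace Groth.Agent.Lib.Helper23.HofPushBC

open Groth.Agent.Lib.Helper23.ExtFunct Groth.Agent.Lib.Helper23.PullConstComp
  Groth.Agent.Lib.Helper23.HpullNat Groth.Agent.Lib.Helper23.HpullComp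

variable {X Y Z X' Y' : Scheme.{u}}

/-- the unit of `(f ≫ g)^{-1} ⊣ (f ≫ g)_*` through the composition isomorphisms -/
lemma unit_pullComp (f : X ⟶ Y) (g : Y ⟶ Z) (G : EtCoh.Ab Z) :
    (EtCoh.pullPushAdj (f ≫ g)).unit.app G ≫
        (EtCoh.push (f ≫ g)).map ((EtCore.pullComp f g).hom.app G) =
      (EtCoh.pullPushAdj g).unit.app G ≫
        (EtCoh.push g).map ((EtCoh.pullPushAdj f).unit.app ((EtCoh.pull g).obj G)) ≫
          (EtCoh.pushComp g f).hom.app ((EtCoh.pull f).obj ((EtCoh.pull g).obj G)) := by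
  have h := Adjunction.unit_leftAdjointUniq_hom_app (EtCoh.pullPushAdj (f ≫ g))
    (((EtCoh.pullPushAdj g).comp (EtCoh.pullPushAdj f)).ofNatIsoRight (EtCoh.pushComp g f)) G
  rw [Adjunction.ofNatIsoRight_unit, NatTrans.comp_app, Functor.whiskerLeft_app,
    Adjunction.comp_unit_app] at h
  simp only [Functor.comp_obj, Category.assoc] at h
  exact h

set_option backward.isDefEq.respectTransparency.types false in
lemma pushCongr_rfl_app (d : X ⟶ Y) (M : EtCoh.Ab X) :
    (EtCoh.pushCongr (rfl : d = d)).hom.app M = 𝟙 _ := by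
  apply ObjectProperty.hom_ext
  ext V : 2
  change M.obj.map ((MorphismProperty.Over.pullbackCongr (P := EtCoh.etaleMP) (Q := ⊤)
    (rfl : d = d)).inv.app V.unop).op = 𝟙 _
  have : (MorphismProperty.Over.pullbackCongr (P := EtCoh.etaleMP) (Q := ⊤)
      (rfl : d = d)).inv.app V.unop = 𝟙 _ := by
    apply MorphismProperty.Over.Hom.ext
    apply pullback.hom_ext
    · simp [MorphismProperty.Over.pullbackCongr]
      exact Category.id_comp _
    · simp [MorphismProperty.Over.pullbackCongr]
      exact Category.id_comp _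
  rw [this, op_id, CategoryTheory.Functor.map_id]

lemma congr_unit {d d' : X ⟶ Y} (h : d' = d) (A : EtCoh.Ab Y) (M : EtCoh.Ab X)
    (K : (EtCoh.pull d').obj A ⟶ M) :
    (EtCoh.pullPushAdj d).unit.app A ≫
        (EtCoh.push d).map ((EtCore.pullCongr h).inv.app A ≫ K) =
      (EtCoh.pullPushAdj d').unit.app A ≫ (EtCoh.push d').map K ≫
        (EtCoh.pushCongr h).hom.app M := by
  subst h
  rw [pushCongr_rfl_app]
  have : (EtCore.pullCongr (rfl : d' = d')).inv.app A = 𝟙 _ := rfl
  rw [this, Category.id_comp]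
  erw [Category.comp_id]

lemma pushCongr_symm {d d' : X ⟶ Y} (h : d = d') (M : EtCoh.Ab X) :
    (EtCoh.pushCongr h).hom.app M ≫ (EtCoh.pushCongr h.symm).hom.app M = 𝟙 _ := by
  subst h
  rw [pushCongr_rfl_app]
  erw [Category.comp_id]

section Square

variable (f : X ⟶ Y) (g : Y' ⟶ Y) (f' : X' ⟶ Y') (g' : X' ⟶ X) (w : g' ≫ f = f' ≫ g)
  (F : EtCoh.Ab X)

lemma unit_baseChange0 :
    (EtCoh.pullPushAdj g).unit.app ((EtCoh.push f).obj F) ≫
        (EtCoh.push g).map (EtCoh.baseChange0 f g f' g' w F) =
      (EtCoh.push f).map ((EtCoh.pullPushAdj g').unit.app F) ≫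
        (EtCoh.pushComp f g').hom.app _ ≫ (EtCoh.pushCongr w).hom.app _ ≫
          (EtCoh.pushComp g f').inv.app _ := by
  have h := ((EtCoh.pullPushAdj g).homEquiv _ _).apply_symm_apply
    ((EtCoh.push f).map ((EtCoh.pullPushAdj g').unit.app F) ≫
      (EtCoh.pushComp f g').hom.app _ ≫ (EtCoh.pushCongr w).hom.app _ ≫
        (EtCoh.pushComp g f').inv.app _)
  rw [Adjunction.homEquiv_unit] at h
  exact h

/-- left hand side adjunct -/
lemma adjunct_left :
    (EtCoh.pullPushAdj (g' ≫ f)).unit.app ((EtCoh.push f).obj F) ≫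
        (EtCoh.push (g' ≫ f)).map ((EtCore.pullComp g' f).hom.app ((EtCoh.push f).obj F) ≫
          (EtCoh.pull g').map ((EtCoh.pullPushAdj f).counit.app F)) =
      (EtCoh.push f).map ((EtCoh.pullPushAdj g').unit.app F) ≫
        (EtCoh.pushComp f g').hom.app ((EtCoh.pull g').obj F) := by
  have h1 := unit_pullComp g' f ((EtCoh.push f).obj F)
  have nat1 := (EtCoh.pushComp f g').hom.naturality
    ((EtCoh.pull g').map ((EtCoh.pullPushAdj f).counit.app F))
  have nat2 := (EtCoh.pullPushAdj g').unit.naturality ((EtCoh.pullPushAdj f).counit.app F)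
  have tri := (EtCoh.pullPushAdj f).right_triangle_components F
  simp only [Functor.comp_obj, Functor.comp_map, Functor.id_obj, Functor.id_map] at nat1 nat2
  calc (EtCoh.pullPushAdj (g' ≫ f)).unit.app ((EtCoh.push f).obj F) ≫
        (EtCoh.push (g' ≫ f)).map ((EtCore.pullComp g' f).hom.app ((EtCoh.push f).obj F) ≫
          (EtCoh.pull g').map ((EtCoh.pullPushAdj f).counit.app F))
      = ((EtCoh.pullPushAdj (g' ≫ f)).unit.app ((EtCoh.push f).obj F) ≫
          (EtCoh.push (g' ≫ f)).map ((EtCore.pullComp g' f).hom.app ((EtCoh.push f).obj F))) ≫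
          (EtCoh.push (g' ≫ f)).map ((EtCoh.pull g').map ((EtCoh.pullPushAdj f).counit.app F)) := by
        rw [Functor.map_comp, Category.assoc]
    _ = (EtCoh.pullPushAdj f).unit.app ((EtCoh.push f).obj F) ≫
          (EtCoh.push f).map ((EtCoh.pullPushAdj g').unit.app
            ((EtCoh.pull f).obj ((EtCoh.push f).obj F))) ≫
          (EtCoh.push f).map ((EtCoh.push g').map
            ((EtCoh.pull g').map ((EtCoh.pullPushAdj f).counit.app F))) ≫
          (EtCoh.pushComp f g').hom.app ((EtCoh.pull g').obj F) := by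
        rw [h1, Category.assoc, Category.assoc, ← nat1]
    _ = (EtCoh.pullPushAdj f).unit.app ((EtCoh.push f).obj F) ≫
          (EtCoh.push f).map ((EtCoh.pullPushAdj f).counit.app F ≫
            (EtCoh.pullPushAdj g').unit.app F) ≫
          (EtCoh.pushComp f g').hom.app ((EtCoh.pull g').obj F) := by
        rw [nat2, Functor.map_comp, Category.assoc]
    _ = (EtCoh.push f).map ((EtCoh.pullPushAdj g').unit.app F) ≫
          (EtCoh.pushComp f g').hom.app ((EtCoh.pull g').obj F) := by
        rw [Functor.map_comp, Category.assoc, reassoc_of% tri]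

/-- right hand side adjunct (before transport) -/
lemma adjunct_right :
    (EtCoh.pullPushAdj (f' ≫ g)).unit.app ((EtCoh.push f).obj F) ≫
        (EtCoh.push (f' ≫ g)).map ((EtCore.pullComp f' g).hom.app ((EtCoh.push f).obj F) ≫
          (EtCoh.pull f').map (EtCoh.baseChange0 f g f' g' w F) ≫
            (EtCoh.pullPushAdj f').counit.app ((EtCoh.pull g').obj F)) =
      (EtCoh.push f).map ((EtCoh.pullPushAdj g').unit.app F) ≫
        (EtCoh.pushComp f g').hom.app ((EtCoh.pull g').obj F) ≫
          (EtCoh.pushCongr w).hom.app ((EtCoh.pull g').obj F) := by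
  have h1 := unit_pullComp f' g ((EtCoh.push f).obj F)
  have nat1 := (EtCoh.pushComp g f').hom.naturality
    ((EtCoh.pull f').map (EtCoh.baseChange0 f g f' g' w F) ≫
      (EtCoh.pullPushAdj f').counit.app ((EtCoh.pull g').obj F))
  have nat2 := (EtCoh.pullPushAdj f').unit.naturality (EtCoh.baseChange0 f g f' g' w F)
  have tri := (EtCoh.pullPushAdj f').right_triangle_components ((EtCoh.pull g').obj F)
  have hb := unit_baseChange0 f g f' g' w F
  simp only [Functor.comp_obj, Functor.comp_map, Functor.id_obj, Functor.id_map] at nat1 nat2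
  have e1 : (EtCoh.pullPushAdj f').unit.app ((EtCoh.pull g).obj ((EtCoh.push f).obj F)) ≫
      (EtCoh.push f').map ((EtCoh.pull f').map (EtCoh.baseChange0 f g f' g' w F) ≫
        (EtCoh.pullPushAdj f').counit.app ((EtCoh.pull g').obj F)) =
      EtCoh.baseChange0 f g f' g' w F := by
    rw [Functor.map_comp, ← Category.assoc, ← nat2, Category.assoc, tri]
    exact Category.comp_id _
  calc (EtCoh.pullPushAdj (f' ≫ g)).unit.app ((EtCoh.push f).obj F) ≫
        (EtCoh.push (f' ≫ g)).map ((EtCore.pullComp f' g).hom.app ((EtCoh.push f).obj F) ≫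
          (EtCoh.pull f').map (EtCoh.baseChange0 f g f' g' w F) ≫
            (EtCoh.pullPushAdj f').counit.app ((EtCoh.pull g').obj F))
      = ((EtCoh.pullPushAdj (f' ≫ g)).unit.app ((EtCoh.push f).obj F) ≫
          (EtCoh.push (f' ≫ g)).map ((EtCore.pullComp f' g).hom.app ((EtCoh.push f).obj F))) ≫
          (EtCoh.push (f' ≫ g)).map ((EtCoh.pull f').map (EtCoh.baseChange0 f g f' g' w F) ≫
            (EtCoh.pullPushAdj f').counit.app ((EtCoh.pull g').obj F)) := by
        rw [Functor.map_comp, Category.assoc]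
    _ = (EtCoh.pullPushAdj g).unit.app ((EtCoh.push f).obj F) ≫
          (EtCoh.push g).map ((EtCoh.pullPushAdj f').unit.app
              ((EtCoh.pull g).obj ((EtCoh.push f).obj F)) ≫
            (EtCoh.push f').map ((EtCoh.pull f').map (EtCoh.baseChange0 f g f' g' w F) ≫
              (EtCoh.pullPushAdj f').counit.app ((EtCoh.pull g').obj F))) ≫
          (EtCoh.pushComp g f').hom.app ((EtCoh.pull g').obj F) := by
        rw [h1, Category.assoc, Category.assoc, ← nat1]
        simp only [Functor.map_comp, Category.assoc]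
    _ = ((EtCoh.pullPushAdj g).unit.app ((EtCoh.push f).obj F) ≫
          (EtCoh.push g).map (EtCoh.baseChange0 f g f' g' w F)) ≫
          (EtCoh.pushComp g f').hom.app ((EtCoh.pull g').obj F) := by
        rw [e1, Category.assoc]
    _ = (EtCoh.push f).map ((EtCoh.pullPushAdj g').unit.app F) ≫
        (EtCoh.pushComp f g').hom.app ((EtCoh.pull g').obj F) ≫
          (EtCoh.pushCongr w).hom.app ((EtCoh.pull g').obj F) := by
        rw [hb]
        simp only [Category.assoc, Iso.inv_hom_id_app, Functor.comp_obj]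
        erw [Category.comp_id]

/-- the two ways from `(g' ≫ f)^{-1} f_* F` to `g'^{-1} F` agree -/
theorem counit_baseChange0 :
    (EtCore.pullComp g' f).hom.app ((EtCoh.push f).obj F) ≫
        (EtCoh.pull g').map ((EtCoh.pullPushAdj f).counit.app F) =
      (EtCore.pullCongr w.symm).inv.app ((EtCoh.push f).obj F) ≫
        (EtCore.pullComp f' g).hom.app ((EtCoh.push f).obj F) ≫
          (EtCoh.pull f').map (EtCoh.baseChange0 f g f' g' w F) ≫
            (EtCoh.pullPushAdj f').counit.app ((EtCoh.pull g').obj F) := by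
  apply ((EtCoh.pullPushAdj (g' ≫ f)).homEquiv _ _).injective
  have hR := adjunct_right f g f' g' w F
  rw [Adjunction.homEquiv_unit, Adjunction.homEquiv_unit, adjunct_left,
    congr_unit w.symm, ← Category.assoc, hR]
  have hs := pushCongr_symm w ((EtCoh.pull g').obj F)
  simp only [Category.assoc, Functor.id_obj]
  rw [hs]
  erw [Category.comp_id]

end Square

end Groth.Agent.Lib.Helper23.HofPushBC
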