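import Groth.Agent.Lib.Helper23.ExtRestr
import Groth.Prelude.Def_EtCore

/-!
# The prelude's `Hpull`, `HpullVia` in terms of the abstract `hp`, `hpVia`
-/

set_option autoImplicit false

universe u

namespace Groth.Agent.Lib.Helper23.HpullHp

open CategoryTheory Limits Opposite AlgebraicGeometry Abelian
open Groth.Agent.Lib.Helper23.ExtRestr

lemma Hpull_eq_hp {X Y : Scheme.{u}} (f : X ⟶ Y) [PreservesFiniteLimits (EtCoh.pull f)]
    (G : EtCoh.Ab Y) (n : ℕ) (x : EtCoh.H Y G n) :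
    EtCore.Hpull f G n x = hp (EtCore.pullConst f ℤ) G n x := rfl

lemma HpullVia_eq_hpVia {X Y Z : Scheme.{u}} (f : X ⟶ Y) (t : Y ⟶ Z) (f₀ : X ⟶ Z)
    (w : f ≫ t = f₀) [PreservesFiniteLimits (EtCoh.pull f)] [PreservesFiniteLimits (EtCoh.pull t)]
    (G : EtCoh.Ab Z) (n : ℕ)
    (y : EtCoh.H Y ((EtCoh.pull t).obj G) n) :
    EtCore.HpullVia f t f₀ w G n y =
      hpVia (R := EtCoh.pull t) ((EtCore.pullComp f t).symm ≪≫ EtCore.pullCongr w)
        (EtCore.pullConst f ℤ) G n y := rfl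

end Groth.Agent.Lib.Helper23.HpullHp
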