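import Mathlib

/-!
# Descending standard etale pairs to a finite subalgebra of an integral algebra
-/

set_option autoImplicit false
universe u

namespace Groth.Agent.Lib.Helper23.IntDescent

open Polynomial TensorProduct

variable {A B : Type u} [CommRing A] [CommRing B] [Algebra A B]

lemma coeff_mem_adjoin (S : Set B) (q : B[X]) (hq : (q.coeffs : Set B) ⊆ S) (n : ℕ) :
    q.coeff n ∈ Set.range (algebraMap (Algebra.adjoin A S) B) := by
  by_cases h : q.coeff n = 0
  · exact ⟨0, by simp [h]⟩
  · have : q.coeff n ∈ q.coeffs := Polynomial.coeff_mem_coeffs h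
    exact ⟨⟨q.coeff n, Algebra.subset_adjoin (hq this)⟩, rfl⟩

/-- finitely many standard etale pairs over an integral `A`-algebra `B` are defined over a
finite `A`-subalgebra -/
theorem exists_descent [Algebra.IsIntegral A B] {κ : Type*} [Finite κ]
    (P : κ → StandardEtalePair B) :
    ∃ (B₁ : Subalgebra A B) (_ : Module.Finite A B₁) (P₁ : κ → StandardEtalePair B₁),
      ∀ k, (P₁ k).map (algebraMap B₁ B) = P k := by
  classical
  haveI := Fintype.ofFinite κ
  choose p₁ p₂ n e using fun k => (P k).cond
  let S : Set B := ⋃ k, (((P k).f.coeffs ∪ (P k).g.coeffs ∪ (p₁ k).coeffs ∪ (p₂ k).coeffs :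
    Finset B) : Set B)
  have hS : S.Finite := Set.finite_iUnion fun k => Finset.finite_toSet _
  let B₁ : Subalgebra A B := Algebra.adjoin A S
  have hfin : Module.Finite A B₁ :=
    Module.Finite.iff_fg.mpr (fg_adjoin_of_finite hS fun x _ => Algebra.IsIntegral.isIntegral x)
  have hinj : Function.Injective (algebraMap B₁ B) := Subtype.val_injective
  have hsub : ∀ k (q : B[X]), q = (P k).f ∨ q = (P k).g ∨ q = p₁ k ∨ q = p₂ k →
      q ∈ Polynomial.lifts (algebraMap B₁ B) := by
    intro k q hq
    rw [Polynomial.lifts_iff_coeff_lifts]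
    refine coeff_mem_adjoin S q ?_
    intro x hx
    refine Set.mem_iUnion.mpr ⟨k, ?_⟩
    simp only [Finset.coe_union, Set.mem_union, Finset.mem_coe]
    rcases hq with rfl | rfl | rfl | rfl
    · exact Or.inl (Or.inl (Or.inl hx))
    · exact Or.inl (Or.inl (Or.inr hx))
    · exact Or.inl (Or.inr hx)
    · exact Or.inr hx
  choose f₁ hf₁ _ hf₁m using fun k =>
    Polynomial.lifts_and_natDegree_eq_and_monic (hsub k _ (Or.inl rfl)) (P k).monic_f
  choose g₁ hg₁ using fun k => (Polynomial.mem_lifts _).mp (hsub k _ (Or.inr (Or.inl rfl)))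
  choose q₁ hq₁ using fun k => (Polynomial.mem_lifts _).mp (hsub k _ (Or.inr (Or.inr (Or.inl rfl))))
  choose q₂ hq₂ using fun k => (Polynomial.mem_lifts _).mp (hsub k _ (Or.inr (Or.inr (Or.inr rfl))))
  refine ⟨B₁, hfin, fun k => ⟨f₁ k, hf₁m k, g₁ k, q₁ k, q₂ k, n k, ?_⟩, fun k => ?_⟩
  · apply Polynomial.map_injective _ hinj
    simp only [Polynomial.map_add, Polynomial.map_mul, Polynomial.map_pow,
      ← Polynomial.derivative_map, hf₁, hg₁, hq₁, hq₂]
    exact e k
  · rcases hP : P k with ⟨f, hf, g, hc⟩
    simp only [StandardEtalePair.map, StandardEtalePair.mk.injEq]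
    rw [hf₁, hg₁, hP]
    exact ⟨rfl, rfl⟩

/-- the tautological presentation of a standard etale algebra -/
noncomputable def selfPresentation {R : Type u} [CommRing R] (P : StandardEtalePair R) :
    StandardEtalePresentation R P.Ring :=
  ⟨P, P.X, P.hasMap_X, by simpa [StandardEtalePair.lift_X_left] using Function.bijective_id⟩

/-- base change of a standard etale algebra is the standard etale algebra of the mapped pair -/
noncomputable def baseChangeEquiv {R T : Type u} [CommRing R] [CommRing T] [Algebra R T]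
    (P : StandardEtalePair R) :
    T ⊗[R] P.Ring ≃ₐ[T] (P.map (algebraMap R T)).Ring :=
  (StandardEtalePresentation.baseChange (T := T) (selfPresentation P)).equivRing

/-- a standard etale algebra over an integral `A`-algebra `B` comes by base change from a standard
etale algebra over a finite `A`-subalgebra -/
theorem exists_descent_algebra [Algebra.IsIntegral A B] (C : Type u) [CommRing C] [Algebra B C]
    [Algebra.IsStandardEtale B C] :
    ∃ (B₁ : Subalgebra A B) (_ : Module.Finite A B₁) (P₁ : StandardEtalePair B₁),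
      Nonempty (C ≃ₐ[B] B ⊗[B₁] P₁.Ring) := by
  let Q : StandardEtalePresentation B C :=
    Algebra.IsStandardEtale.nonempty_standardEtalePresentation.some
  obtain ⟨B₁, hfin, P₁, hP₁⟩ := exists_descent (A := A) (fun _ : Unit => Q.P)
  refine ⟨B₁, hfin, P₁ (), ⟨?_⟩⟩
  have e₂ : ((P₁ ()).map (algebraMap B₁ B)).Ring ≃ₐ[B] Q.P.Ring := by
    rw [hP₁ ()]
  exact Q.equivRing.trans (e₂.symm.trans (baseChangeEquiv (T := B) (P₁ ())).symm)

end Groth.Agent.Lib.Helper23.IntDescent
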