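import Groth.Agent.Lib.Helper23.IntPushStalk
import Mathlib.AlgebraicGeometry.AlgClosed.Basic
import Groth.Prelude.Def_PBC

/-!
# The essential image of the direct image along an integral universally injective morphism
-/

set_option autoImplicit false
universe u

namespace Groth.Agent.Lib.Helper23.IntPushEss

open CategoryTheory CategoryTheory.Limits AlgebraicGeometry Opposite GrothendieckTopology
open Groth.Agent.Lib.Helper23

set_option backward.isDefEq.respectTransparency.types false in
set_option backward.isDefEq.respectTransparency false in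
lemma exists_lift_of_integral {X Y : Scheme.{u}} (f : X ⟶ Y) [IsIntegralHom f] {Ω : Type u} [Field Ω]
    [IsAlgClosed Ω] (η : Spec (CommRingCat.of Ω) ⟶ Y) (h : η default ∈ Set.range f) :
    ∃ ξ : Spec (CommRingCat.of Ω) ⟶ X, ξ ≫ f = η := by
  obtain ⟨x, hx⟩ := h
  obtain ⟨t, ht1, ht2⟩ := Scheme.Pullback.exists_preimage_pullback (f := f) (g := η) x default hx
  let T := pullback f η
  let q : T ⟶ Spec (CommRingCat.of Ω) := pullback.snd f η
  haveI : IsIntegralHom q := inferInstance
  haveI : IsAffine T := isAffine_of_isAffineHom q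
  let q' : Spec Γ(T, ⊤) ⟶ Spec (CommRingCat.of Ω) := T.isoSpec.inv ≫ q
  haveI : IsIntegralHom q' := inferInstance
  let φ : CommRingCat.of Ω ⟶ Γ(T, ⊤) := Spec.preimage q'
  have hφq : Spec.map φ = q' := Spec.map_preimage q'
  have hφ : φ.hom.IsIntegral := by
    rw [← IsIntegralHom.SpecMap_iff, hφq]
    infer_instance
  haveI : Nonempty T := ⟨t⟩
  haveI : Nonempty (⊤ : T.Opens) := ⟨⟨t, trivial⟩⟩
  haveI : Nontrivial Γ(T, ⊤) := Scheme.component_nontrivial T ⊤
  obtain ⟨𝔪, h𝔪⟩ := Ideal.exists_maximal Γ(T, ⊤)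
  letI := Ideal.Quotient.field 𝔪
  let ψ : Ω →+* (Γ(T, ⊤) ⧸ 𝔪) := (Ideal.Quotient.mk 𝔪).comp φ.hom
  have hψ : ψ.IsIntegral :=
    RingHom.IsIntegral.trans _ _ hφ (RingHom.isIntegral_of_surjective _ Ideal.Quotient.mk_surjective)
  have hbij : Function.Bijective ψ := IsAlgClosed.ringHom_bijective_of_isIntegral ψ hψ
  let e : Ω ≃+* (Γ(T, ⊤) ⧸ 𝔪) := RingEquiv.ofBijective ψ hbij
  let σ : Γ(T, ⊤) →+* Ω := e.symm.toRingHom.comp (Ideal.Quotient.mk 𝔪)
  have hσ : φ ≫ CommRingCat.ofHom σ = 𝟙 _ := by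
    ext a
    change e.symm (ψ a) = a
    exact e.symm_apply_apply a
  let s : Spec (CommRingCat.of Ω) ⟶ T := Spec.map (CommRingCat.ofHom σ) ≫ T.isoSpec.inv
  have hs : s ≫ q = 𝟙 _ := by
    change (Spec.map (CommRingCat.ofHom σ) ≫ T.isoSpec.inv) ≫ q = _
    rw [Category.assoc]
    change Spec.map (CommRingCat.ofHom σ) ≫ q' = _
    rw [← hφq, ← Spec.map_comp, hσ, Spec.map_id]
  exact ⟨s ≫ pullback.fst f η, by
    rw [Category.assoc, pullback.condition, ← Category.assoc, hs, Category.id_comp]⟩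

set_option backward.isDefEq.respectTransparency.types false in
set_option backward.isDefEq.respectTransparency false in
lemma subsingleton_stalk_push {X Y : Scheme.{u}} (f : X ⟶ Y) (hcl : IsClosed (Set.range f))
    {Ω : Type u} [Field Ω] [IsSepClosed Ω] (η : Spec (CommRingCat.of Ω) ⟶ Y)
    (hη : η default ∉ Set.range f) (F : EtCoh.Ab X) :
    Subsingleton (ToType ((Scheme.pointSmallEtale η).presheafFiber.obj
      ((EtCoh.push f).obj F).obj)) := by
  constructor
  intro z z'
  obtain ⟨V, v, s, s', rfl, rfl⟩ :=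
    (Scheme.pointSmallEtale η).toPresheafFiber_jointly_surjective₂ z z'
  let O : Y.Opens := ⟨(Set.range f)ᶜ, hcl.isOpen_compl⟩
  let U : V.left.Opens := V.hom ⁻¹ᵁ O
  have hvl : (v.left : Spec (CommRingCat.of Ω) ⟶ V.left) ≫ V.hom = η := Over.w v
  have hrange : Set.range (v.left : Spec (CommRingCat.of Ω) ⟶ V.left) ⊆ Set.range U.ι := by
    rw [Scheme.Opens.range_ι]
    rintro _ ⟨(a : ↥(Spec (CommRingCat.of Ω))), rfl⟩
    have h0 : V.hom ((v.left : Spec (CommRingCat.of Ω) ⟶ V.left) a) = η default := by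
      have := congrArg (fun φ : Spec (CommRingCat.of Ω) ⟶ Y => φ a) hvl
      rw [Subsingleton.elim (default : ↥(Spec (CommRingCat.of Ω))) a]
      exact this
    change V.hom ((v.left : Spec (CommRingCat.of Ω) ⟶ V.left) a) ∈ (Set.range f)ᶜ
    rw [h0]
    exact hη
  let v'l : Spec (CommRingCat.of Ω) ⟶ U.toScheme := IsOpenImmersion.lift U.ι v.left hrange
  have hv'l : v'l ≫ U.ι = v.left := IsOpenImmersion.lift_fac _ _ _
  let v' : (Scheme.pointSmallEtale η).fiber.obj (EtGlue.opn V U) := Over.homMk v'l (by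
    change v'l ≫ U.ι ≫ V.hom = η
    rw [← Category.assoc, hv'l, hvl])
  have hv' : (Scheme.pointSmallEtale η).fiber.map (EtGlue.opnι V U) v' = v := by
    apply Over.OverMorphism.ext
    exact hv'l
  haveI : IsEmpty ((EtCoh.bc f).obj (EtGlue.opn V U)).left := by
    constructor
    intro t
    have hcond := congrArg (fun φ : pullback (U.ι ≫ V.hom) f ⟶ Y => φ t)
      (pullback.condition (f := U.ι ≫ V.hom) (g := f))
    have h1 : (U.ι ≫ V.hom) (pullback.fst (U.ι ≫ V.hom) f t) ∈ (Set.range f)ᶜ :=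
      (pullback.fst (U.ι ≫ V.hom) f t).2
    apply h1
    exact ⟨pullback.snd (U.ι ≫ V.hom) f t, hcond.symm⟩
  rw [← hv']
  refine ((Scheme.pointSmallEtale η).toPresheafFiber_eq_iff'
    (P := ((EtCoh.push f).obj F).obj) V _ s s').2 ⟨EtGlue.opn V U, EtGlue.opnι V U, v', rfl, ?_⟩
  have hF : Presheaf.IsSheaf X.smallEtaleTopology (F.obj ⋙ forget AddCommGrpCat.{u+1}) :=
    (Presheaf.isSheaf_iff_isSheaf_forget _ _ (forget AddCommGrpCat.{u+1})).1 F.property
  let P : EtDesc.Sh X := ⟨F.obj ⋙ forget AddCommGrpCat.{u+1}, hF⟩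
  exact @Subsingleton.elim _
    (EtGlue.subsingleton_of_isEmpty P ((EtCoh.bc f).obj (EtGlue.opn V U))) _ _

section Ess

variable {X Y : Scheme.{u}} (f : X ⟶ Y) [IsIntegralHom f] [UniversallyInjective f]

lemma range_eq_singleton {Ω : Type u} [Field Ω] (η : Spec (CommRingCat.of Ω) ⟶ Y) :
    Set.range η = {η default} := by
  ext y
  constructor
  · rintro ⟨(a : ↥(Spec (CommRingCat.of Ω))), rfl⟩
    rw [Subsingleton.elim a (default : ↥(Spec (CommRingCat.of Ω)))]
    rfl
  · rintro rfl
    exact ⟨_, rfl⟩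

set_option backward.isDefEq.respectTransparency.types false in
set_option backward.isDefEq.respectTransparency false in
theorem supp_subset_of_essImage (G : EtCoh.Ab Y) (h : (EtCoh.push f).essImage G) :
    EtPBC.supp G ⊆ Set.range f := by
  obtain ⟨F, ⟨e⟩⟩ := h
  rintro x ⟨Ω, _, _, η, hη, hnz⟩
  by_contra hx
  apply hnz
  have hx' : η default = x := by
    have : η default ∈ Set.range η := ⟨_, rfl⟩
    rw [hη] at this
    exact this
  have hsub := subsingleton_stalk_push f f.isClosedMap.isClosed_range η (hx' ▸ hx) F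
  have hz : IsZero ((EtCoh.stalk η).obj ((EtCoh.push f).obj F)) :=
    @AddCommGrpCat.isZero_of_subsingleton _ hsub
  exact hz.of_iso ((EtCoh.stalk η).mapIso e.symm)

set_option backward.isDefEq.respectTransparency.types false in
set_option backward.isDefEq.respectTransparency false in
theorem isIso_unit_of_supp (G : EtCoh.Ab Y) (h : EtPBC.supp G ⊆ Set.range f) :
    IsIso ((EtCoh.pullPushAdj f).unit.app G) := by
  apply FinBC0.isIso_of_stalks
  intro Ω _ _ η
  by_cases hη : η default ∈ Set.range f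
  · obtain ⟨ξ, rfl⟩ := exists_lift_of_integral f η hη
    have h1 : (Scheme.pointSmallEtale (ξ ≫ f)).presheafFiber.map
        ((EtCoh.pullPushAdj f).unit.app G).hom ≫ IntPushStalk.θ f ξ ((EtCoh.pull f).obj G) =
        FinBC0.stk f ξ (FinBC0.unitG f G) := by
      unfold IntPushStalk.θ
      rw [← IntPushStalk.stk_comp']
      congr 1
    have h2 := FinBC0.isIso_stk_unit f ξ G
    have h3 : Function.Bijective (FinBC0.stk f ξ (FinBC0.unitG f G)) :=
      ConcreteCategory.bijective_of_isIso _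
    rw [← h1] at h3
    exact (Function.Bijective.of_comp_iff' (IntPushStalk.θ_bijective f ξ _) _).1 h3
  · have hsub := subsingleton_stalk_push f f.isClosedMap.isClosed_range η hη
      ((EtCoh.pull f).obj G)
    have hz : IsZero ((EtCoh.stalk η).obj G) := by
      by_contra hnz
      exact hη (h ⟨Ω, inferInstance, inferInstance, η, range_eq_singleton η, hnz⟩)
    have hsub' : Subsingleton (ToType ((Scheme.pointSmallEtale η).presheafFiber.obj G.obj)) :=
      AddCommGrpCat.subsingleton_of_isZero hz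
    constructor
    · intro a b _
      exact @Subsingleton.elim _ hsub' a b
    · intro b
      exact ⟨0, @Subsingleton.elim _ hsub _ _⟩

theorem essImage_iff (G : EtCoh.Ab Y) :
    (EtCoh.push f).essImage G ↔ EtPBC.supp G ⊆ Set.range f := by
  constructor
  · exact supp_subset_of_essImage f G
  · intro h
    haveI := isIso_unit_of_supp f G h
    exact ⟨(EtCoh.pull f).obj G, ⟨(asIso ((EtCoh.pullPushAdj f).unit.app G)).symm⟩⟩

end Ess

end Groth.Agent.Lib.Helper23.IntPushEss
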