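import Groth.Agent.Lib.Helper23.PropCInt
import Groth.Agent.Lib.Helper23.FinBC0
import Mathlib.AlgebraicGeometry.Morphisms.UniversallyInjective

/-!
# The stalk of the direct image along an integral universally injective morphism
-/

set_option autoImplicit false
universe u

namespace Groth.Agent.Lib.Helper23.IntPushStalk

open CategoryTheory CategoryTheory.Limits AlgebraicGeometry Opposite GrothendieckTopology
open FinPushFiber

lemma isClosedEmbedding_of_integral_of_injective {X Y : Scheme.{u}} (f : X ⟶ Y) [IsIntegralHom f]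
    (hf : Function.Injective f) : Topology.IsClosedEmbedding f :=
  Topology.IsClosedEmbedding.of_continuous_injective_isClosedMap f.continuous hf f.isClosedMap

set_option backward.isDefEq.respectTransparency.types false in
set_option backward.isDefEq.respectTransparency false in
theorem propC_pointed {X Y : Scheme.{u}} (f : X ⟶ Y) [IsIntegralHom f]
    (hf : Topology.IsClosedEmbedding f) {U : Scheme.{u}} (g : U ⟶ X) [Etale g]
    {Ω : Type u} [Field Ω] [IsSepClosed Ω] (w : Spec (CommRingCat.of Ω) ⟶ U) :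
    ∃ (V : Scheme.{u}) (v : V ⟶ Y) (_ : Etale v) (h : pullback f v ⟶ U)
      (p : Spec (CommRingCat.of Ω) ⟶ pullback f v), h ≫ g = pullback.fst f v ∧ p ≫ h = w := by
  obtain ⟨V, v, hv, h, hh, p₀, hp₀⟩ := PropCInt.propC_loc f hf g (w default)
  haveI : Etale (h ≫ g) := by rw [hh]; infer_instance
  haveI : Etale h := Etale.of_comp h g
  obtain ⟨l, hl, -⟩ := Scheme.exists_fac_of_etale_of_isSepClosed h w p₀ hp₀
  exact ⟨V, v, hv, h, l, hh, hl⟩

section Single

variable {X Y : Scheme.{u}} (f : X ⟶ Y) [IsIntegralHom f] [UniversallyInjective f]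
  {Ω : Type u} [Field Ω] [IsSepClosed Ω] (ξ : Spec (CommRingCat.of Ω) ⟶ X)

set_option backward.isDefEq.respectTransparency.types false in
set_option backward.isDefEq.respectTransparency false in
theorem exists_single (V₁ : Y.Etale) (v₁ : (Scheme.pointSmallEtale (ξ ≫ f)).fiber.obj V₁)
    (W : X.Etale) (w : (Scheme.pointSmallEtale ξ).fiber.obj W) (k : W ⟶ (EtCoh.bc f).obj V₁)
    (hk : (Scheme.pointSmallEtale ξ).fiber.map k w = liftpt ξ rfl V₁ v₁) :
    ∃ (V : Y.Etale) (v : (Scheme.pointSmallEtale (ξ ≫ f)).fiber.obj V) (g : V ⟶ V₁)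
      (m : (EtCoh.bc f).obj V ⟶ W),
      (Scheme.pointSmallEtale (ξ ≫ f)).fiber.map g v = v₁ ∧
      m ≫ k = (EtCoh.bc f).map g ∧
      (Scheme.pointSmallEtale ξ).fiber.map m (liftpt ξ rfl V v) = w := by
  let f₁ : pullback V₁.hom f ⟶ V₁.left := pullback.fst V₁.hom f
  haveI : IsIntegralHom f₁ := inferInstance
  haveI : UniversallyInjective f₁ :=
    MorphismProperty.pullback_fst (P := @UniversallyInjective) V₁.hom f inferInstance
  have hf₁ := isClosedEmbedding_of_integral_of_injective f₁ f₁.injective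
  let kl : W.left ⟶ pullback V₁.hom f := k.left
  haveI : Etale kl := inferInstance
  have hkw : kl ≫ pullback.snd V₁.hom f = W.hom := Over.w k.hom
  have hwl : (w.left : Spec (CommRingCat.of Ω) ⟶ W.left) ≫ W.hom = ξ := Over.w w
  have hv₁ : (v₁.left : Spec (CommRingCat.of Ω) ⟶ V₁.left) ≫ V₁.hom = ξ ≫ f := Over.w v₁
  have hkl : (w.left : Spec (CommRingCat.of Ω) ⟶ W.left) ≫ kl = (liftpt ξ rfl V₁ v₁).left :=
    congrArg (fun φ => φ.left) hk
  obtain ⟨V', v', hv', h, p, hh, hp⟩ := propC_pointed f₁ hf₁ kl w.left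
  haveI : Etale V₁.hom := V₁.prop
  haveI : Etale (v' ≫ V₁.hom) := inferInstance
  let V : Y.Etale := Scheme.Etale.mk (v' ≫ V₁.hom)
  let g : V ⟶ V₁ := MorphismProperty.Over.homMk v' rfl trivial
  -- the point
  have ha : p ≫ pullback.fst f₁ v' = (liftpt ξ rfl V₁ v₁).left := by
    rw [← hh, ← Category.assoc, hp, hkl]
  have hb : (p ≫ pullback.snd f₁ v') ≫ v' = v₁.left := by
    rw [Category.assoc, ← pullback.condition, ← Category.assoc, ha]
    exact liftpt_left_fst ξ rfl V₁ v₁
  have hc : (p ≫ pullback.snd f₁ v') ≫ v' ≫ V₁.hom = ξ ≫ f := by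
    rw [← Category.assoc, hb, hv₁]
  let v : (Scheme.pointSmallEtale (ξ ≫ f)).fiber.obj V := Over.homMk (p ≫ pullback.snd f₁ v') hc
  have hgv : (Scheme.pointSmallEtale (ξ ≫ f)).fiber.map g v = v₁ := by
    apply Over.OverMorphism.ext
    exact hb
  -- the comparison map
  let c : pullback (v' ≫ V₁.hom) f ⟶ pullback f₁ v' :=
    pullback.lift (pullback.lift (pullback.fst (v' ≫ V₁.hom) f ≫ v') (pullback.snd (v' ≫ V₁.hom) f)
      (by rw [Category.assoc]; exact pullback.condition)) (pullback.fst (v' ≫ V₁.hom) f)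
      (by rw [pullback.lift_fst])
  have hc1 : c ≫ pullback.fst f₁ v' =
      pullback.lift (pullback.fst (v' ≫ V₁.hom) f ≫ v') (pullback.snd (v' ≫ V₁.hom) f)
      (by rw [Category.assoc]; exact pullback.condition) := pullback.lift_fst _ _ _
  have hc2 : c ≫ pullback.snd f₁ v' = pullback.fst (v' ≫ V₁.hom) f := pullback.lift_snd _ _ _
  have hm0 : (c ≫ h) ≫ W.hom = pullback.snd (v' ≫ V₁.hom) f := by
    rw [← hkw, Category.assoc, ← Category.assoc h, hh, ← Category.assoc, hc1, pullback.lift_snd]
  let m : (EtCoh.bc f).obj V ⟶ W := MorphismProperty.Over.homMk (c ≫ h) hm0 trivial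
  refine ⟨V, v, g, m, hgv, ?_, ?_⟩
  · apply EtGlue.hom_ext_of_left
    change (c ≫ h) ≫ kl = ((EtCoh.bc f).map g).left
    apply pullback.hom_ext
    · have e := (EtCoh.isPullback_bc_map f g).w
      rw [e]
      have e4 : ((c ≫ h) ≫ kl) ≫ pullback.fst V₁.hom f = pullback.fst (v' ≫ V₁.hom) f ≫ v' := by
        rw [Category.assoc c, hh, hc1, pullback.lift_fst]
      exact e4
    · have e1 : ((EtCoh.bc f).map g).left ≫ pullback.snd V₁.hom f = pullback.snd V.hom f :=
        Over.w ((EtCoh.bc f).map g).hom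
      rw [Category.assoc, e1, hkw, hm0]
      rfl
  · apply Over.OverMorphism.ext
    change (liftpt ξ rfl V v).left ≫ (c ≫ h) = w.left
    have hpc : (liftpt ξ rfl V v).left ≫ c = p := by
      apply pullback.hom_ext
      · rw [Category.assoc, hc1, ha]
        apply pullback.hom_ext
        · rw [Category.assoc, pullback.lift_fst, ← Category.assoc]
          have e2 : (liftpt ξ rfl V v).left ≫ pullback.fst (v' ≫ V₁.hom) f = v.left :=
            liftpt_left_fst ξ rfl V v
          rw [e2, liftpt_left_fst ξ rfl V₁ v₁]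
          exact hb
        · rw [Category.assoc, pullback.lift_snd]
          have e3 : (liftpt ξ rfl V v).left ≫ pullback.snd (v' ≫ V₁.hom) f = ξ :=
            liftpt_left_snd ξ rfl V v
          rw [e3, liftpt_left_snd ξ rfl V₁ v₁]
      · rw [Category.assoc, hc2]
        exact liftpt_left_fst ξ rfl V v
    rw [← Category.assoc, hpc, hp]

end Single

section Theta

variable {X Y : Scheme.{u}} (f : X ⟶ Y)
  {Ω : Type u} [Field Ω] [IsSepClosed Ω] (ξ : Spec (CommRingCat.of Ω) ⟶ X)

set_option backward.isDefEq.respectTransparency.types false in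
set_option backward.isDefEq.respectTransparency false in
/-- the canonical point of the terminal neighbourhood -/
noncomputable def topPt (η : Spec (CommRingCat.of Ω) ⟶ Y) :
    (Scheme.pointSmallEtale η).fiber.obj (EtCoh.top Y) :=
  Over.homMk η (Category.comp_id _)

set_option backward.isDefEq.respectTransparency.types false in
set_option backward.isDefEq.respectTransparency false in
/-- the canonical map from an etale `X`-scheme to `X ×_Y Y` -/
noncomputable def toBcTop (W : X.Etale) : W ⟶ (EtCoh.bc f).obj (EtCoh.top Y) :=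
  MorphismProperty.Over.homMk
    (pullback.lift (W.hom ≫ f) W.hom (by rw [Category.comp_id]) :
      W.left ⟶ pullback (𝟙 Y) f)
    (pullback.lift_snd _ _ _) trivial

set_option backward.isDefEq.respectTransparency.types false in
set_option backward.isDefEq.respectTransparency false in
lemma toBcTop_pt (W : X.Etale) (w : (Scheme.pointSmallEtale ξ).fiber.obj W) :
    (Scheme.pointSmallEtale ξ).fiber.map (toBcTop f W) w =
      liftpt ξ rfl (EtCoh.top Y) (topPt (ξ ≫ f)) := by
  apply Over.OverMorphism.ext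
  change (w.left : Spec (CommRingCat.of Ω) ⟶ W.left) ≫
    (pullback.lift (W.hom ≫ f) W.hom (by rw [Category.comp_id]) : W.left ⟶ pullback (𝟙 Y) f) =
    pullback.lift (ξ ≫ f) ξ _
  have hw : (w.left : Spec (CommRingCat.of Ω) ⟶ W.left) ≫ W.hom = ξ := Over.w w
  apply pullback.hom_ext
  · rw [Category.assoc, pullback.lift_fst, pullback.lift_fst, ← Category.assoc, hw]
  · rw [Category.assoc, pullback.lift_snd, pullback.lift_snd, hw]

/-- the comparison map from the stalk of the direct image to the stalk -/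
noncomputable def θ (F : EtCoh.Ab X) :
    (Scheme.pointSmallEtale (ξ ≫ f)).presheafFiber.obj ((EtCoh.push f).obj F).obj ⟶
      (Scheme.pointSmallEtale ξ).presheafFiber.obj F.obj :=
  FinBC0.stk f ξ (𝟙 ((EtCoh.push f).obj F))

lemma θ_germ (F : EtCoh.Ab X) (V : Y.Etale) (v : (Scheme.pointSmallEtale (ξ ≫ f)).fiber.obj V)
    (s : ToType (F.obj.obj (op ((EtCoh.bc f).obj V)))) :
    θ f ξ F ((Scheme.pointSmallEtale (ξ ≫ f)).toPresheafFiber V v ((EtCoh.push f).obj F).obj s) =
      (Scheme.pointSmallEtale ξ).toPresheafFiber ((EtCoh.bc f).obj V) (liftpt ξ rfl V v) F.obj s := by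
  have h := FinBC0.germ_stk f ξ (𝟙 ((EtCoh.push f).obj F)) V v
  have h2 := congrArg (fun φ => φ s) h
  exact h2

set_option backward.isDefEq.respectTransparency.types false in
set_option backward.isDefEq.respectTransparency false in
theorem θ_injective [IsIntegralHom f] [UniversallyInjective f] (F : EtCoh.Ab X) :
    Function.Injective (θ f ξ F) := by
  intro z z' h
  obtain ⟨V₁, v₁, s, s', rfl, rfl⟩ :=
    (Scheme.pointSmallEtale (ξ ≫ f)).toPresheafFiber_jointly_surjective₂ z z'
  have h1 := h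
  erw [θ_germ, θ_germ] at h1
  obtain ⟨W, k, w, hw, hk⟩ := ((Scheme.pointSmallEtale ξ).toPresheafFiber_eq_iff' _ _ _ _).1 h1
  obtain ⟨V, v, g, m, hg, hm, -⟩ := exists_single f ξ V₁ v₁ W w k hw
  rw [← hg]
  refine ((Scheme.pointSmallEtale (ξ ≫ f)).toPresheafFiber_eq_iff'
    (P := ((EtCoh.push f).obj F).obj) V₁ _ s s').2 ⟨V, g, v, rfl, ?_⟩
  change (ConcreteCategory.hom (F.obj.map ((EtCoh.bc f).map g).op)) s =
    (ConcreteCategory.hom (F.obj.map ((EtCoh.bc f).map g).op)) s'
  rw [← hm, op_comp, F.obj.map_comp, ConcreteCategory.comp_apply, ConcreteCategory.comp_apply, hk]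

set_option backward.isDefEq.respectTransparency.types false in
set_option backward.isDefEq.respectTransparency false in
theorem θ_surjective [IsIntegralHom f] [UniversallyInjective f] (F : EtCoh.Ab X) :
    Function.Surjective (θ f ξ F) := by
  intro y
  obtain ⟨W, w, t, rfl⟩ := (Scheme.pointSmallEtale ξ).toPresheafFiber_jointly_surjective y
  obtain ⟨V, v, g, m, -, -, hm⟩ := exists_single f ξ (EtCoh.top Y) (topPt (ξ ≫ f)) W w
    (toBcTop f W) (toBcTop_pt f ξ W w)
  refine ⟨(Scheme.pointSmallEtale (ξ ≫ f)).toPresheafFiber V v ((EtCoh.push f).obj F).obj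
    (ConcreteCategory.hom (F.obj.map m.op) t), ?_⟩
  erw [θ_germ]
  rw [← hm, ← Point.toPresheafFiber_w_apply]

end Theta

section Counit

variable {X Y : Scheme.{u}} (f : X ⟶ Y) [IsIntegralHom f] [UniversallyInjective f]

theorem θ_bijective {Ω : Type u} [Field Ω] [IsSepClosed Ω] (ξ : Spec (CommRingCat.of Ω) ⟶ X)
    (F : EtCoh.Ab X) : Function.Bijective (θ f ξ F) :=
  ⟨θ_injective f ξ F, θ_surjective f ξ F⟩

lemma stk_comp' {Ω : Type u} [Field Ω] [IsSepClosed Ω] (ξ : Spec (CommRingCat.of Ω) ⟶ X)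
    {A' A : EtCoh.Ab Y} {B : EtCoh.Ab X} (a : A' ⟶ A) (γ : A ⟶ (EtCoh.push f).obj B) :
    FinBC0.stk f ξ (a ≫ γ) =
      (Scheme.pointSmallEtale (ξ ≫ f)).presheafFiber.map a.hom ≫ FinBC0.stk f ξ γ := by
  apply (Scheme.pointSmallEtale (ξ ≫ f)).presheafFiber_hom_ext
  intro V v
  rw [FinBC0.germ_stk, ← Category.assoc, Point.toPresheafFiber_naturality, Category.assoc,
    FinBC0.germ_stk, FinBC0.secMap_comp', Category.assoc]

set_option backward.isDefEq.respectTransparency.types false in
set_option backward.isDefEq.respectTransparency false in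
theorem isIso_counit (F : EtCoh.Ab X) : IsIso ((EtCoh.pullPushAdj f).counit.app F) := by
  apply FinBC0.isIso_of_stalks
  intro Ω _ _ ξ
  have h1 : FinBC0.stk f ξ (FinBC0.unitG f ((EtCoh.push f).obj F)) ≫
      (Scheme.pointSmallEtale ξ).presheafFiber.map ((EtCoh.pullPushAdj f).counit.app F).hom =
      θ f ξ F := by
    rw [← FinBC0.stk_comp]
    unfold θ
    congr 1
    exact (EtCoh.pullPushAdj f).right_triangle_components F
  have h2 := FinBC0.isIso_stk_unit f ξ ((EtCoh.push f).obj F)
  have h3 : Function.Bijective (FinBC0.stk f ξ (FinBC0.unitG f ((EtCoh.push f).obj F))) :=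
    ConcreteCategory.bijective_of_isIso _
  have h4 := θ_bijective f ξ F
  rw [← h1] at h4
  exact (Function.Bijective.of_comp_iff _ h3).1 h4

end Counit

end Groth.Agent.Lib.Helper23.IntPushStalk
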