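import Mathlib

/-!
# Invariants of a finitely presented algebra under a finite group of invertible order
are finitely presented
-/

universe u v w

namespace Helper23.InvFP

open Polynomial

theorem finitePresentation_fixedPoints {R : Type u} {A : Type v} [CommRing R] [CommRing A]
    [Algebra R A] [Algebra.FinitePresentation R A]
    {G : Type w} [Group G] [Finite G] [MulSemiringAction G A] [SMulCommClass G R A]
    (hG : IsUnit ((Nat.card G : ℕ) : R)) :
    Algebra.FinitePresentation R (FixedPoints.subalgebra R A G) := by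
  classical
  cases nonempty_fintype G
  set B := FixedPoints.subalgebra R A G with hB
  have hmem : ∀ x : A, x ∈ B ↔ ∀ g : G, g • x = x := fun x => Iff.rfl
  obtain ⟨c, hc⟩ := hG.exists_left_inv
  -- Reynolds operator
  let ρ0 : A →ₗ[R] A := c • ∑ g : G, (MulSemiringAction.toAlgHom R A g).toLinearMap
  have hρ0 : ∀ a, ρ0 a = c • ∑ g : G, g • a := by
    intro a
    simp [ρ0, LinearMap.sum_apply]
  have hρ0mem : ∀ a, ρ0 a ∈ B := by
    intro a
    rw [hmem]
    intro h
    rw [hρ0, smul_comm, Finset.smul_sum]
    congr 1
    simp_rw [← mul_smul]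
    exact Fintype.sum_equiv (Equiv.mulLeft h) _ _ (fun g => rfl)
  have hρ0fix : ∀ b ∈ B, ρ0 b = b := by
    intro b hb
    rw [hρ0]
    simp_rw [(hmem b).mp hb]
    rw [Finset.sum_const, Finset.card_univ, ← Nat.cast_smul_eq_nsmul R, smul_smul,
      ← Nat.card_eq_fintype_card, hc, one_smul]
  have hρ0mul : ∀ b ∈ B, ∀ a, ρ0 (b * a) = b * ρ0 a := by
    intro b hb a
    rw [hρ0, hρ0]
    simp_rw [smul_mul', (hmem b).mp hb]
    rw [← Finset.mul_sum, mul_smul_comm]
  haveI : Algebra.IsInvariant B A G := ⟨fun a ha => ⟨⟨a, ha⟩, rfl⟩⟩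
  haveI : Algebra.IsIntegral B A := Algebra.IsInvariant.isIntegral B A G
  haveI : Algebra.FiniteType R A := inferInstance
  haveI : Algebra.FiniteType B A := Algebra.FiniteType.of_restrictScalars_finiteType R B A
  haveI : Module.Finite B A := Algebra.IsIntegral.finite
  -- finite type of B
  obtain ⟨s, hs⟩ := (Algebra.FiniteType.out : (⊤ : Subalgebra R A).FG)
  let T : Finset A := s.biUnion fun a => (MulSemiringAction.charpoly G a).coeffs
  let C : Subalgebra R A := Algebra.adjoin R (T : Set A)
  have hTB : (T : Set A) ⊆ B := by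
    intro t ht
    simp only [T, Finset.coe_biUnion, Set.mem_iUnion, Finset.mem_coe] at ht
    obtain ⟨a, ha, hta⟩ := ht
    obtain ⟨n, -, rfl⟩ := Polynomial.mem_coeffs_iff.mp hta
    exact (hmem _).mpr (fun g => MulSemiringAction.smul_coeff_charpoly a n g)
  have hCB : C ≤ B := Algebra.adjoin_le hTB
  have hint : ∀ a ∈ s, IsIntegral C a := by
    intro a ha
    have hl : MulSemiringAction.charpoly G a ∈ Polynomial.lifts (algebraMap C A) := by
      rw [Polynomial.lifts_iff_coeff_lifts]
      intro n
      by_cases h0 : (MulSemiringAction.charpoly G a).coeff n = 0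
      · exact ⟨0, by rw [h0, map_zero]⟩
      · refine ⟨⟨_, Algebra.subset_adjoin ?_⟩, rfl⟩
        simp only [T, Finset.coe_biUnion, Set.mem_iUnion, Finset.mem_coe]
        exact ⟨a, ha, Polynomial.coeff_mem_coeffs h0⟩
    obtain ⟨p, hp1, -, hp2⟩ := Polynomial.lifts_and_natDegree_eq_and_monic hl
      (MulSemiringAction.monic_charpoly G a)
    exact ⟨p, hp2, by rw [← Polynomial.eval_map, hp1, MulSemiringAction.eval_charpoly]⟩
  haveI : Algebra.IsIntegral C A := by
    constructor
    intro x
    have hle : Algebra.adjoin R (s : Set A) ≤ (integralClosure C A).restrictScalars R :=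
      Algebra.adjoin_le (fun a ha => hint a ha)
    rw [hs] at hle
    exact hle Algebra.mem_top
  haveI : Algebra.FiniteType C A := Algebra.FiniteType.of_restrictScalars_finiteType R C A
  haveI : Module.Finite C A := Algebra.IsIntegral.finite
  obtain ⟨gens, hgens⟩ := (Module.Finite.fg_top : (⊤ : Submodule C A).FG)
  let D : Subalgebra R A := Algebra.adjoin R ((T : Set A) ∪ ρ0 '' (gens : Set A))
  have hCD : C ≤ D := Algebra.adjoin_mono Set.subset_union_left
  have hρD : ∀ x : A, ρ0 x ∈ D := by
    intro x
    have hx : x ∈ Submodule.span C (gens : Set A) := by rw [hgens]; trivial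
    induction hx using Submodule.span_induction with
    | mem x hx => exact Algebra.subset_adjoin (Or.inr ⟨x, hx, rfl⟩)
    | zero => rw [map_zero]; exact D.zero_mem
    | add x y _ _ hx hy => rw [map_add]; exact D.add_mem hx hy
    | smul c x _ hx =>
      have h1 : c • x = (c : A) * x := rfl
      rw [h1, hρ0mul _ (hCB c.2)]
      exact D.mul_mem (hCD c.2) hx
  have hBD : B = D := by
    apply le_antisymm
    · intro b hb
      rw [← hρ0fix b hb]
      exact hρD b
    · apply Algebra.adjoin_le
      rintro x (hx | ⟨y, -, rfl⟩)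
      · exact hTB hx
      · exact hρ0mem y
  have hBfg : B.FG := by
    rw [hBD]
    refine ⟨T ∪ gens.image ρ0, ?_⟩
    simp only [D, Finset.coe_union, Finset.coe_image]
  haveI : Algebra.FiniteType R B := (Subalgebra.fg_iff_finiteType B).mp hBfg
  -- finite presentation
  obtain ⟨m, f, hf⟩ := Algebra.FiniteType.iff_quotient_mvPolynomial''.mp
    (inferInstance : Algebra.FiniteType R B)
  let P := MvPolynomial (Fin m) R
  letI algPB : Algebra P B := f.toRingHom.toAlgebra
  letI algPA : Algebra P A := (B.val.comp f).toRingHom.toAlgebra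
  haveI : IsScalarTower R P B := IsScalarTower.of_algebraMap_eq' f.comp_algebraMap.symm
  haveI : IsScalarTower R P A :=
    IsScalarTower.of_algebraMap_eq' (B.val.comp f).comp_algebraMap.symm
  haveI : IsScalarTower P B A := IsScalarTower.of_algebraMap_eq' rfl
  haveI : Module.Finite P B := Module.Finite.of_surjective (Algebra.linearMap P B) hf
  haveI : Module.Finite P A := Module.Finite.trans B A
  haveI : Algebra.FinitePresentation P A :=
    Algebra.FinitePresentation.of_restrict_scalars_finitePresentation R P A
  haveI : Module.FinitePresentation P A :=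
    Module.FinitePresentation.of_finite_of_finitePresentation P A
  have hPA : ∀ (p : P) (a : A), p • a = (f p : A) * a := fun p a => by
    rw [Algebra.smul_def]; rfl
  have hPB : ∀ (p : P) (b : B), ((p • b : B) : A) = (f p : A) * b := fun p b => by
    rw [Algebra.smul_def]; rfl
  let ρ : A →ₗ[P] B :=
    { toFun := fun a => ⟨ρ0 a, hρ0mem a⟩
      map_add' := fun x y => Subtype.ext (map_add ρ0 x y)
      map_smul' := fun p a => by
        apply Subtype.ext
        rw [RingHom.id_apply, hPB]
        change ρ0 (p • a) = (f p : A) * ρ0 a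
        rw [hPA, hρ0mul _ (f p).2] }
  have hρ : ∀ a, (ρ a : A) = ρ0 a := fun a => rfl
  have hρsurj : Function.Surjective ρ := fun b => ⟨b, Subtype.ext (hρ0fix b b.2)⟩
  let ι : B →ₗ[P] A := (IsScalarTower.toAlgHom P B A).toLinearMap
  have hι : ∀ b : B, ι b = (b : A) := fun b => rfl
  have hker : (LinearMap.ker ρ).FG := by
    have : LinearMap.ker ρ = LinearMap.range (LinearMap.id - ι ∘ₗ ρ) := by
      ext x
      constructor
      · intro hx
        refine ⟨x, ?_⟩
        rw [LinearMap.sub_apply, LinearMap.comp_apply, LinearMap.mem_ker.mp hx, map_zero]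
        simp
      · rintro ⟨y, rfl⟩
        rw [LinearMap.mem_ker]
        apply Subtype.ext
        rw [hρ, LinearMap.sub_apply, LinearMap.comp_apply, LinearMap.id_apply, hι, hρ, map_sub,
          hρ0fix _ (hρ0mem y), sub_self]
        rfl
    rw [this, LinearMap.range_eq_map]
    exact (Module.Finite.fg_top).map _
  haveI : Module.FinitePresentation P B := Module.finitePresentation_of_surjective ρ hρsurj hker
  haveI : Algebra.FinitePresentation P B := inferInstance
  exact Algebra.FinitePresentation.trans R P B

end Helper23.InvFP
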