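import Groth.Agent.Lib.Helper23.PushId
import Groth.Agent.Lib.Helper23.HpullComp
import Groth.Prelude.Def_EtBCD
import Mathlib.Algebra.Homology.DerivedCategory.Ext.MapBijective

/-!
# Direct and inverse images along an isomorphism of schemes are equivalences (helper23)
-/

set_option autoImplicit false
set_option backward.isDefEq.respectTransparency false

universe u

open CategoryTheory CategoryTheory.Limits Opposite AlgebraicGeometry Abelian

namespace Groth.Agent.Lib.Helper23.IsoEquiv

open Groth.Agent.Lib.Helper23.PushId Groth.Agent.Lib.Helper23.HpullComp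
  Groth.Agent.Lib.Helper23.HpullNat

variable {A B : Scheme.{u}}

/-- direct image of abelian sheaves along an isomorphism is an equivalence -/
noncomputable def pushEquiv (e : A ≅ B) : EtCoh.Ab A ≌ EtCoh.Ab B :=
  CategoryTheory.Equivalence.mk (EtCoh.push e.hom) (EtCoh.push e.inv)
    ((pushId A).symm ≪≫ EtCoh.pushCongr e.hom_inv_id.symm ≪≫ (EtCoh.pushComp e.inv e.hom).symm)
    (EtCoh.pushComp e.hom e.inv ≪≫ EtCoh.pushCongr e.inv_hom_id ≪≫ pushId B)

lemma push_isEquivalence (f : A ⟶ B) [IsIso f] : (EtCoh.push f).IsEquivalence := by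
  change (pushEquiv (asIso f)).functor.IsEquivalence
  infer_instance

lemma pull_isEquivalence (f : A ⟶ B) [IsIso f] : (EtCoh.pull f).IsEquivalence := by
  have := push_isEquivalence f
  exact (EtCoh.pullPushAdj f).isEquivalence_left_of_isEquivalence_right

/-- direct image of sheaves of sets along the identity -/
noncomputable def pushShId (T : Scheme.{u}) : EtDesc.pushSh (𝟙 T) ≅ 𝟭 (EtDesc.Sh T) :=
  Functor.sheafPushforwardContinuousId' (bcId T) (Type (u + 1)) T.smallEtaleTopology

/-- direct image of sheaves of sets along an isomorphism is an equivalence -/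
noncomputable def pushShEquiv (e : A ≅ B) : EtDesc.Sh A ≌ EtDesc.Sh B :=
  CategoryTheory.Equivalence.mk (EtDesc.pushSh e.hom) (EtDesc.pushSh e.inv)
    ((pushShId A).symm ≪≫ EtBC.pushCongrSh e.hom_inv_id.symm ≪≫
      (EtDesc.pushCompSh e.inv e.hom).symm)
    (EtDesc.pushCompSh e.hom e.inv ≪≫ EtBC.pushCongrSh e.inv_hom_id ≪≫ pushShId B)

lemma pushSh_isEquivalence (f : A ⟶ B) [IsIso f] : (EtDesc.pushSh f).IsEquivalence := by
  change (pushShEquiv (asIso f)).functor.IsEquivalence
  infer_instance

lemma pullSh_isEquivalence (f : A ⟶ B) [IsIso f] : (EtDesc.pullSh f).IsEquivalence := by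
  have := pushSh_isEquivalence f
  exact (EtDesc.adjSh f).isEquivalence_left_of_isEquivalence_right

/-- the unit of `f^* ⊣ f_*` on sheaves of sets is an isomorphism when `f` is -/
lemma isIso_unitSh (f : A ⟶ B) [IsIso f] (F : EtDesc.Sh B) :
    IsIso ((EtDesc.adjSh f).unit.app F) := by
  have := pullSh_isEquivalence f
  infer_instance

/-- pullback on cohomology along an isomorphism is bijective -/
theorem Hpull_bijective_of_isIso (f : A ⟶ B) [IsIso f] (G : EtCoh.Ab B) (n : ℕ) :
    Function.Bijective (EtCore.Hpull f G n) := by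
  have := pull_isEquivalence f
  haveI : (EtCoh.pull f).PreservesInjectiveObjects :=
    Functor.preservesInjectiveObjects_of_adjunction_of_preservesMonomorphisms
      (EtCoh.pull f).asEquivalence.symm.toAdjunction
  have h1 : Function.Bijective ((EtCoh.pull f).mapExtAddHom (EtCoh.const B ℤ) G n) :=
    Functor.mapExt_bijective_of_preservesInjectiveObjects (EtCoh.pull f) _ _ n
  have h2 : Function.Bijective (fun e : Ext.{u + 1} ((EtCoh.pull f).obj (EtCoh.const B ℤ))
      ((EtCoh.pull f).obj G) n => (Ext.mk₀ (EtCore.pullConst f ℤ).inv).comp e (zero_add n)) := by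
    refine Function.bijective_iff_has_inverse.2
      ⟨fun e => (Ext.mk₀ (EtCore.pullConst f ℤ).hom).comp e (zero_add n), ?_, ?_⟩
    · intro e
      simp only
      rw [Ext.mk₀_comp_mk₀_assoc, Iso.hom_inv_id, Ext.mk₀_id_comp]
    · intro e
      simp only
      rw [Ext.mk₀_comp_mk₀_assoc, Iso.inv_hom_id, Ext.mk₀_id_comp]
  exact h2.comp h1

end Groth.Agent.Lib.Helper23.IsoEquiv
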