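import Groth.Agent.Lib.Helper23.LCTop

/-!
# Extending locally constant functions across a retrocompact dense open
-/

set_option autoImplicit false
universe u

namespace Groth.Agent.Lib.Helper23.LCExtend

open CategoryTheory CategoryTheory.Limits AlgebraicGeometry Opposite
open LCSheaf

variable (M : Type) [AddCommGroup M]

/-- the separation property used below: `b` is not in the closure of two disjoint compact opens
of `N` -/
def SepAt {B : Type*} [TopologicalSpace B] (N : Set B) (b : B) : Prop :=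
  ∀ V V' : Set B, V ⊆ N → V' ⊆ N → IsOpen V → IsOpen V' → IsCompact V → IsCompact V' →
    Disjoint V V' → ¬ (b ∈ closure V ∧ b ∈ closure V')

lemma exists_extension {A B : Type*} [TopologicalSpace A] [TopologicalSpace B] (π : A → B)
    (hπ : Topology.IsOpenEmbedding π) (hdense : DenseRange π)
    (hloc : ∀ b : B, ∃ N : Set B, IsOpen N ∧ b ∈ N ∧ IsCompact (π ⁻¹' N) ∧ SepAt N b)
    (h : LocallyConstant A M) : ∃ s : LocallyConstant B M, ∀ a, s (π a) = h a := by
  classical
  choose N hNo hbN hNc hsep using hloc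
  let F : M → Set B := fun m => π '' (h ⁻¹' {m})
  have hFo : ∀ m, IsOpen (F m) := fun m =>
    hπ.isOpenMap _ (h.isLocallyConstant.isOpen_fiber m)
  have hFdisj : ∀ m m', m ≠ m' → Disjoint (F m) (F m') := by
    intro m m' hmm
    rw [Set.disjoint_left]
    rintro _ ⟨a, ha, rfl⟩ ⟨a', ha', haa⟩
    have := hπ.injective haa
    subst this
    exact hmm (ha.symm.trans ha')
  -- Step A
  have hA : ∀ b : B, ∃ vals : Set M, vals.Finite ∧ N b ⊆ ⋃ m ∈ vals, closure (F m ∩ N b) := by
    intro b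
    letI : TopologicalSpace M := ⊥
    haveI : DiscreteTopology M := ⟨rfl⟩
    have hfin : (h '' (π ⁻¹' N b)).Finite :=
      isCompact_iff_finite.1 ((hNc b).image h.continuous)
    refine ⟨h '' (π ⁻¹' N b), hfin, ?_⟩
    have h1 : N b ⊆ closure (N b ∩ Set.range π) := hdense.open_subset_closure_inter (hNo b)
    have h2 : N b ∩ Set.range π = ⋃ m ∈ h '' (π ⁻¹' N b), (F m ∩ N b) := by
      ext y
      simp only [Set.mem_inter_iff, Set.mem_range, Set.mem_iUnion, exists_prop]
      constructor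
      · rintro ⟨hy, a, rfl⟩
        exact ⟨h a, ⟨a, hy, rfl⟩, ⟨a, rfl, rfl⟩, hy⟩
      · rintro ⟨m, -, ⟨a, -, rfl⟩, hy⟩
        exact ⟨hy, a, rfl⟩
    rw [h2, hfin.closure_biUnion] at h1
    exact h1
  -- Step B
  have hB : ∀ (b : B) (m m' : M), b ∈ closure (F m) → b ∈ closure (F m') → m = m' := by
    intro b m m' hm hm'
    by_contra hne
    have hcl : ∀ m₀, b ∈ closure (F m₀) → b ∈ closure (F m₀ ∩ N b) := by
      intro m₀ h0
      rw [mem_closure_iff] at h0 ⊢
      intro O hO hbO
      obtain ⟨y, ⟨hyO, hyN⟩, hyF⟩ := h0 (O ∩ N b) (hO.inter (hNo b)) ⟨hbO, hbN b⟩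
      exact ⟨y, hyO, hyF, hyN⟩
    have hcomp : ∀ m₀, IsCompact (F m₀ ∩ N b) := by
      intro m₀
      have e : F m₀ ∩ N b = π '' (h ⁻¹' {m₀} ∩ π ⁻¹' N b) := by
        ext y
        constructor
        · rintro ⟨⟨a, ha, rfl⟩, hy⟩
          exact ⟨a, ⟨ha, hy⟩, rfl⟩
        · rintro ⟨a, ⟨ha, hy⟩, rfl⟩
          exact ⟨⟨a, ha, rfl⟩, hy⟩
      rw [e]
      exact ((hNc b).inter_left (h.isLocallyConstant.isClosed_fiber m₀)).image hπ.continuous
    exact hsep b (F m ∩ N b) (F m' ∩ N b) Set.inter_subset_right Set.inter_subset_right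
      ((hFo m).inter (hNo b)) ((hFo m').inter (hNo b)) (hcomp m) (hcomp m')
      ((hFdisj m m' hne).mono Set.inter_subset_left Set.inter_subset_left)
      ⟨hcl m hm, hcl m' hm'⟩
  -- existence
  have hE : ∀ b : B, ∃ m, b ∈ closure (F m) := by
    intro b
    obtain ⟨vals, -, hcov⟩ := hA b
    have := hcov (hbN b)
    simp only [Set.mem_iUnion, exists_prop] at this
    obtain ⟨m, -, hm⟩ := this
    exact ⟨m, closure_mono Set.inter_subset_left hm⟩
  choose val hval using hE
  have hlc : IsLocallyConstant val := by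
    rw [IsLocallyConstant.iff_exists_open]
    intro b
    obtain ⟨vals, hfin, hcov⟩ := hA b
    let bad : Set B := ⋃ m ∈ vals \ {val b}, closure (F m ∩ N b)
    have hbadc : IsClosed bad :=
      (hfin.subset Set.diff_subset).isClosed_biUnion fun m _ => isClosed_closure
    refine ⟨N b ∩ badᶜ, (hNo b).inter hbadc.isOpen_compl, ⟨hbN b, ?_⟩, ?_⟩
    · intro hbad
      simp only [bad, Set.mem_iUnion, exists_prop] at hbad
      obtain ⟨m, ⟨-, hm⟩, hmem⟩ := hbad
      exact hm (hB b m (val b) (closure_mono Set.inter_subset_left hmem) (hval b))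
    · rintro b' ⟨hb'N, hb'bad⟩
      have := hcov hb'N
      simp only [Set.mem_iUnion, exists_prop] at this
      obtain ⟨m, hmv, hm⟩ := this
      have hmb : m = val b := by
        by_contra hne
        apply hb'bad
        simp only [bad, Set.mem_iUnion, exists_prop]
        exact ⟨m, ⟨hmv, hne⟩, hm⟩
      rw [hmb] at hm
      exact hB b' _ _ (hval b') (closure_mono Set.inter_subset_left hm)
  refine ⟨⟨val, hlc⟩, ?_⟩
  intro a
  exact hB (π a) _ _ (hval (π a)) (subset_closure ⟨a, rfl, rfl⟩)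


theorem lcMap_bijective_of_sep {A B : Scheme.{u}} (π : A ⟶ B) [IsOpenImmersion π]
    (hdense : DenseRange π)
    (hloc : ∀ b : B, ∃ N : Set B, IsOpen N ∧ b ∈ N ∧ IsCompact (π ⁻¹' N) ∧ SepAt N b) :
    Function.Bijective (lcMap M π) := by
  constructor
  · intro s s' hss
    apply ULift.ext
    apply LocallyConstant.ext
    intro b
    have hO : IsOpen (s.down ⁻¹' {s.down b} ∩ s'.down ⁻¹' {s'.down b}) :=
      (s.down.isLocallyConstant.isOpen_fiber _).inter (s'.down.isLocallyConstant.isOpen_fiber _)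
    obtain ⟨a, ha⟩ := hdense.exists_mem_open hO ⟨b, rfl, rfl⟩
    have h1 : s.down (π a) = s.down b := ha.1
    have h2 : s'.down (π a) = s'.down b := ha.2
    rw [← h1, ← h2]
    exact congrArg (fun t : ULift.{u + 1} (LocallyConstant A M) => t.down a) hss
  · intro h
    obtain ⟨s, hs⟩ := exists_extension M π π.isOpenEmbedding hdense hloc h.down
    refine ⟨ULift.up s, ?_⟩
    apply ULift.ext
    apply LocallyConstant.ext
    intro a
    exact hs a

open PrimeSpectrum in
lemma sepAt_primeSpectrum {S : Type*} [CommRing S] (q : PrimeSpectrum S) (T : Type*) [CommRing T]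
    [Algebra S T] [IsLocalization.AtPrime T q.asIdeal] [IsDomain T] :
    SepAt (Set.univ : Set (PrimeSpectrum S)) q := by
  intro V V' _ _ hV hV' hVc hV'c hdisj ⟨hq, hq'⟩
  have key : ∀ V : Set (PrimeSpectrum S), IsOpen V → IsCompact V → q ∈ closure V →
      ∃ f : S, (basicOpen f : Set (PrimeSpectrum S)) ⊆ V ∧
        q ∈ closure (basicOpen f : Set (PrimeSpectrum S)) := by
    intro V hV hVc hq
    have hcov : V ⊆ ⋃ (f : {f : S // (basicOpen f : Set (PrimeSpectrum S)) ⊆ V}),
        (basicOpen f.1 : Set (PrimeSpectrum S)) := by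
      intro x hx
      obtain ⟨_, ⟨f, rfl⟩, hxf, hfV⟩ :=
        isTopologicalBasis_basic_opens.exists_subset_of_mem_open hx hV
      exact Set.mem_iUnion.2 ⟨⟨f, hfV⟩, hxf⟩
    obtain ⟨t, ht⟩ := hVc.elim_finite_subcover
      (fun f : {f : S // (basicOpen f : Set (PrimeSpectrum S)) ⊆ V} =>
        (basicOpen f.1 : Set (PrimeSpectrum S))) (fun f => (basicOpen f.1).isOpen) hcov
    have h1 : q ∈ closure (⋃ f ∈ t, (basicOpen f.1 : Set (PrimeSpectrum S))) :=
      closure_mono ht hq
    rw [Finset.closure_biUnion] at h1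
    simp only [Set.mem_iUnion, exists_prop] at h1
    obtain ⟨f, -, hqf⟩ := h1
    exact ⟨f.1, f.2, hqf⟩
  obtain ⟨f, hfV, hqf⟩ := key V hV hVc hq
  obtain ⟨g, hgV, hqg⟩ := key V' hV' hV'c hq'
  have hfg : IsNilpotent (f * g) := by
    rw [← PrimeSpectrum.basicOpen_eq_bot_iff, PrimeSpectrum.basicOpen_mul]
    apply TopologicalSpace.Opens.ext
    apply Set.eq_empty_of_forall_notMem
    rintro x ⟨hxf, hxg⟩
    exact (Set.disjoint_left.1 hdisj) (hfV hxf) (hgV hxg)
  have h0 : algebraMap S T (f * g) = 0 := (hfg.map (algebraMap S T)).eq_zero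
  rw [map_mul, mul_eq_zero] at h0
  have fin : ∀ f : S, algebraMap S T f = 0 →
      q ∈ closure (basicOpen f : Set (PrimeSpectrum S)) → False := by
    intro f hf hqf
    obtain ⟨⟨t, ht⟩, htf⟩ := (IsLocalization.map_eq_zero_iff q.asIdeal.primeCompl T f).1 hf
    rw [mem_closure_iff] at hqf
    obtain ⟨y, hyt, hyf⟩ := hqf (basicOpen t) (basicOpen t).isOpen ht
    have h1 : y ∈ basicOpen (t * f) := by
      rw [basicOpen_mul]
      exact ⟨hyt, hyf⟩
    change t * f = 0 at htf
    rw [htf] at h1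
    exact h1 (Ideal.zero_mem _)
  rcases h0 with h0 | h0
  · exact fin f h0 hqf
  · exact fin g h0 hqg

set_option backward.isDefEq.respectTransparency.types false in
set_option backward.isDefEq.respectTransparency false in
lemma sepAt_of_isDomain_stalk {W : Scheme.{u}} (b : W) [IsDomain (W.presheaf.stalk b)]
    {N : W.Opens} (hN : IsAffineOpen N) (hb : b ∈ N) : SepAt (N : Set W) b := by
  intro V V' hVN hV'N hV hV' hVc hV'c hdisj ⟨hq, hq'⟩
  have hφ : Topology.IsOpenEmbedding hN.fromSpec := hN.fromSpec.isOpenEmbedding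
  have hr : Set.range hN.fromSpec = (N : Set W) := hN.range_fromSpec
  let q := hN.primeIdealOf ⟨b, hb⟩
  have hqb : hN.fromSpec q = b := hN.fromSpec_primeIdealOf ⟨b, hb⟩
  letI := TopCat.Presheaf.algebra_section_stalk W.presheaf ⟨b, hb⟩
  haveI : IsLocalization.AtPrime (W.presheaf.stalk b) q.asIdeal := hN.isLocalization_stalk ⟨b, hb⟩
  have hsep := sepAt_primeSpectrum q (W.presheaf.stalk b)
  have hcl : ∀ V : Set W, V ⊆ N → b ∈ closure V → q ∈ closure (hN.fromSpec ⁻¹' V) := by
    intro V hVN hbV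
    rw [hφ.isInducing.closure_eq_preimage_closure_image, Set.image_preimage_eq_inter_range, hr,
      Set.inter_eq_left.2 hVN]
    change hN.fromSpec q ∈ closure V
    rw [hqb]
    exact hbV
  refine hsep (hN.fromSpec ⁻¹' V) (hN.fromSpec ⁻¹' V') (Set.subset_univ _) (Set.subset_univ _)
    (hV.preimage hφ.continuous) (hV'.preimage hφ.continuous) ?_ ?_
    (hdisj.preimage _) ⟨hcl V hVN hq, hcl V' hV'N hq'⟩
  · rw [hφ.isInducing.isCompact_preimage_iff (by rw [hr]; exact hVN)]
    exact hVc
  · rw [hφ.isInducing.isCompact_preimage_iff (by rw [hr]; exact hV'N)]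
    exact hV'c

end Groth.Agent.Lib.Helper23.LCExtend
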