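import Groth.Agent.Lib.Helper23.LCSheaf
import Groth.Agent.Lib.Helper23.IntPushStalk

/-!
# Pullback of the sheaf of locally constant functions
-/

set_option autoImplicit false
universe u

namespace Groth.Agent.Lib.Helper23.LCPull

open CategoryTheory CategoryTheory.Limits AlgebraicGeometry Opposite GrothendieckTopology
open EtGlue LCSheaf FinPushFiber

variable (M : Type) [AddCommGroup M]

section Ev

variable {X : Scheme.{u}} {Ω : Type u} [Field Ω] [IsSepClosed Ω] (ξ : Spec (CommRingCat.of Ω) ⟶ X)

set_option backward.isDefEq.respectTransparency.types false in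
set_option backward.isDefEq.respectTransparency false in
/-- a geometric point of an etale scheme lifts to any open containing its image -/
lemma exists_point_opn (V : X.Etale) (v : (Scheme.pointSmallEtale ξ).fiber.obj V)
    (O : V.left.Opens)
    (h : (v.left : Spec (CommRingCat.of Ω) ⟶ V.left) (default : ↥(Spec (CommRingCat.of Ω))) ∈ O) :
    ∃ w : (Scheme.pointSmallEtale ξ).fiber.obj (opn V O),
      (Scheme.pointSmallEtale ξ).fiber.map (opnι V O) w = v := by
  have hvl : (v.left : Spec (CommRingCat.of Ω) ⟶ V.left) ≫ V.hom = ξ := Over.w v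
  have hrange : Set.range (v.left : Spec (CommRingCat.of Ω) ⟶ V.left) ⊆ Set.range O.ι := by
    rw [Scheme.Opens.range_ι]
    rintro _ ⟨(a : ↥(Spec (CommRingCat.of Ω))), rfl⟩
    rw [Subsingleton.elim a (default : ↥(Spec (CommRingCat.of Ω)))]
    exact h
  let wl : Spec (CommRingCat.of Ω) ⟶ O.toScheme := IsOpenImmersion.lift O.ι v.left hrange
  have hwl : wl ≫ O.ι = v.left := IsOpenImmersion.lift_fac _ _ _
  refine ⟨Over.homMk wl (by
    change wl ≫ O.ι ≫ V.hom = ξ
    rw [← Category.assoc, hwl, hvl]), ?_⟩
  apply Over.OverMorphism.ext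
  exact hwl

/-- the underlying point of a geometric point of an etale scheme -/
noncomputable def pt (V : X.Etale) (v : (Scheme.pointSmallEtale ξ).fiber.obj V) : V.left :=
  (v.left : Spec (CommRingCat.of Ω) ⟶ V.left) (default : ↥(Spec (CommRingCat.of Ω)))

lemma pt_map {V W : X.Etale} (g : V ⟶ W) (v : (Scheme.pointSmallEtale ξ).fiber.obj V) :
    pt ξ W ((Scheme.pointSmallEtale ξ).fiber.map g v) = g.left (pt ξ V v) := rfl

/-- evaluation of a locally constant function at a point, as a group homomorphism -/
noncomputable def evHom (V : X.Etale) (a : V.left) :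
    ULift.{u + 1} (LocallyConstant V.left M) →+ ULift.{u + 1} M :=
  (AddEquiv.ulift.symm.toAddMonoidHom).comp
    ((LocallyConstant.evalAddMonoidHom a).comp AddEquiv.ulift.toAddMonoidHom)

end Ev

section EvFiber

variable {X : Scheme.{u}} {Ω : Type u} [Field Ω] [IsSepClosed Ω] (ξ : Spec (CommRingCat.of Ω) ⟶ X)

set_option backward.isDefEq.respectTransparency.types false in
set_option backward.isDefEq.respectTransparency false in
/-- evaluation of germs of locally constant functions at the geometric point -/
noncomputable def ev :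
    (Scheme.pointSmallEtale ξ).presheafFiber.obj (lcPre X M) ⟶
      AddCommGrpCat.of (ULift.{u + 1} M) :=
  (Scheme.pointSmallEtale ξ).presheafFiberDesc
    (fun V v => AddCommGrpCat.ofHom (evHom M V (pt ξ V v)))
    (fun U V g x => by
      ext s
      rfl)

set_option backward.isDefEq.respectTransparency.types false in
set_option backward.isDefEq.respectTransparency false in
lemma ev_germ (V : X.Etale) (v : (Scheme.pointSmallEtale ξ).fiber.obj V)
    (s : ULift.{u + 1} (LocallyConstant V.left M)) :
    ev M ξ ((Scheme.pointSmallEtale ξ).toPresheafFiber V v (lcPre X M) s) =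
      ULift.up (s.down (pt ξ V v)) := by
  have h := (Scheme.pointSmallEtale ξ).toPresheafFiber_presheafFiberDesc (P := lcPre X M)
    (fun V v => AddCommGrpCat.ofHom (evHom M V (pt ξ V v)))
    (fun U V g x => by
      ext s
      rfl) V v
  have h2 := congrArg (fun φ => φ s) h
  exact h2

set_option backward.isDefEq.respectTransparency.types false in
set_option backward.isDefEq.respectTransparency false in
theorem ev_bijective : Function.Bijective (ev M ξ) := by
  constructor
  · intro z z' h
    obtain ⟨V, v, s, s', rfl, rfl⟩ :=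
      (Scheme.pointSmallEtale ξ).toPresheafFiber_jointly_surjective₂ z z'
    erw [ev_germ, ev_germ] at h
    have h0 : (s : ULift.{u + 1} (LocallyConstant V.left M)).down (pt ξ V v) =
        (s' : ULift.{u + 1} (LocallyConstant V.left M)).down (pt ξ V v) := congrArg ULift.down h
    let f : LocallyConstant V.left M := (s : ULift.{u + 1} (LocallyConstant V.left M)).down
    let f' : LocallyConstant V.left M := (s' : ULift.{u + 1} (LocallyConstant V.left M)).down
    let O : V.left.Opens := ⟨f ⁻¹' {f (pt ξ V v)} ∩ f' ⁻¹' {f' (pt ξ V v)},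
      (f.isLocallyConstant.isOpen_fiber _).inter (f'.isLocallyConstant.isOpen_fiber _)⟩
    obtain ⟨w, hw⟩ := exists_point_opn ξ V v O ⟨rfl, rfl⟩
    rw [← hw]
    refine ((Scheme.pointSmallEtale ξ).toPresheafFiber_eq_iff' (P := lcPre X M) V _ s s').2
      ⟨opn V O, opnι V O, w, rfl, ?_⟩
    apply ULift.ext
    apply LocallyConstant.ext
    intro a
    change f (O.ι a) = f' (O.ι a)
    have h1 : f (O.ι a) = f (pt ξ V v) := a.2.1
    have h2 : f' (O.ι a) = f' (pt ξ V v) := a.2.2
    rw [h1, h2]
    exact h0
  · intro m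
    refine ⟨(Scheme.pointSmallEtale ξ).toPresheafFiber (EtCoh.top X) (IntPushStalk.topPt ξ)
      (lcPre X M) (ULift.up (LocallyConstant.const _ m.down)), ?_⟩
    erw [ev_germ]
    rfl

end EvFiber

section Rho

variable {X' X : Scheme.{u}} (f : X' ⟶ X)

set_option backward.isDefEq.respectTransparency.types false in
set_option backward.isDefEq.respectTransparency false in
/-- pulling back locally constant functions along the projection `W ×_X X' ⟶ W` -/
noncomputable def rho : LC X M ⟶ (EtCoh.push f).obj (LC X' M) :=
  ⟨{ app := fun W => AddCommGrpCat.ofHom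
        (lcMap M (pullback.fst W.unop.hom f : ((EtCoh.bc f).obj W.unop).left ⟶ W.unop.left))
     naturality := fun W W' g => by
        ext s
        apply ULift.ext
        apply LocallyConstant.ext
        intro a
        have h := (EtCoh.isPullback_bc_map f g.unop).w
        have h2 := congrArg (fun k : ((EtCoh.bc f).obj W'.unop).left ⟶ W.unop.left => k a) h
        exact congrArg (s : ULift.{u + 1} (LocallyConstant W.unop.left M)).down h2.symm }⟩

lemma rho_app_apply (W : X.Etale) (s : ULift.{u + 1} (LocallyConstant W.left M))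
    (a : ((EtCoh.bc f).obj W).left) :
    (((rho M f).hom.app (op W)) s : ULift.{u + 1} (LocallyConstant ((EtCoh.bc f).obj W).left M)).down a
      = s.down ((pullback.fst W.hom f : ((EtCoh.bc f).obj W).left ⟶ W.left) a) := rfl

variable {Ω : Type u} [Field Ω] [IsSepClosed Ω] (ξ' : Spec (CommRingCat.of Ω) ⟶ X')

set_option backward.isDefEq.respectTransparency.types false in
set_option backward.isDefEq.respectTransparency false in
lemma stk_rho_ev : FinBC0.stk f ξ' (rho M f) ≫ ev M ξ' = ev M (ξ' ≫ f) := by
  apply (Scheme.pointSmallEtale (ξ' ≫ f)).presheafFiber_hom_ext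
  intro V v
  rw [← Category.assoc, FinBC0.germ_stk]
  ext s
  have e1 : ((Scheme.pointSmallEtale (ξ' ≫ f)).toPresheafFiber V v (LC X M).obj ≫ ev M (ξ' ≫ f)) s =
      ULift.up ((s : ULift.{u + 1} (LocallyConstant V.left M)).down (pt (ξ' ≫ f) V v)) :=
    ev_germ M (ξ' ≫ f) V v s
  have e2 : ((FinBC0.secMap f (rho M f) V ≫ (Scheme.pointSmallEtale ξ').toPresheafFiber
      ((EtCoh.bc f).obj V) (liftpt ξ' rfl V v) (LC X' M).obj) ≫ ev M ξ') s =
      ULift.up ((((rho M f).hom.app (op V)) s :
        ULift.{u + 1} (LocallyConstant ((EtCoh.bc f).obj V).left M)).down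
          (pt ξ' ((EtCoh.bc f).obj V) (liftpt ξ' rfl V v))) :=
    ev_germ M ξ' ((EtCoh.bc f).obj V) (liftpt ξ' rfl V v) (((rho M f).hom.app (op V)) s)
  rw [e1, e2, rho_app_apply]
  have h := liftpt_left_fst ξ' rfl V v
  have h3 : (pullback.fst V.hom f : ((EtCoh.bc f).obj V).left ⟶ V.left)
      (pt ξ' ((EtCoh.bc f).obj V) (liftpt ξ' rfl V v)) = pt (ξ' ≫ f) V v :=
    congrArg (fun k : Spec (CommRingCat.of Ω) ⟶ V.left =>
      k (default : ↥(Spec (CommRingCat.of Ω)))) h
  rw [h3]

end Rho

section Crit

variable {X' X : Scheme.{u}} (f : X' ⟶ X)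

/-- the adjunct of `rho` -/
noncomputable def rhoFlat : (EtCoh.pull f).obj (LC X M) ⟶ LC X' M :=
  ((EtCoh.pullPushAdj f).homEquiv _ _).symm (rho M f)

lemma unit_rhoFlat :
    (EtCoh.pullPushAdj f).unit.app (LC X M) ≫ (EtCoh.push f).map (rhoFlat M f) = rho M f := by
  have h := (EtCoh.pullPushAdj f).homEquiv_unit (X := LC X M) (Y := LC X' M) (f := rhoFlat M f)
  rw [← h, rhoFlat, Equiv.apply_symm_apply]

set_option backward.isDefEq.respectTransparency.types false in
set_option backward.isDefEq.respectTransparency false in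
theorem isIso_rhoFlat : IsIso (rhoFlat M f) := by
  apply FinBC0.isIso_of_stalks
  intro Ω _ _ ξ'
  have h1 : FinBC0.stk f ξ' (FinBC0.unitG f (LC X M)) ≫
      (Scheme.pointSmallEtale ξ').presheafFiber.map (rhoFlat M f).hom =
      FinBC0.stk f ξ' (rho M f) := by
    rw [← FinBC0.stk_comp]
    congr 1
    exact unit_rhoFlat M f
  have h2 := FinBC0.isIso_stk_unit f ξ' (LC X M)
  have h3 : Function.Bijective (FinBC0.stk f ξ' (FinBC0.unitG f (LC X M))) :=
    ConcreteCategory.bijective_of_isIso _
  have h4 : Function.Bijective (FinBC0.stk f ξ' (rho M f)) := by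
    have hb : Function.Bijective (ev M (ξ' ≫ f)) := ev_bijective M (ξ' ≫ f)
    rw [← stk_rho_ev M f ξ'] at hb
    exact (Function.Bijective.of_comp_iff' (ev_bijective M ξ') _).1 hb
  rw [← h1] at h4
  exact (Function.Bijective.of_comp_iff _ h3).1 h4

set_option backward.isDefEq.respectTransparency.types false in
set_option backward.isDefEq.respectTransparency false in
/-- criterion: the unit at the constant sheaf is an isomorphism as soon as pulling back locally
constant functions along all projections `W ×_X X' ⟶ W` is bijective -/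
theorem isIso_unit_const
    (h : ∀ W : X.Etale, Function.Bijective
      (lcMap M (pullback.fst W.hom f : ((EtCoh.bc f).obj W).left ⟶ W.left))) :
    IsIso ((EtCoh.pullPushAdj f).unit.app (EtCoh.const X M)) := by
  have hρ : IsIso (rho M f) := by
    haveI : ∀ W, IsIso ((rho M f).hom.app W) := fun W => by
      rw [ConcreteCategory.isIso_iff_bijective]
      exact h W.unop
    haveI i1 : IsIso (rho M f).hom := NatIso.isIso_of_isIso_app _
    haveI : IsIso ((sheafToPresheaf X.smallEtaleTopology AddCommGrpCat.{u + 1}).map (rho M f)) := i1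
    exact isIso_of_reflects_iso (rho M f) (sheafToPresheaf _ _)
  haveI := isIso_rhoFlat M f
  have hu : IsIso ((EtCoh.pullPushAdj f).unit.app (LC X M)) := by
    have e := unit_rhoFlat M f
    have e2 : (EtCoh.pullPushAdj f).unit.app (LC X M) =
        rho M f ≫ inv ((EtCoh.push f).map (rhoFlat M f)) := by
      rw [← e, Category.assoc, IsIso.hom_inv_id, Category.comp_id]
    rw [e2]
    infer_instance
  haveI := isIso_cmap X M
  have nat : cmap X M ≫ (EtCoh.pullPushAdj f).unit.app (LC X M) =
      (EtCoh.pullPushAdj f).unit.app (EtCoh.const X M) ≫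
        (EtCoh.pull f ⋙ EtCoh.push f).map (cmap X M) :=
    (EtCoh.pullPushAdj f).unit.naturality (cmap X M)
  have e3 : (EtCoh.pullPushAdj f).unit.app (EtCoh.const X M) =
      cmap X M ≫ (EtCoh.pullPushAdj f).unit.app (LC X M) ≫
        inv ((EtCoh.pull f ⋙ EtCoh.push f).map (cmap X M)) := by
    rw [← Category.assoc, nat, Category.assoc, IsIso.hom_inv_id, Category.comp_id]
  rw [e3]
  infer_instance

end Crit

end Groth.Agent.Lib.Helper23.LCPull
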