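import Groth.Agent.Lib.Helper23.EtSupp
import Mathlib.Topology.LocallyConstant.Algebra
import Mathlib.AlgebraicGeometry.Morphisms.UniversallyOpen

/-!
# The sheaf of locally constant functions on the small etale site, and the constant sheaf
-/

set_option autoImplicit false
universe u

namespace Groth.Agent.Lib.Helper23.LCSheaf

open CategoryTheory CategoryTheory.Limits AlgebraicGeometry Opposite GrothendieckTopology
open EtGlue

variable (X : Scheme.{u}) (M : Type) [AddCommGroup M]

/-- pullback of locally constant functions -/
noncomputable def lcMap {A B : Scheme.{u}} (g : A ⟶ B) :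
    ULift.{u + 1} (LocallyConstant B M) →+ ULift.{u + 1} (LocallyConstant A M) :=
  (AddEquiv.ulift.symm.toAddMonoidHom).comp
    ((LocallyConstant.comapAddMonoidHom (g.base.hom : C(A, B))).comp AddEquiv.ulift.toAddMonoidHom)

lemma lcMap_apply {A B : Scheme.{u}} (g : A ⟶ B) (s : ULift.{u + 1} (LocallyConstant B M)) (a : A) :
    (lcMap M g s).down a = s.down (g a) := rfl

/-- the presheaf of locally constant `M`-valued functions -/
noncomputable def lcPre : X.Etaleᵒᵖ ⥤ AddCommGrpCat.{u + 1} where
  obj W := AddCommGrpCat.of (ULift.{u + 1} (LocallyConstant W.unop.left M))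
  map {W W'} g := AddCommGrpCat.ofHom (lcMap M g.unop.left)
  map_id W := by
    ext s a
    rfl
  map_comp g h := by
    ext s a
    rfl

lemma lcPre_map_apply {W W' : X.Etale} (g : W' ⟶ W)
    (s : ULift.{u + 1} (LocallyConstant W.left M)) (a : W'.left) :
    (((lcPre X M).map g.op) s : ULift.{u + 1} (LocallyConstant W'.left M)).down a =
      s.down (g.left a) := rfl

variable {X}

set_option backward.isDefEq.respectTransparency.types false in
set_option backward.isDefEq.respectTransparency false in
/-- fibre products of objects of the small etale site, with a point -/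
lemma exists_fiberProd {T T' W : X.Etale} (g : T ⟶ W) (g' : T' ⟶ W) (t : T.left) (t' : T'.left)
    (h : g.left t = g'.left t') :
    ∃ (Z : X.Etale) (p₁ : Z ⟶ T) (p₂ : Z ⟶ T') (z : Z.left),
      p₁ ≫ g = p₂ ≫ g' ∧ p₁.left z = t ∧ p₂.left z = t' := by
  haveI : Etale T'.hom := T'.prop
  haveI : Etale (pullback.snd g.left g'.left ≫ T'.hom) := inferInstance
  let Z : X.Etale := Scheme.Etale.mk (pullback.snd g.left g'.left ≫ T'.hom)
  let p₂ : Z ⟶ T' := MorphismProperty.Over.homMk (pullback.snd g.left g'.left) rfl trivial
  have hgw : g.left ≫ W.hom = T.hom := Over.w g.hom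
  have hg'w : g'.left ≫ W.hom = T'.hom := Over.w g'.hom
  let p₁ : Z ⟶ T := MorphismProperty.Over.homMk (pullback.fst g.left g'.left) (by
    change pullback.fst g.left g'.left ≫ T.hom = pullback.snd g.left g'.left ≫ T'.hom
    rw [← hgw, ← hg'w, ← Category.assoc, ← Category.assoc, pullback.condition]) trivial
  have hcomm : p₁ ≫ g = p₂ ≫ g' := by
    apply hom_ext_of_left
    exact pullback.condition
  obtain ⟨z, hz1, hz2⟩ := Scheme.Pullback.exists_preimage_pullback (f := g.left) (g := g'.left)
    t t' h
  exact ⟨Z, p₁, p₂, z, hcomm, hz1, hz2⟩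

variable (X)

set_option backward.isDefEq.respectTransparency.types false in
set_option backward.isDefEq.respectTransparency false in
theorem lcPre_isSheaf : Presheaf.IsSheaf X.smallEtaleTopology (lcPre X M) := by
  rw [Presheaf.isSheaf_iff_isSheaf_forget _ _ (forget AddCommGrpCat.{u + 1}),
    isSheaf_iff_isSheaf_of_type]
  intro W R hR x hx
  -- the value at a point, from any arrow through it
  have key : ∀ (T T' : X.Etale) (g : T ⟶ W) (g' : T' ⟶ W) (hg : R g) (hg' : R g')
      (t : T.left) (t' : T'.left), g.left t = g'.left t' →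
      (x g hg : ULift.{u + 1} (LocallyConstant T.left M)).down t =
        (x g' hg' : ULift.{u + 1} (LocallyConstant T'.left M)).down t' := by
    intro T T' g g' hg hg' t t' h
    obtain ⟨Z, p₁, p₂, z, hcomm, hz1, hz2⟩ := exists_fiberProd g g' t t' h
    have hc := hx p₁ p₂ hg hg' hcomm
    have hc' := congrArg (fun s : ULift.{u + 1} (LocallyConstant Z.left M) => s.down z) hc
    have e1 : (((lcPre X M ⋙ forget AddCommGrpCat.{u + 1}).map p₁.op (x g hg) :
        ULift.{u + 1} (LocallyConstant Z.left M))).down z =
        (x g hg : ULift.{u + 1} (LocallyConstant T.left M)).down (p₁.left z) := rfl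
    have e2 : (((lcPre X M ⋙ forget AddCommGrpCat.{u + 1}).map p₂.op (x g' hg') :
        ULift.{u + 1} (LocallyConstant Z.left M))).down z =
        (x g' hg' : ULift.{u + 1} (LocallyConstant T'.left M)).down (p₂.left z) := rfl
    rw [← hz1, ← hz2, ← e1, ← e2]
    exact hc'
  choose T g hg ht0 using fun w : W.left => exists_arrow_of_mem R hR w
  choose t ht using fun w : W.left => Set.mem_range.1 (ht0 w)
  let val : W.left → M := fun w =>
    (x (g w) (hg w) : ULift.{u + 1} (LocallyConstant (T w).left M)).down (t w)
  have hval : ∀ (T' : X.Etale) (g' : T' ⟶ W) (hg' : R g') (t' : T'.left),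
      val (g'.left t') = (x g' hg' : ULift.{u + 1} (LocallyConstant T'.left M)).down t' := by
    intro T' g' hg' t'
    exact key _ _ _ _ _ _ _ _ (ht (g'.left t'))
  have hlc : IsLocallyConstant val := by
    rw [IsLocallyConstant.iff_exists_open]
    intro w
    let s : LocallyConstant (T w).left M := (x (g w) (hg w) : ULift.{u + 1} _).down
    obtain ⟨O, hO, htO, hOc⟩ := (IsLocallyConstant.iff_exists_open _).1 s.isLocallyConstant (t w)
    refine ⟨(g w).left '' O, (Scheme.Hom.isOpenMap (g w).left) O hO, ⟨t w, htO, ht w⟩, ?_⟩
    rintro _ ⟨o, ho, rfl⟩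
    have e1 := hval _ (g w) (hg w) o
    have e2 := hval _ (g w) (hg w) (t w)
    rw [ht w] at e2
    rw [e1, e2]
    exact hOc o ho
  refine ⟨ULift.up ⟨val, hlc⟩, ?_, ?_⟩
  · intro Y f hf
    apply ULift.ext
    apply LocallyConstant.ext
    intro y
    exact hval Y f hf y
  · intro t₁ ht₁
    apply ULift.ext
    apply LocallyConstant.ext
    intro w
    have h1 := ht₁ (g w) (hg w)
    have h2 := congrArg (fun s : ULift.{u + 1} (LocallyConstant (T w).left M) => s.down (t w)) h1
    have e1 : (((lcPre X M ⋙ forget AddCommGrpCat.{u + 1}).map (g w).op t₁ :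
        ULift.{u + 1} (LocallyConstant (T w).left M))).down (t w) =
        (t₁ : ULift.{u + 1} (LocallyConstant W.left M)).down ((g w).left (t w)) := rfl
    have e3 : (t₁ : ULift.{u + 1} (LocallyConstant W.left M)).down ((g w).left (t w)) =
        (x (g w) (hg w) : ULift.{u + 1} (LocallyConstant (T w).left M)).down (t w) :=
      e1.symm.trans h2
    rw [ht w] at e3
    exact e3

/-- the sheaf of locally constant functions -/
noncomputable def LC : EtCoh.Ab X := ⟨lcPre X M, lcPre_isSheaf X M⟩

/-- constants, as a map of presheaves -/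
noncomputable def g₀ :
    (Functor.const X.Etaleᵒᵖ).obj (AddCommGrpCat.of (ULift.{u + 1} M)) ⟶ lcPre X M where
  app W := AddCommGrpCat.ofHom
    ((AddEquiv.ulift.symm.toAddMonoidHom).comp
      ((LocallyConstant.constAddMonoidHom (X := W.unop.left) (Y := M)).comp
        AddEquiv.ulift.toAddMonoidHom))
  naturality W W' g := by
    ext m a
    rfl

lemma g₀_apply (W : X.Etaleᵒᵖ) (m : ULift.{u + 1} M) (a : W.unop.left) :
    (((g₀ X M).app W) m : ULift.{u + 1} (LocallyConstant W.unop.left M)).down a = m.down := rfl

/-- the comparison from the constant sheaf -/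
noncomputable def cmap : EtCoh.const X M ⟶ LC X M :=
  ⟨sheafifyLift X.smallEtaleTopology (g₀ X M) (LC X M).property⟩

lemma toSheafify_cmap :
    CategoryTheory.toSheafify X.smallEtaleTopology
        ((Functor.const X.Etaleᵒᵖ).obj (AddCommGrpCat.of (ULift.{u + 1} M))) ≫
      (cmap X M).hom = g₀ X M :=
  toSheafify_sheafifyLift _ _ _

set_option backward.isDefEq.respectTransparency.types false in
set_option backward.isDefEq.respectTransparency false in
lemma g₀_locInj : Presheaf.IsLocallyInjective X.smallEtaleTopology (g₀ X M) where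
  equalizerSieve_mem {U} x y h := by
    by_cases hxy : x = y
    · subst hxy
      rw [Presheaf.equalizerSieve_self_eq_top]
      exact X.smallEtaleTopology.top_mem _
    · have hE : IsEmpty U.unop.left := by
        constructor
        intro a
        apply hxy
        apply ULift.ext
        have h1 := congrArg (fun s : ULift.{u + 1} (LocallyConstant U.unop.left M) => s.down a) h
        exact h1
      exact X.smallEtaleTopology.superset_covering bot_le (bot_mem_of_isEmpty U.unop)

set_option backward.isDefEq.respectTransparency.types false in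
set_option backward.isDefEq.respectTransparency false in
lemma g₀_locSurj : Presheaf.IsLocallySurjective X.smallEtaleTopology (g₀ X M) where
  imageSieve_mem {U} s := by
    apply sieve_mem_of_forall_point
    intro p
    let f : LocallyConstant U.left M := (s : ULift.{u + 1} (LocallyConstant U.left M)).down
    let W : U.left.Opens := ⟨f ⁻¹' {f p}, f.isLocallyConstant.isOpen_fiber _⟩
    refine ⟨opn U W, opnι U W, ?_, ⟨⟨p, rfl⟩, rfl⟩⟩
    refine ⟨ULift.up (f p), ?_⟩
    apply ULift.ext
    apply LocallyConstant.ext
    intro a
    exact a.2.symm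

set_option backward.isDefEq.respectTransparency.types false in
set_option backward.isDefEq.respectTransparency false in
theorem isIso_cmap : IsIso (cmap X M) := by
  have i1 : Presheaf.IsLocallyInjective X.smallEtaleTopology (g₀ X M) := g₀_locInj X M
  have i2 : Presheaf.IsLocallySurjective X.smallEtaleTopology (g₀ X M) := g₀_locSurj X M
  have h1 : Presheaf.IsLocallyInjective X.smallEtaleTopology (cmap X M).hom :=
    Presheaf.isLocallyInjective_of_isLocallyInjective_of_isLocallySurjective_fac
      X.smallEtaleTopology (g₀ X M) (toSheafify_cmap X M)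
  have h2 : Presheaf.IsLocallySurjective X.smallEtaleTopology (cmap X M).hom :=
    Presheaf.isLocallySurjective_of_isLocallySurjective_fac X.smallEtaleTopology
      (toSheafify_cmap X M)
  exact (Sheaf.isLocallyBijective_iff_isIso (A := AddCommGrpCat.{u + 1}) (cmap X M)).1 ⟨h1, h2⟩

/-- the constant sheaf is the sheaf of locally constant functions -/
noncomputable def constIso : EtCoh.const X M ≅ LC X M :=
  haveI := isIso_cmap X M
  asIso (cmap X M)

end Groth.Agent.Lib.Helper23.LCSheaf
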