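import Groth.Agent.Lib.Helper23.LCPull
import Groth.Agent.Lib.Helper23.PropCInt
import Mathlib.AlgebraicGeometry.Morphisms.Preimmersion

/-!
# Pullback of locally constant functions along a dense map with locally connected fibres-over-opens
-/

set_option autoImplicit false
universe u

namespace Groth.Agent.Lib.Helper23.LCTop

open CategoryTheory CategoryTheory.Limits AlgebraicGeometry Opposite
open LCSheaf

variable (M : Type) [AddCommGroup M]

/-- topological core -/
lemma comap_bijective_of {A B : Type*} [TopologicalSpace A] [TopologicalSpace B] (π : A → B)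
    (hπ : Continuous π) (hdense : DenseRange π)
    (hloc : ∀ b : B, ∃ N : Set B, IsOpen N ∧ b ∈ N ∧ _root_.IsPreconnected (π ⁻¹' N)) :
    (∀ s s' : LocallyConstant B M, (∀ a, s (π a) = s' (π a)) → s = s') ∧
    (∀ h : LocallyConstant A M, ∃ s : LocallyConstant B M, ∀ a, s (π a) = h a) := by
  constructor
  · intro s s' hss
    apply LocallyConstant.ext
    intro b
    have hO : IsOpen (s ⁻¹' {s b} ∩ s' ⁻¹' {s' b}) :=
      (s.isLocallyConstant.isOpen_fiber _).inter (s'.isLocallyConstant.isOpen_fiber _)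
    obtain ⟨a, ha⟩ := hdense.exists_mem_open hO ⟨b, rfl, rfl⟩
    have h1 : s (π a) = s b := ha.1
    have h2 : s' (π a) = s' b := ha.2
    rw [← h1, ← h2]
    exact hss a
  · intro h
    choose N hNo hbN hNc using hloc
    have hne : ∀ b, ∃ a, π a ∈ N b := fun b => hdense.exists_mem_open (hNo b) ⟨b, hbN b⟩
    choose α hα using hne
    have hconst : ∀ b a a', π a ∈ N b → π a' ∈ N b → h a = h a' := fun b a a' ha ha' =>
      h.isLocallyConstant.apply_eq_of_isPreconnected (hNc b) ha ha'
    have hlc : IsLocallyConstant (fun b => h (α b)) := by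
      rw [IsLocallyConstant.iff_exists_open]
      intro b
      refine ⟨N b, hNo b, hbN b, ?_⟩
      intro b' hb'
      obtain ⟨a'', ha''⟩ := hdense.exists_mem_open ((hNo b).inter (hNo b')) ⟨b', hb', hbN b'⟩
      change h (α b') = h (α b)
      rw [hconst b' (α b') a'' (hα b') ha''.2, hconst b a'' (α b) ha''.1 (hα b)]
    refine ⟨⟨fun b => h (α b), hlc⟩, ?_⟩
    intro a
    exact hconst (π a) (α (π a)) a (hα _) (hbN _)

lemma lcMap_bijective_of {A B : Scheme.{u}} (π : A ⟶ B) (hdense : DenseRange π)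
    (hloc : ∀ b : B, ∃ N : Set B, IsOpen N ∧ b ∈ N ∧ _root_.IsPreconnected (π ⁻¹' N)) :
    Function.Bijective (lcMap M π) := by
  obtain ⟨h1, h2⟩ := comap_bijective_of M π π.continuous hdense hloc
  constructor
  · intro s s' hss
    apply ULift.ext
    apply h1
    intro a
    exact congrArg (fun t : ULift.{u + 1} (LocallyConstant A M) => t.down a) hss
  · intro h
    obtain ⟨s, hs⟩ := h2 h.down
    refine ⟨ULift.up s, ?_⟩
    apply ULift.ext
    apply LocallyConstant.ext
    intro a
    exact hs a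


lemma lcMap_bijective_of_inducing {A B : Scheme.{u}} (π : A ⟶ B) (hind : Topology.IsInducing π)
    (hdense : DenseRange π)
    (hloc : ∀ b : B, ∃ N : Set B, IsOpen N ∧ b ∈ N ∧ _root_.IsPreconnected (N ∩ Set.range π)) :
    Function.Bijective (lcMap M π) := by
  apply lcMap_bijective_of M π hdense
  intro b
  obtain ⟨N, hN, hb, hc⟩ := hloc b
  refine ⟨N, hN, hb, ?_⟩
  rw [← hind.isPreconnected_image, Set.image_preimage_eq_inter_range]
  exact hc

/-- local irreducibility -/
def LocIrr (W : Scheme.{u}) : Prop :=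
  ∀ w : W, ∃ N : Set W, IsOpen N ∧ w ∈ N ∧ IsPreirreducible N

/-- instance (I): dense open immersions -/
theorem lcMap_bijective_openImmersion {U X W : Scheme.{u}} (j : U ⟶ X) [IsOpenImmersion j]
    (hj : DenseRange j) (p : W ⟶ X) [Etale p] (hW : LocIrr W) :
    Function.Bijective (lcMap M (pullback.fst p j)) := by
  have hr : Set.range (pullback.fst p j) = p ⁻¹' Set.range j := Scheme.Pullback.range_fst p j
  apply lcMap_bijective_of_inducing M _ (pullback.fst p j).isOpenEmbedding.isInducing
  · change Dense (Set.range (pullback.fst p j))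
    rw [hr]
    exact Dense.preimage hj p.isOpenMap
  · intro b
    obtain ⟨N, hN, hb, hirr⟩ := hW b
    refine ⟨N, hN, hb, ?_⟩
    apply IsPreirreducible.isPreconnected
    apply hirr.open_subset _ Set.inter_subset_left
    exact hN.inter (pullback.fst p j).isOpenEmbedding.isOpen_range

set_option backward.isDefEq.respectTransparency.types false in
set_option backward.isDefEq.respectTransparency false in
/-- instance (II): the generic point -/
theorem lcMap_bijective_generic {T X W : Scheme.{u}} [IrreducibleSpace X] (g : T ⟶ X)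
    [IsPreimmersion g]
    (η : X) (hη : IsGenericPoint η (⊤ : Set X)) (hg : Set.range g = {η})
    (p : W ⟶ X) [Etale p] (hW : LocIrr W) :
    Function.Bijective (lcMap M (pullback.fst p g)) := by
  have hr : Set.range (pullback.fst p g) = p ⁻¹' {η} := by
    rw [Scheme.Pullback.range_fst p g, hg]
  haveI := PropCInt.locallyQuasiFinite_of_etale p
  -- every nonempty open of `W` contains a point over `η`
  have hpt : ∀ O : Set W, IsOpen O → O.Nonempty → ∃ z ∈ O, p z = η := by
    intro O hO hne
    have h1 : IsOpen (p '' O) := p.isOpenMap O hO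
    have h2 : (p '' O).Nonempty := hne.image _
    have h3 : η ∈ p '' O := by
      have := hη.mem_open_set_iff h1
      have h4 : ((⊤ : Set X) ∩ p '' O).Nonempty := by simpa using h2
      exact this.2 h4
    obtain ⟨z, hz, hzη⟩ := h3
    exact ⟨z, hz, hzη⟩
  apply lcMap_bijective_of_inducing M _ (pullback.fst p g).isEmbedding.isInducing
  · change Dense (Set.range (pullback.fst p g))
    rw [hr, dense_iff_inter_open]
    intro O hO hne
    obtain ⟨z, hz, hzη⟩ := hpt O hO hne
    exact ⟨z, hz, hzη⟩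
  · intro b
    obtain ⟨N, hN, hb, hirr⟩ := hW b
    refine ⟨N, hN, hb, ?_⟩
    apply Set.Subsingleton.isPreconnected
    rw [hr]
    rintro n ⟨hnN, hnη⟩ n' ⟨hn'N, hn'η⟩
    have iso : ∀ u : W, ∃ U₁ : Set W, IsOpen U₁ ∧ u ∈ U₁ ∧ ∀ u' ∈ U₁, p u' = p u → u' = u := by
      intro u
      have hd := (p.isDiscrete_preimage_singleton (p u)).to_subtype
      have ho : IsOpen ({⟨u, rfl⟩} : Set ↥(p ⁻¹' {p u})) := isOpen_discrete _
      obtain ⟨O, hO, hOe⟩ := isOpen_induced_iff.mp ho
      refine ⟨O, hO, ?_, ?_⟩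
      · have : (⟨u, rfl⟩ : ↥(p ⁻¹' {p u})) ∈ Subtype.val ⁻¹' O := by rw [hOe]; rfl
        exact this
      · intro u' hu' hgu'
        have : (⟨u', hgu'⟩ : ↥(p ⁻¹' {p u})) ∈ Subtype.val ⁻¹' O := hu'
        rw [hOe] at this
        exact congrArg Subtype.val this
    obtain ⟨O, hO, hnO, hOu⟩ := iso n
    obtain ⟨O', hO', hn'O', hO'u⟩ := iso n'
    have hne : (N ∩ (O ∩ O')).Nonempty := hirr O O' hO hO' ⟨n, hnN, hnO⟩ ⟨n', hn'N, hn'O'⟩
    obtain ⟨z, hz, hzη⟩ := hpt (N ∩ (O ∩ O')) (hN.inter (hO.inter hO')) hne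
    have e1 : z = n := hOu z hz.2.1 (by rw [hzη]; exact hnη.symm)
    have e2 : z = n' := hO'u z hz.2.2 (by rw [hzη]; exact hn'η.symm)
    rw [← e1, ← e2]

end Groth.Agent.Lib.Helper23.LCTop
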