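import Groth.Agent.Lib.Helper6.RDShift
import Mathlib.Algebra.Homology.ShortComplex.SnakeLemma
import Mathlib.CategoryTheory.Abelian.RightDerived

/-!
# Derived functors of "sections with support" versus the cokernel of the unit (abstract form)

`η : 𝟭 ⟶ T` with `T` left exact, `Γ = ker η`, `η` epi on injectives.  Then
`coker (η_F) ≅ R¹Γ(F)` and (for `T = P ⋙ J`, `P` exact preserving injectives)
`RᵖJ(P F) ≅ Rᵖ⁺¹Γ(F)` for `p ≥ 1`.
-/

set_option autoImplicit false

namespace Groth.Agent.Lib.Helper23.LocCohShift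

open CategoryTheory Limits
open Groth.Agent.Lib.Helper6.RDShift Groth.Agent.Lib.Helper6.DeltaCompare

universe v v' u u'

variable {A : Type u} [Category.{v} A] [Abelian A]

section Coker

variable {T : A ⥤ A} (η : 𝟭 A ⟶ T)

/-- the cokernel of a natural transformation `𝟭 ⟶ T`, objectwise -/
noncomputable def cokerFunctor : A ⥤ A where
  obj F := cokernel (η.app F)
  map {F G} f := cokernel.map (η.app F) (η.app G) f (T.map f) (η.naturality f).symm
  map_id F := by
    apply (cancel_epi (cokernel.π (η.app F))).1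
    simp
  map_comp f g := by
    apply (cancel_epi (cokernel.π (η.app _))).1
    simp

/-- the projection `T ⟶ coker η` -/
noncomputable def cokerπ : T ⟶ cokerFunctor η where
  app F := cokernel.π (η.app F)
  naturality F G f := by
    simp [cokerFunctor]

instance [T.PreservesZeroMorphisms] : (cokerFunctor η).PreservesZeroMorphisms where
  map_zero F G := by
    apply (cancel_epi (cokernel.π (η.app F))).1
    simp [cokerFunctor, T.map_zero]
    exact comp_zero.symm

end Coker

section Main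

variable [EnoughInjectives A] {T : A ⥤ A} [T.Additive] [PreservesFiniteLimits T] (η : 𝟭 A ⟶ T)
  (Γ : A ⥤ A) [Γ.Additive] (ι : Γ ⟶ 𝟭 A) (w : ∀ F, ι.app F ≫ η.app F = 0)
  (hΓ : ∀ F, IsLimit (KernelFork.ofι (ι.app F) (w F)))

include hΓ in
lemma mono_ι (F : A) : Mono (ι.app F) := mono_of_isLimit_fork (hΓ F)

include hΓ in
lemma exists_lift_Γ (S : ShortComplex A) (hS : S.ShortExact) {Z : A} (t : Z ⟶ Γ.obj S.X₂)
    (ht : t ≫ Γ.map S.g = 0) : ∃ s' : Z ⟶ Γ.obj S.X₁, s' ≫ Γ.map S.f = t := by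
  haveI := hS.mono_f
  haveI : ∀ F, Mono (ι.app F) := fun F => mono_ι η Γ ι w hΓ F
  have n2 : Γ.map S.g ≫ ι.app S.X₃ = ι.app S.X₂ ≫ S.g := ι.naturality S.g
  have n1 : Γ.map S.f ≫ ι.app S.X₂ = ι.app S.X₁ ≫ S.f := ι.naturality S.f
  have e1 : η.app S.X₁ ≫ T.map S.f = S.f ≫ η.app S.X₂ := (η.naturality S.f).symm
  have h1 : (t ≫ ι.app S.X₂) ≫ S.g = 0 := by
    rw [Category.assoc, ← n2, ← Category.assoc, ht, zero_comp]
  let s : Z ⟶ S.X₁ := hS.fIsKernel.lift (KernelFork.ofι (t ≫ ι.app S.X₂) h1)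
  have hs : s ≫ S.f = t ≫ ι.app S.X₂ := hS.fIsKernel.fac _ WalkingParallelPair.zero
  haveI : Mono (T.map S.f) := inferInstance
  have h2 : s ≫ η.app S.X₁ = 0 := by
    rw [← cancel_mono (T.map S.f), Category.assoc, zero_comp, e1, ← Category.assoc, hs,
      Category.assoc, w, comp_zero]
  let s' : Z ⟶ Γ.obj S.X₁ := (hΓ S.X₁).lift (KernelFork.ofι s h2)
  have hs' : s' ≫ ι.app S.X₁ = s := (hΓ S.X₁).fac _ WalkingParallelPair.zero
  refine ⟨s', ?_⟩
  rw [← cancel_mono (ι.app S.X₂), Category.assoc, n1, ← Category.assoc, hs', hs]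

include hΓ in
lemma preservesFiniteLimits_Γ : PreservesFiniteLimits Γ := by
  rw [Functor.preservesFiniteLimits_iff_forall_exact_map_and_mono]
  intro S hS
  haveI := hS.mono_f
  haveI : ∀ F, Mono (ι.app F) := fun F => mono_ι η Γ ι w hΓ F
  have n1 : Γ.map S.f ≫ ι.app S.X₂ = ι.app S.X₁ ≫ S.f := ι.naturality S.f
  haveI hm : Mono (Γ.map S.f) := by
    haveI : Mono (Γ.map S.f ≫ ι.app S.X₂) := by
      rw [n1]
      exact mono_comp _ _
    exact mono_of_mono (Γ.map S.f) (ι.app S.X₂)
  refine ⟨?_, hm⟩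
  suffices h : (S.map Γ).Exact ∧ Mono (S.map Γ).f from h.1
  rw [ShortComplex.exact_and_mono_f_iff_f_is_kernel]
  haveI : Mono (S.map Γ).f := hm
  refine ⟨KernelFork.IsLimit.ofι' _ _ (fun {Z} t ht => ?_)⟩
  have h := exists_lift_Γ η Γ ι w hΓ S hS t ht
  exact ⟨h.choose, h.choose_spec⟩

/-- the snake input comparing `S` with `T(S)` through `η` -/
noncomputable def snake (S : ShortComplex A) (hS : S.ShortExact) : ShortComplex.SnakeInput A where
  L₀ := S.map Γ
  L₁ := S.map (𝟭 A)
  L₂ := S.map T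
  L₃ := S.map (cokerFunctor η)
  v₀₁ := S.mapNatTrans ι
  v₁₂ := S.mapNatTrans η
  v₂₃ := S.mapNatTrans (cokerπ η)
  w₀₂ := by
    ext
    · exact w _
    · exact w _
    · exact w _
  w₁₃ := by
    ext
    · exact cokernel.condition _
    · exact cokernel.condition _
    · exact cokernel.condition _
  h₀ := by
    apply ShortComplex.isLimitOfIsLimitπ
    all_goals exact (KernelFork.isLimitMapConeEquiv _ _).symm (hΓ _)
  h₃ := by
    apply ShortComplex.isColimitOfIsColimitπ
    all_goals exact (CokernelCofork.isColimitMapCoconeEquiv _ _).symm (cokernelIsCokernel _)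
  L₁_exact := hS.exact
  epi_L₁_g := hS.epi_g
  L₂_exact := hS.exact.map_of_mono_of_preservesKernel T hS.mono_f inferInstance
  mono_L₂_f := by
    haveI := hS.mono_f
    exact inferInstanceAs (Mono (T.map S.f))

/-- the short exact sequence `0 → F → I → I/F → 0` with `I` injective -/
noncomputable def sesUnder (F : A) : ShortComplex A :=
  ShortComplex.mk (Injective.ι F) (cokernel.π (Injective.ι F)) (cokernel.condition _)

lemma sesUnder_shortExact (F : A) : (sesUnder F).ShortExact :=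
  { exact := ShortComplex.exact_cokernel (Injective.ι F)
    mono_f := inferInstanceAs (Mono (Injective.ι F))
    epi_g := inferInstanceAs (Epi (cokernel.π (Injective.ι F))) }

include hΓ in
/-- `coker (η_F) ≅ coker (Γ I → Γ Q)` for a short exact `0 → F → I → Q → 0` with `η_I` epi -/
lemma nonempty_coker_iso_of_ses (S : ShortComplex A) (hS : S.ShortExact) (hI : Epi (η.app S.X₂)) :
    Nonempty (cokernel (Γ.map S.g) ≅ cokernel (η.app S.X₁)) := by
  let SI := snake η Γ ι w hΓ S hS
  have hz : IsZero SI.L₃.X₂ := isZero_cokernel_of_epi (η.app S.X₂)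
  haveI : Epi SI.δ := SI.epi_δ hz
  have hex := SI.L₁'_exact
  haveI : Epi SI.L₁'.g := inferInstanceAs (Epi SI.δ)
  have hc := hex.gIsCokernel
  exact ⟨IsColimit.coconePointUniqueUpToIso (cokernelIsCokernel (Γ.map S.g)) hc⟩

variable (hη : ∀ I : A, Injective I → Epi (η.app I))

include hΓ hη in
/-- `coker (η_F) ≅ R¹Γ(F)` -/
theorem nonempty_coker_iso_rightDerived_one (F : A) :
    Nonempty (cokernel (η.app F) ≅ (Γ.rightDerived 1).obj F) := by
  haveI := preservesFiniteLimits_Γ η Γ ι w hΓ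
  let S := sesUnder F
  have hS : S.ShortExact := sesUnder_shortExact F
  haveI : Injective S.X₂ := inferInstanceAs (Injective (Injective.under F))
  obtain ⟨e1⟩ := nonempty_coker_iso_of_ses η Γ ι w hΓ S hS (hη _ inferInstance)
  have hsh := hasShift_rightDerived Γ S hS
    (fun n => Functor.isZero_rightDerived_obj_injective_succ Γ n S.X₂)
  obtain ⟨e2⟩ := hsh.nonempty_iso_cokernel 0
  let e := Γ.rightDerivedZeroIsoSelf
  let e3 : cokernel ((Γ.rightDerived 0).map S.g) ≅ cokernel (Γ.map S.g) :=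
    cokernel.mapIso _ _ (e.app S.X₂) (e.app S.X₃) (e.hom.naturality S.g)
  exact ⟨e1.symm ≪≫ e3.symm ≪≫ e2.symm⟩

end Main

section Adj

variable [EnoughInjectives A] {B : Type u'} [Category.{v'} B] [Abelian B] [EnoughInjectives B]
  {P : A ⥤ B} {J : B ⥤ A} (adj : P ⊣ J) [P.Additive] [J.Additive]
  [PreservesFiniteLimits P] [PreservesFiniteColimits P]
  (hPinj : ∀ I : A, Injective I → Injective (P.obj I))
  (Γ : A ⥤ A) [Γ.Additive] (ι : Γ ⟶ 𝟭 A) (w : ∀ F, ι.app F ≫ adj.unit.app F = 0)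
  (hΓ : ∀ F, IsLimit (KernelFork.ofι (ι.app F) (w F)))
  (hη : ∀ I : A, Injective I → Epi (adj.unit.app I))

include hPinj hΓ hη in
/-- `Rⁿ⁺¹J(P F) ≅ Rⁿ⁺²Γ(F)` -/
theorem nonempty_rightDerived_iso (n : ℕ) (F : A) :
    Nonempty ((J.rightDerived (n + 1)).obj (P.obj F) ≅ (Γ.rightDerived (n + 2)).obj F) := by
  haveI : PreservesFiniteLimits J := by
    have := adj.rightAdjoint_preservesLimits
    infer_instance
  haveI : PreservesFiniteLimits (P ⋙ J) := comp_preservesFiniteLimits P J
  haveI : (P ⋙ J).Additive := inferInstance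
  induction n generalizing F with
  | zero =>
    let S := sesUnder F
    have hS : S.ShortExact := sesUnder_shortExact F
    haveI : Injective S.X₂ := inferInstanceAs (Injective (Injective.under F))
    haveI : Injective (P.obj S.X₂) := hPinj _ inferInstance
    haveI hepi : Epi (adj.unit.app S.X₂) := hη _ inferInstance
    haveI : Epi S.g := hS.epi_g
    have hshΓ := hasShift_rightDerived Γ S hS
      (fun n => Functor.isZero_rightDerived_obj_injective_succ Γ n S.X₂)
    have hshJ := hasShift_comp_rightDerived J P S (hS.map_of_exact P)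
      (fun n => Functor.isZero_rightDerived_obj_injective_succ J n (P.obj S.X₂))
    obtain ⟨e1⟩ := hshΓ.nonempty_iso_succ 0
    obtain ⟨e2⟩ := nonempty_coker_iso_rightDerived_one (T := P ⋙ J) adj.unit Γ ι w hΓ hη S.X₃
    obtain ⟨e3⟩ := hshJ.nonempty_iso_cokernel 0
    let e := J.rightDerivedZeroIsoSelf
    let e4 : cokernel ((P ⋙ J.rightDerived 0).map S.g) ≅ cokernel (J.map (P.map S.g)) :=
      cokernel.mapIso _ _ (e.app (P.obj S.X₂)) (e.app (P.obj S.X₃)) (e.hom.naturality (P.map S.g))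
    have hnat : adj.unit.app S.X₂ ≫ J.map (P.map S.g) = S.g ≫ adj.unit.app S.X₃ :=
      (adj.unit.naturality S.g).symm
    let e5 : cokernel (J.map (P.map S.g)) ≅ cokernel (adj.unit.app S.X₃) :=
      (cokernelEpiComp (adj.unit.app S.X₂) (J.map (P.map S.g))).symm ≪≫
        cokernelIsoOfEq hnat ≪≫ cokernelEpiComp S.g (adj.unit.app S.X₃)
    exact ⟨e3 ≪≫ e4 ≪≫ e5 ≪≫ e2 ≪≫ e1⟩
  | succ n ih =>
    let S := sesUnder F
    have hS : S.ShortExact := sesUnder_shortExact F
    haveI : Injective S.X₂ := inferInstanceAs (Injective (Injective.under F))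
    haveI : Injective (P.obj S.X₂) := hPinj _ inferInstance
    have hshΓ := hasShift_rightDerived Γ S hS
      (fun n => Functor.isZero_rightDerived_obj_injective_succ Γ n S.X₂)
    have hshJ := hasShift_comp_rightDerived J P S (hS.map_of_exact P)
      (fun n => Functor.isZero_rightDerived_obj_injective_succ J n (P.obj S.X₂))
    obtain ⟨e1⟩ := hshΓ.nonempty_iso_succ (n + 1)
    obtain ⟨e2⟩ := hshJ.nonempty_iso_succ n
    obtain ⟨e3⟩ := ih S.X₃
    exact ⟨e2.symm ≪≫ e3 ≪≫ e1⟩

end Adj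

end Groth.Agent.Lib.Helper23.LocCohShift
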