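import Groth.Agent.Lib.Helper23.FlcBasic
import Groth.Prelude.Def_FixPt
import Groth.Prelude.Def_EtRestW

/-!
# Inverse image preserves locally constant sheaves (abelian sheaves and sheaves of modules)
-/

set_option autoImplicit false
universe u

namespace Groth.Agent.Lib.Helper23.LocConstPull

open CategoryTheory CategoryTheory.Limits AlgebraicGeometry Opposite

variable {X Y : Scheme.{u}}

section Ab

lemma pull_comp_const {Z : Scheme.{u}} (f : X ⟶ Y) (g : Z ⟶ X) (F : EtCoh.Ab Y)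
    (M : AddCommGrpCat.{u + 1})
    (e : (EtCoh.pull f).obj F ≅ (constantSheaf X.smallEtaleTopology AddCommGrpCat.{u + 1}).obj M) :
    Nonempty ((EtCoh.pull (g ≫ f)).obj F ≅
      (constantSheaf Z.smallEtaleTopology AddCommGrpCat.{u + 1}).obj M) :=
  ⟨(EtCore.pullComp g f).app F ≪≫ (EtCoh.pull g).mapIso e ≪≫ (EtCore.pullConstIso g).app M⟩

lemma covers_bc (f : X ⟶ Y) {ι : Type u} (U : ι → Y.Etale) (hU : EtCoh.Covers U) :
    EtCoh.Covers fun i => (EtCoh.bc f).obj (U i) := by
  intro x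
  obtain ⟨i, y, hy⟩ := hU (f x)
  obtain ⟨z, -, hz2⟩ := Scheme.Pullback.exists_preimage_pullback (f := (U i).hom) (g := f) y x hy
  exact ⟨i, z, hz2⟩

set_option backward.isDefEq.respectTransparency.types false in
set_option backward.isDefEq.respectTransparency false in
/-- inverse image preserves locally constant abelian sheaves -/
theorem lc_pull (f : X ⟶ Y) (F : EtCoh.Ab Y) (h : EtRest.IsLocallyConstant F) :
    EtRest.IsLocallyConstant ((EtCoh.pull f).obj F) := by
  obtain ⟨ι, U, hU, h⟩ := h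
  refine ⟨ι, fun i => (EtCoh.bc f).obj (U i), covers_bc f U hU, fun i => ?_⟩
  obtain ⟨M, i1, e⟩ := h i
  obtain ⟨a⟩ := (FlcBridge.restr_iso_const_iff F (U i) (AddCommGrpCat.of M)).1 e
  refine ⟨M, i1, (FlcBridge.restr_iso_const_iff _ _ (AddCommGrpCat.of M)).2 ?_⟩
  let p : ((EtCoh.bc f).obj (U i)).left ⟶ (U i).left := pullback.fst (U i).hom f
  have hc : p ≫ (U i).hom = ((EtCoh.bc f).obj (U i)).hom ≫ f := pullback.condition
  obtain ⟨b⟩ := pull_comp_const (U i).hom p F (AddCommGrpCat.of M) a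
  exact ⟨((EtCore.pullComp ((EtCoh.bc f).obj (U i)).hom f).app F).symm ≪≫
    (EtCore.pullCongr hc.symm).app F ≪≫ b⟩

end Ab

section Mod

variable (Λ : Type (u + 1)) [CommRing Λ]

/-- the constant sheaf of modules on the over-site is the restriction of the constant sheaf -/
noncomputable def constOverIso (U : X.Etale) (M : ModuleCat.{u + 1} Λ) :
    (constantSheaf (X.smallEtaleTopology.over U) (ModuleCat.{u + 1} Λ)).obj M ≅
      ((constantSheaf X.smallEtaleTopology (ModuleCat.{u + 1} Λ)).obj M).over U :=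
  ((Over.forget U).pushforwardContinuousSheafificationCompatibility (ModuleCat.{u + 1} Λ)
    (X.smallEtaleTopology.over U) X.smallEtaleTopology).app
      ((Functor.const X.Etaleᵒᵖ).obj M)

/-- restriction of sheaves of modules along an etale morphism -/
noncomputable abbrev restrAlong {U : Scheme.{u}} (j : U ⟶ X) [Etale j] [EtShriek.JCont j] :
    EtModW.Mod Λ X ⥤ EtModW.Mod Λ U :=
  (EtShriek.compEtale j).sheafPushforwardContinuous (ModuleCat.{u + 1} Λ) U.smallEtaleTopology
    X.smallEtaleTopology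

noncomputable def restrPushAdj {U : Scheme.{u}} (j : U ⟶ X) [Etale j] [EtShriek.JCont j] :
    restrAlong Λ j ⊣ EtModW.push Λ j :=
  (EtRestr.adjSite j).sheafPushforwardContinuous _ _

noncomputable def pullIsoRestr {U : Scheme.{u}} (j : U ⟶ X) [Etale j] [EtShriek.JCont j] :
    EtModW.pull Λ j ≅ restrAlong Λ j :=
  Adjunction.leftAdjointUniq (FixPt.pullPushAdj j) (restrPushAdj Λ j)

variable (U : X.Etale)

/-- an isomorphism of restrictions to the over-site gives one of restrictions along `U.hom` -/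
noncomputable def restrAlongIsoOfOver {F G : EtModW.Mod Λ X} (e : F.over U ≅ G.over U) :
    (restrAlong Λ U.hom).obj F ≅ (restrAlong Λ U.hom).obj G :=
  let e' : (Over.forget U).op ⋙ F.obj ≅ (Over.forget U).op ⋙ G.obj :=
    (sheafToPresheaf _ _).mapIso e
  let e'' : (EtShriek.compEtale U.hom).op ⋙ F.obj ≅ (EtShriek.compEtale U.hom).op ⋙ G.obj :=
    Functor.isoWhiskerLeft (FlcBridge.toOver U).op e'
  (fullyFaithfulSheafToPresheaf _ _).preimageIso e''

/-- an isomorphism of restrictions along `U.hom` gives one of restrictions to the over-site -/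
noncomputable def overIsoOfRestrAlong {F G : EtModW.Mod Λ X}
    (θ : (restrAlong Λ U.hom).obj F ≅ (restrAlong Λ U.hom).obj G) :
    F.over U ≅ G.over U :=
  let θ' : (EtShriek.compEtale U.hom).op ⋙ F.obj ≅ (EtShriek.compEtale U.hom).op ⋙ G.obj :=
    (sheafToPresheaf _ _).mapIso θ
  let a : (Over.forget U).op ⋙ F.obj ≅
      (FlcBridge.ofOver U ⋙ EtShriek.compEtale U.hom).op ⋙ F.obj :=
    Functor.isoWhiskerRight (NatIso.op (FlcBridge.ofOverIso U)) F.obj
  let b : (Over.forget U).op ⋙ G.obj ≅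
      (FlcBridge.ofOver U ⋙ EtShriek.compEtale U.hom).op ⋙ G.obj :=
    Functor.isoWhiskerRight (NatIso.op (FlcBridge.ofOverIso U)) G.obj
  let m : (FlcBridge.ofOver U ⋙ EtShriek.compEtale U.hom).op ⋙ F.obj ≅
      (FlcBridge.ofOver U ⋙ EtShriek.compEtale U.hom).op ⋙ G.obj :=
    Functor.isoWhiskerLeft (FlcBridge.ofOver U).op θ'
  let t : (Over.forget U).op ⋙ F.obj ≅ (Over.forget U).op ⋙ G.obj := a ≪≫ m ≪≫ b.symm
  (fullyFaithfulSheafToPresheaf _ _).preimageIso t

/-- **Bridge** for sheaves of modules -/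
theorem restr_iso_const_iff (F : EtModW.Mod Λ X) (U : X.Etale) (M : ModuleCat.{u + 1} Λ) :
    Nonempty (EtModW.restr Λ F U ≅
      (constantSheaf (X.smallEtaleTopology.over U) (ModuleCat.{u + 1} Λ)).obj M) ↔
    Nonempty ((EtModW.pull Λ U.hom).obj F ≅
      (constantSheaf U.left.smallEtaleTopology (ModuleCat.{u + 1} Λ)).obj M) := by
  let C : EtModW.Mod Λ X := (constantSheaf X.smallEtaleTopology (ModuleCat.{u + 1} Λ)).obj M
  have pc : (EtModW.pull Λ U.hom).obj C ≅
      (constantSheaf U.left.smallEtaleTopology (ModuleCat.{u + 1} Λ)).obj M :=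
    (FixPt.pullConstIso U.hom).app M
  let r := pullIsoRestr Λ U.hom
  constructor
  · rintro ⟨e⟩
    have e1 : F.over U ≅ C.over U := e ≪≫ constOverIso Λ U M
    exact ⟨(r.app F) ≪≫ restrAlongIsoOfOver Λ U e1 ≪≫ (r.app C).symm ≪≫ pc⟩
  · rintro ⟨e⟩
    have θ : (restrAlong Λ U.hom).obj F ≅ (restrAlong Λ U.hom).obj C :=
      (r.app F).symm ≪≫ e ≪≫ pc.symm ≪≫ r.app C
    exact ⟨overIsoOfRestrAlong Λ U θ ≪≫ (constOverIso Λ U M).symm⟩

lemma pull_comp_const_mod {Z : Scheme.{u}} (f : X ⟶ Y) (g : Z ⟶ X) (F : EtModW.Mod Λ Y)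
    (M : ModuleCat.{u + 1} Λ)
    (e : (EtModW.pull Λ f).obj F ≅
      (constantSheaf X.smallEtaleTopology (ModuleCat.{u + 1} Λ)).obj M) :
    Nonempty ((EtModW.pull Λ (g ≫ f)).obj F ≅
      (constantSheaf Z.smallEtaleTopology (ModuleCat.{u + 1} Λ)).obj M) :=
  ⟨(FixPt.pullComp g f).app F ≪≫ (EtModW.pull Λ g).mapIso e ≪≫ (FixPt.pullConstIso g).app M⟩

set_option backward.isDefEq.respectTransparency.types false in
set_option backward.isDefEq.respectTransparency false in
/-- inverse image preserves finite type locally constant sheaves of modules -/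
theorem ftlc_pull (f : X ⟶ Y) (F : EtModW.Mod Λ Y) (h : EtModW.IsFTLocConst Λ F) :
    EtModW.IsFTLocConst Λ ((EtModW.pull Λ f).obj F) := by
  obtain ⟨ι, U, hU, h⟩ := h
  refine ⟨ι, fun i => (EtCoh.bc f).obj (U i), covers_bc f U hU, fun i => ?_⟩
  obtain ⟨M, i1, i2, i3, e⟩ := h i
  obtain ⟨a⟩ := (restr_iso_const_iff Λ F (U i) (ModuleCat.of Λ M)).1 e
  refine ⟨M, i1, i2, i3, (restr_iso_const_iff Λ _ _ (ModuleCat.of Λ M)).2 ?_⟩
  let p : ((EtCoh.bc f).obj (U i)).left ⟶ (U i).left := pullback.fst (U i).hom f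
  have hc : p ≫ (U i).hom = ((EtCoh.bc f).obj (U i)).hom ≫ f := pullback.condition
  obtain ⟨b⟩ := pull_comp_const_mod Λ (U i).hom p F (ModuleCat.of Λ M) a
  exact ⟨((FixPt.pullComp ((EtCoh.bc f).obj (U i)).hom f).app F).symm ≪≫
    (FixPt.pullCongr hc.symm).app F ≪≫ b⟩

end Mod

end Groth.Agent.Lib.Helper23.LocConstPull
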