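import Mathlib.LinearAlgebra.Contraction
import Mathlib.Algebra.Module.FinitePresentation
import Mathlib.LinearAlgebra.TensorProduct.RightExactness

/-!
# A universally injective map with finitely presented cokernel splits
-/

universe u
open TensorProduct

namespace Helper23.Pure

variable {R : Type u} [CommRing R]
variable {M1 M2 : Type u} [AddCommGroup M1] [AddCommGroup M2] [Module R M1] [Module R M2]

/-- Linear systems with constants in `M1` solvable in `M2` are solvable in `M1`. -/
theorem exists_solution (ι : M1 →ₗ[R] M2)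
    (huniv : ∀ (Q : Type u) [AddCommGroup Q] [Module R Q], Function.Injective (ι.lTensor Q))
    {F G : Type u} [AddCommGroup F] [AddCommGroup G] [Module R F] [Module R G]
    [Module.Finite R F] [Module.Projective R F] [Module.Finite R G] [Module.Projective R G]
    (Φ : G →ₗ[R] F) (w : G →ₗ[R] M1) (σ : F →ₗ[R] M2) (h : ι ∘ₗ w = σ ∘ₗ Φ) :
    ∃ m : F →ₗ[R] M1, m ∘ₗ Φ = w := by
  let Q := Module.Dual R G ⧸ LinearMap.range Φ.dualMap
  let pQ : Module.Dual R G →ₗ[R] Q := (LinearMap.range Φ.dualMap).mkQ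
  have hex : Function.Exact Φ.dualMap pQ := LinearMap.exact_map_mkQ_range _
  have hpQ : Function.Surjective pQ := Submodule.mkQ_surjective _
  let eG1 := dualTensorHomEquiv R G M1
  let eG2 := dualTensorHomEquiv R G M2
  let eF1 := dualTensorHomEquiv R F M1
  let eF2 := dualTensorHomEquiv R F M2
  let t := eG1.symm w
  have ht : eG1 t = w := eG1.apply_symm_apply w
  -- the class of `t` dies in `Q ⊗ M2`
  have h1 : ι.lTensor (Module.Dual R G) t = Φ.dualMap.rTensor M2 (eF2.symm σ) := by
    apply eG2.injective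
    have e1 : eG2 (ι.lTensor (Module.Dual R G) t) = ι ∘ₗ w := by
      have := LinearMap.congr_fun (dualTensorHom_comp_lTensor (M := G) ι) t
      simp only [LinearMap.comp_apply] at this
      show dualTensorHom R G M2 _ = _
      rw [this]
      show ι ∘ₗ (dualTensorHom R G M1 t) = _
      congr 1
    have e2 : eG2 (Φ.dualMap.rTensor M2 (eF2.symm σ)) = σ ∘ₗ Φ := by
      have := LinearMap.congr_fun (dualTensorHom_comp_rTensor_dualMap (P := M2) Φ) (eF2.symm σ)
      simp only [LinearMap.comp_apply] at this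
      show dualTensorHom R G M2 _ = _
      rw [this]
      show (dualTensorHom R F M2 (eF2.symm σ)) ∘ₗ Φ = _
      congr 1
      exact eF2.apply_symm_apply σ
    rw [e1, e2, h]
  have h2 : ι.lTensor Q (pQ.rTensor M1 t) = 0 := by
    rw [← LinearMap.comp_apply, LinearMap.lTensor_comp_rTensor, ← LinearMap.rTensor_comp_lTensor,
      LinearMap.comp_apply, h1, ← LinearMap.comp_apply, ← LinearMap.rTensor_comp,
      hex.linearMap_comp_eq_zero, LinearMap.rTensor_zero, LinearMap.zero_apply]
  have h3 : pQ.rTensor M1 t = 0 := huniv Q (h2.trans (map_zero _).symm)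
  obtain ⟨t', ht'⟩ := (rTensor_exact M1 hex hpQ t).mp h3
  refine ⟨eF1 t', ?_⟩
  have := LinearMap.congr_fun (dualTensorHom_comp_rTensor_dualMap (P := M1) Φ) t'
  simp only [LinearMap.comp_apply] at this
  rw [← ht, ← ht']
  exact this.symm

/-- A universally injective map with finitely presented cokernel has a retraction. -/
theorem exists_retraction {C : Type u} [AddCommGroup C] [Module R C]
    [Module.FinitePresentation R C] (ι : M1 →ₗ[R] M2) (q : M2 →ₗ[R] C)
    (hι : Function.Injective ι) (hex : Function.Exact ι q) (hq : Function.Surjective q)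
    (huniv : ∀ (Q : Type u) [AddCommGroup Q] [Module R Q], Function.Injective (ι.lTensor Q)) :
    ∃ ρ : M2 →ₗ[R] M1, ρ ∘ₗ ι = LinearMap.id := by
  obtain ⟨n, m, π, Φ, hπ, hΦπ⟩ := Module.FinitePresentation.exists_fin' R C
  obtain ⟨σ0, hσ0⟩ := Module.projective_lifting_property q π hq
  have hmem : ∀ y, (σ0 ∘ₗ Φ) y ∈ LinearMap.range ι := by
    intro y
    rw [← hex.linearMap_ker_eq, LinearMap.mem_ker, LinearMap.comp_apply, ← LinearMap.comp_apply,
      hσ0]
    exact hΦπ.apply_apply_eq_zero y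
  obtain ⟨w, hw⟩ := Module.projective_lifting_property ι.rangeRestrict
    (LinearMap.codRestrict (LinearMap.range ι) (σ0 ∘ₗ Φ) hmem) ι.surjective_rangeRestrict
  have hw' : ι ∘ₗ w = σ0 ∘ₗ Φ := by
    apply LinearMap.ext
    intro y
    have := congrArg Subtype.val (LinearMap.congr_fun hw y)
    simpa using this
  obtain ⟨m0, hm0⟩ := exists_solution ι huniv Φ w σ0 hw'
  -- the corrected lift kills the relations
  let σ : (Fin n → R) →ₗ[R] M2 := σ0 - ι ∘ₗ m0
  have hσΦ : σ ∘ₗ Φ = 0 := by
    show (σ0 - ι ∘ₗ m0) ∘ₗ Φ = 0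
    rw [LinearMap.sub_comp, LinearMap.comp_assoc, hm0, hw', sub_self]
  have hqσ : q ∘ₗ σ = π := by
    show q ∘ₗ (σ0 - ι ∘ₗ m0) = π
    rw [LinearMap.comp_sub, hσ0, ← LinearMap.comp_assoc, hex.linearMap_comp_eq_zero,
      LinearMap.zero_comp, sub_zero]
  have hker : LinearMap.ker π ≤ LinearMap.ker σ := by
    intro x hx
    obtain ⟨y, rfl⟩ := (hΦπ x).mp hx
    exact LinearMap.congr_fun hσΦ y
  let s : C →ₗ[R] M2 := (LinearMap.ker π).liftQ σ hker ∘ₗ
    (π.quotKerEquivOfSurjective hπ).symm.toLinearMap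
  have hsπ : ∀ x, s (π x) = σ x := by
    intro x
    show (LinearMap.ker π).liftQ σ hker ((π.quotKerEquivOfSurjective hπ).symm (π x)) = σ x
    have : (π.quotKerEquivOfSurjective hπ).symm (π x) = Submodule.Quotient.mk x := by
      rw [LinearEquiv.symm_apply_eq]
      rfl
    rw [this, Submodule.liftQ_apply]
  have hqs : ∀ c, q (s c) = c := by
    intro c
    obtain ⟨x, rfl⟩ := hπ c
    rw [hsπ, ← LinearMap.comp_apply, hqσ]
  have hmem2 : ∀ x, ((LinearMap.id : M2 →ₗ[R] M2) - s ∘ₗ q) x ∈ LinearMap.range ι := by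
    intro x
    rw [← hex.linearMap_ker_eq, LinearMap.mem_ker]
    simp [hqs]
  let e : M1 ≃ₗ[R] LinearMap.range ι := LinearEquiv.ofInjective ι hι
  refine ⟨e.symm.toLinearMap ∘ₗ LinearMap.codRestrict (LinearMap.range ι) ((LinearMap.id : M2 →ₗ[R] M2) - s ∘ₗ q) hmem2, ?_⟩
  ext x
  simp only [LinearMap.comp_apply, LinearMap.id_apply, LinearEquiv.coe_coe]
  rw [LinearEquiv.symm_apply_eq]
  apply Subtype.ext
  simp only [LinearMap.codRestrict_apply, LinearMap.sub_apply, LinearMap.id_apply,
    LinearMap.comp_apply]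
  rw [hex.apply_apply_eq_zero, map_zero, sub_zero]
  rfl

end Helper23.Pure
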