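import Groth.Agent.Lib.Helper23.MLMain
import Groth.Agent.S6359

/-!
# Mittag-Leffler modules as direct limits of finitely presented modules
-/

set_option autoImplicit false
universe u

open TensorProduct

namespace Groth.Agent.Lib.Helper23.ML

variable {R : Type u} [CommRing R]

/-- A universal element of the kernels of `f ⊗ N` for a Mittag-Leffler target. -/
theorem exists_universal {M : Type u} [AddCommGroup M] [Module R M]
    (hML : ∀ (ι : Type u) (Q : ι → Type u) [∀ i, AddCommGroup (Q i)] [∀ i, Module R (Q i)],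
      Function.Injective (TensorProduct.piRightHom R R M Q))
    {P : Type u} [AddCommGroup P] [Module R P] [Module.Finite R P] (f : P →ₗ[R] M) :
    ∃ (L : Type u) (_ : AddCommGroup L) (_ : Module R L) (x : P ⊗[R] L), f.rTensor L x = 0 ∧
      ∀ (P' : Type u) [AddCommGroup P'] [Module R P'] (g : P →ₗ[R] P'), g.rTensor L x = 0 →
        ∀ (N : Type u) [AddCommGroup N] [Module R N],
          LinearMap.ker (f.rTensor N) ≤ LinearMap.ker (g.rTensor N) := by
  classical
  let Qf : Idx f → Type u := fun a => (Fin a.n → R) ⧸ a.K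
  obtain ⟨x, hx⟩ := piRightHom_surjective Qf P (fun a => a.x)
  have h0 : f.rTensor _ x = 0 := by
    apply hML (Idx f) Qf
    funext a
    rw [piRightHom_rTensor, hx, map_zero]
    exact a.hx
  refine ⟨∀ a, Qf a, inferInstance, inferInstance, x, h0, ?_⟩
  intro P' _ _ g hg N _ _
  refine dominates_of_fp f g (fun N _ _ hN => ?_) N
  intro y hy
  rw [LinearMap.mem_ker] at hy ⊢
  obtain ⟨n, K, e, _⟩ := Module.FinitePresentation.exists_fin R N
  let a : Idx f := ⟨n, K, e.toLinearMap.lTensor P y, by
    rw [← LinearMap.comp_apply, LinearMap.rTensor_comp_lTensor, ← LinearMap.lTensor_comp_rTensor,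
      LinearMap.comp_apply, hy, map_zero]⟩
  have h1 : g.rTensor (Qf a) (e.toLinearMap.lTensor P y) = 0 := by
    have h2 : TensorProduct.piRightHom R R P Qf x a = e.toLinearMap.lTensor P y := congrFun hx a
    rw [← h2, ← piRightHom_rTensor, hg, map_zero]
    rfl
  have key : (e.symm.toLinearMap.lTensor P') (e.toLinearMap.lTensor P' (g.rTensor N y)) =
      g.rTensor N y := by
    rw [← LinearMap.lTensor_comp_apply]
    simp
  rw [← key, ← LinearMap.comp_apply (e.toLinearMap.lTensor P'), LinearMap.lTensor_comp_rTensor,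
    ← LinearMap.rTensor_comp_lTensor, LinearMap.comp_apply]
  show (e.symm.toLinearMap.lTensor P') (g.rTensor (Qf a) (e.toLinearMap.lTensor P y)) = 0
  rw [h1, map_zero]

section DirectLimit

variable {ι : Type u} [Preorder ι] [IsDirected ι (· ≤ ·)] [Nonempty ι] [DecidableEq ι]
  (G : ι → Type u) [∀ i, AddCommGroup (G i)] [∀ i, Module R (G i)]
  (f : ∀ i j, i ≤ j → G i →ₗ[R] G j) [DirectedSystem G fun i j h => f i j h]

theorem rTensor_of_eq_zero (L : Type u) [AddCommGroup L] [Module R L] (i : ι) (x : G i ⊗[R] L)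
    (h : (Module.DirectLimit.of R ι G f i).rTensor L x = 0) :
    ∃ (j : ι) (hij : i ≤ j), (f i j hij).rTensor L x = 0 := by
  have h1 := TensorProduct.directLimitLeft_rTensor_of f L x
  rw [h, map_zero] at h1
  exact Module.DirectLimit.of.zero_exact h1.symm

theorem exists_rTensor_of (L : Type u) [AddCommGroup L] [Module R L]
    (x : Module.DirectLimit G f ⊗[R] L) :
    ∃ (i : ι) (y : G i ⊗[R] L), (Module.DirectLimit.of R ι G f i).rTensor L y = x := by
  obtain ⟨i, y, hy⟩ := Module.DirectLimit.exists_of (TensorProduct.directLimitLeft f L x)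
  refine ⟨i, y, ?_⟩
  apply (TensorProduct.directLimitLeft f L).injective
  rw [TensorProduct.directLimitLeft_rTensor_of, hy]

theorem of_comp_f (i j : ι) (hij : i ≤ j) :
    Module.DirectLimit.of R ι G f j ∘ₗ f i j hij = Module.DirectLimit.of R ι G f i :=
  LinearMap.ext fun _ => Module.DirectLimit.of_f

theorem factors_of_ML [∀ i, Module.FinitePresentation R (G i)]
    (hML : ∀ (κ : Type u) (Q : κ → Type u) [∀ i, AddCommGroup (Q i)] [∀ i, Module R (Q i)],
      Function.Injective (TensorProduct.piRightHom R R (Module.DirectLimit G f) Q)) (i : ι) :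
    ∃ (j : ι) (hij : i ≤ j), ∀ (k : ι) (hik : i ≤ k),
      ∃ h : G k →ₗ[R] G j, f i j hij = h ∘ₗ f i k hik := by
  obtain ⟨L, _, _, x, hx, huniv⟩ := exists_universal hML (Module.DirectLimit.of R ι G f i)
  obtain ⟨j, hij, hj⟩ := rTensor_of_eq_zero G f L i x hx
  refine ⟨j, hij, fun k hik => ?_⟩
  have hdom : ∀ (Q : Type u) [AddCommGroup Q] [Module R Q],
      LinearMap.ker ((f i k hik).rTensor Q) ≤ LinearMap.ker ((f i j hij).rTensor Q) := by
    intro Q _ _ y hy
    apply huniv (G j) (f i j hij) hj Q
    rw [LinearMap.mem_ker] at hy ⊢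
    rw [← of_comp_f G f i k hik, LinearMap.rTensor_comp_apply, hy, map_zero]
  haveI : Module.FinitePresentation R (G k ⧸ LinearMap.range (f i k hik)) :=
    Module.finitePresentation_of_surjective (LinearMap.range (f i k hik)).mkQ
      (Submodule.mkQ_surjective _) (by
        rw [Submodule.ker_mkQ, ← Module.Finite.iff_fg]
        exact Module.Finite.range _)
  exact (Groth.Agent.S6359.result R (f i k hik) (f i j hij)).mp hdom

theorem ML_of_factors [∀ i, Module.FinitePresentation R (G i)]
    (H : ∀ i, ∃ (j : ι) (hij : i ≤ j), ∀ (k : ι) (hik : i ≤ k),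
      ∃ h : G k →ₗ[R] G j, f i j hij = h ∘ₗ f i k hik)
    (κ : Type u) (Q : κ → Type u) [∀ i, AddCommGroup (Q i)] [∀ i, Module R (Q i)] :
    Function.Injective (TensorProduct.piRightHom R R (Module.DirectLimit G f) Q) := by
  rw [injective_iff_map_eq_zero]
  intro x hx
  obtain ⟨i, y, rfl⟩ := exists_rTensor_of G f _ x
  obtain ⟨j, hij, hj⟩ := H i
  have h1 : (f i j hij).rTensor _ y = 0 := by
    apply piRightHom_injective Q (G j)
    funext a
    rw [piRightHom_rTensor, map_zero]
    have h2 : (Module.DirectLimit.of R ι G f i).rTensor (Q a)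
        (TensorProduct.piRightHom R R (G i) Q y a) = 0 := by
      rw [← piRightHom_rTensor, hx]
      rfl
    obtain ⟨k, hik, hk⟩ := rTensor_of_eq_zero G f (Q a) i _ h2
    obtain ⟨h, hh⟩ := hj k hik
    rw [hh, LinearMap.rTensor_comp_apply, hk, map_zero]
    rfl
  rw [← of_comp_f G f i j hij, LinearMap.rTensor_comp_apply, h1, map_zero]

end DirectLimit

end Groth.Agent.Lib.Helper23.ML
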