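import Groth.Agent.Lib.Helper23.MLProd

/-!
# Mittag-Leffler modules (product definition) versus domination by finitely presented modules
-/

set_option autoImplicit false
universe u

open TensorProduct

namespace Groth.Agent.Lib.Helper23.ML

variable {R : Type u} [CommRing R]

/-- The index set of all pairs (quotient of a finite free module, element of the kernel). -/
structure Idx {P M : Type u} [AddCommGroup P] [Module R P] [AddCommGroup M] [Module R M]
    (f : P →ₗ[R] M) : Type u where
  n : ℕ
  K : Submodule R (Fin n → R)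
  x : P ⊗[R] ((Fin n → R) ⧸ K)
  hx : f.rTensor _ x = 0

/-- Mittag-Leffler (product definition) implies: every map from a finitely presented module is
dominated by (and dominates) a map to a finitely presented module through which it factors. -/
theorem exists_dominating_of_ML {M : Type u} [AddCommGroup M] [Module R M]
    (hML : ∀ (ι : Type u) (Q : ι → Type u) [∀ i, AddCommGroup (Q i)] [∀ i, Module R (Q i)],
      Function.Injective (TensorProduct.piRightHom R R M Q))
    {P : Type u} [AddCommGroup P] [Module R P] [Module.FinitePresentation R P] (f : P →ₗ[R] M) :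
    ∃ (P' : Type u) (_ : AddCommGroup P') (_ : Module R P') (_ : Module.FinitePresentation R P')
      (g : P →ₗ[R] P') (h : P' →ₗ[R] M), f = h ∘ₗ g ∧
      ∀ (N : Type u) [AddCommGroup N] [Module R N],
        LinearMap.ker (f.rTensor N) = LinearMap.ker (g.rTensor N) := by
  classical
  let Qf : Idx f → Type u := fun a => (Fin a.n → R) ⧸ a.K
  obtain ⟨x, hx⟩ := piRightHom_surjective Qf P (fun a => a.x)
  have h0 : f.rTensor _ x = 0 := by
    apply hML (Idx f) Qf
    funext a
    rw [piRightHom_rTensor, hx, map_zero]
    exact a.hx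
  obtain ⟨P', i1, i2, hP', g, h, hf, hg⟩ := approx f x h0
  refine ⟨P', i1, i2, hP', g, h, hf, fun N _ _ => le_antisymm ?_ ?_⟩
  · refine dominates_of_fp f g (fun N _ _ hN => ?_) N
    intro y hy
    rw [LinearMap.mem_ker] at hy ⊢
    obtain ⟨n, K, e, _⟩ := Module.FinitePresentation.exists_fin R N
    let a : Idx f := ⟨n, K, e.toLinearMap.lTensor P y, by
      rw [← LinearMap.comp_apply, LinearMap.rTensor_comp_lTensor, ← LinearMap.lTensor_comp_rTensor,
        LinearMap.comp_apply, hy, map_zero]⟩
    have h1 : g.rTensor (Qf a) (e.toLinearMap.lTensor P y) = 0 := by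
      have h2 : TensorProduct.piRightHom R R P Qf x a = e.toLinearMap.lTensor P y := congrFun hx a
      rw [← h2, ← piRightHom_rTensor, hg, map_zero]
      rfl
    have key : (e.symm.toLinearMap.lTensor P') (e.toLinearMap.lTensor P' (g.rTensor N y)) =
        g.rTensor N y := by
      rw [← LinearMap.lTensor_comp_apply]
      simp
    rw [← key, ← LinearMap.comp_apply (e.toLinearMap.lTensor P'), LinearMap.lTensor_comp_rTensor,
      ← LinearMap.rTensor_comp_lTensor, LinearMap.comp_apply]
    show (e.symm.toLinearMap.lTensor P') (g.rTensor (Qf a) (e.toLinearMap.lTensor P y)) = 0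
    rw [h1, map_zero]
  · intro y hy
    rw [LinearMap.mem_ker] at hy ⊢
    rw [hf, LinearMap.rTensor_comp_apply, hy, map_zero]

/-- Every element of `M ⊗ L` comes from `Rⁿ ⊗ L` for some map `Rⁿ → M`. -/
theorem exists_free_lift {M L : Type u} [AddCommGroup M] [Module R M] [AddCommGroup L] [Module R L]
    (x : M ⊗[R] L) :
    ∃ (n : ℕ) (f : (Fin n → R) →ₗ[R] M) (x' : (Fin n → R) ⊗[R] L), f.rTensor L x' = x := by
  obtain ⟨J, hJ, y, rfl⟩ := Submodule.exists_fg_le_eq_rTensor_subtype x
  haveI : Module.Finite R J := Module.Finite.iff_fg.mpr hJ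
  obtain ⟨n, π₀, hπ₀⟩ := Module.Finite.exists_fin' R J
  obtain ⟨x', rfl⟩ := LinearMap.rTensor_surjective L hπ₀ y
  exact ⟨n, J.subtype ∘ₗ π₀, x', by rw [LinearMap.rTensor_comp_apply]⟩

/-- Conversely, domination of maps from finite free modules gives the Mittag-Leffler property. -/
theorem ML_of_dominating {M : Type u} [AddCommGroup M] [Module R M]
    (H : ∀ (n : ℕ) (f : (Fin n → R) →ₗ[R] M),
        ∃ (Q : Type u) (_ : AddCommGroup Q) (_ : Module R Q) (_ : Module.FinitePresentation R Q)
          (g : (Fin n → R) →ₗ[R] Q),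
          ∀ (N : Type u) [AddCommGroup N] [Module R N],
            LinearMap.ker (f.rTensor N) = LinearMap.ker (g.rTensor N))
    (ι : Type u) (Qf : ι → Type u) [∀ i, AddCommGroup (Qf i)] [∀ i, Module R (Qf i)] :
    Function.Injective (TensorProduct.piRightHom R R M Qf) := by
  rw [injective_iff_map_eq_zero]
  intro x hx
  obtain ⟨n, f, x', rfl⟩ := exists_free_lift x
  obtain ⟨Q, _, _, _, g, hker⟩ := H n f
  have h1 : g.rTensor _ x' = 0 := by
    apply piRightHom_injective Qf Q
    funext a
    rw [piRightHom_rTensor, map_zero]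
    have h2 : TensorProduct.piRightHom R R (Fin n → R) Qf x' a ∈ LinearMap.ker (f.rTensor (Qf a)) := by
      rw [LinearMap.mem_ker, ← piRightHom_rTensor, hx]
      rfl
    rw [hker (Qf a)] at h2
    exact h2
  have h3 : x' ∈ LinearMap.ker (g.rTensor (∀ i, Qf i)) := h1
  rw [← hker] at h3
  exact h3

end Groth.Agent.Lib.Helper23.ML
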