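import Mathlib.Algebra.Homology.DerivedCategory.Ext.ExactSequences
import Mathlib.Algebra.Homology.ShortComplex.ExactFunctor
import Groth.Agent.Lib.Helper23.JointExact

/-!
# Abstract Mayer-Vietoris

* `mv_of_shortExact`: from a short exact sequence `0 → Z_W → Z_U ⊞ Z_V → Z_X → 0` and identifications
  of groups `H_U^n ≃ Ext^n(Z_U, F)` etc. compatible with "restriction" maps, the Mayer-Vietoris
  exactness statements.
* `shortExact_of_jointly`: a criterion for `0 → A → B ⊞ C → D → 0` to be short exact in terms of two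
  jointly conservative exact functors.
-/

set_option autoImplicit false

namespace Groth.Agent.Lib.Helper23.MVAbstract

open CategoryTheory Limits Abelian

universe w w' v u

section MV

variable {C : Type u} [Category.{v} C] [Abelian C] [HasExt.{w} C]
  {ZW ZU ZV ZX F : C} (a : ZW ⟶ ZU) (b : ZW ⟶ ZV) (p : ZU ⟶ ZX) (q : ZV ⟶ ZX)

lemma comp_desc {n : ℕ} (x : Ext.{w} ZX F n) :
    Ext.biprodAddEquiv ((Ext.mk₀ (biprod.desc p q)).comp x (zero_add n)) =
      ((Ext.mk₀ p).comp x (zero_add n), (Ext.mk₀ q).comp x (zero_add n)) := by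
  ext
  · rw [Ext.biprodAddEquiv_apply_fst, ← Ext.comp_assoc_of_second_deg_zero, Ext.mk₀_comp_mk₀,
      biprod.inl_desc]
  · rw [Ext.biprodAddEquiv_apply_snd, ← Ext.comp_assoc_of_second_deg_zero, Ext.mk₀_comp_mk₀,
      biprod.inr_desc]

lemma comp_desc_eq_zero_iff {n : ℕ} (x : Ext.{w} ZX F n) :
    (Ext.mk₀ (biprod.desc p q)).comp x (zero_add n) = 0 ↔
      (Ext.mk₀ p).comp x (zero_add n) = 0 ∧ (Ext.mk₀ q).comp x (zero_add n) = 0 := by
  rw [← Ext.biprodAddEquiv.map_eq_zero_iff, comp_desc, Prod.mk_eq_zero]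

lemma lift_comp_symm {n : ℕ} (e₁ : Ext.{w} ZU F n) (e₂ : Ext.{w} ZV F n) :
    (Ext.mk₀ (biprod.lift a (-b))).comp (Ext.biprodAddEquiv.symm (e₁, e₂)) (zero_add n) =
      (Ext.mk₀ a).comp e₁ (zero_add n) - (Ext.mk₀ b).comp e₂ (zero_add n) := by
  rw [Ext.biprodAddEquiv_symm_apply, Ext.comp_add, ← Ext.comp_assoc_of_second_deg_zero,
    ← Ext.comp_assoc_of_second_deg_zero, Ext.mk₀_comp_mk₀, Ext.mk₀_comp_mk₀, biprod.lift_fst,
    biprod.lift_snd, Ext.mk₀_neg, Ext.neg_comp, sub_eq_add_neg]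

variable (hcomm : a ≫ p = b ≫ q)
  (hS : (ShortComplex.mk (biprod.lift a (-b)) (biprod.desc p q)
    (by rw [biprod.lift_desc, Preadditive.neg_comp, hcomm, add_neg_cancel])).ShortExact)
  {HU HV HW : ℕ → Type w'} [∀ n, AddCommGroup (HU n)] [∀ n, AddCommGroup (HV n)]
  [∀ n, AddCommGroup (HW n)]
  (ΘU : ∀ n, HU n ≃+ Ext.{w} ZU F n) (ΘV : ∀ n, HV n ≃+ Ext.{w} ZV F n)
  (ΘW : ∀ n, HW n ≃+ Ext.{w} ZW F n)
  (rU : ∀ n, Ext.{w} ZX F n →+ HU n) (rV : ∀ n, Ext.{w} ZX F n →+ HV n)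
  (dU : ∀ n, HU n →+ HW n) (dV : ∀ n, HV n →+ HW n)
  (hrU : ∀ n x, ΘU n (rU n x) = (Ext.mk₀ p).comp x (zero_add n))
  (hrV : ∀ n x, ΘV n (rV n x) = (Ext.mk₀ q).comp x (zero_add n))
  (hdU : ∀ n y, ΘW n (dU n y) = (Ext.mk₀ a).comp (ΘU n y) (zero_add n))
  (hdV : ∀ n y, ΘW n (dV n y) = (Ext.mk₀ b).comp (ΘV n y) (zero_add n))

include hS hrU hrV hdU hdV in
theorem mv_of_shortExact :
    ∃ δ : ∀ n : ℕ, HW n →+ Ext.{w} ZX F (n + 1),
      (AddMonoidHom.prod (rU 0) (rV 0)).ker = ⊥ ∧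
      (∀ n : ℕ, (AddMonoidHom.prod (rU (n + 1)) (rV (n + 1))).ker = (δ n).range) ∧
      (∀ n : ℕ, ((dU n).comp (AddMonoidHom.fst (HU n) (HV n)) -
          (dV n).comp (AddMonoidHom.snd (HU n) (HV n))).ker =
        (AddMonoidHom.prod (rU n) (rV n)).range) ∧
      (∀ n : ℕ, (δ n).ker =
        ((dU n).comp (AddMonoidHom.fst (HU n) (HV n)) -
          (dV n).comp (AddMonoidHom.snd (HU n) (HV n))).range) := by
  have hker : ∀ (n : ℕ) (x : Ext.{w} ZX F n),
      x ∈ (AddMonoidHom.prod (rU n) (rV n)).ker ↔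
        (Ext.mk₀ (biprod.desc p q)).comp x (zero_add n) = 0 := by
    intro n x
    rw [AddMonoidHom.mem_ker, AddMonoidHom.prod_apply, Prod.mk_eq_zero, comp_desc_eq_zero_iff,
      ← hrU, ← hrV, (ΘU n).map_eq_zero_iff, (ΘV n).map_eq_zero_iff]
  have hd : ∀ (n : ℕ) (yU : HU n) (yV : HV n),
      ΘW n (((dU n).comp (AddMonoidHom.fst (HU n) (HV n)) -
          (dV n).comp (AddMonoidHom.snd (HU n) (HV n))) (yU, yV)) =
        (Ext.mk₀ (biprod.lift a (-b))).comp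
          (Ext.biprodAddEquiv.symm (ΘU n yU, ΘV n yV)) (zero_add n) := by
    intro n yU yV
    rw [lift_comp_symm, AddMonoidHom.sub_apply, AddMonoidHom.comp_apply, AddMonoidHom.comp_apply,
      AddMonoidHom.coe_fst, AddMonoidHom.coe_snd, map_sub, hdU, hdV]
  obtain ⟨δ, hδ⟩ : ∃ δ : ∀ n : ℕ, HW n →+ Ext.{w} ZX F (n + 1),
      ∀ n y, δ n y = hS.extClass.comp (ΘW n y) (show 1 + n = n + 1 by omega) :=
    ⟨fun n => (hS.extClass.precomp F (show 1 + n = n + 1 by omega)).comp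
      (ΘW n).toAddMonoidHom, fun _ _ => rfl⟩
  refine ⟨δ, ?_, ?_, ?_, ?_⟩
  · rw [AddSubgroup.eq_bot_iff_forall]
    intro x hx
    rw [hker] at hx
    have := hS.epi_g
    apply Ext.precomp_mk₀_injective_of_epi F (biprod.desc p q)
    rw [map_zero]
    exact hx
  · intro n
    ext x
    rw [hker, AddMonoidHom.mem_range]
    constructor
    · intro hx
      obtain ⟨x₁, hx₁⟩ := Ext.contravariant_sequence_exact₃ hS F x hx
        (show 1 + n = n + 1 by omega)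
      exact ⟨(ΘW n).symm x₁, by rw [hδ, AddEquiv.apply_symm_apply]; exact hx₁⟩
    · rintro ⟨y, rfl⟩
      rw [hδ]
      exact hS.comp_extClass_assoc _ _
  · intro n
    ext ⟨yU, yV⟩
    rw [AddMonoidHom.mem_ker, ← (ΘW n).map_eq_zero_iff, hd, AddMonoidHom.mem_range]
    constructor
    · intro h
      obtain ⟨x, hx⟩ := Ext.contravariant_sequence_exact₂ hS F _ h
      refine ⟨x, ?_⟩
      have h2 := congrArg Ext.biprodAddEquiv hx
      rw [AddEquiv.apply_symm_apply] at h2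
      have h3 := (comp_desc p q x).symm.trans h2
      rw [Prod.mk.injEq, ← hrU, ← hrV] at h3
      rw [AddMonoidHom.prod_apply, Prod.mk.injEq]
      exact ⟨(ΘU n).injective h3.1, (ΘV n).injective h3.2⟩
    · rintro ⟨x, hx⟩
      rw [AddMonoidHom.prod_apply, Prod.mk.injEq] at hx
      rw [← hx.1, ← hx.2, hrU, hrV, ← comp_desc, AddEquiv.symm_apply_apply,
        ← Ext.comp_assoc_of_second_deg_zero, Ext.mk₀_comp_mk₀]
      have hz : biprod.lift a (-b) ≫ biprod.desc p q = 0 := by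
        rw [biprod.lift_desc, Preadditive.neg_comp, hcomm, add_neg_cancel]
      rw [hz, Ext.mk₀_zero, Ext.zero_comp]
  · intro n
    ext y
    rw [AddMonoidHom.mem_ker, AddMonoidHom.mem_range, hδ]
    constructor
    · intro hy
      obtain ⟨x₂, hx₂⟩ := Ext.contravariant_sequence_exact₁ hS F (ΘW n y)
        (show 1 + n = n + 1 by omega) hy
      refine ⟨((ΘU n).symm (Ext.biprodAddEquiv x₂).1, (ΘV n).symm (Ext.biprodAddEquiv x₂).2), ?_⟩
      apply (ΘW n).injective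
      rw [hd, AddEquiv.apply_symm_apply, AddEquiv.apply_symm_apply, Prod.mk.eta,
        AddEquiv.symm_apply_apply]
      exact hx₂
    · rintro ⟨⟨yU, yV⟩, rfl⟩
      rw [hd]
      exact hS.extClass_comp_assoc _

end MV

section Exact

/-- exactness of a short complex whose middle term splits compatibly -/
lemma exact_of_split {𝒜 : Type*} [Category 𝒜] [Abelian 𝒜] {X₁ M X₃ B C : 𝒜}
    (f : X₁ ⟶ M) (g : M ⟶ X₃) (w : f ≫ g = 0)
    (i : B ⟶ M) (r : M ⟶ B) (t : C ⟶ M) (s : M ⟶ C)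
    (hid : r ≫ i + s ≫ t = 𝟙 M) (hf : IsIso (f ≫ s)) (hg : IsIso (i ≫ g)) :
    (ShortComplex.mk f g w).Exact := by
  rw [ShortComplex.exact_iff_exact_up_to_refinements]
  intro A₀ m hm
  change m ≫ g = 0 at hm
  refine ⟨A₀, 𝟙 _, inferInstance, m ≫ s ≫ inv (f ≫ s), ?_⟩
  rw [Category.id_comp]
  change m = (m ≫ s ≫ inv (f ≫ s)) ≫ f
  have hzs : (m - (m ≫ s ≫ inv (f ≫ s)) ≫ f) ≫ s = 0 := by
    rw [Preadditive.sub_comp, Category.assoc, Category.assoc, Category.assoc, IsIso.inv_hom_id,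
      Category.comp_id, sub_self]
  have hzg : (m - (m ≫ s ≫ inv (f ≫ s)) ≫ f) ≫ g = 0 := by
    rw [Preadditive.sub_comp, hm, Category.assoc, w, comp_zero, sub_self]
  have hz : (m - (m ≫ s ≫ inv (f ≫ s)) ≫ f) =
      ((m - (m ≫ s ≫ inv (f ≫ s)) ≫ f) ≫ r) ≫ i := by
    conv_lhs => rw [← Category.comp_id (m - (m ≫ s ≫ inv (f ≫ s)) ≫ f), ← hid,
      Preadditive.comp_add, ← Category.assoc _ s t, hzs, zero_comp, add_zero, ← Category.assoc]
  have hzr : (m - (m ≫ s ≫ inv (f ≫ s)) ≫ f) ≫ r = 0 := by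
    rw [← cancel_mono (i ≫ g), zero_comp, ← Category.assoc, ← hz, hzg]
  rw [hzr, zero_comp] at hz
  exact sub_eq_zero.1 hz

lemma isIso_neg {𝒜 : Type*} [Category 𝒜] [Preadditive 𝒜] {X Y : 𝒜} (f : X ⟶ Y) [IsIso f] :
    IsIso (-f) :=
  ⟨⟨-inv f, by simp, by simp⟩⟩

variable {A B₁ B₂ : Type*} [Category A] [Abelian A] [Category B₁] [Abelian B₁]
  [Category B₂] [Abelian B₂]
  (Φ : A ⥤ B₁) (Ψ : A ⥤ B₂) [Φ.Additive] [Ψ.Additive]
  [PreservesFiniteLimits Φ] [PreservesFiniteColimits Φ]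
  [PreservesFiniteLimits Ψ] [PreservesFiniteColimits Ψ]
  (hJC : ∀ C : A, IsZero (Φ.obj C) → IsZero (Ψ.obj C) → IsZero C)

include hJC in
/-- `0 → Z_W → Z_U ⊞ Z_V → Z_X → 0` is short exact as soon as, for two jointly conservative exact
functors `Φ`, `Ψ`: `Φ` inverts `p` and `b`, `Ψ` inverts `q` and `a`. -/
theorem shortExact_of_jointly {ZW ZU ZV ZX : A} (a : ZW ⟶ ZU) (b : ZW ⟶ ZV) (p : ZU ⟶ ZX)
    (q : ZV ⟶ ZX) (hcomm : a ≫ p = b ≫ q) [Mono a]
    [IsIso (Φ.map p)] [IsIso (Φ.map b)] [IsIso (Ψ.map q)] [IsIso (Ψ.map a)] :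
    (ShortComplex.mk (biprod.lift a (-b)) (biprod.desc p q)
      (by rw [biprod.lift_desc, Preadditive.neg_comp, hcomm, add_neg_cancel])).ShortExact := by
  have hmono : Mono (biprod.lift a (-b)) := mono_of_mono_fac (biprod.lift_fst a (-b))
  have hepi : Epi (biprod.desc p q) := by
    apply JointExact.epi_of Φ Ψ hJC
    · have h : Φ.map biprod.inl ≫ Φ.map (biprod.desc p q) = Φ.map p := by
        rw [← Φ.map_comp, biprod.inl_desc]
      exact epi_of_epi_fac h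
    · have h : Ψ.map biprod.inr ≫ Ψ.map (biprod.desc p q) = Ψ.map q := by
        rw [← Ψ.map_comp, biprod.inr_desc]
      exact epi_of_epi_fac h
  refine ShortComplex.ShortExact.mk' ?_ hmono hepi
  apply JointExact.exact_of Φ Ψ hJC
  · refine exact_of_split (Φ.map (biprod.lift a (-b))) (Φ.map (biprod.desc p q)) _
      (Φ.map biprod.inl) (Φ.map biprod.fst) (Φ.map biprod.inr) (Φ.map biprod.snd) ?_ ?_ ?_
    · rw [← Φ.map_comp, ← Φ.map_comp, ← Φ.map_add, biprod.total, Φ.map_id]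
    · rw [← Φ.map_comp, biprod.lift_snd, Φ.map_neg]
      exact isIso_neg _
    · rw [← Φ.map_comp, biprod.inl_desc]
      infer_instance
  · refine exact_of_split (Ψ.map (biprod.lift a (-b))) (Ψ.map (biprod.desc p q)) _
      (Ψ.map biprod.inr) (Ψ.map biprod.snd) (Ψ.map biprod.inl) (Ψ.map biprod.fst) ?_ ?_ ?_
    · rw [← Ψ.map_comp, ← Ψ.map_comp, ← Ψ.map_add, add_comm, biprod.total, Ψ.map_id]
    · rw [← Ψ.map_comp, biprod.lift_fst]
      infer_instance
    · rw [← Ψ.map_comp, biprod.inr_desc]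
      infer_instance

end Exact

end Groth.Agent.Lib.Helper23.MVAbstract
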