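import Groth.Agent.Lib.Helper23.ExtRestr
import Groth.Agent.Lib.Helper23.MVAbstract
import Groth.Agent.Lib.Helper23.PullConstComp
import Groth.Agent.Lib.Helper23.EtRecoll
import Groth.Agent.S0648
import Groth.Agent.S0649
import Groth.Agent.S0651
import Groth.Agent.S0652
import Groth.Agent.S0622
import Groth.Agent.S0100

/-!
# Extension by zero / restriction along open immersions as a "restriction context"

For an open immersion `j : U ⟶ X`: the adjunction `j_! ⊣ j^{-1}` (with `j^{-1} = EtCoh.pull j`), exactness
instances, full faithfulness of `j_!`, injectivity of `ε : j_! ℤ_U → ℤ_X`, and for an open cover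
`X = U ∪ V` the joint conservativity of the two restrictions.
-/

set_option autoImplicit false
set_option backward.isDefEq.respectTransparency false

universe u

namespace Groth.Agent.Lib.Helper23.MVOpen

open CategoryTheory Limits Opposite AlgebraicGeometry Abelian
open Groth.Agent.Lib.Helper23.EtRestr Groth.Agent.Lib.Helper23.ExtRestr

section One

variable {U X : Scheme.{u}} (j : U ⟶ X) [IsOpenImmersion j]

/-- the adjunction `j_! ⊣ j^{-1}` with `j^{-1}` the inverse image functor -/
noncomputable def adjP : EtShriek.extZero j ⊣ EtCoh.pull j :=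
  (EtShriek.extZeroAdj j).ofNatIsoRight (pullIsoRestr j).symm

instance : (EtShriek.extZero j).Additive := (adjP j).left_adjoint_additive

instance : PreservesFiniteLimits (EtShriek.extZero j) := Groth.Agent.S0648.result j

instance : PreservesFiniteColimits (EtShriek.extZero j) :=
  have : PreservesColimitsOfSize.{0, 0} (EtShriek.extZero j) :=
    (adjP j).leftAdjoint_preservesColimits
  PreservesColimitsOfSize.preservesFiniteColimits _

instance pull_pfl : PreservesFiniteLimits (EtCoh.pull j) :=
  preservesFiniteLimits_of_natIso (pullIsoRestr j).symm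

instance (A : EtCoh.Ab U) : IsIso ((adjP j).unit.app A) := by
  haveI : IsIso ((EtShriek.extZeroAdj j).unit.app A) := (Groth.Agent.S0651.result j A).2
  rw [adjP, Adjunction.ofNatIsoRight_unit, NatTrans.comp_app]
  infer_instance

/-- the counit `j_! j^{-1} F → F` is a monomorphism -/
lemma mono_counit (F : EtCoh.Ab X) : Mono ((EtShriek.extZeroAdj j).counit.app F) := by
  obtain ⟨Z, i, hi, hZU⟩ := Groth.Agent.S0652.exists_closed_compl j
  have hJC := EtRecoll.isZero_of_restr_pull i j hZU
  haveI := EtRecoll.isIso_restr_counit j F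
  have hz1 : IsZero ((EtCoh.pull i).obj ((EtShriek.extZero j).obj
      ((EtShriek.restrAlong j).obj F))) := EtRecoll.isZero_pull_extZero i j hZU _
  apply JointExact.mono_of (EtShriek.restrAlong j) (EtCoh.pull i) hJC
  · infer_instance
  · exact ⟨fun _ _ _ => hz1.eq_of_tgt _ _⟩

instance (F : EtCoh.Ab X) : Mono ((adjP j).counit.app F) := by
  haveI := mono_counit j F
  rw [adjP, Adjunction.ofNatIsoRight_counit, NatTrans.comp_app]
  infer_instance

instance {oneX : EtCoh.Ab X} {oneU : EtCoh.Ab U} (c : (EtCoh.pull j).obj oneX ≅ oneU) :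
    Mono (eps (adjP j) c) := by
  rw [eps]
  infer_instance

end One

section Cover

variable {X : Scheme.{u}} (U V : X.Opens) (hUV : U ⊔ V = ⊤)

include hUV in
/-- restrictions to the two members of an open cover are jointly conservative -/
lemma isZero_of_cover (G : EtCoh.Ab X) (hU : IsZero ((EtCoh.pull U.ι).obj G))
    (hV : IsZero ((EtCoh.pull V.ι).obj G)) : IsZero G := by
  apply Groth.Agent.S0622.isZero_of_stalks
  intro Ω _ _ ξ
  have key : ∀ (W : X.Opens), IsZero ((EtCoh.pull W.ι).obj G) → Set.range ξ.base ⊆ (W : Set X) →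
      IsZero ((EtCoh.stalk ξ).obj G) := by
    intro W hW hr
    have hr' : Set.range ξ ⊆ Set.range W.ι := by
      intro x hx
      rw [Scheme.Opens.range_ι]
      exact hr hx
    let ξ' : Spec (CommRingCat.of Ω) ⟶ W := IsOpenImmersion.lift W.ι ξ hr'
    have hξ : ξ' ≫ W.ι = ξ := IsOpenImmersion.lift_fac W.ι ξ hr'
    obtain ⟨e⟩ := Groth.Agent.S0100.result W.ι G ξ'
    rw [hξ] at e
    exact ((EtCoh.stalk ξ').map_isZero hW).of_iso e.symm
  -- the unique point of `Spec Ω` lands in `U` or `V`
  let pt : Spec (CommRingCat.of Ω) := default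
  have hpt : ∀ y : Spec (CommRingCat.of Ω), y = pt := fun y => Subsingleton.elim _ _
  have hmem : ξ.base pt ∈ (U ⊔ V : X.Opens) := by rw [hUV]; trivial
  rcases hmem with h | h
  · refine key U hU ?_
    rintro x ⟨y, rfl⟩
    rw [hpt y]
    exact h
  · refine key V hV ?_
    rintro x ⟨y, rfl⟩
    rw [hpt y]
    exact h

end Cover

end Groth.Agent.Lib.Helper23.MVOpen
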