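import Groth.Agent.Lib.Helper23.MVOpen
import Groth.Agent.Lib.Helper23.HpullHp

/-!
# Mayer-Vietoris for an open cover `X = U ∪ V` in étale cohomology
-/

set_option autoImplicit false
set_option backward.isDefEq.respectTransparency false

universe u

namespace Groth.Agent.Lib.Helper23.MVOpen

open CategoryTheory Limits Opposite AlgebraicGeometry Abelian
open Groth.Agent.Lib.Helper23.EtRestr Groth.Agent.Lib.Helper23.ExtRestr
  Groth.Agent.Lib.Helper23.ExtAdj Groth.Agent.Lib.Helper23.MVAbstract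
  Groth.Agent.Lib.Helper23.PullConstComp Groth.Agent.Lib.Helper23.HpullHp

section Data

variable {X : Scheme.{u}}

/-- `ε_U : j_! ℤ_U → ℤ_X` -/
local notation "εmap[" U "]" => eps (adjP (Scheme.Opens.ι U)) (EtCore.pullConst (Scheme.Opens.ι U) ℤ)

/-- the comparison `g^{-1} f^{-1} ≅ (f ∘ g)^{-1}` for `V ≤ U` -/
local notation "θiso[" U "," h "]" =>
  (Iso.trans (Iso.symm (EtCore.pullComp (Scheme.homOfLE _ h) (Scheme.Opens.ι U)))
    (EtCore.pullCongr (Scheme.homOfLE_ι _ h)))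

/-- `ρ : j_! ℤ_V → j_! ℤ_U` for `V ≤ U` -/
local notation "ρmap[" U "," V "," h "]" =>
  rho (adjP (Scheme.Opens.ι U)) (adjP (Scheme.Opens.ι V)) θiso[U, h]
    (EtCore.pullConst (Scheme.homOfLE _ h) ℤ)

lemma mapRho_mapP {U V : X.Opens} (h : V ≤ U) : ρmap[U, V, h] ≫ εmap[U] = εmap[V] :=
  rho_eps (adjP U.ι) (adjP V.ι) θiso[U, h] (EtCore.pullConst (X.homOfLE h) ℤ)
    (EtCore.pullConst U.ι ℤ) (EtCore.pullConst V.ι ℤ)
    (pullConst_comp (X.homOfLE h) U.ι _ (X.homOfLE_ι h) ℤ)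

lemma mono_mapRho {U V : X.Opens} (h : V ≤ U) : Mono ρmap[U, V, h] :=
  mono_rho (adjP U.ι) (adjP V.ι) θiso[U, h] (EtCore.pullConst (X.homOfLE h) ℤ)
    (adjP (X.homOfLE h))

lemma isIso_pull_mapP (U : X.Opens) : IsIso ((EtCoh.pull U.ι).map εmap[U]) :=
  isIso_map_eps (adjP U.ι) (EtCore.pullConst U.ι ℤ)

lemma isIso_pull_mapRho (U V : X.Opens) :
    IsIso ((EtCoh.pull U.ι).map ρmap[V, U ⊓ V, inf_le_right]) := by
  have sq : IsPullback (X.homOfLE (inf_le_left : U ⊓ V ≤ U)) (X.homOfLE (inf_le_right : U ⊓ V ≤ V))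
    U.ι V.ι := isPullback_opens_inf U V
  obtain ⟨e⟩ := Groth.Agent.S0649.result V.ι U.ι (X.homOfLE inf_le_left) (X.homOfLE inf_le_right) sq
  exact isIso_map_rho (adjP V.ι) (adjP (U ⊓ V).ι) θiso[V, inf_le_right]
    (EtCore.pullConst (X.homOfLE inf_le_right) ℤ) (adjP (X.homOfLE inf_le_right)) (EtCoh.pull U.ι)
    (EtShriek.extZero (X.homOfLE (inf_le_left : U ⊓ V ≤ U))) (fun Q => ⟨(e.app Q).symm⟩)

lemma isIso_pull_mapRho' (U V : X.Opens) :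
    IsIso ((EtCoh.pull V.ι).map ρmap[U, U ⊓ V, inf_le_left]) := by
  have sq : IsPullback (X.homOfLE (inf_le_left : U ⊓ V ≤ U)) (X.homOfLE (inf_le_right : U ⊓ V ≤ V))
    U.ι V.ι := isPullback_opens_inf U V
  obtain ⟨e⟩ := Groth.Agent.S0649.result U.ι V.ι (X.homOfLE inf_le_right) (X.homOfLE inf_le_left)
    sq.flip
  exact isIso_map_rho (adjP U.ι) (adjP (U ⊓ V).ι) θiso[U, inf_le_left]
    (EtCore.pullConst (X.homOfLE inf_le_left) ℤ) (adjP (X.homOfLE inf_le_left)) (EtCoh.pull V.ι)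
    (EtShriek.extZero (X.homOfLE (inf_le_right : U ⊓ V ≤ V))) (fun Q => ⟨(e.app Q).symm⟩)

lemma comm_sq (U V : X.Opens) :
    ρmap[U, U ⊓ V, inf_le_left] ≫ εmap[U] = ρmap[V, U ⊓ V, inf_le_right] ≫ εmap[V] :=
  (mapRho_mapP inf_le_left).trans (mapRho_mapP inf_le_right).symm

/-- the Mayer-Vietoris short exact sequence `0 → j_! ℤ_{U ∩ V} → j_! ℤ_U ⊞ j_! ℤ_V → ℤ_X → 0` -/
theorem ses (U V : X.Opens) (hUV : U ⊔ V = ⊤) :
    (ShortComplex.mk
      (biprod.lift ρmap[U, U ⊓ V, inf_le_left] (-ρmap[V, U ⊓ V, inf_le_right]))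
      (biprod.desc εmap[U] εmap[V])
      (by rw [biprod.lift_desc, Preadditive.neg_comp, comm_sq U V, add_neg_cancel])).ShortExact := by
  haveI := mono_mapRho (inf_le_left : U ⊓ V ≤ U)
  haveI := isIso_pull_mapP U
  haveI := isIso_pull_mapP V
  haveI := isIso_pull_mapRho U V
  haveI := isIso_pull_mapRho' U V
  exact shortExact_of_jointly (EtCoh.pull U.ι) (EtCoh.pull V.ι) (isZero_of_cover U V hUV)
    ρmap[U, U ⊓ V, inf_le_left] ρmap[V, U ⊓ V, inf_le_right] εmap[U] εmap[V] (comm_sq U V)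

/-- `H^n(U, F|_U) ≃ Ext^n(j_! ℤ_U, F)` -/
local notation "Θeq[" U "," F "," n "]" =>
  AddEquiv.ofBijective
    (extAdj (adjP (Scheme.Opens.ι U)) (EtCoh.const (Scheme.Opens.toScheme U) ℤ) F n)
    (extAdj_bijective_of_exact (adjP (Scheme.Opens.ι U)) _ F n)

lemma theta_Hpull (U : X.Opens) (F : EtCoh.Ab X) [PreservesFiniteLimits (EtCoh.pull U.ι)] (n : ℕ)
    (x : EtCoh.H X F n) :
    Θeq[U, F, n] (EtCore.Hpull U.ι F n x) = (Ext.mk₀ εmap[U]).comp x (zero_add n) :=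
  extAdj_hp (adjP U.ι) (EtCore.pullConst U.ι ℤ) F n x

lemma theta_HpullVia {U V : X.Opens} (h : V ≤ U) (F : EtCoh.Ab X)
    [PreservesFiniteLimits (EtCoh.pull (X.homOfLE h))] (n : ℕ)
    (y : EtCoh.H ↑U ((EtCoh.pull U.ι).obj F) n) :
    Θeq[V, F, n] (EtCore.HpullVia (X.homOfLE h) U.ι V.ι (X.homOfLE_ι h) F n y) =
      (Ext.mk₀ ρmap[U, V, h]).comp (Θeq[U, F, n] y) (zero_add n) := by
  rw [HpullVia_eq_hpVia, AddEquiv.ofBijective_apply, AddEquiv.ofBijective_apply]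
  exact extAdj_hpVia (adjP U.ι) (adjP V.ι) θiso[U, h] (EtCore.pullConst (X.homOfLE h) ℤ) F n y

/-- Mayer-Vietoris for an open cover `X = U ∪ V` -/
theorem mv (U V : X.Opens) (hUV : U ⊔ V = ⊤) (F : EtCoh.Ab X)
    [PreservesFiniteLimits (EtCoh.pull U.ι)] [PreservesFiniteLimits (EtCoh.pull V.ι)]
    [PreservesFiniteLimits (EtCoh.pull (X.homOfLE (inf_le_left : U ⊓ V ≤ U)))]
    [PreservesFiniteLimits (EtCoh.pull (X.homOfLE (inf_le_right : U ⊓ V ≤ V)))] :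
    ∃ δ : ∀ n : ℕ, EtCoh.H ↑(U ⊓ V) ((EtCoh.pull (U ⊓ V).ι).obj F) n →+ EtCoh.H X F (n + 1),
      (AddMonoidHom.prod (EtCore.Hpull U.ι F 0) (EtCore.Hpull V.ι F 0)).ker = ⊥ ∧
      (∀ n : ℕ, (AddMonoidHom.prod (EtCore.Hpull U.ι F (n + 1))
        (EtCore.Hpull V.ι F (n + 1))).ker = (δ n).range) ∧
      (∀ n : ℕ, (((EtCore.HpullVia (X.homOfLE (inf_le_left : U ⊓ V ≤ U)) U.ι (U ⊓ V).ι
          (X.homOfLE_ι inf_le_left) F n)).comp (AddMonoidHom.fst _ _) -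
        ((EtCore.HpullVia (X.homOfLE (inf_le_right : U ⊓ V ≤ V)) V.ι (U ⊓ V).ι
          (X.homOfLE_ι inf_le_right) F n)).comp (AddMonoidHom.snd _ _)).ker =
        (AddMonoidHom.prod (EtCore.Hpull U.ι F n) (EtCore.Hpull V.ι F n)).range) ∧
      (∀ n : ℕ, (δ n).ker =
        (((EtCore.HpullVia (X.homOfLE (inf_le_left : U ⊓ V ≤ U)) U.ι (U ⊓ V).ι
          (X.homOfLE_ι inf_le_left) F n)).comp (AddMonoidHom.fst _ _) -
        ((EtCore.HpullVia (X.homOfLE (inf_le_right : U ⊓ V ≤ V)) V.ι (U ⊓ V).ι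
          (X.homOfLE_ι inf_le_right) F n)).comp (AddMonoidHom.snd _ _)).range) :=
  mv_of_shortExact (F := F) ρmap[U, U ⊓ V, inf_le_left] ρmap[V, U ⊓ V, inf_le_right]
    εmap[U] εmap[V] (comm_sq U V) (ses U V hUV)
    (HU := fun n => EtCoh.H ↑U ((EtCoh.pull U.ι).obj F) n)
    (HV := fun n => EtCoh.H ↑V ((EtCoh.pull V.ι).obj F) n)
    (HW := fun n => EtCoh.H ↑(U ⊓ V) ((EtCoh.pull (U ⊓ V).ι).obj F) n)
    (fun n => Θeq[U, F, n]) (fun n => Θeq[V, F, n]) (fun n => Θeq[U ⊓ V, F, n])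
    (fun n => EtCore.Hpull U.ι F n) (fun n => EtCore.Hpull V.ι F n)
    (fun n => EtCore.HpullVia (X.homOfLE inf_le_left) U.ι (U ⊓ V).ι (X.homOfLE_ι inf_le_left) F n)
    (fun n => EtCore.HpullVia (X.homOfLE inf_le_right) V.ι (U ⊓ V).ι (X.homOfLE_ι inf_le_right) F n)
    (fun n x => theta_Hpull U F n x) (fun n x => theta_Hpull V F n x)
    (fun n y => theta_HpullVia inf_le_left F n y) (fun n y => theta_HpullVia inf_le_right F n y)

end Data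

end Groth.Agent.Lib.Helper23.MVOpen
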