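import Groth.Prelude.Def_EtMil
import Mathlib

/-!
# Milnor squares: basic lemmas
-/

universe u
open TensorProduct

namespace Helper23.Mil

section Surj

variable {A' A : Type u} [CommRing A'] [CommRing A] [Algebra A' A]
variable {M' : Type u} [AddCommGroup M'] [Module A' M']

theorem exists_one_tmul (hs : Function.Surjective (algebraMap A' A)) (x : A ⊗[A'] M') :
    ∃ m : M', (1 : A) ⊗ₜ[A'] m = x := by
  induction x using TensorProduct.induction_on with
  | zero => exact ⟨0, by simp⟩
  | tmul a m =>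
    obtain ⟨a', rfl⟩ := hs a
    refine ⟨a' • m, ?_⟩
    rw [TensorProduct.tmul_smul, TensorProduct.smul_tmul', Algebra.smul_def, mul_one]
  | add x y hx hy =>
    obtain ⟨m₁, rfl⟩ := hx
    obtain ⟨m₂, rfl⟩ := hy
    exact ⟨m₁ + m₂, by rw [TensorProduct.tmul_add]⟩

theorem one_tmul_eq_zero_iff (hs : Function.Surjective (algebraMap A' A)) (m : M') :
    (1 : A) ⊗ₜ[A'] m = 0 ↔ m ∈ (RingHom.ker (algebraMap A' A)) • (⊤ : Submodule A' M') := by
  constructor
  · intro h
    let e : (A' ⧸ RingHom.ker (algebraMap A' A)) ≃ₐ[A'] A :=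
      Ideal.quotientKerAlgEquivOfSurjective (f := Algebra.ofId A' A) hs
    let θ : A ⊗[A'] M' ≃ₗ[A'] M' ⧸ (RingHom.ker (algebraMap A' A)) • (⊤ : Submodule A' M') :=
      (TensorProduct.congr e.symm.toLinearEquiv (LinearEquiv.refl A' M')) ≪≫ₗ
        TensorProduct.quotTensorEquivQuotSMul M' _
    have h1 := congrArg θ h
    have h2 : θ ((1 : A) ⊗ₜ[A'] m) = Submodule.Quotient.mk m := by
      simp only [θ, LinearEquiv.trans_apply, TensorProduct.congr_tmul, LinearEquiv.refl_apply]
      have : e.symm.toLinearEquiv (1 : A) = 1 := map_one e.symm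
      rw [this]
      exact TensorProduct.quotTensorEquivQuotSMul_mk_one_tmul _ m
    rw [h2, map_zero, Submodule.Quotient.mk_eq_zero] at h1
    exact h1
  · intro h
    refine Submodule.smul_induction_on (p := fun y => (1 : A) ⊗ₜ[A'] y = 0) h ?_ ?_
    · intro j hj n _
      rw [TensorProduct.tmul_smul, TensorProduct.smul_tmul', Algebra.smul_def, mul_one,
        (RingHom.mem_ker).mp hj, TensorProduct.zero_tmul]
    · intro x y hx hy
      rw [TensorProduct.tmul_add, hx, hy, add_zero]

end Surj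

section Square

variable {B' B A' A : Type u} [CommRing B'] [CommRing B] [CommRing A'] [CommRing A]
  [Algebra B' B] [Algebra B' A'] [Algebra B A] [Algebra A' A] [Algebra B' A]
  [IsScalarTower B' B A] [IsScalarTower B' A' A]

theorem exists_lift_of_ker (hsq : EtMil.IsFibreSquare B' B A' A) (j : A')
    (hj : algebraMap A' A j = 0) :
    ∃ b' : B', algebraMap B' B b' = 0 ∧ algebraMap B' A' b' = j := by
  obtain ⟨b', ⟨h1, h2⟩, _⟩ := hsq.2 0 j (by rw [map_zero, hj])
  exact ⟨b', h1, h2⟩

theorem algebraMap_B_surjective (hsq : EtMil.IsFibreSquare B' B A' A) :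
    Function.Surjective (algebraMap B' B) := by
  intro b
  obtain ⟨a', ha'⟩ := hsq.1 (algebraMap B A b)
  obtain ⟨b', ⟨h1, _⟩, _⟩ := hsq.2 b a' ha'.symm
  exact ⟨b', h1⟩

theorem eq_zero_of_maps (hsq : EtMil.IsFibreSquare B' B A' A) (b' : B')
    (h1 : algebraMap B' B b' = 0) (h2 : algebraMap B' A' b' = 0) : b' = 0 := by
  obtain ⟨c, _, hc⟩ := hsq.2 0 0 (by simp)
  rw [hc b' ⟨h1, h2⟩, hc 0 ⟨map_zero _, map_zero _⟩]

/-- Every pair in the fibre product of the base changes of a `B'`-module comes from the module. -/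
theorem pair_surjective (hsq : EtMil.IsFibreSquare B' B A' A)
    (L' : Type u) [AddCommGroup L'] [Module B' L'] (x : B ⊗[B'] L') (y : A' ⊗[B'] L')
    (hxy : (IsScalarTower.toAlgHom B' B A).toLinearMap.rTensor L' x =
      (IsScalarTower.toAlgHom B' A' A).toLinearMap.rTensor L' y) :
    ∃ l : L', (1 : B) ⊗ₜ[B'] l = x ∧ (1 : A') ⊗ₜ[B'] l = y := by
  obtain ⟨l₀, rfl⟩ := exists_one_tmul (algebraMap_B_surjective hsq) x
  let p : A' →ₗ[B'] A := (IsScalarTower.toAlgHom B' A' A).toLinearMap
  let J : Submodule B' A' := LinearMap.ker p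
  have hp : Function.Surjective p := hsq.1
  have hex : Function.Exact (J.subtype.rTensor L') (p.rTensor L') :=
    rTensor_exact L' (LinearMap.exact_subtype_ker_map p) hp
  have hz : p.rTensor L' (y - (1 : A') ⊗ₜ[B'] l₀) = 0 := by
    rw [map_sub, ← hxy]
    simp [p]
  obtain ⟨w, hw⟩ := (hex _).mp hz
  have key : ∀ w : J ⊗[B'] L', ∃ l₁ : L', (1 : A') ⊗ₜ[B'] l₁ = J.subtype.rTensor L' w ∧
      (1 : B) ⊗ₜ[B'] l₁ = 0 := by
    intro w
    induction w using TensorProduct.induction_on with
    | zero => exact ⟨0, by simp⟩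
    | tmul j l =>
      obtain ⟨b', hb1, hb2⟩ := exists_lift_of_ker hsq j.1 (by
        have := j.2
        rw [LinearMap.mem_ker] at this
        exact this)
      refine ⟨b' • l, ?_, ?_⟩
      · rw [LinearMap.rTensor_tmul, Submodule.subtype_apply, ← hb2, TensorProduct.tmul_smul,
          TensorProduct.smul_tmul', Algebra.smul_def, mul_one]
      · rw [TensorProduct.tmul_smul, TensorProduct.smul_tmul', Algebra.smul_def, mul_one, hb1,
          TensorProduct.zero_tmul]
    | add a b ha hb =>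
      obtain ⟨l₁, h1, h1'⟩ := ha
      obtain ⟨l₂, h2, h2'⟩ := hb
      exact ⟨l₁ + l₂, by rw [TensorProduct.tmul_add, h1, h2, map_add],
        by rw [TensorProduct.tmul_add, h1', h2', add_zero]⟩
  obtain ⟨l₁, h1, h1'⟩ := key w
  refine ⟨l₀ + l₁, by rw [TensorProduct.tmul_add, h1', add_zero], ?_⟩
  rw [TensorProduct.tmul_add, h1, hw]
  abel

end Square

end Helper23.Mil
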