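import Groth.Agent.Lib.Helper23.Milnor

/-!
# Milnor squares: the glued module and its base changes
-/

universe u
open TensorProduct

namespace Helper23.Mil

variable {B' B A' A : Type u} [CommRing B'] [CommRing B] [CommRing A'] [CommRing A]
  [Algebra B' B] [Algebra B' A'] [Algebra B A] [Algebra A' A] [Algebra B' A]
  [IsScalarTower B' B A] [IsScalarTower B' A' A]
variable {N M' : Type u} [AddCommGroup N] [Module B N] [Module B' N] [IsScalarTower B' B N]
  [AddCommGroup M'] [Module A' M'] [Module B' M'] [IsScalarTower B' A' M']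
variable (φ : A ⊗[B] N ≃ₗ[A] A ⊗[A'] M')

theorem mem_glue (x : N × M') :
    x ∈ EtMil.glue B' φ ↔ φ ((1 : A) ⊗ₜ[B] x.1) = (1 : A) ⊗ₜ[A'] x.2 := Iff.rfl

@[simp] theorem glueFst_apply (g : EtMil.glue B' φ) : EtMil.glueFst B' φ g = g.1.1 := rfl
@[simp] theorem glueSnd_apply (g : EtMil.glue B' φ) : EtMil.glueSnd B' φ g = g.1.2 := rfl

theorem glue_hpr (g : EtMil.glue B' φ) :
    φ ((1 : A) ⊗ₜ[B] (EtMil.glueFst B' φ g)) = (1 : A) ⊗ₜ[A'] (EtMil.glueSnd B' φ g) := g.2

variable (hsq : EtMil.IsFibreSquare B' B A' A)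

include hsq in
theorem glueFst_surjective : Function.Surjective (EtMil.glueFst B' φ) := by
  intro n
  obtain ⟨m, hm⟩ := exists_one_tmul hsq.1 (φ ((1 : A) ⊗ₜ[B] n))
  exact ⟨⟨(n, m), hm.symm⟩, rfl⟩

include hsq in
theorem zero_mem_glue_iff (d : M') :
    ((0 : N), d) ∈ EtMil.glue B' φ ↔ d ∈ (RingHom.ker (algebraMap A' A)) • (⊤ : Submodule A' M') := by
  rw [mem_glue, ← one_tmul_eq_zero_iff hsq.1]
  simp only [TensorProduct.tmul_zero, map_zero]
  exact eq_comm

include hsq in
theorem span_range_glueSnd :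
    Submodule.span A' (Set.range (EtMil.glueSnd B' φ)) = ⊤ := by
  rw [eq_top_iff]
  intro m _
  have key : ∀ z : A ⊗[B] N, ∃ w ∈ Submodule.span A' (Set.range (EtMil.glueSnd B' φ)),
      φ z = (1 : A) ⊗ₜ[A'] w := by
    intro z
    induction z using TensorProduct.induction_on with
    | zero => exact ⟨0, zero_mem _, by simp⟩
    | tmul a n =>
      obtain ⟨a', rfl⟩ := hsq.1 a
      obtain ⟨g, rfl⟩ := glueFst_surjective φ hsq n
      refine ⟨a' • EtMil.glueSnd B' φ g, Submodule.smul_mem _ _ (Submodule.subset_span ⟨g, rfl⟩), ?_⟩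
      have : (algebraMap A' A a') ⊗ₜ[B] (EtMil.glueFst B' φ g) =
          (algebraMap A' A a') • ((1 : A) ⊗ₜ[B] (EtMil.glueFst B' φ g)) := by
        rw [TensorProduct.smul_tmul', smul_eq_mul, mul_one]
      rw [this, map_smul, glue_hpr, TensorProduct.tmul_smul, TensorProduct.smul_tmul',
        TensorProduct.smul_tmul', smul_eq_mul, mul_one, Algebra.smul_def, mul_one]
    | add x y hx hy =>
      obtain ⟨w₁, hw₁, h₁⟩ := hx
      obtain ⟨w₂, hw₂, h₂⟩ := hy
      exact ⟨w₁ + w₂, add_mem hw₁ hw₂, by rw [map_add, h₁, h₂, TensorProduct.tmul_add]⟩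
  obtain ⟨w, hw, h⟩ := key (φ.symm ((1 : A) ⊗ₜ[A'] m))
  rw [LinearEquiv.apply_symm_apply] at h
  have hd : m - w ∈ (RingHom.ker (algebraMap A' A)) • (⊤ : Submodule A' M') := by
    rw [← one_tmul_eq_zero_iff hsq.1, TensorProduct.tmul_sub, h, sub_self]
  have hd' := (zero_mem_glue_iff φ hsq (m - w)).mpr hd
  have : m = (m - w) + w := by abel
  rw [this]
  exact add_mem (Submodule.subset_span ⟨⟨_, hd'⟩, rfl⟩) hw

include hsq in
/-- Elements of the glued module with vanishing first coordinate lie in `ker(B' → B) • ⊤`. -/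
theorem mem_ker_smul_top_of_fst_eq_zero (g : EtMil.glue B' φ) (hg : EtMil.glueFst B' φ g = 0) :
    g ∈ (RingHom.ker (algebraMap B' B)) • (⊤ : Submodule B' (EtMil.glue B' φ)) := by
  have hC : ∀ μ ∈ Submodule.span A' (Set.range (EtMil.glueSnd B' φ)),
      ∀ j ∈ RingHom.ker (algebraMap A' A),
      ∃ g' ∈ (RingHom.ker (algebraMap B' B)) • (⊤ : Submodule B' (EtMil.glue B' φ)),
        g'.1 = ((0 : N), j • μ) := by
    intro μ hμ
    induction hμ using Submodule.span_induction with
    | mem x hx =>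
      obtain ⟨g₀, rfl⟩ := hx
      intro j hj
      obtain ⟨b', hb1, hb2⟩ := exists_lift_of_ker hsq j hj
      refine ⟨b' • g₀, Submodule.smul_mem_smul (RingHom.mem_ker.mpr hb1) Submodule.mem_top, ?_⟩
      apply Prod.ext
      · change b' • g₀.1.1 = 0
        rw [← algebraMap_smul B b' g₀.1.1, hb1, zero_smul]
      · change b' • g₀.1.2 = j • g₀.1.2
        rw [← algebraMap_smul A' b' g₀.1.2, hb2]
    | zero =>
      intro j _
      exact ⟨0, zero_mem _, by simp only [smul_zero]; rfl⟩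
    | add x y _ _ hx hy =>
      intro j hj
      obtain ⟨g₁, hg₁, h₁⟩ := hx j hj
      obtain ⟨g₂, hg₂, h₂⟩ := hy j hj
      refine ⟨g₁ + g₂, add_mem hg₁ hg₂, ?_⟩
      rw [Submodule.coe_add, h₁, h₂, smul_add]
      simp
    | smul a x _ hx =>
      intro j hj
      obtain ⟨g₁, hg₁, h₁⟩ := hx (j * a) (Ideal.mul_mem_right _ _ hj)
      exact ⟨g₁, hg₁, by rw [h₁, mul_smul]⟩
  have hD : ∀ d ∈ (RingHom.ker (algebraMap A' A)) • (⊤ : Submodule A' M'),
      ∃ g' ∈ (RingHom.ker (algebraMap B' B)) • (⊤ : Submodule B' (EtMil.glue B' φ)),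
        g'.1 = ((0 : N), d) := by
    intro d hd
    refine Submodule.smul_induction_on (p := fun d => ∃ g' ∈ (RingHom.ker (algebraMap B' B)) •
      (⊤ : Submodule B' (EtMil.glue B' φ)), g'.1 = ((0 : N), d)) hd ?_ ?_
    · intro j hj μ _
      exact hC μ (by rw [span_range_glueSnd φ hsq]; exact Submodule.mem_top) j hj
    · rintro x y ⟨g₁, hg₁, h₁⟩ ⟨g₂, hg₂, h₂⟩
      refine ⟨g₁ + g₂, add_mem hg₁ hg₂, ?_⟩
      rw [Submodule.coe_add, h₁, h₂]
      simp
  have h0 : g.1 = ((0 : N), g.1.2) := Prod.ext hg rfl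
  have hmem : ((0 : N), g.1.2) ∈ EtMil.glue B' φ := h0 ▸ g.2
  obtain ⟨g', hg', h'⟩ := hD _ ((zero_mem_glue_iff φ hsq _).mp hmem)
  have : g = g' := Subtype.ext (h0.trans h'.symm)
  rw [this]
  exact hg'

include hsq in
theorem liftBaseChange_glueFst_bijective :
    Function.Bijective (LinearMap.liftBaseChange B (EtMil.glueFst B' φ)) := by
  constructor
  · rw [injective_iff_map_eq_zero]
    intro t ht
    obtain ⟨g, rfl⟩ := exists_one_tmul (algebraMap_B_surjective hsq) t
    rw [LinearMap.liftBaseChange_tmul, one_smul] at ht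
    exact (one_tmul_eq_zero_iff (algebraMap_B_surjective hsq) g).mpr
      (mem_ker_smul_top_of_fst_eq_zero φ hsq g ht)
  · intro n
    obtain ⟨g, rfl⟩ := glueFst_surjective φ hsq n
    exact ⟨(1 : B) ⊗ₜ[B'] g, by rw [LinearMap.liftBaseChange_tmul, one_smul]⟩

include hsq in
theorem liftBaseChange_glueSnd_surjective :
    Function.Surjective (LinearMap.liftBaseChange A' (EtMil.glueSnd B' φ)) := by
  rw [← LinearMap.range_eq_top, eq_top_iff, ← span_range_glueSnd φ hsq, Submodule.span_le]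
  rintro _ ⟨g, rfl⟩
  exact ⟨(1 : A') ⊗ₜ[B'] g, by rw [LinearMap.liftBaseChange_tmul, one_smul]⟩

end Helper23.Mil

namespace Helper23.Mil

variable {B' B A' A : Type u} [CommRing B'] [CommRing B] [CommRing A'] [CommRing A]
  [Algebra B' B] [Algebra B' A'] [Algebra B A] [Algebra A' A] [Algebra B' A]
  [IsScalarTower B' B A] [IsScalarTower B' A' A]
variable {N M' : Type u} [AddCommGroup N] [Module B N] [Module B' N] [IsScalarTower B' B N]
  [AddCommGroup M'] [Module A' M'] [Module B' M'] [IsScalarTower B' A' M']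
variable (φ : A ⊗[B] N ≃ₗ[A] A ⊗[A'] M')
variable (hsq : EtMil.IsFibreSquare B' B A' A)

include hsq in
theorem liftBaseChange_glueSnd_injective :
    Function.Injective (LinearMap.liftBaseChange A' (EtMil.glueSnd B' φ)) := by
  rw [injective_iff_map_eq_zero]
  intro t ht
  let p : A' →ₗ[B'] A := (IsScalarTower.toAlgHom B' A' A).toLinearMap
  let ιN : N →ₗ[B'] A ⊗[B] N := (TensorProduct.mk B A N 1).restrictScalars B'
  let σ : A ⊗[B'] (EtMil.glue B' φ) →ₗ[A] A ⊗[B] N :=
    LinearMap.liftBaseChange A (ιN ∘ₗ EtMil.glueFst B' φ)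
  let ιM : M' →ₗ[B'] A ⊗[A'] M' := (TensorProduct.mk A' A M' 1).restrictScalars B'
  let τ : A ⊗[B'] (EtMil.glue B' φ) →ₗ[A] A ⊗[A'] M' :=
    LinearMap.liftBaseChange A (ιM ∘ₗ EtMil.glueSnd B' φ)
  have hσ : ∀ (a : A) (g : EtMil.glue B' φ), σ (a ⊗ₜ[B'] g) = a ⊗ₜ[B] (EtMil.glueFst B' φ g) := by
    intro a g
    change a • ((1 : A) ⊗ₜ[B] (EtMil.glueFst B' φ g)) = _
    rw [TensorProduct.smul_tmul', smul_eq_mul, mul_one]
  have hτ' : ∀ (a : A) (g : EtMil.glue B' φ), τ (a ⊗ₜ[B'] g) = a ⊗ₜ[A'] (EtMil.glueSnd B' φ g) := by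
    intro a g
    change a • ((1 : A) ⊗ₜ[A'] (EtMil.glueSnd B' φ g)) = _
    rw [TensorProduct.smul_tmul', smul_eq_mul, mul_one]
  have hστ : ∀ z, φ (σ z) = τ z := by
    intro z
    induction z using TensorProduct.induction_on with
    | zero => simp
    | tmul a g =>
      have : a ⊗ₜ[B] (EtMil.glueFst B' φ g) = a • ((1 : A) ⊗ₜ[B] (EtMil.glueFst B' φ g)) := by
        rw [TensorProduct.smul_tmul', smul_eq_mul, mul_one]
      rw [hσ, hτ', this, map_smul, glue_hpr, TensorProduct.smul_tmul', smul_eq_mul, mul_one]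
    | add x y hx hy => simp only [map_add, hx, hy]
  have hτ : ∀ t : A' ⊗[B'] (EtMil.glue B' φ), τ (p.rTensor _ t) =
      (1 : A) ⊗ₜ[A'] (LinearMap.liftBaseChange A' (EtMil.glueSnd B' φ) t) := by
    intro t
    induction t using TensorProduct.induction_on with
    | zero => simp
    | tmul a' g =>
      rw [LinearMap.rTensor_tmul, hτ', LinearMap.liftBaseChange_tmul, TensorProduct.tmul_smul,
        TensorProduct.smul_tmul', Algebra.smul_def, mul_one]
      rfl
    | add x y hx hy => simp only [map_add, hx, hy, TensorProduct.tmul_add]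
  have hβ := liftBaseChange_glueFst_bijective φ hsq
  let e : B ⊗[B'] (EtMil.glue B' φ) ≃ₗ[B] N := LinearEquiv.ofBijective _ hβ
  let c := TensorProduct.AlgebraTensorModule.cancelBaseChange B' B A A (EtMil.glue B' φ)
  have hc : ∀ w : A ⊗[B] (B ⊗[B'] (EtMil.glue B' φ)), σ (c w) = (LinearEquiv.lTensor A e) w := by
    intro w
    induction w using TensorProduct.induction_on with
    | zero => simp
    | tmul a y =>
      induction y using TensorProduct.induction_on with
      | zero => simp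
      | tmul b g =>
        rw [TensorProduct.AlgebraTensorModule.cancelBaseChange_tmul, hσ, LinearEquiv.lTensor_tmul]
        change _ = a ⊗ₜ[B] (b • EtMil.glueFst B' φ g)
        rw [TensorProduct.tmul_smul, TensorProduct.smul_tmul']
      | add x y hx hy =>
        rw [TensorProduct.tmul_add, map_add, map_add, map_add, hx, hy]
    | add x y hx hy => simp only [map_add, hx, hy]
  have hσinj : Function.Injective σ := by
    intro x y hxy
    obtain ⟨x', rfl⟩ := c.surjective x
    obtain ⟨y', rfl⟩ := c.surjective y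
    rw [hc, hc] at hxy
    rw [(LinearEquiv.lTensor A e).injective hxy]
  have h0 : p.rTensor _ t = 0 := by
    apply hσinj
    apply φ.injective
    rw [hστ, hτ, ht, TensorProduct.tmul_zero, map_zero, map_zero]
  obtain ⟨g, hg1, hg2⟩ := pair_surjective hsq (EtMil.glue B' φ) 0 t (by rw [map_zero]; exact h0.symm)
  have h1 : EtMil.glueFst B' φ g = 0 := by
    have := congrArg (LinearMap.liftBaseChange B (EtMil.glueFst B' φ)) hg1
    rwa [LinearMap.liftBaseChange_tmul, one_smul, map_zero] at this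
  have h2 : EtMil.glueSnd B' φ g = 0 := by
    rw [← hg2, LinearMap.liftBaseChange_tmul, one_smul] at ht
    exact ht
  have h3 : g = 0 := Subtype.ext (Prod.ext h1 h2)
  rw [← hg2, h3, TensorProduct.tmul_zero]

end Helper23.Mil
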