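import Groth.Agent.S14949
import Groth.Agent.Lib.Helper23.Milnor

/-!
# Milnor squares: a map that is bijective after both base changes is bijective
-/

universe u
open TensorProduct

namespace Helper23.MilBij

variable {B' B A' A : Type u} [CommRing B'] [CommRing B] [CommRing A'] [CommRing A]
  [Algebra B' B] [Algebra B' A'] [Algebra B A] [Algebra A' A] [Algebra B' A]
  [IsScalarTower B' B A] [IsScalarTower B' A' A]

theorem subsingleton_coker_tensor {S : Type u} [CommRing S] [Algebra B' S]
    {P Q : Type u} [AddCommGroup P] [Module B' P] [AddCommGroup Q] [Module B' Q]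
    (u : P →ₗ[B'] Q) (h : Function.Surjective (u.lTensor S)) :
    Subsingleton (S ⊗[B'] (Q ⧸ LinearMap.range u)) := by
  refine ⟨fun x y => ?_⟩
  have key : ∀ z : S ⊗[B'] (Q ⧸ LinearMap.range u), z = 0 := by
    intro z
    obtain ⟨w, rfl⟩ := LinearMap.lTensor_surjective S (Submodule.mkQ_surjective (LinearMap.range u)) z
    obtain ⟨v, rfl⟩ := h w
    rw [← LinearMap.comp_apply, ← LinearMap.lTensor_comp]
    have : (LinearMap.range u).mkQ ∘ₗ u = 0 := by
      ext p
      simp
    rw [this, LinearMap.lTensor_zero, LinearMap.zero_apply]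
  rw [key x, key y]

theorem subsingleton_ker_tensor {S : Type u} [CommRing S] [Algebra B' S]
    {P Q : Type u} [AddCommGroup P] [Module B' P] [AddCommGroup Q] [Module B' Q]
    (u : P →ₗ[B'] Q) (s : Q →ₗ[B'] P) (hs : u ∘ₗ s = LinearMap.id)
    (h : Function.Injective (u.lTensor S)) :
    Subsingleton (S ⊗[B'] (LinearMap.ker u)) := by
  let j : LinearMap.ker u →ₗ[B'] P := (LinearMap.ker u).subtype
  have hmem : ∀ p : P, ((LinearMap.id : P →ₗ[B'] P) - s ∘ₗ u) p ∈ LinearMap.ker u := by
    intro p
    rw [LinearMap.mem_ker, LinearMap.sub_apply, map_sub, LinearMap.id_apply, LinearMap.comp_apply,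
      ← LinearMap.comp_apply u s, hs, LinearMap.id_apply, sub_self]
  let r : P →ₗ[B'] LinearMap.ker u := LinearMap.codRestrict _ ((LinearMap.id : P →ₗ[B'] P) - s ∘ₗ u) hmem
  have hrj : r ∘ₗ j = LinearMap.id := by
    ext k
    simp only [LinearMap.comp_apply, LinearMap.id_apply, r, j, LinearMap.codRestrict_apply,
      Submodule.subtype_apply, LinearMap.sub_apply]
    have : u k.1 = 0 := k.2
    rw [this, map_zero, sub_zero]
  have huj : u ∘ₗ j = 0 := by
    ext k
    exact k.2
  refine ⟨fun x y => ?_⟩
  have key : ∀ z : S ⊗[B'] (LinearMap.ker u), z = 0 := by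
    intro z
    have h1 : (u.lTensor S) ((j.lTensor S) z) = 0 := by
      rw [← LinearMap.comp_apply, ← LinearMap.lTensor_comp, huj, LinearMap.lTensor_zero,
        LinearMap.zero_apply]
    have h2 : (j.lTensor S) z = 0 := h (h1.trans (map_zero _).symm)
    have h3 : (r.lTensor S) ((j.lTensor S) z) = z := by
      rw [← LinearMap.comp_apply, ← LinearMap.lTensor_comp, hrj, LinearMap.lTensor_id,
        LinearMap.id_apply]
    rw [← h3, h2, map_zero]
  rw [key x, key y]

/-- A linear map into a projective module which becomes bijective over `B` and over `A'` is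
bijective. -/
theorem bijective_of_pair (hsq : EtMil.IsFibreSquare B' B A' A)
    {P Q : Type u} [AddCommGroup P] [Module B' P] [AddCommGroup Q] [Module B' Q]
    [Module.Projective B' Q] (u : P →ₗ[B'] Q) (hB : Function.Bijective (u.lTensor B))
    (hA' : Function.Bijective (u.lTensor A')) : Function.Bijective u := by
  have hsurj : Function.Surjective u := by
    have := subsingleton_coker_tensor (S := B) u hB.2
    have := subsingleton_coker_tensor (S := A') u hA'.2
    have : Subsingleton (Q ⧸ LinearMap.range u) :=
      Groth.Agent.S14949.result B' B A' A hsq (Q ⧸ LinearMap.range u)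
    rw [← LinearMap.range_eq_top]
    exact Submodule.Quotient.subsingleton_iff.mp inferInstance
  obtain ⟨s, hs⟩ := Module.projective_lifting_property u LinearMap.id hsurj
  refine ⟨?_, hsurj⟩
  have := subsingleton_ker_tensor (S := B) u s hs hB.1
  have := subsingleton_ker_tensor (S := A') u s hs hA'.1
  have : Subsingleton (LinearMap.ker u) :=
    Groth.Agent.S14949.result B' B A' A hsq (LinearMap.ker u)
  rw [← LinearMap.ker_eq_bot]
  exact Submodule.subsingleton_iff_eq_bot.mp inferInstance

end Helper23.MilBij
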