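import Groth.Agent.Lib.Helper23.MilnorFlat2
import Mathlib.RingTheory.Spectrum.Prime.Topology

/-!
# The prime spectrum of a Milnor square (points and topology)
-/

universe u
open TensorProduct PrimeSpectrum

namespace Helper23.MSp

open Helper23.MF

variable {B' B A' A : Type u} [CommRing B'] [CommRing B] [CommRing A'] [CommRing A]
  [Algebra B' B] [Algebra B' A'] [Algebra B A] [Algebra A' A] [Algebra B' A]
  [IsScalarTower B' B A] [IsScalarTower B' A' A]

section lam

variable (hsq : EtMil.IsFibreSquare B' B A' A) (s : B') (hs : algebraMap B' B s = 0)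

theorem lam_map_B (a' : A') : algebraMap B' B (lam hsq s hs a') = 0 :=
  (exists_lam hsq s hs a').choose_spec.1

theorem lam_map_A' (a' : A') :
    algebraMap B' A' (lam hsq s hs a') = a' * algebraMap B' A' s :=
  (exists_lam hsq s hs a').choose_spec.2

theorem lam_mul (c a : A') : s * lam hsq s hs (c * a) = lam hsq s hs c * lam hsq s hs a := by
  rw [← sub_eq_zero]
  refine Mil.eq_zero_of_maps hsq _ ?_ ?_
  · rw [map_sub, map_mul (algebraMap B' B), map_mul (algebraMap B' B), lam_map_B, lam_map_B, hs]
    simp
  · rw [map_sub, map_mul (algebraMap B' A'), map_mul (algebraMap B' A'), lam_map_A', lam_map_A',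
      lam_map_A']
    ring

theorem lam_algebraMap (b' : B') : lam hsq s hs (algebraMap B' A' b') = b' * s := by
  have : algebraMap B' A' b' = b' • (1 : A') := by rw [Algebra.smul_def, mul_one]
  rw [this, map_smul, lam_one, smul_eq_mul]

variable (P : PrimeSpectrum B') (hsP : s ∉ P.asIdeal)

/-- The prime of `A'` over a prime `P` of `B'` not containing `s ∈ ker (B' → B)`. -/
noncomputable def liftIdeal : Ideal A' where
  carrier := {a' | lam hsq s hs a' ∈ P.asIdeal}
  zero_mem' := by simp
  add_mem' := by
    intro a b ha hb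
    simp only [Set.mem_ofPred_eq, map_add] at *
    exact add_mem ha hb
  smul_mem' := by
    intro c a ha
    simp only [Set.mem_ofPred_eq, smul_eq_mul] at *
    have h1 : s * lam hsq s hs (c * a) ∈ P.asIdeal := by
      rw [lam_mul]
      exact Ideal.mul_mem_left _ _ ha
    exact (P.isPrime.mem_or_mem h1).resolve_left hsP

theorem mem_liftIdeal (a' : A') :
    a' ∈ liftIdeal hsq s hs P hsP ↔ lam hsq s hs a' ∈ P.asIdeal := Iff.rfl

theorem liftIdeal_isPrime : (liftIdeal hsq s hs P hsP).IsPrime := by
  refine ⟨?_, ?_⟩
  · rw [Ne, Ideal.eq_top_iff_one, mem_liftIdeal, lam_one]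
    exact hsP
  · intro x y hxy
    rw [mem_liftIdeal] at hxy
    have h1 : lam hsq s hs x * lam hsq s hs y ∈ P.asIdeal := by
      rw [← lam_mul]
      exact Ideal.mul_mem_left _ _ hxy
    exact P.isPrime.mem_or_mem h1

/-- The point of `Spec A'` over `P`. -/
noncomputable def liftPrime : PrimeSpectrum A' :=
  ⟨liftIdeal hsq s hs P hsP, liftIdeal_isPrime hsq s hs P hsP⟩

theorem comap_liftPrime : comap (algebraMap B' A') (liftPrime hsq s hs P hsP) = P := by
  apply PrimeSpectrum.ext
  ext b'
  rw [comap_asIdeal, Ideal.mem_comap]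
  show lam hsq s hs (algebraMap B' A' b') ∈ P.asIdeal ↔ _
  rw [lam_algebraMap]
  constructor
  · intro h
    exact (P.isPrime.mem_or_mem h).resolve_right hsP
  · intro h
    exact Ideal.mul_mem_right _ _ h

theorem eq_liftPrime (p' : PrimeSpectrum A') (hp' : comap (algebraMap B' A') p' = P) :
    p' = liftPrime hsq s hs P hsP := by
  have hsp' : algebraMap B' A' s ∉ p'.asIdeal := by
    intro h
    apply hsP
    rw [← hp', comap_asIdeal, Ideal.mem_comap]
    exact h
  apply PrimeSpectrum.ext
  ext a'
  show a' ∈ p'.asIdeal ↔ lam hsq s hs a' ∈ P.asIdeal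
  rw [← hp', comap_asIdeal, Ideal.mem_comap, lam_map_A']
  constructor
  · intro h
    exact Ideal.mul_mem_right _ _ h
  · intro h
    exact (p'.isPrime.mem_or_mem h).resolve_right hsp'

end lam

section points

variable (hsq : EtMil.IsFibreSquare B' B A' A)

theorem comm_sq (p : PrimeSpectrum A) :
    comap (algebraMap B' B) (comap (algebraMap B A) p) =
      comap (algebraMap B' A') (comap (algebraMap A' A) p) := by
  apply PrimeSpectrum.ext
  ext x
  simp only [comap_asIdeal, Ideal.mem_comap]
  rw [← IsScalarTower.algebraMap_apply, ← IsScalarTower.algebraMap_apply]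

include hsq in
theorem rB_injective : Function.Injective (comap (algebraMap B' B)) :=
  comap_injective_of_surjective _ (Mil.algebraMap_B_surjective hsq)

include hsq in
theorem lA_injective : Function.Injective (comap (algebraMap A' A)) :=
  comap_injective_of_surjective _ hsq.1

include hsq in
theorem exists_of_eq (q : PrimeSpectrum B) (p' : PrimeSpectrum A')
    (h : comap (algebraMap B' B) q = comap (algebraMap B' A') p') :
    ∃ p : PrimeSpectrum A, comap (algebraMap B A) p = q ∧ comap (algebraMap A' A) p = p' := by
  have hp' : p' ∈ Set.range (comap (algebraMap A' A)) := by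
    rw [range_comap_of_surjective _ _ hsq.1, mem_zeroLocus]
    intro x' hx'
    obtain ⟨s, hs1, hs2⟩ := Mil.exists_lift_of_ker hsq x' ((RingHom.mem_ker).mp hx')
    have : s ∈ (comap (algebraMap B' B) q).asIdeal := by
      rw [comap_asIdeal, Ideal.mem_comap, hs1]
      exact zero_mem _
    rw [h, comap_asIdeal, Ideal.mem_comap, hs2] at this
    exact this
  obtain ⟨p, rfl⟩ := hp'
  refine ⟨p, rB_injective hsq ?_, rfl⟩
  rw [comm_sq (B' := B') (B := B) (A' := A') p, h]

include hsq in
theorem mem_range_or (P : PrimeSpectrum B') :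
    (∃ q, comap (algebraMap B' B) q = P) ∨ (∃ p', comap (algebraMap B' A') p' = P) := by
  by_cases h : RingHom.ker (algebraMap B' B) ≤ P.asIdeal
  · left
    have : P ∈ Set.range (comap (algebraMap B' B)) := by
      rw [range_comap_of_surjective _ _ (Mil.algebraMap_B_surjective hsq), mem_zeroLocus]
      exact h
    exact this
  · right
    obtain ⟨s, hs, hsP⟩ := SetLike.not_le_iff_exists.mp h
    exact ⟨liftPrime hsq s ((RingHom.mem_ker).mp hs) P hsP, comap_liftPrime _ _ _ _ _⟩

include hsq in
theorem inj_off (p₁ p₂ : PrimeSpectrum A') (h₁ : p₁ ∉ Set.range (comap (algebraMap A' A)))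
    (h : comap (algebraMap B' A') p₁ = comap (algebraMap B' A') p₂) : p₁ = p₂ := by
  rw [range_comap_of_surjective _ _ hsq.1, mem_zeroLocus, Set.not_subset] at h₁
  obtain ⟨x', hx', hx'p⟩ := h₁
  obtain ⟨s, hs1, hs2⟩ := Mil.exists_lift_of_ker hsq x' ((RingHom.mem_ker).mp hx')
  have hsP : s ∉ (comap (algebraMap B' A') p₁).asIdeal := by
    rw [comap_asIdeal, Ideal.mem_comap, hs2]
    exact hx'p
  rw [eq_liftPrime hsq s hs1 _ hsP p₁ rfl, eq_liftPrime hsq s hs1 _ hsP p₂ h.symm]

include hsq in
theorem isClosed_of_preimages (Z : Set (PrimeSpectrum B'))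
    (h1 : IsClosed (comap (algebraMap B' B) ⁻¹' Z))
    (h2 : IsClosed (comap (algebraMap B' A') ⁻¹' Z)) : IsClosed Z := by
  obtain ⟨JB, hJB⟩ := (isClosed_iff_zeroLocus_ideal _).mp h1
  obtain ⟨J', hJ'⟩ := (isClosed_iff_zeroLocus_ideal _).mp h2
  have hZ : Z = zeroLocus (J'.comap (algebraMap B' A') : Set B') ∪
      comap (algebraMap B' B) '' zeroLocus (JB : Set B) := by
    apply Set.Subset.antisymm
    · intro P hP
      rcases mem_range_or hsq P with ⟨q, rfl⟩ | ⟨p', rfl⟩
      · right
        refine ⟨q, ?_, rfl⟩
        rw [← hJB]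
        exact hP
      · left
        have hp' : p' ∈ zeroLocus (J' : Set A') := by
          rw [← hJ']
          exact hP
        rw [mem_zeroLocus] at hp' ⊢
        intro x hx
        exact hp' hx
    · rintro P (hP | ⟨q, hq, rfl⟩)
      · rw [mem_zeroLocus] at hP
        by_cases h : RingHom.ker (algebraMap B' B) ≤ P.asIdeal
        · have hPr : P ∈ Set.range (comap (algebraMap B' B)) := by
            rw [range_comap_of_surjective _ _ (Mil.algebraMap_B_surjective hsq), mem_zeroLocus]
            exact h
          obtain ⟨q, rfl⟩ := hPr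
          suffices hq : q ∈ zeroLocus (JB : Set B) by
            rw [← hJB] at hq
            exact hq
          rw [mem_zeroLocus]
          intro x hx
          -- the two closed subsets of `Spec A` agree
          have hAeq : zeroLocus (algebraMap B A '' (JB : Set B)) =
              zeroLocus (algebraMap A' A '' (J' : Set A')) := by
            rw [← preimage_comap_zeroLocus, ← preimage_comap_zeroLocus, ← hJB, ← hJ']
            ext p
            simp only [Set.mem_preimage]
            rw [comm_sq (B' := B') (B := B) (A' := A') p]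
          have hsub : zeroLocus ((J'.map (algebraMap A' A) : Ideal A) : Set A) ⊆
              zeroLocus ((Ideal.span {algebraMap B A x} : Ideal A) : Set A) := by
            intro p hp
            rw [mem_zeroLocus] at hp
            have hp2 : p ∈ zeroLocus (algebraMap A' A '' (J' : Set A')) := by
              rw [mem_zeroLocus]
              rintro _ ⟨y, hy, rfl⟩
              exact hp (Ideal.mem_map_of_mem _ hy)
            rw [← hAeq, mem_zeroLocus] at hp2
            rw [mem_zeroLocus, SetLike.coe_subset_coe, Ideal.span_le, Set.singleton_subset_iff]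
            exact hp2 ⟨x, hx, rfl⟩
          rw [zeroLocus_subset_zeroLocus_iff] at hsub
          obtain ⟨n, hn⟩ := hsub (Ideal.subset_span rfl)
          obtain ⟨y', hy', hy'x⟩ := (Ideal.mem_map_iff_of_surjective _ hsq.1).mp hn
          obtain ⟨b', ⟨hb1, hb2⟩, _⟩ := hsq.2 (x ^ n) y' (by rw [map_pow, hy'x])
          have hb'P : b' ∈ (comap (algebraMap B' B) q).asIdeal :=
            hP (by
              show b' ∈ J'.comap (algebraMap B' A')
              rw [Ideal.mem_comap, hb2]
              exact hy')
          rw [comap_asIdeal, Ideal.mem_comap, hb1] at hb'P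
          exact q.isPrime.mem_of_pow_mem n hb'P
        · obtain ⟨s, hs, hsP⟩ := SetLike.not_le_iff_exists.mp h
          have hs' := (RingHom.mem_ker).mp hs
          have hmem : liftPrime hsq s hs' P hsP ∈ comap (algebraMap B' A') ⁻¹' Z := by
            rw [hJ', mem_zeroLocus]
            intro a' ha'
            show lam hsq s hs' a' ∈ P.asIdeal
            apply hP
            show lam hsq s hs' a' ∈ J'.comap (algebraMap B' A')
            rw [Ideal.mem_comap, lam_map_A']
            exact Ideal.mul_mem_right _ _ ha'
          rw [Set.mem_preimage, comap_liftPrime] at hmem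
          exact hmem
      · have : q ∈ comap (algebraMap B' B) ⁻¹' Z := by rw [hJB]; exact hq
        exact this
  rw [hZ]
  exact (isClosed_zeroLocus _).union
    ((isClosedEmbedding_comap_of_surjective _ _ (Mil.algebraMap_B_surjective hsq)).isClosedMap _
      (isClosed_zeroLocus _))

end points

end Helper23.MSp
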