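import Groth.Agent.Lib.Helper23.MilnorFlat

/-!
# Flatness descends along a Milnor square: the devissage
-/

universe u
open TensorProduct

namespace Helper23.MF

open Helper23.GF

variable {B' B A' A : Type u} [CommRing B'] [CommRing B] [CommRing A'] [CommRing A]
  [Algebra B' B] [Algebra B' A'] [Algebra B A] [Algebra A' A] [Algebra B' A]
  [IsScalarTower B' B A] [IsScalarTower B' A' A]

section lam

variable (hsq : EtMil.IsFibreSquare B' B A' A) (b' : B') (hb : algebraMap B' B b' = 0)

include hsq hb in
theorem exists_lam (a' : A') :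
    ∃ c : B', algebraMap B' B c = 0 ∧ algebraMap B' A' c = a' * algebraMap B' A' b' := by
  refine Mil.exists_lift_of_ker hsq _ ?_
  rw [map_mul, ← IsScalarTower.algebraMap_apply, IsScalarTower.algebraMap_apply B' B A, hb,
    map_zero, mul_zero]

/-- The `B'`-linear map `A' → B'`, `a' ↦ a' b'` for `b'` in the kernel of `B' → B`. -/
noncomputable def lam : A' →ₗ[B'] B' where
  toFun a' := (exists_lam hsq b' hb a').choose
  map_add' x y := by
    have hx := (exists_lam hsq b' hb x).choose_spec
    have hy := (exists_lam hsq b' hb y).choose_spec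
    have hxy := (exists_lam hsq b' hb (x + y)).choose_spec
    rw [← sub_eq_zero]
    refine Mil.eq_zero_of_maps hsq _ ?_ ?_
    · rw [map_sub, map_add, hx.1, hy.1, hxy.1]; simp
    · rw [map_sub, map_add, hx.2, hy.2, hxy.2]; ring
  map_smul' c x := by
    have hx := (exists_lam hsq b' hb x).choose_spec
    have hcx := (exists_lam hsq b' hb (c • x)).choose_spec
    rw [← sub_eq_zero]
    refine Mil.eq_zero_of_maps hsq _ ?_ ?_
    · rw [map_sub, hcx.1, RingHom.id_apply, smul_eq_mul, map_mul, hx.1]; simp
    · rw [map_sub, hcx.2, RingHom.id_apply, smul_eq_mul, map_mul, hx.2, Algebra.smul_def]; ring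

theorem lam_one : lam hsq b' hb 1 = b' := by
  have h1 := (exists_lam hsq b' hb 1).choose_spec
  rw [← sub_eq_zero]
  refine Mil.eq_zero_of_maps hsq _ ?_ ?_
  · rw [map_sub, hb]
    exact (sub_zero _).trans h1.1
  · rw [map_sub]
    exact (congrArg (· - _) h1.2).trans (by simp)

include hsq hb in
theorem smul_eq_zero_of_tmul_eq_zero {P : Type u} [AddCommGroup P] [Module B' P] (z : P)
    (hz : (1 : A') ⊗ₜ[B'] z = 0) : b' • z = 0 := by
  have h := congrArg (fun t => TensorProduct.lid B' P ((lam hsq b' hb).rTensor P t)) hz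
  simp only [LinearMap.rTensor_tmul, map_zero, TensorProduct.lid_tmul] at h
  rw [← h, lam_one]

end lam

variable (B' B A') in
/-- `P → (B × A') ⊗ P`, `z ↦ (1, 1) ⊗ z`. -/
noncomputable def iota0 (P : Type u) [AddCommGroup P] [Module B' P] :
    P →ₗ[B'] (B × A') ⊗[B'] P :=
  (i0 B' B A').rTensor P ∘ₗ (TensorProduct.lid B' P).symm.toLinearMap

theorem iota0_apply (P : Type u) [AddCommGroup P] [Module B' P] (z : P) :
    iota0 B' B A' P z = ((1 : B), (1 : A')) ⊗ₜ[B'] z := by
  simp [iota0, i0_apply]

theorem range_iota0 (P : Type u) [AddCommGroup P] [Module B' P] :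
    LinearMap.range (iota0 B' B A' P) = LinearMap.range ((i0 B' B A').rTensor P) := by
  rw [iota0, LinearMap.range_comp_of_range_eq_top]
  exact LinearEquiv.range _

variable {K F L' : Type u} [AddCommGroup K] [AddCommGroup F] [AddCommGroup L']
  [Module B' K] [Module B' F] [Module B' L']

section devissage

variable (hsq : EtMil.IsFibreSquare B' B A' A) (j : K →ₗ[B'] F) (q : F →ₗ[B'] L')
  (hj : Function.Injective j) (hjq : Function.Exact j q) (hq : Function.Surjective q)
  [Module.Flat B' F] [Module.Flat B (B ⊗[B'] L')] [Module.Flat A' (A' ⊗[B'] L')]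

include hsq hj hjq hq in
omit [Module.Flat B' F] in
theorem lTensor_ker_iota0_injective (P : Type u) [AddCommGroup P] [Module B' P] :
    Function.Injective (j.lTensor (LinearMap.ker (iota0 B' B A' P))) := by
  obtain ⟨E⟩ := nonempty_equiv_of_killed B (LinearMap.ker (iota0 B' B A' P))
    (Mil.algebraMap_B_surjective hsq) (by
      rintro r hr ⟨z, hz⟩
      refine Subtype.ext ?_
      rw [LinearMap.mem_ker, iota0_apply] at hz
      have h2 := congrArg ((LinearMap.snd B' B A').rTensor P) hz
      simp only [LinearMap.rTensor_tmul, LinearMap.snd_apply, map_zero] at h2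
      exact smul_eq_zero_of_tmul_eq_zero hsq r hr z h2)
  exact lTensor_injective_of_equiv j E
    (lTensor_injective_of_B_module hsq j q hj hjq hq (B ⊗[B'] LinearMap.ker (iota0 B' B A' P)))

include hsq hj hjq hq in
theorem lTensor_prodTensor_injective (P : Type u) [AddCommGroup P] [Module B' P] :
    Function.Injective (j.lTensor ((B × A') ⊗[B'] P)) := by
  have hex : Function.Exact ((LinearMap.inl B' B A').rTensor P) ((LinearMap.snd B' B A').rTensor P) :=
    rTensor_exact P (f := LinearMap.inl B' B A') (g := LinearMap.snd B' B A')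
      (fun x => ⟨fun h => ⟨x.1, Prod.ext rfl h.symm⟩, by rintro ⟨y, rfl⟩; rfl⟩)
      LinearMap.snd_surjective
  have hsurj : Function.Surjective ((LinearMap.snd B' B A').rTensor P) :=
    LinearMap.rTensor_surjective P LinearMap.snd_surjective
  have hinj : Function.Injective (((LinearMap.inl B' B A').rTensor P).rTensor F) := by
    apply Function.LeftInverse.injective (g := ((LinearMap.fst B' B A').rTensor P).rTensor F)
    intro x
    rw [← LinearMap.comp_apply, ← LinearMap.rTensor_comp, ← LinearMap.rTensor_comp]
    have : LinearMap.fst B' B A' ∘ₗ LinearMap.inl B' B A' = LinearMap.id := LinearMap.ext fun _ => rfl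
    rw [this, LinearMap.rTensor_id, LinearMap.rTensor_id, LinearMap.id_apply]
  exact mid j _ _ hex hsurj hinj
    (lTensor_injective_of_B_module hsq j q hj hjq hq (B ⊗[B'] P))
    (lTensor_injective_of_A'_module hsq j q hj hjq hq (A' ⊗[B'] P))

include hsq hj hjq hq in
/-- `X ⊗ L' → Y ⊗ L'` is injective when `X → Y` is injective with cokernel an `A`-module. -/
theorem rTensor_injective_of_A_coker {X Y C : Type u} [AddCommGroup X] [AddCommGroup Y]
    [AddCommGroup C] [Module B' X] [Module B' Y] [Module B' C] [Module A C] [IsScalarTower B' A C]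
    (i : X →ₗ[B'] Y) (p : Y →ₗ[B'] C)
    (hi : Function.Injective i) (hip : Function.Exact i p) (hp : Function.Surjective p) :
    Function.Injective (i.rTensor L') :=
  balance j q i p hjq hq hip hp (Module.Flat.rTensor_preserves_injective_linearMap i hi)
    (lTensor_injective_of_A_module hsq j q hj hjq hq C)

variable (B' B A') in
/-- The injective map `P / ker → (B × A') ⊗ P`. -/
noncomputable def iotaBar (P : Type u) [AddCommGroup P] [Module B' P] :
    (P ⧸ LinearMap.ker (iota0 B' B A' P)) →ₗ[B'] (B × A') ⊗[B'] P :=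
  (LinearMap.ker (iota0 B' B A' P)).liftQ (iota0 B' B A' P) le_rfl

omit [Algebra B A] [Algebra A' A] [Algebra B' A] [IsScalarTower B' B A] [IsScalarTower B' A' A]
  [CommRing A] in
theorem iotaBar_injective (P : Type u) [AddCommGroup P] [Module B' P] :
    Function.Injective (iotaBar B' B A' P) :=
  LinearMap.ker_eq_bot.mp (Submodule.ker_liftQ_eq_bot _ _ _ le_rfl)

omit [Algebra B A] [Algebra A' A] [Algebra B' A] [IsScalarTower B' B A] [IsScalarTower B' A' A]
  [CommRing A] in
theorem iotaBar_comp_mkQ (P : Type u) [AddCommGroup P] [Module B' P] :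
    iotaBar B' B A' P ∘ₗ (LinearMap.ker (iota0 B' B A' P)).mkQ = iota0 B' B A' P :=
  Submodule.liftQ_mkQ _ _ _

include hsq in
theorem exact_iotaBar (P : Type u) [AddCommGroup P] [Module B' P] :
    Function.Exact (iotaBar B' B A' P) ((p0 B' B A' A).rTensor P) := by
  rw [LinearMap.exact_iff, iotaBar, Submodule.range_liftQ, range_iota0]
  exact LinearMap.exact_iff.mp (rTensor_exact P (exact_i0_p0 hsq) (p0_surjective hsq))

include hsq hj hjq hq in
/-- step (c): `P̄ ⊗ K → ((B × A') ⊗ P) ⊗ K` is injective. -/
theorem rTensor_iotaBar_injective (P : Type u) [AddCommGroup P] [Module B' P] :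
    Function.Injective ((iotaBar B' B A' P).rTensor K) := by
  haveI := flat_B_ker hsq j q hj hjq hq
  haveI := flat_A'_ker hsq j q hj hjq hq
  have hq2 : Function.Surjective (Finsupp.linearCombination B' (id : K → K)) :=
    Finsupp.linearCombination_id_surjective B' K
  have hjq2 : Function.Exact (LinearMap.ker (Finsupp.linearCombination B' (id : K → K))).subtype
      (Finsupp.linearCombination B' (id : K → K)) := LinearMap.exact_subtype_ker_map _
  have hj2 : Function.Injective
      (LinearMap.ker (Finsupp.linearCombination B' (id : K → K))).subtype :=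
    Submodule.injective_subtype _
  exact rTensor_injective_of_A_coker
    (K := ↥(LinearMap.ker (Finsupp.linearCombination B' (id : K → K)))) hsq _ _ hj2 hjq2 hq2
    (iotaBar B' B A' P) ((p0 B' B A' A).rTensor P) (iotaBar_injective P) (exact_iotaBar hsq P)
    (LinearMap.rTensor_surjective P (p0_surjective hsq))

include hsq hj hjq hq in
/-- `Tor_1^{B'}(P, L') = 0` for every `P`. -/
theorem lTensor_injective (P : Type u) [AddCommGroup P] [Module B' P] :
    Function.Injective (j.lTensor P) := by
  have hc := rTensor_iotaBar_injective hsq j q hj hjq hq P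
  have hb := lTensor_prodTensor_injective hsq j q hj hjq hq P
  have ha := lTensor_ker_iota0_injective hsq j q hj hjq hq P
  rw [injective_iff_map_eq_zero]
  intro x hx
  have e1 : j.lTensor _ ((iotaBar B' B A' P ∘ₗ
      (LinearMap.ker (iota0 B' B A' P)).mkQ).rTensor K x) = 0 := by
    rw [← LinearMap.comp_apply, LinearMap.lTensor_comp_rTensor, ← LinearMap.rTensor_comp_lTensor,
      LinearMap.comp_apply, hx, map_zero]
  have e2 := hb (e1.trans (map_zero _).symm)
  rw [LinearMap.rTensor_comp, LinearMap.comp_apply] at e2
  have e3 : (LinearMap.ker (iota0 B' B A' P)).mkQ.rTensor K x = 0 :=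
    hc (e2.trans (map_zero _).symm)
  obtain ⟨xt, rfl⟩ := (rTensor_exact K (LinearMap.exact_subtype_mkQ (LinearMap.ker (iota0 B' B A' P)))
    (Submodule.mkQ_surjective _) _).mp e3
  have e4 : (LinearMap.ker (iota0 B' B A' P)).subtype.rTensor F
      (j.lTensor (LinearMap.ker (iota0 B' B A' P)) xt) = 0 := by
    rw [← LinearMap.comp_apply, LinearMap.rTensor_comp_lTensor, ← LinearMap.lTensor_comp_rTensor,
      LinearMap.comp_apply, hx]
  have e5 : j.lTensor (LinearMap.ker (iota0 B' B A' P)) xt = 0 :=
    Module.Flat.rTensor_preserves_injective_linearMap (LinearMap.ker (iota0 B' B A' P)).subtype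
      (Submodule.injective_subtype _) (e4.trans (map_zero _).symm)
  have e6 : xt = 0 := ha (e5.trans (map_zero _).symm)
  rw [e6, map_zero]

end devissage

/-- Flatness descends along a Milnor square. -/
theorem flat_of_fibreSquare (hsq : EtMil.IsFibreSquare B' B A' A) (L' : Type u) [AddCommGroup L']
    [Module B' L'] [Module.Flat B (B ⊗[B'] L')] [Module.Flat A' (A' ⊗[B'] L')] :
    Module.Flat B' L' := by
  rw [Module.Flat.iff_rTensor_preserves_injective_linearMap]
  intro X Y _ _ _ _ i hi
  have hq2 : Function.Surjective (Finsupp.linearCombination B' (id : L' → L')) :=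
    Finsupp.linearCombination_id_surjective B' L'
  have hjq2 : Function.Exact (LinearMap.ker (Finsupp.linearCombination B' (id : L' → L'))).subtype
      (Finsupp.linearCombination B' (id : L' → L')) := LinearMap.exact_subtype_ker_map _
  have hj2 : Function.Injective
      (LinearMap.ker (Finsupp.linearCombination B' (id : L' → L'))).subtype :=
    Submodule.injective_subtype _
  exact balance (K := ↥(LinearMap.ker (Finsupp.linearCombination B' (id : L' → L')))) _ _ i
    (LinearMap.range i).mkQ hjq2 hq2 (LinearMap.exact_map_mkQ_range i)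
    (Submodule.mkQ_surjective _) (Module.Flat.rTensor_preserves_injective_linearMap i hi)
    (lTensor_injective (K := ↥(LinearMap.ker (Finsupp.linearCombination B' (id : L' → L'))))
      hsq _ _ hj2 hjq2 hq2 (Y ⧸ LinearMap.range i))

end Helper23.MF
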