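import Groth.Agent.S14949
import Groth.Agent.S14952
import Groth.Agent.S10722
import Groth.Agent.S2019
import Groth.Agent.Lib.Helper23.MilnorBij
import Groth.Agent.Lib.Helper23.GluePairFP
import Mathlib.RingTheory.FiniteStability
import Groth.Agent.Lib.Helper23.MilnorSpec
import Mathlib.RingTheory.Smooth.Fiber
import Mathlib.RingTheory.Etale.Descent
import Mathlib.RingTheory.Smooth.Flat

/-!
# Milnor squares: algebra properties descend from the two base changes
-/

universe u
open TensorProduct

namespace Helper23.MilAlg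

variable {B' B A' A : Type u} [CommRing B'] [CommRing B] [CommRing A'] [CommRing A]
  [Algebra B' B] [Algebra B' A'] [Algebra B A] [Algebra A' A] [Algebra B' A]
  [IsScalarTower B' B A] [IsScalarTower B' A' A]

/-- Finitely many elements of `D'` such that any subalgebra containing them surjects onto
`S ⊗ D'` after tensoring. -/
theorem exists_finset_surj (S : Type u) [CommRing S] [Algebra B' S] (D' : Type u) [CommRing D']
    [Algebra B' D'] [Algebra.FiniteType S (S ⊗[B'] D')] :
    ∃ T : Finset D', ∀ D₁ : Subalgebra B' D', (T : Set D') ⊆ D₁ →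
      Function.Surjective (D₁.val.toLinearMap.lTensor S) := by
  classical
  obtain ⟨s, hs⟩ := (inferInstance : Algebra.FiniteType S (S ⊗[B'] D')).out
  choose Tof hTof using (Groth.Agent.S10722.exists_finset_mem_range (R := B') (R' := S) (B := D'))
  refine ⟨s.biUnion Tof, fun D₁ hD₁ => ?_⟩
  let ι : S ⊗[B'] D₁ →ₐ[S] S ⊗[B'] D' := Algebra.TensorProduct.map (AlgHom.id S S) D₁.val
  have hι : ∀ x, ι x = D₁.val.toLinearMap.lTensor S x := by
    intro x
    induction x using TensorProduct.induction_on with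
    | zero => simp
    | add x y hx hy => rw [map_add, map_add, hx, hy]
    | tmul r d => simp [ι]
  have hι' : ∀ x, Algebra.TensorProduct.map (AlgHom.id B' S) D₁.val x = ι x := by
    intro x
    induction x using TensorProduct.induction_on with
    | zero => simp
    | add x y hx hy => rw [map_add, map_add, hx, hy]
    | tmul r d => simp [ι]
  have hrange : ι.range = ⊤ := by
    rw [eq_top_iff, ← hs]
    apply Algebra.adjoin_le
    intro y hy
    obtain ⟨w, hw⟩ := hTof y D₁ (fun b hb => hD₁ (by
      rw [Finset.coe_biUnion]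
      exact Set.mem_biUnion hy hb))
    exact ⟨w, (hι' w).symm.trans hw⟩
  intro y
  have hy : y ∈ ι.range := by rw [hrange]; exact Algebra.mem_top
  obtain ⟨x, hx⟩ := hy
  exact ⟨x, (hι x).symm.trans hx⟩

/-- Finite type descends along a Milnor square. -/
theorem finiteType_of_pair (hsq : EtMil.IsFibreSquare B' B A' A) (D' : Type u) [CommRing D']
    [Algebra B' D'] [Algebra.FiniteType B (B ⊗[B'] D')] [Algebra.FiniteType A' (A' ⊗[B'] D')] :
    Algebra.FiniteType B' D' := by
  classical
  obtain ⟨T₁, hT₁⟩ := exists_finset_surj (B' := B') B D'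
  obtain ⟨T₂, hT₂⟩ := exists_finset_surj (B' := B') A' D'
  set D₁ : Subalgebra B' D' := Algebra.adjoin B' ((T₁ ∪ T₂ : Finset D') : Set D') with hD₁
  have hsub : ((T₁ ∪ T₂ : Finset D') : Set D') ⊆ D₁ := Algebra.subset_adjoin
  have h1 := hT₁ D₁ (fun x hx => hsub (by
    rw [Finset.coe_union]
    exact Or.inl hx))
  have h2 := hT₂ D₁ (fun x hx => hsub (by
    rw [Finset.coe_union]
    exact Or.inr hx))
  let v : D₁ →ₗ[B'] D' := D₁.val.toLinearMap
  haveI := Helper23.MilBij.subsingleton_coker_tensor (S := B) v h1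
  haveI := Helper23.MilBij.subsingleton_coker_tensor (S := A') v h2
  haveI : Subsingleton (D' ⧸ LinearMap.range v) :=
    Groth.Agent.S14949.result B' B A' A hsq (D' ⧸ LinearMap.range v)
  have hr : LinearMap.range v = ⊤ := Submodule.Quotient.subsingleton_iff.mp inferInstance
  refine ⟨⟨T₁ ∪ T₂, ?_⟩⟩
  rw [eq_top_iff]
  rintro d -
  have hd : d ∈ LinearMap.range v := by rw [hr]; exact Submodule.mem_top
  obtain ⟨x, rfl⟩ := hd
  exact x.2

/-- If each `1 ⊗ k` lifts to `S ⊗ K₀` and `S ⊗ K → S ⊗ M` is injective then `S ⊗ K/K₀ = 0`. -/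
theorem subsingleton_tensor_quot (S : Type u) [CommRing S] [Algebra B' S]
    {M : Type u} [AddCommGroup M] [Module B' M] (K₀ K : Submodule B' M) (h0 : K₀ ≤ K)
    (hb : ∀ k ∈ K, (1 : S) ⊗ₜ[B'] k ∈ LinearMap.range (K₀.subtype.lTensor S))
    (hc : Function.Injective (K.subtype.lTensor S)) :
    Subsingleton (S ⊗[B'] (K ⧸ LinearMap.range (Submodule.inclusion h0))) := by
  let incl : K₀ →ₗ[B'] K := Submodule.inclusion h0
  let N : Submodule B' K := LinearMap.range incl
  have h1 : ∀ (k : M) (hk : k ∈ K),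
      (1 : S) ⊗ₜ[B'] (Submodule.Quotient.mk (⟨k, hk⟩ : K) : K ⧸ N) = 0 := by
    intro k hk
    obtain ⟨t, ht⟩ := hb k hk
    have h2 : K₀.subtype = K.subtype ∘ₗ incl := by
      ext x
      rfl
    have h3 : (incl.lTensor S) t = (1 : S) ⊗ₜ[B'] (⟨k, hk⟩ : K) := by
      apply hc
      rw [← LinearMap.comp_apply, ← LinearMap.lTensor_comp, ← h2, ht, LinearMap.lTensor_tmul]
      rfl
    have h4 : (1 : S) ⊗ₜ[B'] (Submodule.Quotient.mk (⟨k, hk⟩ : K) : K ⧸ N) =
        (N.mkQ.lTensor S) ((1 : S) ⊗ₜ[B'] (⟨k, hk⟩ : K)) := by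
      rw [LinearMap.lTensor_tmul]
      rfl
    rw [h4, ← h3, ← LinearMap.comp_apply, ← LinearMap.lTensor_comp]
    have h5 : N.mkQ ∘ₗ incl = 0 := by
      ext x
      simp only [LinearMap.comp_apply, LinearMap.zero_apply, Submodule.mkQ_apply,
        Submodule.Quotient.mk_eq_zero]
      exact ⟨x, rfl⟩
    rw [h5, LinearMap.lTensor_zero, LinearMap.zero_apply]
  refine ⟨fun x y => ?_⟩
  have key : ∀ z : S ⊗[B'] (K ⧸ N), z = 0 := by
    intro z
    induction z using TensorProduct.induction_on with
    | zero => rfl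
    | add x y hx hy => rw [hx, hy, add_zero]
    | tmul b q =>
      obtain ⟨⟨k, hk⟩, rfl⟩ := Submodule.Quotient.mk_surjective N q
      have : b ⊗ₜ[B'] (Submodule.Quotient.mk (⟨k, hk⟩ : K) : K ⧸ N) =
          b • ((1 : S) ⊗ₜ[B'] (Submodule.Quotient.mk (⟨k, hk⟩ : K) : K ⧸ N)) := by
        rw [TensorProduct.smul_tmul', smul_eq_mul, mul_one]
      rw [this, h1 k hk, smul_zero]
  rw [key x, key y]

/-- Module version: a submodule `K₀ ≤ K` is all of `K` if this holds after both base changes. -/
theorem le_of_tensor_pair (hsq : EtMil.IsFibreSquare B' B A' A)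
    {M : Type u} [AddCommGroup M] [Module B' M] (K₀ K : Submodule B' M) (h0 : K₀ ≤ K)
    (hb : ∀ k ∈ K, (1 : B) ⊗ₜ[B'] k ∈ LinearMap.range (K₀.subtype.lTensor B))
    (hb' : ∀ k ∈ K, (1 : A') ⊗ₜ[B'] k ∈ LinearMap.range (K₀.subtype.lTensor A'))
    (hc : Function.Injective (K.subtype.lTensor B))
    (hc' : Function.Injective (K.subtype.lTensor A')) : K ≤ K₀ := by
  haveI := subsingleton_tensor_quot B K₀ K h0 hb hc
  haveI := subsingleton_tensor_quot A' K₀ K h0 hb' hc'
  haveI : Subsingleton (K ⧸ LinearMap.range (Submodule.inclusion h0)) :=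
    Groth.Agent.S14949.result B' B A' A hsq _
  have hr : LinearMap.range (Submodule.inclusion h0) = ⊤ :=
    Submodule.Quotient.subsingleton_iff.mp inferInstance
  intro k hk
  have hmem : (⟨k, hk⟩ : K) ∈ LinearMap.range (Submodule.inclusion h0) := by
    rw [hr]; exact Submodule.mem_top
  obtain ⟨⟨x, hx⟩, hxk⟩ := hmem
  have : x = k := congrArg Subtype.val hxk
  rw [← this]
  exact hx

/-- Ideal version: finite generation descends. -/
theorem ideal_fg_of_pair (hsq : EtMil.IsFibreSquare B' B A' A) {P : Type u} [CommRing P]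
    [Algebra B' P] (K : Ideal P)
    (h1 : (K.map (Algebra.TensorProduct.includeRight : P →ₐ[B'] B ⊗[B'] P).toRingHom).FG)
    (h2 : (K.map (Algebra.TensorProduct.includeRight : P →ₐ[B'] A' ⊗[B'] P).toRingHom).FG)
    (h3 : Function.Injective ((K.restrictScalars B').subtype.lTensor B))
    (h4 : Function.Injective ((K.restrictScalars B').subtype.lTensor A')) : K.FG := by
  classical
  set g₁ := (Algebra.TensorProduct.includeRight : P →ₐ[B'] B ⊗[B'] P).toRingHom with hg₁
  set g₂ := (Algebra.TensorProduct.includeRight : P →ₐ[B'] A' ⊗[B'] P).toRingHom with hg₂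
  have key : ∀ (S : Type u) [CommRing S] (g : P →+* S), (K.map g).FG →
      ∃ T : Finset P, (T : Set P) ⊆ K ∧ K.map g = (Ideal.span (T : Set P)).map g := by
    intro S _ g hfg
    unfold Ideal.map at hfg
    obtain ⟨s', hs', hspan⟩ := (Submodule.fg_span_iff_fg_span_finset_subset _).mp hfg
    obtain ⟨T, hT, rfl⟩ := Finset.subset_set_image_iff.mp hs'
    refine ⟨T, hT, ?_⟩
    rw [Ideal.map_span]
    unfold Ideal.map
    rw [Finset.coe_image] at hspan
    exact hspan
  obtain ⟨T₁, hT₁, e₁⟩ := key _ g₁ h1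
  obtain ⟨T₂, hT₂, e₂⟩ := key _ g₂ h2
  set K₀ : Ideal P := Ideal.span ((T₁ ∪ T₂ : Finset P) : Set P) with hK₀
  have hK₀K : K₀ ≤ K := by
    rw [hK₀, Ideal.span_le, Finset.coe_union]
    exact Set.union_subset hT₁ hT₂
  have hle₁ : Ideal.span (T₁ : Set P) ≤ K₀ := by
    apply Ideal.span_mono
    rw [Finset.coe_union]
    exact Set.subset_union_left
  have hle₂ : Ideal.span (T₂ : Set P) ≤ K₀ := by
    apply Ideal.span_mono
    rw [Finset.coe_union]
    exact Set.subset_union_right
  have hKK₀ : K.restrictScalars B' ≤ K₀.restrictScalars B' := by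
    apply le_of_tensor_pair hsq (K₀.restrictScalars B') (K.restrictScalars B') hK₀K
    · intro k hk
      have hk1 : g₁ k ∈ K₀.map g₁ := by
        have : g₁ k ∈ K.map g₁ := Ideal.mem_map_of_mem _ hk
        rw [e₁] at this
        exact Ideal.map_mono hle₁ this
      exact Helper23.GFG.map_includeRight_le_range K₀ _ hk1
    · intro k hk
      have hk2 : g₂ k ∈ K₀.map g₂ := by
        have : g₂ k ∈ K.map g₂ := Ideal.mem_map_of_mem _ hk
        rw [e₂] at this
        exact Ideal.map_mono hle₂ this
      exact Helper23.GFG.map_includeRight_le_range K₀ _ hk2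
    · exact h3
    · exact h4
  have : K = K₀ := le_antisymm hKK₀ hK₀K
  rw [this]
  exact ⟨_, rfl⟩

/-- The kernel of a surjection from a finitely presented algebra generates a finitely generated
ideal after a base change making the target finitely presented. -/
theorem map_includeRight_fg (S : Type u) [CommRing S] [Algebra B' S] {P D' : Type u} [CommRing P]
    [Algebra B' P] [CommRing D'] [Algebra B' D'] [Algebra.FinitePresentation B' P]
    [Algebra.FinitePresentation S (S ⊗[B'] D')] (π : P →ₐ[B'] D') (hπ : Function.Surjective π) :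
    ((RingHom.ker π.toRingHom).map
      (Algebra.TensorProduct.includeRight : P →ₐ[B'] S ⊗[B'] P).toRingHom).FG := by
  let πS : S ⊗[B'] P →ₐ[S] S ⊗[B'] D' := Algebra.TensorProduct.map (AlgHom.id S S) π
  have hsurj : Function.Surjective πS := Algebra.TensorProduct.map_surjective _ π
    (fun x => ⟨x, rfl⟩) hπ
  have hker : RingHom.ker πS.toRingHom = (RingHom.ker π.toRingHom).map
      (Algebra.TensorProduct.includeRight : P →ₐ[B'] S ⊗[B'] P).toRingHom :=
    Algebra.TensorProduct.lTensor_ker π hπ
  rw [← hker]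
  exact Algebra.FinitePresentation.ker_fG_of_surjective πS hsurj

/-- Finite presentation of a flat algebra descends along a Milnor square. -/
theorem finitePresentation_of_pair (hsq : EtMil.IsFibreSquare B' B A' A) (D' : Type u)
    [CommRing D'] [Algebra B' D'] [Module.Flat B' D']
    [Algebra.FinitePresentation B (B ⊗[B'] D')] [Algebra.FinitePresentation A' (A' ⊗[B'] D')] :
    Algebra.FinitePresentation B' D' := by
  haveI : Algebra.FiniteType B' D' := finiteType_of_pair hsq D'
  obtain ⟨n, π, hπ⟩ := Algebra.FiniteType.iff_quotient_mvPolynomial''.mp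
    (inferInstance : Algebra.FiniteType B' D')
  have hK : (RingHom.ker π.toRingHom).FG :=
    ideal_fg_of_pair hsq _ (map_includeRight_fg B π hπ) (map_includeRight_fg A' π hπ)
      (Helper23.GPFP.tor_injective (R := B') (R' := B) (A := B') π hπ)
      (Helper23.GPFP.tor_injective (R := B') (R' := A') (A := B') π hπ)
  exact Algebra.FinitePresentation.of_surjective hπ hK

/-- Formal unramifiedness descends along a Milnor square. -/
theorem formallyUnramified_of_pair (hsq : EtMil.IsFibreSquare B' B A' A) (D' : Type u)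
    [CommRing D'] [Algebra B' D'] [Algebra.FormallyUnramified B (B ⊗[B'] D')]
    [Algebra.FormallyUnramified A' (A' ⊗[B'] D')] : Algebra.FormallyUnramified B' D' := by
  constructor
  letI : Algebra D' (B ⊗[B'] D') := Algebra.TensorProduct.rightAlgebra
  letI : Algebra D' (A' ⊗[B'] D') := Algebra.TensorProduct.rightAlgebra
  haveI : Subsingleton (B ⊗[B'] KaehlerDifferential B' D') :=
    (KaehlerDifferential.tensorKaehlerEquivBase B' B D' (B ⊗[B'] D')).subsingleton
  haveI : Subsingleton (A' ⊗[B'] KaehlerDifferential B' D') :=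
    (KaehlerDifferential.tensorKaehlerEquivBase B' A' D' (A' ⊗[B'] D')).subsingleton
  exact Groth.Agent.S14949.result B' B A' A hsq _

/-- Étaleness descends along a Milnor square. -/
theorem etale_of_pair (hsq : EtMil.IsFibreSquare B' B A' A) (D' : Type u)
    [CommRing D'] [Algebra B' D'] [Algebra.Etale B (B ⊗[B'] D')]
    [Algebra.Etale A' (A' ⊗[B'] D')] : Algebra.Etale B' D' := by
  haveI : Module.Flat B' D' := Groth.Agent.S14952.result B' B A' A hsq D'
  haveI : Algebra.FinitePresentation B' D' := finitePresentation_of_pair hsq D'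
  haveI : Algebra.FormallyUnramified B' D' := formallyUnramified_of_pair hsq D'
  exact Algebra.Etale.of_formallyUnramified_of_flat

/-- Smoothness of a base change to a field descends to a subfield. -/
theorem smooth_of_field_ext {R S D : Type u} [CommRing R] [CommRing S] [Algebra R S] [CommRing D]
    [Algebra R D] [Algebra.Smooth S (S ⊗[R] D)] (k L : Type u) [Field k] [Field L] [Algebra R k]
    [Algebra k L] [Algebra R L] [IsScalarTower R k L] [Algebra S L] [IsScalarTower R S L] :
    Algebra.Smooth k (k ⊗[R] D) := by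
  haveI : Algebra.Smooth L (L ⊗[S] (S ⊗[R] D)) := inferInstance
  let e₁ : L ⊗[S] (S ⊗[R] D) ≃ₐ[L] L ⊗[R] D := Algebra.TensorProduct.cancelBaseChange R S L L D
  let e₂ : L ⊗[k] (k ⊗[R] D) ≃ₐ[L] L ⊗[R] D := Algebra.TensorProduct.cancelBaseChange R k L L D
  haveI : Algebra.Smooth L (L ⊗[k] (k ⊗[R] D)) := Algebra.Smooth.of_equiv (e₁.trans e₂.symm)
  exact Algebra.Smooth.of_smooth_tensorProduct_of_faithfullyFlat L

/-- The fibre over `p` is smooth if `p` is the contraction of a prime of `S` and `S ⊗ D` is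
smooth over `S`. -/
theorem smooth_fiber {R S D : Type u} [CommRing R] [CommRing S] [Algebra R S] [CommRing D]
    [Algebra R D] [Algebra.Smooth S (S ⊗[R] D)] (q : Ideal S) [q.IsPrime] (p : Ideal R)
    [p.IsPrime] (hp : p = q.comap (algebraMap R S)) :
    Algebra.Smooth p.ResidueField (p.Fiber D) := by
  letI : Algebra p.ResidueField q.ResidueField :=
    (Ideal.ResidueField.map p q (algebraMap R S) hp).toAlgebra
  haveI : IsScalarTower R p.ResidueField q.ResidueField :=
    IsScalarTower.of_algebraMap_eq (fun r => by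
      rw [RingHom.algebraMap_toAlgebra, Ideal.ResidueField.map_algebraMap,
        ← IsScalarTower.algebraMap_apply])
  exact smooth_of_field_ext (R := R) (S := S) (D := D) p.ResidueField q.ResidueField

/-- Smoothness descends along a Milnor square. -/
theorem smooth_of_pair (hsq : EtMil.IsFibreSquare B' B A' A) (D' : Type u)
    [CommRing D'] [Algebra B' D'] [Algebra.Smooth B (B ⊗[B'] D')]
    [Algebra.Smooth A' (A' ⊗[B'] D')] : Algebra.Smooth B' D' := by
  haveI : Module.Flat B' D' := Groth.Agent.S14952.result B' B A' A hsq D'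
  haveI : Algebra.FinitePresentation B' D' := finitePresentation_of_pair hsq D'
  refine Algebra.Smooth.of_formallySmooth_fiber (fun p _ => ?_)
  rcases Helper23.MSp.mem_range_or hsq ⟨p, inferInstance⟩ with ⟨q, hq⟩ | ⟨q, hq⟩
  · have hp : p = q.asIdeal.comap (algebraMap B' B) := congrArg PrimeSpectrum.asIdeal hq.symm
    exact (smooth_fiber (S := B) (D := D') q.asIdeal p hp).formallySmooth
  · have hp : p = q.asIdeal.comap (algebraMap B' A') := congrArg PrimeSpectrum.asIdeal hq.symm
    exact (smooth_fiber (S := A') (D := D') q.asIdeal p hp).formallySmooth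

/-- In the relative fibre-square situation, `D = B ⊗ D'` and `C' = A' ⊗ D'`. -/
theorem isPushout_of_fibreSquares (hsq : EtMil.IsFibreSquare B' B A' A)
    (D' D C' C : Type u) [CommRing D'] [CommRing D] [CommRing C'] [CommRing C]
    [Algebra D' D] [Algebra D' C'] [Algebra D C] [Algebra C' C] [Algebra D' C]
    [IsScalarTower D' D C] [IsScalarTower D' C' C]
    (hsq' : EtMil.IsFibreSquare D' D C' C)
    [Algebra B' D'] [Algebra B D] [Algebra A' C'] [Algebra A C]
    [Algebra B' D] [IsScalarTower B' B D] [IsScalarTower B' D' D]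
    [Algebra B' C'] [IsScalarTower B' A' C'] [IsScalarTower B' D' C']
    [Algebra B C] [IsScalarTower B A C] [IsScalarTower B D C]
    [Algebra A' C] [IsScalarTower A' A C] [IsScalarTower A' C' C]
    [Algebra.IsPushout B D A C] [Algebra.IsPushout A' C' A C] :
    Algebra.IsPushout B' B D' D ∧ Algebra.IsPushout B' A' D' C' := by
  have h1 : Algebra.IsPushout B A D C := Algebra.IsPushout.symm inferInstance
  have h2 : Algebra.IsPushout A' A C' C := Algebra.IsPushout.symm inferInstance
  let e₁ : A ⊗[B] D ≃ₗ[A] C := h1.out.equiv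
  let e₂ : A ⊗[A'] C' ≃ₗ[A] C := h2.out.equiv
  have he₁ : ∀ d : D, e₁ ((1 : A) ⊗ₜ[B] d) = algebraMap D C d := fun d => by
    simp [e₁, IsBaseChange.equiv_tmul]
  have he₂ : ∀ c' : C', e₂ ((1 : A) ⊗ₜ[A'] c') = algebraMap C' C c' := fun c' => by
    simp [e₂, IsBaseChange.equiv_tmul]
  let φ : A ⊗[B] D ≃ₗ[A] A ⊗[A'] C' := e₁.trans e₂.symm
  have hmem : ∀ x : D × C', x ∈ EtMil.glue B' φ ↔ algebraMap D C x.1 = algebraMap C' C x.2 := by
    intro x
    change φ ((1 : A) ⊗ₜ[B] x.1) = (1 : A) ⊗ₜ[A'] x.2 ↔ _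
    rw [LinearEquiv.trans_apply, LinearEquiv.symm_apply_eq, he₁, he₂]
  let ψ : D' →ₗ[B'] EtMil.glue B' φ :=
    LinearMap.codRestrict _ (LinearMap.prod (IsScalarTower.toAlgHom B' D' D).toLinearMap
      (IsScalarTower.toAlgHom B' D' C').toLinearMap) (fun d' => (hmem _).mpr (by
        change algebraMap D C (algebraMap D' D d') = algebraMap C' C (algebraMap D' C' d')
        rw [← IsScalarTower.algebraMap_apply, ← IsScalarTower.algebraMap_apply]))
  have hψ1 : ∀ d', (ψ d').1.1 = algebraMap D' D d' := fun _ => rfl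
  have hψ2 : ∀ d', (ψ d').1.2 = algebraMap D' C' d' := fun _ => rfl
  have hψ : Function.Bijective ψ := by
    constructor
    · intro x y hxy
      have h := congrArg Subtype.val hxy
      obtain ⟨z, -, huniq⟩ := hsq'.2 (algebraMap D' D x) (algebraMap D' C' x) (by
        rw [← IsScalarTower.algebraMap_apply, ← IsScalarTower.algebraMap_apply])
      rw [huniq x ⟨rfl, rfl⟩, huniq y ⟨(congrArg Prod.fst h).symm, (congrArg Prod.snd h).symm⟩]
    · rintro ⟨⟨d, c'⟩, hx⟩
      obtain ⟨z, ⟨hz1, hz2⟩, -⟩ := hsq'.2 d c' ((hmem _).mp hx)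
      exact ⟨z, Subtype.ext (Prod.ext hz1 hz2)⟩
  let Ψ : D' ≃ₗ[B'] EtMil.glue B' φ := LinearEquiv.ofBijective ψ hψ
  obtain ⟨hF, hS⟩ := Groth.Agent.S2019.result B' B A' A hsq D C' φ
  constructor
  · let e : B ⊗[B'] D' ≃ₗ[B] D :=
      (TensorProduct.AlgebraTensorModule.congr (LinearEquiv.refl B B) Ψ).trans
        (LinearEquiv.ofBijective (LinearMap.liftBaseChange B (EtMil.glueFst B' φ)) hF)
    refine ⟨IsBaseChange.of_equiv e (fun x => ?_)⟩
    simp only [e, LinearEquiv.trans_apply, TensorProduct.AlgebraTensorModule.congr_tmul,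
      LinearEquiv.refl_apply, LinearEquiv.ofBijective_apply, LinearMap.liftBaseChange_tmul,
      one_smul]
    rfl
  · let e : A' ⊗[B'] D' ≃ₗ[A'] C' :=
      (TensorProduct.AlgebraTensorModule.congr (LinearEquiv.refl A' A') Ψ).trans
        (LinearEquiv.ofBijective (LinearMap.liftBaseChange A' (EtMil.glueSnd B' φ)) hS)
    refine ⟨IsBaseChange.of_equiv e (fun x => ?_)⟩
    simp only [e, LinearEquiv.trans_apply, TensorProduct.AlgebraTensorModule.congr_tmul,
      LinearEquiv.refl_apply, LinearEquiv.ofBijective_apply, LinearMap.liftBaseChange_tmul,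
      one_smul]
    rfl

end Helper23.MilAlg
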