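import Groth.Agent.Lib.Helper23.GlueFlat2
import Groth.Agent.Lib.Helper23.Milnor
import Mathlib.LinearAlgebra.TensorProduct.Quotient

/-!
# Flatness descends along a Milnor square (elementary, Tor-free proof)
-/

universe u
open TensorProduct

namespace Helper23.MF

open Helper23.GF

section general

variable {R : Type*} [CommRing R]
variable {K F M A B C : Type*} [AddCommGroup K] [AddCommGroup F] [AddCommGroup M]
  [AddCommGroup A] [AddCommGroup B] [AddCommGroup C]
  [Module R K] [Module R F] [Module R M] [Module R A] [Module R B] [Module R C]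

/-- If `B ⊗ K → B ⊗ F` and `A ⊗ M → B ⊗ M` are injective then so is `C ⊗ K → C ⊗ F`. -/
theorem balance' (j : K →ₗ[R] F) (q : F →ₗ[R] M) (i : A →ₗ[R] B) (p : B →ₗ[R] C)
    (hjq : Function.Exact j q) (hq : Function.Surjective q)
    (hip : Function.Exact i p) (hp : Function.Surjective p)
    (hBj : Function.Injective (j.lTensor B)) (hiM : Function.Injective (i.rTensor M)) :
    Function.Injective (j.lTensor C) := by
  refine chase (j.lTensor A) (q.lTensor A) (j.lTensor B) (q.lTensor B) (j.lTensor C)
    (i.rTensor K) (i.rTensor F) (i.rTensor M) (p.rTensor K) (p.rTensor F)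
    (lTensor_exact A hjq hq) (rTensor_exact F hip hp) (LinearMap.rTensor_surjective K hp)
    ?_ ?_ hBj hiM ?_ ?_ ?_
  · intro x
    rw [← LinearMap.comp_apply, ← LinearMap.rTensor_comp, hip.linearMap_comp_eq_zero]
    simp
  · intro x
    rw [← LinearMap.comp_apply, ← LinearMap.lTensor_comp, hjq.linearMap_comp_eq_zero]
    simp
  · intro x
    rw [← LinearMap.comp_apply, ← LinearMap.comp_apply, LinearMap.lTensor_comp_rTensor,
      LinearMap.rTensor_comp_lTensor]
  · intro x
    rw [← LinearMap.comp_apply, ← LinearMap.comp_apply, LinearMap.lTensor_comp_rTensor,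
      LinearMap.rTensor_comp_lTensor]
  · intro x
    rw [← LinearMap.comp_apply, ← LinearMap.comp_apply, LinearMap.lTensor_comp_rTensor,
      LinearMap.rTensor_comp_lTensor]

end general

section baseChangeR

variable {R : Type u} [CommRing R] (S : Type u) [CommRing S] [Algebra R S]
variable {Y Y2 : Type u} [AddCommGroup Y] [AddCommGroup Y2] [Module R Y] [Module R Y2]
  [Module S Y] [Module S Y2] [IsScalarTower R S Y] [IsScalarTower R S Y2]
variable (L : Type u) [AddCommGroup L] [Module R L]

/-- An injective `S`-linear map stays injective after `- ⊗_R L` when `S ⊗_R L` is `S`-flat. -/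
theorem rTensor_injective_of_flat_baseChange (u : Y →ₗ[S] Y2) (hu : Function.Injective u)
    [Module.Flat S (S ⊗[R] L)] :
    Function.Injective ((u.restrictScalars R).rTensor L) := by
  have key : Function.Injective (u.rTensor (S ⊗[R] L)) :=
    Module.Flat.rTensor_preserves_injective_linearMap u hu
  let e1 := TensorProduct.AlgebraTensorModule.cancelBaseChange R S S Y L
  let e2 := TensorProduct.AlgebraTensorModule.cancelBaseChange R S S Y2 L
  have hcomm : ∀ x, e2 (u.rTensor (S ⊗[R] L) x) = (u.restrictScalars R).rTensor L (e1 x) := by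
    intro x
    induction x using TensorProduct.induction_on with
    | zero => simp
    | add x y hx hy => simp only [map_add, hx, hy]
    | tmul c y =>
      induction y using TensorProduct.induction_on with
      | zero => simp
      | add x y hx hy => simp only [tmul_add, map_add, hx, hy]
      | tmul s k => simp [e1, e2]
  intro x y hxy
  obtain ⟨x', rfl⟩ := e1.surjective x
  obtain ⟨y', rfl⟩ := e1.surjective y
  rw [← hcomm, ← hcomm] at hxy
  rw [key (e2.injective hxy)]

end baseChangeR

section killed

variable {R : Type u} [CommRing R] (S : Type u) [CommRing S] [Algebra R S]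
variable (Z : Type u) [AddCommGroup Z] [Module R Z]

/-- A module killed by the kernel of a surjection `R → S` is isomorphic to its base change. -/
theorem nonempty_equiv_of_killed (hS : Function.Surjective (algebraMap R S))
    (hZ : ∀ r : R, algebraMap R S r = 0 → ∀ z : Z, r • z = 0) :
    Nonempty (Z ≃ₗ[R] S ⊗[R] Z) := by
  let I : Ideal R := RingHom.ker (algebraMap R S)
  let e0 : (R ⧸ I) ≃ₐ[R] S := Ideal.quotientKerAlgEquivOfSurjective (f := Algebra.ofId R S) hS
  have hI : I • (⊤ : Submodule R Z) = ⊥ := by
    rw [eq_bot_iff, Submodule.smul_le]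
    intro r hr z _
    rw [Submodule.mem_bot]
    exact hZ r ((RingHom.mem_ker).mp hr) z
  let e1 : (R ⧸ I) ⊗[R] Z ≃ₗ[R] Z :=
    (TensorProduct.quotTensorEquivQuotSMul Z I).trans (Submodule.quotEquivOfEqBot _ hI)
  let e2 : (R ⧸ I) ⊗[R] Z ≃ₗ[R] S ⊗[R] Z := LinearEquiv.rTensor Z e0.toLinearEquiv
  exact ⟨e1.symm.trans e2⟩

end killed

section milnor

variable {B' B A' A : Type u} [CommRing B'] [CommRing B] [CommRing A'] [CommRing A]
  [Algebra B' B] [Algebra B' A'] [Algebra B A] [Algebra A' A] [Algebra B' A]
  [IsScalarTower B' B A] [IsScalarTower B' A' A]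

variable (B' B A' A) in
/-- `B' → B × A'`. -/
def i0 : B' →ₗ[B'] B × A' := (Algebra.linearMap B' B).prod (Algebra.linearMap B' A')

variable (B' B A' A) in
/-- `B × A' → A`, the difference. -/
def p0 : B × A' →ₗ[B'] A :=
  (IsScalarTower.toAlgHom B' B A).toLinearMap.coprod (-(IsScalarTower.toAlgHom B' A' A).toLinearMap)

theorem i0_apply (x : B') : i0 B' B A' x = (algebraMap B' B x, algebraMap B' A' x) := rfl

theorem p0_apply (x : B × A') : p0 B' B A' A x = algebraMap B A x.1 - algebraMap A' A x.2 := by
  rw [sub_eq_add_neg]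
  rfl

theorem i0_injective (hsq : EtMil.IsFibreSquare B' B A' A) : Function.Injective (i0 B' B A') := by
  rw [injective_iff_map_eq_zero]
  intro x hx
  rw [i0_apply, Prod.mk_eq_zero] at hx
  exact Mil.eq_zero_of_maps hsq x hx.1 hx.2

theorem exact_i0_p0 (hsq : EtMil.IsFibreSquare B' B A' A) :
    Function.Exact (i0 B' B A') (p0 B' B A' A) := by
  intro x
  constructor
  · intro h
    rw [p0_apply, sub_eq_zero] at h
    obtain ⟨b', ⟨h1, h2⟩, _⟩ := hsq.2 x.1 x.2 h
    exact ⟨b', Prod.ext h1 h2⟩
  · rintro ⟨b', rfl⟩
    rw [p0_apply, i0_apply, sub_eq_zero, ← IsScalarTower.algebraMap_apply,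
      ← IsScalarTower.algebraMap_apply]

theorem p0_surjective (hsq : EtMil.IsFibreSquare B' B A' A) :
    Function.Surjective (p0 B' B A' A) := by
  intro a
  obtain ⟨a', rfl⟩ := hsq.1 a
  exact ⟨(0, -a'), by rw [p0_apply]; simp⟩

variable {K F L' : Type u} [AddCommGroup K] [AddCommGroup F] [AddCommGroup L']
  [Module B' K] [Module B' F] [Module B' L']

theorem ker_rTensor_injective (hsq : EtMil.IsFibreSquare B' B A' A)
    [Module.Flat A' (A' ⊗[B'] L')] :
    Function.Injective ((RingHom.ker (algebraMap B' B)).subtype.rTensor L') := by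
  let I : Ideal B' := RingHom.ker (algebraMap B' B)
  let I' : Ideal A' := RingHom.ker (algebraMap A' A)
  have hmem : ∀ x : I, algebraMap B' A' x ∈ I' := by
    intro x
    rw [RingHom.mem_ker, ← IsScalarTower.algebraMap_apply, IsScalarTower.algebraMap_apply B' B A,
      (RingHom.mem_ker).mp x.2, map_zero]
  let e : ↥I →ₗ[B'] ↥I' :=
    { toFun := fun x => ⟨algebraMap B' A' x, hmem x⟩
      map_add' := fun x y => Subtype.ext (by simp)
      map_smul' := fun c x => Subtype.ext (by simp [Algebra.smul_def]) }
  have he : Function.Bijective e := by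
    constructor
    · rw [injective_iff_map_eq_zero]
      intro x hx
      have h2 : algebraMap B' A' x = 0 := congrArg Subtype.val hx
      exact Subtype.ext (Mil.eq_zero_of_maps hsq x ((RingHom.mem_ker).mp x.2) h2)
    · rintro ⟨a', ha'⟩
      obtain ⟨b', h1, h2⟩ := Mil.exists_lift_of_ker hsq a' ((RingHom.mem_ker).mp ha')
      exact ⟨⟨b', (RingHom.mem_ker).mpr h1⟩, Subtype.ext h2⟩
  let u : ↥I' →ₗ[A'] A' := I'.subtype
  have hu : Function.Injective ((u.restrictScalars B').rTensor L') :=
    rTensor_injective_of_flat_baseChange A' L' u (Submodule.injective_subtype _)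
  have hcomp : (Algebra.linearMap B' A').rTensor L' ∘ₗ I.subtype.rTensor L' =
      (u.restrictScalars B').rTensor L' ∘ₗ e.rTensor L' := by
    rw [← LinearMap.rTensor_comp, ← LinearMap.rTensor_comp]
    rfl
  have he' : Function.Injective (e.rTensor L') :=
    (LinearEquiv.rTensor L' (LinearEquiv.ofBijective e he)).injective
  have h3 : Function.Injective ((Algebra.linearMap B' A').rTensor L' ∘ₗ I.subtype.rTensor L') := by
    rw [hcomp]
    exact hu.comp he'
  exact Function.Injective.of_comp h3

omit [Algebra B' A'] [CommRing A'] [CommRing A] [Algebra B A] [Algebra A' A] [Algebra B' A]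
  [IsScalarTower B' B A] [IsScalarTower B' A' A] in
theorem exact_ker_subtype :
    Function.Exact (RingHom.ker (algebraMap B' B)).subtype (Algebra.linearMap B' B) := by
  intro x
  constructor
  · intro h
    have h' : algebraMap B' B x = 0 := h
    exact ⟨⟨x, (RingHom.mem_ker).mpr h'⟩, rfl⟩
  · rintro ⟨y, rfl⟩
    show algebraMap B' B y = 0
    exact (RingHom.mem_ker).mp y.2

theorem flat_A [Module.Flat B (B ⊗[B'] L')] : Module.Flat A (A ⊗[B'] L') :=
  Module.Flat.of_linearEquiv (TensorProduct.AlgebraTensorModule.cancelBaseChange B' B A A L').symm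

section steps

variable (hsq : EtMil.IsFibreSquare B' B A' A) (j : K →ₗ[B'] F) (q : F →ₗ[B'] L')
  (hj : Function.Injective j) (hjq : Function.Exact j q) (hq : Function.Surjective q)
  [Module.Flat B' F] [Module.Flat B (B ⊗[B'] L')] [Module.Flat A' (A' ⊗[B'] L')]

include hsq hj hjq hq in
omit [Module.Flat B' F] [Module.Flat B (B ⊗[B'] L')] in
theorem lTensor_B_injective : Function.Injective (j.lTensor B) :=
  balance' j q (RingHom.ker (algebraMap B' B)).subtype (Algebra.linearMap B' B) hjq hq
    exact_ker_subtype (Mil.algebraMap_B_surjective hsq)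
    (Module.Flat.lTensor_preserves_injective_linearMap j hj) (ker_rTensor_injective hsq)

include hsq hj hjq hq in
omit [Module.Flat B' F] in
theorem lTensor_A_injective : Function.Injective (j.lTensor A) :=
  baseChange_lTensor_injective B A j q hjq hq (lTensor_B_injective hsq j q hj hjq hq)

include hsq hj hjq hq in
theorem lTensor_prod_injective : Function.Injective (j.lTensor (B × A')) :=
  mid j (i0 B' B A') (p0 B' B A' A) (exact_i0_p0 hsq) (p0_surjective hsq)
    (Module.Flat.rTensor_preserves_injective_linearMap _ (i0_injective hsq))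
    (Module.Flat.lTensor_preserves_injective_linearMap j hj)
    (lTensor_A_injective hsq j q hj hjq hq)

include hsq hj hjq hq in
theorem lTensor_A'_injective : Function.Injective (j.lTensor A') :=
  lTensor_injective_of_retract j (LinearMap.inr B' B A') (LinearMap.snd B' B A')
    (fun _ => rfl) (lTensor_prod_injective hsq j q hj hjq hq)

include hsq hj hjq hq in
theorem flat_B_ker : Module.Flat B (B ⊗[B'] K) :=
  flat_baseChange_ker B j q hjq hq (lTensor_B_injective hsq j q hj hjq hq)

include hsq hj hjq hq in
theorem flat_A'_ker : Module.Flat A' (A' ⊗[B'] K) :=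
  flat_baseChange_ker A' j q hjq hq (lTensor_A'_injective hsq j q hj hjq hq)

include hsq hj hjq hq in
omit [Module.Flat B' F] in
theorem lTensor_injective_of_B_module (T : Type u) [AddCommGroup T] [Module B' T] [Module B T]
    [IsScalarTower B' B T] : Function.Injective (j.lTensor T) :=
  baseChange_lTensor_injective B T j q hjq hq (lTensor_B_injective hsq j q hj hjq hq)

include hsq hj hjq hq in
theorem lTensor_injective_of_A'_module (T : Type u) [AddCommGroup T] [Module B' T] [Module A' T]
    [IsScalarTower B' A' T] : Function.Injective (j.lTensor T) :=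
  baseChange_lTensor_injective A' T j q hjq hq (lTensor_A'_injective hsq j q hj hjq hq)

include hsq hj hjq hq in
omit [Module.Flat B' F] in
theorem lTensor_injective_of_A_module (T : Type u) [AddCommGroup T] [Module B' T] [Module A T]
    [IsScalarTower B' A T] : Function.Injective (j.lTensor T) :=
  haveI : Module.Flat A (A ⊗[B'] L') := flat_A (B := B)
  baseChange_lTensor_injective A T j q hjq hq (lTensor_A_injective hsq j q hj hjq hq)

end steps

end milnor

end Helper23.MF
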