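import Groth.Agent.S14949
import Groth.Agent.S14952
import Groth.Agent.S14953
import Groth.Agent.S2003
import Groth.Agent.S2019
import Mathlib.RingTheory.IsTensorProduct
import Mathlib.RingTheory.Flat.Equalizer

/-!
# Milnor squares: the relative situation `B' → D'`, `D = B ⊗ D'`, `C' = A' ⊗ D'`, `C = A ⊗ D'`
-/

universe u
open TensorProduct

namespace Helper23.MilRel

variable {B' B A' A : Type u} [CommRing B'] [CommRing B] [CommRing A'] [CommRing A]
  [Algebra B' B] [Algebra B' A'] [Algebra B A] [Algebra A' A] [Algebra B' A]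
  [IsScalarTower B' B A] [IsScalarTower B' A' A]

section Descent

variable {D' D C' : Type u} [CommRing D'] [CommRing D] [CommRing C']
  [Algebra B' D'] [Algebra B D] [Algebra A' C']
  [Algebra D' D] [Algebra B' D] [IsScalarTower B' B D] [IsScalarTower B' D' D]
  [Algebra.IsPushout B' B D' D]
  [Algebra D' C'] [Algebra B' C'] [IsScalarTower B' A' C'] [IsScalarTower B' D' C']
  [Algebra.IsPushout B' A' D' C']

/-- A `D'`-module vanishing after base change to `D` and to `C'` vanishes. -/
theorem subsingleton_of_rel (hsq : EtMil.IsFibreSquare B' B A' A) (X : Type u) [AddCommGroup X]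
    [Module D' X] [Subsingleton (D ⊗[D'] X)] [Subsingleton (C' ⊗[D'] X)] : Subsingleton X := by
  letI : Module B' X := Module.compHom X (algebraMap B' D')
  haveI : IsScalarTower B' D' X := IsScalarTower.of_algebraMap_smul (fun _ _ => rfl)
  haveI : Subsingleton (B ⊗[B'] X) :=
    (Algebra.IsPushout.cancelBaseChange B' B D' D X).symm.subsingleton
  haveI : Subsingleton (A' ⊗[B'] X) :=
    (Algebra.IsPushout.cancelBaseChange B' A' D' C' X).symm.subsingleton
  exact Groth.Agent.S14949.result B' B A' A hsq X

/-- Finiteness descends in the relative situation. -/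
theorem finite_of_rel (hsq : EtMil.IsFibreSquare B' B A' A) (X : Type u) [AddCommGroup X]
    [Module D' X] [Module.Finite D (D ⊗[D'] X)] [Module.Finite C' (C' ⊗[D'] X)] :
    Module.Finite D' X := by
  classical
  obtain ⟨s₁, hs₁⟩ := Groth.Agent.S2006.exists_finset_span_tensor D' D X inferInstance
  obtain ⟨s₂, hs₂⟩ := Groth.Agent.S2006.exists_finset_span_tensor D' C' X inferInstance
  set N : Submodule D' X := Submodule.span D' ((s₁ ∪ s₂ : Finset X) : Set X) with hN
  haveI h1 : Subsingleton (D ⊗[D'] (X ⧸ N)) :=
    Groth.Agent.S14953.subsingleton_tensor_quotient D' D X s₁ hs₁ N (fun x hx =>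
      Submodule.subset_span (by
        simp only [Finset.coe_union, Set.mem_union]
        exact Or.inl hx))
  haveI h2 : Subsingleton (C' ⊗[D'] (X ⧸ N)) :=
    Groth.Agent.S14953.subsingleton_tensor_quotient D' C' X s₂ hs₂ N (fun x hx =>
      Submodule.subset_span (by
        simp only [Finset.coe_union, Set.mem_union]
        exact Or.inr hx))
  have hQ : Subsingleton (X ⧸ N) := subsingleton_of_rel (D' := D') (D := D) (C' := C') hsq (X ⧸ N)
  rw [Submodule.Quotient.subsingleton_iff] at hQ
  exact ⟨⟨s₁ ∪ s₂, hQ⟩⟩

/-- Naturality of `cancelBaseChange`: injectivity after `B ⊗[B'] -` gives injectivity after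
`D ⊗[D'] -`. -/
theorem lTensor_injective_of_rel {M M₂ : Type u} [AddCommGroup M] [AddCommGroup M₂]
    [Module D' M] [Module D' M₂] [Module B' M] [Module B' M₂] [IsScalarTower B' D' M]
    [IsScalarTower B' D' M₂] (f : M →ₗ[D'] M₂)
    (h : Function.Injective ((f.restrictScalars B').lTensor B)) :
    Function.Injective (f.lTensor D) := by
  have key : ∀ x : B ⊗[B'] M,
      (Algebra.IsPushout.cancelBaseChange B' B D' D M₂).symm ((f.restrictScalars B').lTensor B x) =
        f.lTensor D ((Algebra.IsPushout.cancelBaseChange B' B D' D M).symm x) := by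
    intro x
    induction x using TensorProduct.induction_on with
    | zero => simp
    | add x y hx hy => simp only [map_add, hx, hy]
    | tmul b m =>
      rw [LinearMap.lTensor_tmul, Algebra.IsPushout.cancelBaseChange_symm_tmul,
        Algebra.IsPushout.cancelBaseChange_symm_tmul, LinearMap.lTensor_tmul]
      rfl
  rw [injective_iff_map_eq_zero]
  intro y hy
  obtain ⟨x, rfl⟩ := (Algebra.IsPushout.cancelBaseChange B' B D' D M).symm.surjective y
  rw [← key] at hy
  have h2 : (f.restrictScalars B').lTensor B x = 0 :=
    (Algebra.IsPushout.cancelBaseChange B' B D' D M₂).symm.injective (hy.trans (map_zero _).symm)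
  rw [h (h2.trans (map_zero _).symm), map_zero]

/-- Finite presentation descends in the relative situation for modules flat over `B'`. -/
theorem finitePresentation_of_rel (hsq : EtMil.IsFibreSquare B' B A' A) (X : Type u)
    [AddCommGroup X] [Module D' X] [Module B' X] [IsScalarTower B' D' X] [Module.Flat B' X]
    [Module.FinitePresentation D (D ⊗[D'] X)] [Module.FinitePresentation C' (C' ⊗[D'] X)] :
    Module.FinitePresentation D' X := by
  haveI hfin : Module.Finite D' X := finite_of_rel (D' := D') (D := D) (C' := C') hsq X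
  obtain ⟨n, q, hq⟩ := Module.Finite.exists_fin' D' X
  have hj : Function.Injective (LinearMap.ker q).subtype := Submodule.injective_subtype _
  have hjq : Function.Exact (LinearMap.ker q).subtype q := LinearMap.exact_subtype_ker_map q
  have hjq' : Function.Exact ((LinearMap.ker q).subtype.restrictScalars B')
      (q.restrictScalars B') := hjq
  have hinjB : Function.Injective (((LinearMap.ker q).subtype.restrictScalars B').lTensor B) :=
    LinearMap.lTensor_injective_of_exact_of_flat (q.restrictScalars B') hq _ hj hjq' B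
  have hinjA' : Function.Injective (((LinearMap.ker q).subtype.restrictScalars B').lTensor A') :=
    LinearMap.lTensor_injective_of_exact_of_flat (q.restrictScalars B') hq _ hj hjq' A'
  haveI : Module.Finite D (D ⊗[D'] LinearMap.ker q) :=
    Groth.Agent.S2003.finite_baseChange_ker D _ q hjq hq
      (lTensor_injective_of_rel (B := B) (D := D) _ hinjB)
  haveI : Module.Finite C' (C' ⊗[D'] LinearMap.ker q) :=
    Groth.Agent.S2003.finite_baseChange_ker C' _ q hjq hq
      (lTensor_injective_of_rel (B := A') (D := C') _ hinjA')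
  have hK : Module.Finite D' (LinearMap.ker q) :=
    finite_of_rel (D' := D') (D := D) (C' := C') hsq (LinearMap.ker q)
  exact Module.finitePresentation_of_surjective q hq (Module.Finite.iff_fg.mp hK)

end Descent

section Glue

variable {D' D C' C : Type u} [CommRing D'] [CommRing D] [CommRing C'] [CommRing C]
  [Algebra B' D'] [Algebra B D] [Algebra A' C'] [Algebra A C]
  [Algebra D' D] [Algebra B' D] [IsScalarTower B' B D] [IsScalarTower B' D' D]
  [Algebra.IsPushout B' B D' D]
  [Algebra D' C'] [Algebra B' C'] [IsScalarTower B' A' C'] [IsScalarTower B' D' C']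
  [Algebra.IsPushout B' A' D' C']
  [Algebra D' C] [Algebra B' C] [IsScalarTower B' A C] [IsScalarTower B' D' C]
  [Algebra.IsPushout B' A D' C]
  [Algebra D C] [IsScalarTower D' D C] [Algebra B C] [IsScalarTower B A C] [IsScalarTower B D C]
  [Algebra C' C] [IsScalarTower D' C' C] [Algebra A' C] [IsScalarTower A' A C]
  [IsScalarTower A' C' C]

variable (B' D') in
include B' D' in
omit [Algebra A' C'] [Algebra D' C'] [Algebra B' C'] [IsScalarTower B' A' C']
  [IsScalarTower B' D' C'] [Algebra.IsPushout B' A' D' C'] [Algebra C' C] [IsScalarTower D' C' C]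
  [Algebra A' C] [IsScalarTower A' A C] [IsScalarTower A' C' C] [Algebra B' A'] [Algebra A' A]
  [IsScalarTower B' A' A] in
theorem isPushout_left : Algebra.IsPushout B A D C := by
  haveI : IsScalarTower B' D C := IsScalarTower.of_algebraMap_eq (fun x => by
    rw [IsScalarTower.algebraMap_apply B' D' C, IsScalarTower.algebraMap_apply D' D C,
      ← IsScalarTower.algebraMap_apply B' D' D])
  exact (Algebra.IsPushout.comp_iff (R := B') (S := B) (R' := D') (S' := D) (T := A)
    (T' := C)).mp inferInstance

variable (B' D') in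
include B' D' in
omit [Algebra B D] [Algebra D' D] [Algebra B' D] [IsScalarTower B' B D] [IsScalarTower B' D' D]
  [Algebra.IsPushout B' B D' D] [Algebra D C] [IsScalarTower D' D C] [Algebra B C]
  [IsScalarTower B A C] [IsScalarTower B D C] [Algebra B' B] [Algebra B A]
  [IsScalarTower B' B A] in
theorem isPushout_right : Algebra.IsPushout A' A C' C := by
  haveI : IsScalarTower B' C' C := IsScalarTower.of_algebraMap_eq (fun x => by
    rw [IsScalarTower.algebraMap_apply B' D' C, IsScalarTower.algebraMap_apply D' C' C,
      ← IsScalarTower.algebraMap_apply B' D' C'])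
  exact (Algebra.IsPushout.comp_iff (R := B') (S := A') (R' := D') (S' := C') (T := A)
    (T' := C)).mp inferInstance

variable {N M' : Type u} [AddCommGroup N] [Module D N] [Module D' N] [IsScalarTower D' D N]
  [AddCommGroup M'] [Module C' M'] [Module D' M'] [IsScalarTower D' C' M']
  [Module B N] [IsScalarTower B D N] [Module A' M'] [IsScalarTower A' C' M']
  [Module B' N] [IsScalarTower B' B N] [IsScalarTower B' D' N]
  [Module B' M'] [IsScalarTower B' A' M'] [IsScalarTower B' D' M']

variable (B' B A' A D') in
/-- The glueing isomorphism over `A` induced by a glueing isomorphism over `C`. -/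
noncomputable def phi' (φ : C ⊗[D] N ≃ₗ[C] C ⊗[C'] M') : A ⊗[B] N ≃ₗ[A] A ⊗[A'] M' :=
  haveI : Algebra.IsPushout B A D C := isPushout_left B' D'
  haveI : Algebra.IsPushout A' A C' C := isPushout_right B' D'
  (Algebra.IsPushout.cancelBaseChange B A D C N).symm ≪≫ₗ (φ.restrictScalars A) ≪≫ₗ
    (Algebra.IsPushout.cancelBaseChange A' A C' C M')

theorem phi'_one_tmul (φ : C ⊗[D] N ≃ₗ[C] C ⊗[C'] M') (n : N) (m' : M') :
    phi' B' B A' A D' φ ((1 : A) ⊗ₜ[B] n) = (1 : A) ⊗ₜ[A'] m' ↔
      φ ((1 : C) ⊗ₜ[D] n) = (1 : C) ⊗ₜ[C'] m' := by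
  haveI : Algebra.IsPushout B A D C := isPushout_left B' D'
  haveI : Algebra.IsPushout A' A C' C := isPushout_right B' D'
  unfold phi'
  rw [LinearEquiv.trans_apply, LinearEquiv.trans_apply,
    Algebra.IsPushout.cancelBaseChange_symm_tmul, map_one, ← LinearEquiv.eq_symm_apply,
    Algebra.IsPushout.cancelBaseChange_symm_tmul, map_one]
  rfl

variable (B' B A' A D') in
/-- The `B'`-linear identification of the two descriptions of the glued module. -/
noncomputable def glueEquiv (φ : C ⊗[D] N ≃ₗ[C] C ⊗[C'] M') :
    ↥(EtMil.glue B' (phi' B' B A' A D' φ)) ≃ₗ[B'] ↥(EtMil.glue D' φ) where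
  toFun x := ⟨x.1, (phi'_one_tmul (B' := B') (B := B) (A' := A') (A := A) (D' := D') φ x.1.1 x.1.2).mp x.2⟩
  invFun x := ⟨x.1, (phi'_one_tmul (B' := B') (B := B) (A' := A') (A := A) (D' := D') φ x.1.1 x.1.2).mpr x.2⟩
  map_add' _ _ := rfl
  map_smul' _ _ := rfl
  left_inv _ := rfl
  right_inv _ := rfl

/-- Relative version of the base change property of the glued module. -/
theorem liftBaseChange_glue_bijective_rel (hsq : EtMil.IsFibreSquare B' B A' A)
    (φ : C ⊗[D] N ≃ₗ[C] C ⊗[C'] M') :
    Function.Bijective (LinearMap.liftBaseChange D (EtMil.glueFst D' φ)) ∧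
      Function.Bijective (LinearMap.liftBaseChange C' (EtMil.glueSnd D' φ)) := by
  obtain ⟨hF, hS⟩ := Groth.Agent.S2019.result B' B A' A hsq N M' (phi' B' B A' A D' φ)
  let e₀ := glueEquiv B' B A' A D' φ
  constructor
  · let E : B ⊗[B'] ↥(EtMil.glue B' (phi' B' B A' A D' φ)) ≃ D ⊗[D'] ↥(EtMil.glue D' φ) :=
      (LinearEquiv.lTensor B e₀).toEquiv.trans
        (Algebra.IsPushout.cancelBaseChange B' B D' D ↥(EtMil.glue D' φ)).symm.toEquiv
    have key : (LinearMap.liftBaseChange D (EtMil.glueFst D' φ)) ∘ E =
        LinearMap.liftBaseChange B (EtMil.glueFst B' (phi' B' B A' A D' φ)) := by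
      funext y
      induction y using TensorProduct.induction_on with
      | zero => simp [E]
      | add x y hx hy =>
        simp only [Function.comp_apply] at hx hy ⊢
        have : E (x + y) = E x + E y := by simp [E]
        rw [this, map_add, map_add, hx, hy]
      | tmul b x =>
        simp only [Function.comp_apply, E, Equiv.trans_apply, LinearEquiv.coe_toEquiv,
          LinearEquiv.lTensor_tmul, Algebra.IsPushout.cancelBaseChange_symm_tmul,
          LinearMap.liftBaseChange_tmul]
        rw [algebraMap_smul]
        rfl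
    rw [← Function.Bijective.of_comp_iff _ E.bijective, key]
    exact hF
  · let E : A' ⊗[B'] ↥(EtMil.glue B' (phi' B' B A' A D' φ)) ≃
        C' ⊗[D'] ↥(EtMil.glue D' φ) :=
      (LinearEquiv.lTensor A' e₀).toEquiv.trans
        (Algebra.IsPushout.cancelBaseChange B' A' D' C' ↥(EtMil.glue D' φ)).symm.toEquiv
    have key : (LinearMap.liftBaseChange C' (EtMil.glueSnd D' φ)) ∘ E =
        LinearMap.liftBaseChange A' (EtMil.glueSnd B' (phi' B' B A' A D' φ)) := by
      funext y
      induction y using TensorProduct.induction_on with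
      | zero => simp [E]
      | add x y hx hy =>
        simp only [Function.comp_apply] at hx hy ⊢
        have : E (x + y) = E x + E y := by simp [E]
        rw [this, map_add, map_add, hx, hy]
      | tmul b x =>
        simp only [Function.comp_apply, E, Equiv.trans_apply, LinearEquiv.coe_toEquiv,
          LinearEquiv.lTensor_tmul, Algebra.IsPushout.cancelBaseChange_symm_tmul,
          LinearMap.liftBaseChange_tmul]
        rw [algebraMap_smul]
        rfl
    rw [← Function.Bijective.of_comp_iff _ E.bijective, key]
    exact hS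

/-- The relative glued module of finite modules is finite. -/
theorem finite_glue_rel (hsq : EtMil.IsFibreSquare B' B A' A)
    (φ : C ⊗[D] N ≃ₗ[C] C ⊗[C'] M') [Module.Finite D N] [Module.Finite C' M'] :
    Module.Finite D' ↥(EtMil.glue D' φ) := by
  obtain ⟨hF, hS⟩ := liftBaseChange_glue_bijective_rel (B' := B') (B := B) (A' := A') (A := A) (D' := D') hsq φ
  haveI : Module.Finite D (D ⊗[D'] ↥(EtMil.glue D' φ)) :=
    Module.Finite.equiv (LinearEquiv.ofBijective _ hF).symm
  haveI : Module.Finite C' (C' ⊗[D'] ↥(EtMil.glue D' φ)) :=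
    Module.Finite.equiv (LinearEquiv.ofBijective _ hS).symm
  exact finite_of_rel (B' := B') (B := B) (A' := A') (A := A) (D' := D') (D := D) (C' := C') hsq _

/-- The relative glued module of flat finitely presented modules is finitely presented. -/
theorem finitePresentation_glue_rel (hsq : EtMil.IsFibreSquare B' B A' A)
    (φ : C ⊗[D] N ≃ₗ[C] C ⊗[C'] M') [Module.FinitePresentation D N] [Module.Flat B N]
    [Module.FinitePresentation C' M'] [Module.Flat A' M'] :
    Module.FinitePresentation D' ↥(EtMil.glue D' φ) := by
  obtain ⟨hF, hS⟩ := liftBaseChange_glue_bijective_rel (B' := B') (B := B) (A' := A') (A := A) (D' := D') hsq φ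
  let eN : D ⊗[D'] ↥(EtMil.glue D' φ) ≃ₗ[D] N := LinearEquiv.ofBijective _ hF
  let eM : C' ⊗[D'] ↥(EtMil.glue D' φ) ≃ₗ[C'] M' := LinearEquiv.ofBijective _ hS
  haveI : Module.FinitePresentation D (D ⊗[D'] ↥(EtMil.glue D' φ)) :=
    Module.FinitePresentation.of_equiv eN.symm
  haveI : Module.FinitePresentation C' (C' ⊗[D'] ↥(EtMil.glue D' φ)) :=
    Module.FinitePresentation.of_equiv eM.symm
  haveI : Module.Flat B (B ⊗[B'] ↥(EtMil.glue D' φ)) :=
    Module.Flat.of_linearEquiv
      ((Algebra.IsPushout.cancelBaseChange B' B D' D ↥(EtMil.glue D' φ)).symm ≪≫ₗ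
        eN.restrictScalars B)
  haveI : Module.Flat A' (A' ⊗[B'] ↥(EtMil.glue D' φ)) :=
    Module.Flat.of_linearEquiv
      ((Algebra.IsPushout.cancelBaseChange B' A' D' C' ↥(EtMil.glue D' φ)).symm ≪≫ₗ
        eM.restrictScalars A')
  haveI : Module.Flat B' ↥(EtMil.glue D' φ) := Groth.Agent.S14952.result B' B A' A hsq _
  exact finitePresentation_of_rel (B' := B') (B := B) (A' := A') (A := A) (D' := D') (D := D)
    (C' := C') hsq _

end Glue

section Wrap

variable {D' D C' C : Type u} [CommRing D'] [CommRing D] [CommRing C'] [CommRing C]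
  [Algebra B' D'] [Algebra B D] [Algebra A' C'] [Algebra A C]
  [Algebra D' D] [Algebra B' D] [IsScalarTower B' B D] [IsScalarTower B' D' D]
  [Algebra.IsPushout B' B D' D]
  [Algebra D' C'] [Algebra B' C'] [IsScalarTower B' A' C'] [IsScalarTower B' D' C']
  [Algebra.IsPushout B' A' D' C']
  [Algebra D' C] [Algebra B' C] [IsScalarTower B' A C] [IsScalarTower B' D' C]
  [Algebra.IsPushout B' A D' C]
  [Algebra D C] [IsScalarTower D' D C] [Algebra B C] [IsScalarTower B A C] [IsScalarTower B D C]
  [Algebra C' C] [IsScalarTower D' C' C] [Algebra A' C] [IsScalarTower A' A C]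
  [IsScalarTower A' C' C]
  {N M' : Type u} [AddCommGroup N] [Module D N] [Module D' N] [IsScalarTower D' D N]
  [AddCommGroup M'] [Module C' M'] [Module D' M'] [IsScalarTower D' C' M']

/-- Version of `finitePresentation_glue_rel` constructing the `B'`-module structures. -/
theorem finitePresentation_glue_rel' (hsq : EtMil.IsFibreSquare B' B A' A)
    [Module B N] [IsScalarTower B D N] [Module A' M'] [IsScalarTower A' C' M']
    (φ : C ⊗[D] N ≃ₗ[C] C ⊗[C'] M') [Module.FinitePresentation D N] [Module.Flat B N]
    [Module.FinitePresentation C' M'] [Module.Flat A' M'] :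
    Module.FinitePresentation D' ↥(EtMil.glue D' φ) := by
  letI : Module B' N := Module.compHom N (algebraMap B' D')
  haveI : IsScalarTower B' D' N := IsScalarTower.of_algebraMap_smul (fun _ _ => rfl)
  haveI : IsScalarTower B' B N := IsScalarTower.of_algebraMap_smul (fun b' n => by
    change algebraMap B' B b' • n = algebraMap B' D' b' • n
    rw [← algebraMap_smul D (algebraMap B' B b') n, ← algebraMap_smul D (algebraMap B' D' b') n,
      ← IsScalarTower.algebraMap_apply, ← IsScalarTower.algebraMap_apply])
  letI : Module B' M' := Module.compHom M' (algebraMap B' D')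
  haveI : IsScalarTower B' D' M' := IsScalarTower.of_algebraMap_smul (fun _ _ => rfl)
  haveI : IsScalarTower B' A' M' := IsScalarTower.of_algebraMap_smul (fun b' n => by
    change algebraMap B' A' b' • n = algebraMap B' D' b' • n
    rw [← algebraMap_smul C' (algebraMap B' A' b') n, ← algebraMap_smul C' (algebraMap B' D' b') n,
      ← IsScalarTower.algebraMap_apply, ← IsScalarTower.algebraMap_apply])
  exact finitePresentation_glue_rel (B' := B') (B := B) (A' := A') (A := A) hsq φ

/-- Version of `finite_glue_rel` constructing all auxiliary module structures. -/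
theorem finite_glue_rel' (hsq : EtMil.IsFibreSquare B' B A' A)
    (φ : C ⊗[D] N ≃ₗ[C] C ⊗[C'] M') [Module.Finite D N] [Module.Finite C' M'] :
    Module.Finite D' ↥(EtMil.glue D' φ) := by
  letI : Module B N := Module.compHom N (algebraMap B D)
  haveI : IsScalarTower B D N := IsScalarTower.of_algebraMap_smul (fun _ _ => rfl)
  letI : Module A' M' := Module.compHom M' (algebraMap A' C')
  haveI : IsScalarTower A' C' M' := IsScalarTower.of_algebraMap_smul (fun _ _ => rfl)
  letI : Module B' N := Module.compHom N (algebraMap B' D')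
  haveI : IsScalarTower B' D' N := IsScalarTower.of_algebraMap_smul (fun _ _ => rfl)
  haveI : IsScalarTower B' B N := IsScalarTower.of_algebraMap_smul (fun b' n => by
    change algebraMap B' B b' • n = algebraMap B' D' b' • n
    rw [← algebraMap_smul D (algebraMap B' B b') n, ← algebraMap_smul D (algebraMap B' D' b') n,
      ← IsScalarTower.algebraMap_apply, ← IsScalarTower.algebraMap_apply])
  letI : Module B' M' := Module.compHom M' (algebraMap B' D')
  haveI : IsScalarTower B' D' M' := IsScalarTower.of_algebraMap_smul (fun _ _ => rfl)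
  haveI : IsScalarTower B' A' M' := IsScalarTower.of_algebraMap_smul (fun b' n => by
    change algebraMap B' A' b' • n = algebraMap B' D' b' • n
    rw [← algebraMap_smul C' (algebraMap B' A' b') n, ← algebraMap_smul C' (algebraMap B' D' b') n,
      ← IsScalarTower.algebraMap_apply, ← IsScalarTower.algebraMap_apply])
  exact finite_glue_rel (B' := B') (B := B) (A' := A') (A := A) hsq φ

end Wrap

end Helper23.MilRel
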