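import Groth.Agent.Lib.Helper23.MilnorFlat

/-!
# The exact sequence `0 → B' → B × A' → A → 0` of a Milnor square over a base ring `R`
-/

universe u
open TensorProduct

namespace Helper23.MS

open Helper23.GF Helper23.MF

theorem flat_prod {R : Type u} [CommRing R] {M N : Type u} [AddCommGroup M] [AddCommGroup N]
    [Module R M] [Module R N] [Module.Flat R M] [Module.Flat R N] : Module.Flat R (M × N) := by
  rw [Module.Flat.iff_lTensor_preserves_injective_linearMap]
  intro X Y _ _ _ _ i hi
  rw [injective_iff_map_eq_zero]
  intro z hz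
  have h1 : (LinearMap.fst R M N).rTensor X z = 0 := by
    apply Module.Flat.lTensor_preserves_injective_linearMap (M := M) i hi
    rw [map_zero, ← LinearMap.comp_apply, LinearMap.lTensor_comp_rTensor,
      ← LinearMap.rTensor_comp_lTensor, LinearMap.comp_apply, hz, map_zero]
  have h2 : (LinearMap.snd R M N).rTensor X z = 0 := by
    apply Module.Flat.lTensor_preserves_injective_linearMap (M := N) i hi
    rw [map_zero, ← LinearMap.comp_apply, LinearMap.lTensor_comp_rTensor,
      ← LinearMap.rTensor_comp_lTensor, LinearMap.comp_apply, hz, map_zero]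
  have h3 : z = (LinearMap.inl R M N).rTensor X ((LinearMap.fst R M N).rTensor X z) +
      (LinearMap.inr R M N).rTensor X ((LinearMap.snd R M N).rTensor X z) := by
    rw [← LinearMap.comp_apply, ← LinearMap.comp_apply, ← LinearMap.rTensor_comp,
      ← LinearMap.rTensor_comp, ← LinearMap.add_apply, ← LinearMap.rTensor_add]
    have : LinearMap.inl R M N ∘ₗ LinearMap.fst R M N + LinearMap.inr R M N ∘ₗ LinearMap.snd R M N =
        LinearMap.id := by
      ext x <;> simp
    rw [this, LinearMap.rTensor_id, LinearMap.id_apply]
  rw [h3, h1, h2, map_zero, map_zero, add_zero]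

variable {R B' B A' A : Type u} [CommRing R] [CommRing B'] [CommRing B] [CommRing A'] [CommRing A]
  [Algebra B' B] [Algebra B' A'] [Algebra B A] [Algebra A' A] [Algebra B' A]
  [IsScalarTower B' B A] [IsScalarTower B' A' A]
  [Algebra R B'] [Algebra R B] [Algebra R A'] [Algebra R A]
  [IsScalarTower R B' B] [IsScalarTower R B' A'] [IsScalarTower R B' A]

variable (R B' B A' A) in
/-- `B' → B × A'` as an `R`-linear map. -/
def iR : B' →ₗ[R] B × A' := (i0 B' B A').restrictScalars R

variable (R B' B A' A) in
/-- `B × A' → A` as an `R`-linear map. -/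
def pR : B × A' →ₗ[R] A := (p0 B' B A' A).restrictScalars R

theorem iR_apply (x : B') : iR R B' B A' x = (algebraMap B' B x, algebraMap B' A' x) := rfl

theorem pR_apply (x : B × A') : pR R B' B A' A x = algebraMap B A x.1 - algebraMap A' A x.2 :=
  p0_apply (B' := B') x

theorem iR_injective (hsq : EtMil.IsFibreSquare B' B A' A) :
    Function.Injective (iR R B' B A') := i0_injective (B' := B') hsq

theorem exact_iR_pR (hsq : EtMil.IsFibreSquare B' B A' A) :
    Function.Exact (iR R B' B A') (pR R B' B A' A) := exact_i0_p0 (B' := B') hsq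

theorem pR_surjective (hsq : EtMil.IsFibreSquare B' B A' A) :
    Function.Surjective (pR R B' B A' A) := p0_surjective (B' := B') hsq

end Helper23.MS
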