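import Groth.Prelude.Def_EtGm
import Groth.Agent.Lib.Helper23.CycUnits
import Groth.Agent.Lib.Helper23.EtGlue2
import Groth.Agent.Lib.Helper23.FinPushGeom
import Mathlib.CategoryTheory.Sites.LocallyBijective
import Mathlib.CategoryTheory.Sites.EpiMono
import Mathlib.Data.ZMod.Basic

/-!
# `μ_n` is constant when a primitive root of unity exists
-/

set_option autoImplicit false
universe u

namespace Groth.Agent.Lib.Helper23.MuConst

open CategoryTheory CategoryTheory.Limits AlgebraicGeometry Opposite Polynomial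
open CycUnits

lemma aeval_ringHom {A B : Type*} [CommRing A] [CommRing B] (φ : A →+* B) (a : A) (p : ℤ[X]) :
    aeval (φ a) p = φ (aeval a p) := by
  rw [aeval_def, aeval_def, Polynomial.hom_eval₂]
  congr 1
  exact Subsingleton.elim _ _

section Alg

variable {n : ℕ} {B : Type*} [CommRing B]

/-- the homomorphism `ℤ → Bˣ`, `m ↦ z ^ m`, vanishing at `n` -/
noncomputable def zsub (z : Bˣ) (hz : z ^ n = 1) : { f : ℤ →+ Additive Bˣ // f n = 0 } :=
  ⟨zmultiplesHom (Additive Bˣ) (Additive.ofMul z), by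
    change (n : ℤ) • (Additive.ofMul z : Additive Bˣ) = 0
    rw [natCast_zsmul (Additive.ofMul z : Additive Bˣ) n, ← ofMul_pow, hz, ofMul_one]⟩

/-- the homomorphism `k ↦ z ^ k` -/
noncomputable def powHom (z : Bˣ) (hz : z ^ n = 1) :
    ULift.{u + 1} (ZMod n) →+ ULift.{u + 1} (Additive Bˣ) :=
  (AddEquiv.ulift.symm.toAddMonoidHom).comp
    ((ZMod.lift n (zsub z hz)).comp AddEquiv.ulift.toAddMonoidHom)

lemma powHom_intCast (z : Bˣ) (hz : z ^ n = 1) (m : ℤ) :
    powHom.{u} z hz ⟨(m : ZMod n)⟩ = ⟨Additive.ofMul (z ^ m)⟩ := by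
  apply ULift.ext
  change ZMod.lift n (zsub z hz) (m : ZMod n) = _
  rw [ZMod.lift_coe]
  change m • (Additive.ofMul z : Additive Bˣ) = _
  rw [← ofMul_zpow]

lemma powHom_natCast (z : Bˣ) (hz : z ^ n = 1) (m : ℕ) :
    powHom.{u} z hz ⟨(m : ZMod n)⟩ = ⟨Additive.ofMul (z ^ m)⟩ := by
  have := powHom_intCast.{u} z hz (m : ℤ)
  rw [Int.cast_natCast, zpow_natCast] at this
  exact this

lemma powHom_val [NeZero n] (z : Bˣ) (hz : z ^ n = 1) (k : ULift.{u + 1} (ZMod n)) :
    powHom.{u} z hz k = ⟨Additive.ofMul (z ^ k.down.val)⟩ := by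
  have := powHom_natCast.{u} z hz k.down.val
  rw [ZMod.natCast_zmod_val] at this
  exact this

end Alg

section Sch

variable {S : Scheme.{u}} {n : ℕ} (hn : 0 < n) (ζ : Γ(S, ⊤))
  (hζ : aeval ζ (cyclotomic n ℤ) = 0)

/-- the pulled back root -/
noncomputable def ζU (U : S.Etale) : Γ(U.left, ⊤) := U.hom.appTop.hom ζ

include hζ in
lemma ζU_root (U : S.Etale) : aeval (ζU ζ U) (cyclotomic n ℤ) = 0 := by
  rw [ζU, aeval_ringHom, hζ, map_zero]

lemma ζU_map {U V : S.Etale} (h : V ⟶ U) : h.left.appTop.hom (ζU ζ U) = ζU ζ V := by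
  have e : h.left ≫ U.hom = V.hom := MorphismProperty.Over.w h
  rw [ζU, ζU, ← e, Scheme.Hom.comp_appTop]
  rfl

/-- the root as a unit -/
noncomputable def zU (U : S.Etale) : (Γ(U.left, ⊤))ˣ :=
  (isUnit_zeta (ζU_root ζ hζ U) hn).unit

lemma zU_val (U : S.Etale) : (zU hn ζ hζ U : Γ(U.left, ⊤)) = ζU ζ U := rfl

lemma zU_pow (U : S.Etale) : zU hn ζ hζ U ^ n = 1 := by
  apply Units.ext
  rw [Units.val_pow_eq_pow_val, zU_val, Units.val_one]
  exact pow_eq_one (ζU_root ζ hζ U) hn

lemma zU_map {U V : S.Etale} (h : V ⟶ U) :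
    Units.map h.left.appTop.hom.toMonoidHom (zU hn ζ hζ U) = zU hn ζ hζ V :=
  Units.ext (ζU_map ζ h)

/-- the presheaf-level map `ℤ/n → G_m`, `k ↦ ζ ^ k` -/
noncomputable def g₀ :
    (Functor.const S.Etaleᵒᵖ).obj (AddCommGrpCat.of (ULift.{u + 1} (ZMod n))) ⟶
      (EtCoh.Gm S).obj where
  app U := (AddCommGrpCat.ofHom
    (powHom.{u} (B := Γ(U.unop.left, ⊤)) (zU hn ζ hζ U.unop) (zU_pow hn ζ hζ U.unop)) :
    AddCommGrpCat.of (ULift.{u + 1} (ZMod n)) ⟶
      AddCommGrpCat.of (ULift.{u + 1} (Additive (Γ(U.unop.left, ⊤))ˣ)))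
  naturality U V h := by
    have : NeZero n := ⟨hn.ne'⟩
    ext k
    change powHom.{u} (zU hn ζ hζ V.unop) (zU_pow hn ζ hζ V.unop) k =
      (EtCoh.Gm S).obj.map h (powHom.{u} (zU hn ζ hζ U.unop) (zU_pow hn ζ hζ U.unop) k)
    rw [powHom_val, powHom_val, ← zU_map hn ζ hζ h.unop, ← map_pow]
    rfl

/-- the sheaf-level map `ℤ/n → G_m` -/
noncomputable def g : EtCoh.const S (ZMod n) ⟶ EtCoh.Gm S :=
  ⟨sheafifyLift S.smallEtaleTopology (g₀ hn ζ hζ) (EtCoh.Gm S).property⟩

lemma toSheafify_g :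
    toSheafify S.smallEtaleTopology
        ((Functor.const S.Etaleᵒᵖ).obj (AddCommGrpCat.of (ULift.{u + 1} (ZMod n)))) ≫
      (g hn ζ hζ).hom = g₀ hn ζ hζ :=
  toSheafify_sheafifyLift _ _ _

lemma powMap_app (U : S.Etaleᵒᵖ) (τ : ToType ((EtCoh.Gm S).obj.obj U)) :
    (EtCoh.powMap S n).hom.app U τ = n • τ := by
  have e1 : (EtCoh.powMap S n).hom = n • (𝟙 (EtCoh.Gm S) : EtCoh.Gm S ⟶ EtCoh.Gm S).hom :=
    (sheafToPresheaf _ _).map_nsmul
  rw [e1, NatTrans.app_nsmul]
  rfl

lemma g₀_pow : g₀ hn ζ hζ ≫ (EtCoh.powMap S n).hom = 0 := by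
  ext U k
  change (EtCoh.powMap S n).hom.app U ((g₀ hn ζ hζ).app U k) = 0
  rw [powMap_app, ← map_nsmul]
  have : n • k = 0 := by
    apply ULift.ext
    change n • k.down = 0
    simp
  rw [this, map_zero]

set_option backward.isDefEq.respectTransparency.types false in
set_option backward.isDefEq.respectTransparency false in
lemma g_pow : g hn ζ hζ ≫ EtCoh.powMap S n = 0 := by
  apply Sheaf.hom_ext
  apply sheafify_hom_ext _ _ _ (EtCoh.Gm S).property
  have h := congrArg (fun t => t ≫ (EtCoh.powMap S n).hom) (toSheafify_g hn ζ hζ)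
  simp only [g₀_pow, Category.assoc] at h
  exact h.trans comp_zero.symm

/-- the comparison map `ℤ/n → μ_n` -/
noncomputable def φ : EtCoh.const S (ZMod n) ⟶ EtCoh.mu S n :=
  kernel.lift (EtCoh.powMap S n) (g hn ζ hζ) (g_pow hn ζ hζ)

lemma φ_ι : φ hn ζ hζ ≫ EtCoh.muι S n = g hn ζ hζ :=
  kernel.lift_ι _ _ _

lemma ι_pow : EtCoh.muι S n ≫ EtCoh.powMap S n = 0 :=
  kernel.condition _

instance : Mono (EtCoh.muι S n) := by
  unfold EtCoh.muι
  exact equalizer.ι_mono

lemma injective_of_mono {F G : EtCoh.Ab S} (a : F ⟶ G) [Mono a] (U : S.Etaleᵒᵖ) :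
    Function.Injective (a.hom.app U) := by
  have h1 : Mono ((sheafToPresheaf _ _).map a) := inferInstance
  have h2 : Mono (((sheafToPresheaf _ _).map a).app U) := inferInstance
  exact (AddCommGrpCat.mono_iff_injective _).1 h2

section Loc

variable (hunit : IsUnit (n : Γ(S, ⊤)))

include hunit in
lemma isUnit_n (U : S.Etale) : IsUnit (n : Γ(U.left, ⊤)) := by
  have := hunit.map U.hom.appTop.hom
  rwa [map_natCast] at this

lemma isEmpty_of_isUnit_zero (T : Scheme.{u}) (h : IsUnit (0 : Γ(T, ⊤))) : IsEmpty T := by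
  have h1 : T.basicOpen (0 : Γ(T, ⊤)) = ⊤ := Scheme.basicOpen_of_isUnit _ h
  rw [Scheme.basicOpen_zero] at h1
  refine ⟨fun x => ?_⟩
  have : x ∈ (⊤ : T.Opens) := trivial
  rw [← h1] at this
  exact this

include hunit in
lemma g₀_locInj : Presheaf.IsLocallyInjective S.smallEtaleTopology (g₀ hn ζ hζ) where
  equalizerSieve_mem {U} x y h := by
    have : NeZero n := ⟨hn.ne'⟩
    by_cases hxy : x = y
    · subst hxy
      rw [Presheaf.equalizerSieve_self_eq_top]
      exact S.smallEtaleTopology.top_mem _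
    · have h1 : powHom.{u} (zU hn ζ hζ U.unop) (zU_pow hn ζ hζ U.unop) x =
          powHom.{u} (zU hn ζ hζ U.unop) (zU_pow hn ζ hζ U.unop) y := h
      rw [powHom_val, powHom_val] at h1
      have h2 : zU hn ζ hζ U.unop ^ x.down.val = zU hn ζ hζ U.unop ^ y.down.val :=
        Additive.ofMul.injective (congrArg ULift.down h1)
      have h3 : ζU ζ U.unop ^ x.down.val = ζU ζ U.unop ^ y.down.val := by
        have := congrArg Units.val h2
        rwa [Units.val_pow_eq_pow_val, Units.val_pow_eq_pow_val] at this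
      have hne : x.down.val ≠ y.down.val := fun e =>
        hxy (ULift.ext _ _ (ZMod.val_injective n e))
      have h4 := isUnit_pow_sub_pow (ζU_root ζ hζ U.unop) (isUnit_n hunit U.unop)
        (ZMod.val_lt x.down) (ZMod.val_lt y.down) hne
      rw [h3, sub_self] at h4
      have := isEmpty_of_isUnit_zero U.unop.left h4
      exact S.smallEtaleTopology.superset_covering bot_le (EtGlue.bot_mem_of_isEmpty U.unop)

include hunit in
set_option backward.isDefEq.respectTransparency.types false in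
set_option backward.isDefEq.respectTransparency false in
lemma φ_locInj : Presheaf.IsLocallyInjective S.smallEtaleTopology (φ hn ζ hζ).hom := by
  have h1 : Presheaf.IsLocallyInjective S.smallEtaleTopology (g₀ hn ζ hζ) :=
    g₀_locInj hn ζ hζ hunit
  have h2 : Presheaf.IsLocallyInjective S.smallEtaleTopology (g hn ζ hζ).hom :=
    Presheaf.isLocallyInjective_of_isLocallyInjective_of_isLocallySurjective_fac
      S.smallEtaleTopology (g₀ hn ζ hζ) (toSheafify_g hn ζ hζ)
  have h3 : (φ hn ζ hζ).hom ≫ (EtCoh.muι S n).hom = (g hn ζ hζ).hom :=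
    congrArg (fun t => t.hom) (φ_ι hn ζ hζ)
  exact Presheaf.isLocallyInjective_of_isLocallyInjective_fac S.smallEtaleTopology h3

include hunit in
set_option backward.isDefEq.respectTransparency.types false in
set_option backward.isDefEq.respectTransparency false in
lemma φ_locSurj : Presheaf.IsLocallySurjective S.smallEtaleTopology (φ hn ζ hζ).hom where
  imageSieve_mem {U} s := by
    have : NeZero n := ⟨hn.ne'⟩
    apply EtGlue.sieve_mem_of_forall_point
    intro p
    let x : ToType ((EtCoh.Gm S).obj.obj (op U)) := (EtCoh.muι S n).hom.app (op U) s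
    let a : (Γ(U.left, ⊤))ˣ := Additive.toMul (ULift.down x)
    have hx : x = ULift.up (Additive.ofMul a) := rfl
    have ha : a ^ n = 1 := by
      have h1 : (EtCoh.powMap S n).hom.app (op U) x = 0 := by
        have := congrArg (fun t => t.hom.app (op U) s) (ι_pow (S := S) (n := n))
        exact this
      rw [powMap_app] at h1
      have h2 : (n • x).down = 0 := congrArg ULift.down h1
      exact congrArg Additive.toMul h2
    let L := U.left.presheaf.stalk p
    let gm : Γ(U.left, ⊤) →+* L := (U.left.presheaf.germ ⊤ p trivial).hom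
    have hζL : aeval (gm (ζU ζ U)) (cyclotomic n ℤ) = 0 := by
      rw [aeval_ringHom, ζU_root ζ hζ U, map_zero]
    have huL : IsUnit (n : L) := by
      have := (isUnit_n hunit U).map gm
      rwa [map_natCast] at this
    have haL : gm (a : Γ(U.left, ⊤)) ^ n = 1 := by
      rw [← map_pow, ← Units.val_pow_eq_pow_val, ha, Units.val_one, map_one]
    obtain ⟨k, hk, hunitk⟩ := exists_isUnit_prod_erase hζL huL hn haL
    let e : Γ(U.left, ⊤) := ∏ l ∈ (Finset.range n).erase k, ((a : Γ(U.left, ⊤)) - ζU ζ U ^ l)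
    have he : IsUnit (gm e) := by
      have : gm e = ∏ l ∈ (Finset.range n).erase k, (gm (a : Γ(U.left, ⊤)) - gm (ζU ζ U) ^ l) := by
        simp only [e, map_prod, map_sub, map_pow]
      rw [this]
      exact hunitk
    let W : U.left.Opens := U.left.basicOpen e
    have hpW : p ∈ W := (U.left.mem_basicOpen_top e p).2 he
    refine ⟨EtGlue.opn U W, EtGlue.opnι U W, ?_, ?_⟩
    · let T := EtGlue.opn U W
      let ι : T ⟶ U := EtGlue.opnι U W
      let r : Γ(U.left, ⊤) →+* Γ(T.left, ⊤) := ι.left.appTop.hom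
      have hre : IsUnit (r e) := by
        apply FinPushGeom.isUnit_of_basicOpen_eq_top
        have h1 := Scheme.preimage_basicOpen_top W.ι e
        have h2 : W.ι ⁻¹ᵁ W = ⊤ := Scheme.Opens.ι_preimage_self W
        exact h1.symm.trans h2
      have hprod : ((a : Γ(U.left, ⊤)) - ζU ζ U ^ k) * e = 0 := by
        have h1 := prod_sub_eq_zero (ζU_root ζ hζ U) hn
          (x := (a : Γ(U.left, ⊤))) (by rw [← Units.val_pow_eq_pow_val, ha, Units.val_one])
        rw [← h1]
        exact Finset.mul_prod_erase (Finset.range n) (fun l => (a : Γ(U.left, ⊤)) - ζU ζ U ^ l)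
          (Finset.mem_range.2 hk)
      have hra : r (a : Γ(U.left, ⊤)) = ζU ζ T ^ k := by
        have h1 := congrArg r hprod
        rw [map_mul, map_zero, map_sub, map_pow] at h1
        have h2 := (hre.mul_left_eq_zero).1 h1
        rw [sub_eq_zero] at h2
        rw [h2]
        exact congrArg (· ^ k) (ζU_map ζ ι)
      refine ⟨(toSheafify S.smallEtaleTopology
        ((Functor.const S.Etaleᵒᵖ).obj (AddCommGrpCat.of (ULift.{u + 1} (ZMod n))))).app
          (op T) ⟨(k : ZMod n)⟩, ?_⟩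
      apply injective_of_mono (EtCoh.muι S n) (op T)
      have e1 : (EtCoh.muι S n).hom.app (op T) ((EtCoh.mu S n).obj.map ι.op s) =
          (EtCoh.Gm S).obj.map ι.op x :=
        NatTrans.naturality_apply (EtCoh.muι S n).hom ι.op s
      have e2 : (EtCoh.Gm S).obj.map ι.op x =
          ULift.up (Additive.ofMul (Units.map r.toMonoidHom a)) := rfl
      have e3 : (EtCoh.muι S n).hom.app (op T) ((φ hn ζ hζ).hom.app (op T)
          ((toSheafify S.smallEtaleTopology
            ((Functor.const S.Etaleᵒᵖ).obj (AddCommGrpCat.of (ULift.{u + 1} (ZMod n))))).app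
              (op T) ⟨(k : ZMod n)⟩)) =
          (g₀ hn ζ hζ).app (op T) ⟨(k : ZMod n)⟩ := by
        have h1 : ∀ y, (EtCoh.muι S n).hom.app (op T) ((φ hn ζ hζ).hom.app (op T) y) =
            (g hn ζ hζ).hom.app (op T) y :=
          fun y => congrArg (fun t => t.hom.app (op T) y) (φ_ι hn ζ hζ)
        have h2 : (g hn ζ hζ).hom.app (op T) ((toSheafify S.smallEtaleTopology
            ((Functor.const S.Etaleᵒᵖ).obj (AddCommGrpCat.of (ULift.{u + 1} (ZMod n))))).app
              (op T) ⟨(k : ZMod n)⟩) = (g₀ hn ζ hζ).app (op T) ⟨(k : ZMod n)⟩ :=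
          congrArg (fun t => t.app (op T) ⟨(k : ZMod n)⟩) (toSheafify_g hn ζ hζ)
        exact (h1 _).trans h2
      have e4 : (g₀ hn ζ hζ).app (op T) ⟨(k : ZMod n)⟩ =
          ULift.up (Additive.ofMul (zU hn ζ hζ T ^ k)) :=
        powHom_natCast.{u} _ _ k
      rw [e1, e2, e3, e4]
      apply congrArg ULift.up
      apply congrArg Additive.ofMul
      apply Units.ext
      rw [Units.val_pow_eq_pow_val, zU_val]
      exact hra.symm
    · exact ⟨⟨p, hpW⟩, rfl⟩

include hunit in
theorem isIso_φ : IsIso (φ hn ζ hζ) :=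
  (Sheaf.isLocallyBijective_iff_isIso (A := AddCommGrpCat.{u + 1}) (φ hn ζ hζ)).1
    ⟨φ_locInj hn ζ hζ hunit, φ_locSurj hn ζ hζ hunit⟩

include hunit hζ in
theorem nonempty_iso (hn : 0 < n) : Nonempty (EtCoh.mu S n ≅ EtCoh.const S (ZMod n)) := by
  have := isIso_φ hn ζ hζ hunit
  exact ⟨(asIso (φ hn ζ hζ)).symm⟩

end Loc

end Sch

end Groth.Agent.Lib.Helper23.MuConst
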