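import Mathlib.RingTheory.Smooth.IntegralClosure
import Mathlib.RingTheory.Etale.Field
import Mathlib.RingTheory.Smooth.Flat
import Mathlib.RingTheory.Spectrum.Prime.Topology

/-!
# Etale algebras over integrally closed domains are locally irreducible
-/

set_option autoImplicit false
universe u

namespace Groth.Agent.Lib.Helper23.NormalIdem

open TensorProduct

/-- abstract core: a ring embedded in a finite product of fields and containing its idempotents
has locally irreducible spectrum -/
theorem exists_irr_nbhd_abstract {S L : Type*} [CommRing S] [CommRing L] (ι : S →+* L)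
    (hι : Function.Injective ι) (hidem : ∀ z : L, IsIdempotentElem z → z ∈ Set.range ι)
    {I : Type*} [Finite I] (F : I → Type*) [∀ i, Field (F i)] (e : L ≃+* (Π i, F i))
    (q : PrimeSpectrum S) :
    ∃ N : Set (PrimeSpectrum S), IsOpen N ∧ q ∈ N ∧ IsPreirreducible N := by
  classical
  haveI := Fintype.ofFinite I
  have hε : ∀ i : I, IsIdempotentElem (e.symm (Pi.single i 1)) := by
    intro i
    change e.symm (Pi.single i 1) * e.symm (Pi.single i 1) = _
    rw [← map_mul, ← Pi.single_mul, mul_one]
  choose c hc using fun i => hidem _ (hε i)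
  have hsum : ∑ i, c i = 1 := by
    apply hι
    rw [map_sum, map_one]
    simp_rw [hc]
    have h1 : (∑ i, Pi.single i (1 : F i)) = (1 : Π i, F i) := Finset.univ_sum_single 1
    rw [← map_sum, h1, map_one]
  obtain ⟨i, hi⟩ : ∃ i, c i ∉ q.asIdeal := by
    by_contra hcon
    push Not at hcon
    have : (1 : S) ∈ q.asIdeal := by
      rw [← hsum]
      exact Ideal.sum_mem _ fun i _ => hcon i
    exact q.isPrime.ne_top ((Ideal.eq_top_iff_one _).2 this)
  let φ : S →+* F i := (Pi.evalRingHom F i).comp (e.toRingHom.comp ι)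
  have hφc : φ (c i) = 1 := by
    change (e (ι (c i))) i = 1
    rw [hc, RingEquiv.apply_symm_apply, Pi.single_eq_same]
  have hker : ∀ s : S, φ s = 0 → s * c i = 0 := by
    intro s hs
    apply hι
    apply e.injective
    rw [map_mul, map_mul, hc, RingEquiv.apply_symm_apply, map_zero, map_zero]
    ext j
    by_cases hj : j = i
    · subst hj
      rw [Pi.mul_apply, Pi.single_eq_same, mul_one]
      exact hs
    · rw [Pi.mul_apply, Pi.single_eq_of_ne hj, mul_zero]
      rfl
  let P : PrimeSpectrum S := ⟨RingHom.ker φ, RingHom.ker_isPrime φ⟩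
  have hPc : c i ∉ P.asIdeal := by
    intro h
    have h0 : φ (c i) = 0 := h
    rw [hφc] at h0
    exact one_ne_zero h0
  refine ⟨PrimeSpectrum.basicOpen (c i), (PrimeSpectrum.basicOpen (c i)).isOpen, hi, ?_⟩
  have hgen : ∀ u : PrimeSpectrum S, u ∈ PrimeSpectrum.basicOpen (c i) → P ⤳ u := by
    intro u hu
    rw [← PrimeSpectrum.le_iff_specializes]
    intro s hs
    have h0 : s * c i = 0 := hker s hs
    have h1 : s * c i ∈ u.asIdeal := by rw [h0]; exact u.asIdeal.zero_mem
    exact (u.isPrime.mem_or_mem h1).resolve_right hu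
  intro O O' hO hO' ⟨u, huN, huO⟩ ⟨u', hu'N, hu'O'⟩
  exact ⟨P, hPc, (hgen u huN).mem_open hO huO, (hgen u' hu'N).mem_open hO' hu'O'⟩

variable (A S : Type u) [CommRing A] [IsDomain A] [IsIntegrallyClosed A] [CommRing S] [Algebra A S]
  [Algebra.Etale A S]

/-- `S` contains the elements of `S ⊗ Frac A` integral over `S` -/
lemma mem_range_of_isIntegral (z : S ⊗[A] FractionRing A) (hz : IsIntegral S z) :
    z ∈ Set.range (algebraMap S (S ⊗[A] FractionRing A)) := by
  have hbij := TensorProduct.toIntegralClosure_bijective_of_smooth (R := A) (S := S)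
    (B := FractionRing A)
  obtain ⟨t, ht⟩ := hbij.2 ⟨z, hz⟩
  have key : ∀ t : S ⊗[A] integralClosure A (FractionRing A),
      ((TensorProduct.toIntegralClosure A S (FractionRing A) t : integralClosure S _) :
        S ⊗[A] FractionRing A) ∈ (algebraMap S (S ⊗[A] FractionRing A)).range := by
    intro t
    induction t with
    | zero => rw [map_zero]; exact Subring.zero_mem _
    | add x y hx hy => rw [map_add]; exact Subring.add_mem _ hx hy
    | tmul s b =>
      obtain ⟨b, hb⟩ := b
      have hb' : b ∈ (⊥ : Subalgebra A (FractionRing A)) := by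
        rw [← (IsIntegrallyClosed.integralClosure_eq_bot_iff (R := A) (FractionRing A)).2
          inferInstance]
        exact hb
      obtain ⟨a, rfl⟩ := Algebra.mem_bot.1 hb'
      refine ⟨a • s, ?_⟩
      change (a • s) ⊗ₜ[A] (1 : FractionRing A) = s ⊗ₜ[A] (algebraMap A (FractionRing A) a)
      rw [TensorProduct.smul_tmul, Algebra.smul_def, mul_one]
  have := key t
  rw [ht] at this
  exact this

include A in
theorem exists_irr_nbhd (q : PrimeSpectrum S) :
    ∃ N : Set (PrimeSpectrum S), IsOpen N ∧ q ∈ N ∧ IsPreirreducible N := by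
  let K := FractionRing A
  haveI : Nontrivial S := q.nontrivial
  obtain ⟨I, hI, Ai, hAi, hAlg, e, -⟩ :=
    (Algebra.Etale.iff_exists_algEquiv_prod (K := K) (A := K ⊗[A] S)).1 inferInstance
  let e' : S ⊗[A] K ≃+* (Π i, Ai i) :=
    (Algebra.TensorProduct.comm A S K).toRingEquiv.trans e.toRingEquiv
  refine exists_irr_nbhd_abstract (algebraMap S (S ⊗[A] K)) ?_ ?_ Ai e' q
  · exact Algebra.TensorProduct.includeLeft_injective (S := S) (IsFractionRing.injective A K)
  · intro z hz
    apply mem_range_of_isIntegral A S z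
    refine ⟨Polynomial.X ^ 2 - Polynomial.X, ?_, ?_⟩
    · apply Polynomial.monic_X_pow_sub
      rw [Polynomial.degree_X]
      norm_num
    · simp only [Polynomial.eval₂_sub, Polynomial.eval₂_pow, Polynomial.eval₂_X]
      rw [pow_two, hz.eq, sub_self]

end Groth.Agent.Lib.Helper23.NormalIdem
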