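import Groth.Agent.Lib.Helper23.NormalIdem
import Mathlib.RingTheory.Localization.AtPrime.Basic
import Mathlib.RingTheory.Etale.Basic

/-!
# Local rings of etale algebras over normal rings are domains
-/

set_option autoImplicit false
universe u

namespace Groth.Agent.Lib.Helper23.NormalIdem2

open TensorProduct

/-- abstract core, exporting the component -/
theorem exists_component {S L : Type*} [CommRing S] [CommRing L] (ι : S →+* L)
    (hι : Function.Injective ι) (hidem : ∀ z : L, IsIdempotentElem z → z ∈ Set.range ι)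
    {I : Type*} [Finite I] (F : I → Type*) [∀ i, Field (F i)] (e : L ≃+* (Π i, F i))
    (q : Ideal S) [hq : q.IsPrime] :
    ∃ (i : I) (c : S) (φ : S →+* F i), c ∉ q ∧ φ c = 1 ∧ ∀ s, φ s = 0 → s * c = 0 := by
  classical
  haveI := Fintype.ofFinite I
  have hε : ∀ i : I, IsIdempotentElem (e.symm (Pi.single i 1)) := by
    intro i
    change e.symm (Pi.single i 1) * e.symm (Pi.single i 1) = _
    rw [← map_mul, ← Pi.single_mul, mul_one]
  choose c hc using fun i => hidem _ (hε i)
  have hsum : ∑ i, c i = 1 := by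
    apply hι
    rw [map_sum, map_one]
    simp_rw [hc]
    have h1 : (∑ i, Pi.single i (1 : F i)) = (1 : Π i, F i) := Finset.univ_sum_single 1
    rw [← map_sum, h1, map_one]
  obtain ⟨i, hi⟩ : ∃ i, c i ∉ q := by
    by_contra hcon
    push Not at hcon
    have : (1 : S) ∈ q := by
      rw [← hsum]
      exact Ideal.sum_mem _ fun i _ => hcon i
    exact hq.ne_top ((Ideal.eq_top_iff_one _).2 this)
  let φ : S →+* F i := (Pi.evalRingHom F i).comp (e.toRingHom.comp ι)
  have hφc : φ (c i) = 1 := by
    change (e (ι (c i))) i = 1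
    rw [hc, RingEquiv.apply_symm_apply, Pi.single_eq_same]
  have hker : ∀ s : S, φ s = 0 → s * c i = 0 := by
    intro s hs
    apply hι
    apply e.injective
    rw [map_mul, map_mul, hc, RingEquiv.apply_symm_apply, map_zero, map_zero]
    ext j
    by_cases hj : j = i
    · subst hj
      rw [Pi.mul_apply, Pi.single_eq_same, mul_one]
      exact hs
    · rw [Pi.mul_apply, Pi.single_eq_of_ne hj, mul_zero]
      rfl
  exact ⟨i, c i, φ, hi, hφc, hker⟩

theorem exists_component_etale (A S : Type u) [CommRing A] [IsDomain A] [IsIntegrallyClosed A]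
    [CommRing S] [Algebra A S] [Algebra.Etale A S] (q : Ideal S) [hq : q.IsPrime] :
    ∃ (F : Type u) (_ : Field F) (c : S) (φ : S →+* F),
      c ∉ q ∧ φ c = 1 ∧ ∀ s, φ s = 0 → s * c = 0 := by
  let K := FractionRing A
  haveI : Nontrivial S := by
    by_contra hn
    rw [not_nontrivial_iff_subsingleton] at hn
    exact hq.ne_top (Ideal.eq_top_iff_one _ |>.2 (by rw [Subsingleton.elim (1 : S) 0]; exact q.zero_mem))
  obtain ⟨I, hI, Ai, hAi, hAlg, e, -⟩ :=
    (Algebra.Etale.iff_exists_algEquiv_prod (K := K) (A := K ⊗[A] S)).1 inferInstance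
  let e' : S ⊗[A] K ≃+* (Π i, Ai i) :=
    (Algebra.TensorProduct.comm A S K).toRingEquiv.trans e.toRingEquiv
  obtain ⟨i, c, φ, h1, h2, h3⟩ := exists_component (algebraMap S (S ⊗[A] K))
    (Algebra.TensorProduct.includeLeft_injective (S := S) (IsFractionRing.injective A K))
    (fun z hz => by
      apply NormalIdem.mem_range_of_isIntegral A S z
      refine ⟨Polynomial.X ^ 2 - Polynomial.X, ?_, ?_⟩
      · apply Polynomial.monic_X_pow_sub
        rw [Polynomial.degree_X]
        norm_num
      · simp only [Polynomial.eval₂_sub, Polynomial.eval₂_pow, Polynomial.eval₂_X]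
        rw [pow_two, hz.eq, sub_self]) Ai e' q
  exact ⟨Ai i, hAi i, c, φ, h1, h2, h3⟩

theorem isDomain_of_etale (A S : Type u) [CommRing A] [CommRing S] [Algebra A S]
    [Algebra.Etale A S] (q : Ideal S) [hq : q.IsPrime] (Ap : Type u) [CommRing Ap] [Algebra A Ap]
    [IsLocalization.AtPrime Ap (q.comap (algebraMap A S))] [IsDomain Ap] [IsIntegrallyClosed Ap]
    (T : Type u) [CommRing T] [Algebra S T] [IsLocalization.AtPrime T q] : IsDomain T := by
  haveI : IsLocalRing T := IsLocalization.AtPrime.isLocalRing T q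
  letI : Algebra A T := ((algebraMap S T).comp (algebraMap A S)).toAlgebra
  haveI : IsScalarTower A S T := IsScalarTower.of_algebraMap_eq (fun _ => rfl)
  have hunit : ∀ y : (q.comap (algebraMap A S)).primeCompl, IsUnit (Algebra.ofId A T y) := by
    intro y
    exact IsLocalization.map_units T (⟨algebraMap A S y, y.2⟩ : q.primeCompl)
  let f₁ : Ap →ₐ[A] T := IsLocalization.liftAlgHom (M := (q.comap (algebraMap A S)).primeCompl)
    (f := Algebra.ofId A T) hunit
  let f₂ : S →ₐ[A] T := IsScalarTower.toAlgHom A S T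
  let ρ : Ap ⊗[A] S →ₐ[A] T := Algebra.TensorProduct.lift f₁ f₂ (fun _ _ => Commute.all _ _)
  have hρ : ∀ s : S, ρ (1 ⊗ₜ s) = algebraMap S T s := by
    intro s
    change ρ ((1 : Ap) ⊗ₜ[A] s) = _
    rw [Algebra.TensorProduct.lift_tmul, map_one, one_mul]
    rfl
  let q' : Ideal (Ap ⊗[A] S) := (IsLocalRing.maximalIdeal T).comap ρ.toRingHom
  haveI : q'.IsPrime := Ideal.comap_isPrime _ _
  obtain ⟨F, hF, c, φ, hc, -, hker⟩ := exists_component_etale Ap (Ap ⊗[A] S) q'
  have hcu : IsUnit (ρ c) := by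
    by_contra hnu
    exact hc ((IsLocalRing.mem_maximalIdeal _).2 hnu)
  have hzero : ∀ s : S, φ (1 ⊗ₜ s) = 0 → algebraMap S T s = 0 := by
    intro s hs
    have h1 := congrArg ρ (hker _ hs)
    rw [map_mul, hρ, map_zero] at h1
    exact (hcu.mul_left_eq_zero).1 h1
  have hzero' : ∀ (s : S) (t : q.primeCompl), φ (1 ⊗ₜ s) = 0 → IsLocalization.mk' T s t = 0 := by
    intro s t hs
    rw [IsLocalization.mk'_eq_zero_iff]
    exact (IsLocalization.map_eq_zero_iff q.primeCompl T s).1 (hzero s hs)
  haveI : NoZeroDivisors T := by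
    refine ⟨?_⟩
    intro a b hab
    obtain ⟨s, t, rfl⟩ := IsLocalization.exists_mk'_eq q.primeCompl a
    obtain ⟨s', t', rfl⟩ := IsLocalization.exists_mk'_eq q.primeCompl b
    rw [← IsLocalization.mk'_mul, IsLocalization.mk'_eq_zero_iff] at hab
    obtain ⟨t'', ht''⟩ := hab
    have h1 : φ (1 ⊗ₜ (t'' : S)) * (φ (1 ⊗ₜ s) * φ (1 ⊗ₜ s')) = 0 := by
      rw [← map_mul, ← map_mul, Algebra.TensorProduct.tmul_mul_tmul,
        Algebra.TensorProduct.tmul_mul_tmul, mul_one, mul_one, ht'', TensorProduct.tmul_zero,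
        map_zero]
    have h2 : φ (1 ⊗ₜ (t'' : S)) ≠ 0 := by
      intro h0
      have h3 := hzero _ h0
      have h4 : IsUnit (algebraMap S T t'') := IsLocalization.map_units T t''
      rw [h3] at h4
      exact not_isUnit_zero h4
    rcases mul_eq_zero.1 ((mul_eq_zero.1 h1).resolve_left h2) with h | h
    · exact Or.inl (hzero' s t h)
    · exact Or.inr (hzero' s' t' h)
  exact NoZeroDivisors.to_isDomain T

end Groth.Agent.Lib.Helper23.NormalIdem2
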