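import Groth.Agent.Lib.Helper23.LCTop
import Groth.Agent.Lib.Helper23.NormalIdem
import Mathlib.RingTheory.LocalProperties.IntegrallyClosed
import Mathlib.AlgebraicGeometry.Morphisms.Etale

/-!
# Schemes etale over a normal integral scheme are locally irreducible
-/

set_option autoImplicit false
universe u

namespace Groth.Agent.Lib.Helper23.NormalLocIrr

open CategoryTheory CategoryTheory.Limits AlgebraicGeometry Opposite

set_option backward.isDefEq.respectTransparency.types false in
set_option backward.isDefEq.respectTransparency false in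
lemma isIntegrallyClosed_of_stalks {X : Scheme.{u}} [IsIntegral X]
    (hN : ∀ x : X, IsIntegrallyClosed (X.presheaf.stalk x)) {U : X.Opens} (hU : IsAffineOpen U)
    [Nonempty U] : IsIntegrallyClosed Γ(X, U) := by
  apply IsIntegrallyClosed.of_localization_maximal
  intro m _ hm
  let y : PrimeSpectrum Γ(X, U) := ⟨m, hm.isPrime⟩
  have hy : hU.fromSpec y ∈ U := by
    have h1 := hU.range_fromSpec
    have h2 : hU.fromSpec y ∈ Set.range hU.fromSpec := ⟨y, rfl⟩
    rw [h1] at h2
    exact h2
  letI := TopCat.Presheaf.algebra_section_stalk X.presheaf ⟨hU.fromSpec y, hy⟩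
  haveI : IsLocalization.AtPrime (X.presheaf.stalk (hU.fromSpec y)) m :=
    hU.isLocalization_stalk' y hy
  haveI := hN (hU.fromSpec y)
  exact IsIntegrallyClosed.of_equiv (IsLocalization.algEquiv m.primeCompl
    (X.presheaf.stalk (hU.fromSpec y)) (Localization.AtPrime m)).toRingEquiv

set_option backward.isDefEq.respectTransparency.types false in
set_option backward.isDefEq.respectTransparency false in
theorem locIrr_of_etale {X W : Scheme.{u}} [IsIntegral X]
    (hN : ∀ x : X, IsIntegrallyClosed (X.presheaf.stalk x)) (p : W ⟶ X) [Etale p] :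
    LCTop.LocIrr W := by
  intro w
  obtain ⟨U, hU, hxU, -⟩ := exists_isAffineOpen_mem_and_subset (x := p w) (U := ⊤) trivial
  obtain ⟨V, hV, hwV, hVU⟩ := exists_isAffineOpen_mem_and_subset (x := w) (U := p ⁻¹ᵁ U) hxU
  have e : V ≤ p ⁻¹ᵁ U := hVU
  have hφ := p.etale_appLE hU hV e
  haveI : Nonempty U := ⟨⟨p w, hxU⟩⟩
  haveI := isIntegrallyClosed_of_stalks hN hU
  algebraize [(p.appLE U V e).hom]
  obtain ⟨N, hNo, hqN, hNirr⟩ :=
    NormalIdem.exists_irr_nbhd Γ(X, U) Γ(W, V) (hV.primeIdealOf ⟨w, hwV⟩)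
  exact ⟨hV.fromSpec '' N, hV.fromSpec.isOpenEmbedding.isOpenMap N hNo,
    ⟨_, hqN, hV.fromSpec_primeIdealOf ⟨w, hwV⟩⟩,
    hNirr.image _ hV.fromSpec.continuous.continuousOn⟩

end Groth.Agent.Lib.Helper23.NormalLocIrr
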