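import Groth.Agent.Lib.Helper23.NormalLocIrr
import Groth.Agent.Lib.Helper23.EtSupp
import Mathlib.AlgebraicGeometry.Morphisms.FlatMono
import Mathlib.AlgebraicGeometry.Morphisms.Separated
import Mathlib.FieldTheory.IsSepClosed

/-!
# Separated etale schemes over a normal integral scheme with separably closed function field
-/

set_option autoImplicit false
universe u

namespace Groth.Agent.Lib.Helper23.NormalSplit

open CategoryTheory CategoryTheory.Limits AlgebraicGeometry Opposite
open LCTop

section Top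

variable {U X : Scheme.{u}} [IrreducibleSpace X] (g : U ⟶ X) [Etale g]
  (η : X) (hη : IsGenericPoint η (⊤ : Set X))

include hη in
/-- every nonempty open of `U` contains a point over the generic point -/
lemma exists_generic_mem (O : Set U) (hO : IsOpen O) (hne : O.Nonempty) : ∃ z ∈ O, g z = η := by
  have h1 : IsOpen (g '' O) := g.isOpenMap O hO
  have h2 : (g '' O).Nonempty := hne.image _
  have h3 : η ∈ g '' O := by
    have := hη.mem_open_set_iff h1
    have h4 : ((⊤ : Set X) ∩ g '' O).Nonempty := by simpa using h2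
    exact this.2 h4
  obtain ⟨z, hz, hzη⟩ := h3
  exact ⟨z, hz, hzη⟩

set_option backward.isDefEq.respectTransparency.types false in
set_option backward.isDefEq.respectTransparency false in
include hη in
/-- the generic fibre of an irreducible open is a subsingleton -/
lemma fiber_subsingleton (N : Set U) (hN : IsOpen N) (hirr : IsPreirreducible N) {n n' : U}
    (hnN : n ∈ N) (hn'N : n' ∈ N) (hnη : g n = η) (hn'η : g n' = η) : n = n' := by
  haveI := PropCInt.locallyQuasiFinite_of_etale g
  have iso : ∀ u : U, ∃ U₁ : Set U, IsOpen U₁ ∧ u ∈ U₁ ∧ ∀ u' ∈ U₁, g u' = g u → u' = u := by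
    intro u
    have hd := (g.isDiscrete_preimage_singleton (g u)).to_subtype
    have ho : IsOpen ({⟨u, rfl⟩} : Set ↥(g ⁻¹' {g u})) := isOpen_discrete _
    obtain ⟨O, hO, hOe⟩ := isOpen_induced_iff.mp ho
    refine ⟨O, hO, ?_, ?_⟩
    · have : (⟨u, rfl⟩ : ↥(g ⁻¹' {g u})) ∈ Subtype.val ⁻¹' O := by rw [hOe]; rfl
      exact this
    · intro u' hu' hgu'
      have : (⟨u', hgu'⟩ : ↥(g ⁻¹' {g u})) ∈ Subtype.val ⁻¹' O := hu'
      rw [hOe] at this
      exact congrArg Subtype.val this
  obtain ⟨O, hO, hnO, hOu⟩ := iso n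
  obtain ⟨O', hO', hn'O', hO'u⟩ := iso n'
  have hne : (N ∩ (O ∩ O')).Nonempty := hirr O O' hO hO' ⟨n, hnN, hnO⟩ ⟨n', hn'N, hn'O'⟩
  obtain ⟨z, hz, hzη⟩ := exists_generic_mem g η hη (N ∩ (O ∩ O')) (hN.inter (hO.inter hO')) hne
  have e1 : z = n := hOu z hz.2.1 (by rw [hzη]; exact hnη.symm)
  have e2 : z = n' := hO'u z hz.2.2 (by rw [hzη]; exact hn'η.symm)
  rw [← e1, ← e2]

/-- the component of a point of the generic fibre -/
def comp (ξ : U) : Set U := {u | ξ ⤳ u}

omit [IrreducibleSpace X] in
lemma comp_preirr (ξ : U) : IsPreirreducible (comp ξ) := by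
  have : comp ξ = closure {ξ} := by
    ext u
    exact specializes_iff_mem_closure
  rw [this]
  exact isPreirreducible_singleton.closure

include hη in
lemma generic_of_irr (N : Set U) (hN : IsOpen N) (hirr : IsPreirreducible N) (ξ : U) (hξN : ξ ∈ N)
    (hξ : g ξ = η) : N ⊆ comp ξ := by
  intro n hn
  change ξ ⤳ n
  rw [specializes_iff_forall_open]
  intro O hO hnO
  obtain ⟨z, hz, hzη⟩ := exists_generic_mem g η hη (N ∩ O) (hN.inter hO) ⟨n, hn, hnO⟩
  have := fiber_subsingleton g η hη N hN hirr hz.1 hξN hzη hξ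
  rw [← this]
  exact hz.2

include hη in
lemma comp_open (hW : LocIrr U) (ξ : U) (hξ : g ξ = η) : IsOpen (comp ξ) := by
  rw [isOpen_iff_forall_mem_open]
  intro u hu
  obtain ⟨N, hN, huN, hirr⟩ := hW u
  have hξN : ξ ∈ N := Specializes.mem_open hu hN huN
  exact ⟨N, generic_of_irr g η hη N hN hirr ξ hξN hξ, hN, huN⟩

include hη in
lemma comp_cover (hW : LocIrr U) (u : U) : ∃ ξ, g ξ = η ∧ u ∈ comp ξ := by
  obtain ⟨N, hN, huN, hirr⟩ := hW u
  obtain ⟨ξ, hξN, hξ⟩ := exists_generic_mem g η hη N hN ⟨u, huN⟩
  exact ⟨ξ, hξ, generic_of_irr g η hη N hN hirr ξ hξN hξ huN⟩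

include hη in
lemma comp_disjoint (hW : LocIrr U) (ξ ξ' : U) (hξ : g ξ = η) (hξ' : g ξ' = η) (u : U)
    (hu : u ∈ comp ξ) (hu' : u ∈ comp ξ') : ξ = ξ' := by
  obtain ⟨N, hN, huN, hirr⟩ := hW u
  exact fiber_subsingleton g η hη N hN hirr (Specializes.mem_open hu hN huN)
    (Specializes.mem_open hu' hN huN) hξ hξ'

end Top

theorem isSepClosed_of_ringEquiv {k k' : Type*} [Field k] [Field k'] (e : k ≃+* k')
    [IsSepClosed k] : IsSepClosed k' := by
  apply IsSepClosed.of_exists_root
  intro p hmp hp hsep
  have hpe : Polynomial.degree (p.map e.symm.toRingHom) ≠ 0 := by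
    rw [Polynomial.degree_map]
    exact ne_of_gt (Polynomial.degree_pos_of_irreducible hp)
  have hsep' : (p.map e.symm.toRingHom).Separable := hsep.map
  rcases IsSepClosed.exists_root (k := k) (p.map e.symm.toRingHom) hpe hsep' with ⟨x, hx⟩
  use e x
  apply e.symm.injective
  rw [map_zero, ← hx, Polynomial.eval_map]
  have h := Polynomial.hom_eval₂ p (RingHom.id k') (e.symm : k' →+* k) (e x)
  simp only [RingHom.comp_id, RingEquiv.coe_toRingHom, RingEquiv.symm_apply_apply] at h
  exact h

lemma isSepClosed_residueField_generic (X : Scheme.{u}) [IsIntegral X]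
    [IsSepClosed X.functionField] (y : X) (hy : y = genericPoint X) :
    IsSepClosed (X.residueField y) := by
  subst hy
  let F := X.functionField
  have hbij : Function.Bijective (IsLocalRing.residue (X.presheaf.stalk (genericPoint X))) :=
    ⟨(IsLocalRing.residue F).injective, IsLocalRing.residue_surjective⟩
  exact isSepClosed_of_ringEquiv (k := F) (RingEquiv.ofBijective _ hbij)


set_option backward.isDefEq.respectTransparency.types false in
set_option backward.isDefEq.respectTransparency false in
theorem mono_of_irreducible {U X : Scheme.{u}} [IsIntegral X]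
    (hN : ∀ x : X, IsIntegrallyClosed (X.presheaf.stalk x)) [IsSepClosed X.functionField]
    (g : U ⟶ X) [Etale g] [IsSeparated g] [PreirreducibleSpace U] : Mono g := by
  rw [← pullback.isIso_diagonal_iff, isIso_iff_isOpenImmersion_and_surjective]
  refine ⟨inferInstance, ⟨fun z => ?_⟩⟩
  let q : pullback g g ⟶ X := pullback.fst g g ≫ g
  have hη := genericPoint_spec X
  obtain ⟨N, hNo, hzN, hirr⟩ := NormalLocIrr.locIrr_of_etale hN q z
  obtain ⟨ζ, hζN, hζ⟩ := exists_generic_mem q (genericPoint X) hη N hNo ⟨z, hzN⟩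
  have h1 : g (pullback.fst g g ζ) = genericPoint X := hζ
  have h2 : g (pullback.snd g g ζ) = genericPoint X := by
    rw [← Scheme.Hom.comp_apply, ← pullback.condition]
    exact hζ
  have h12 : pullback.fst g g ζ = pullback.snd g g ζ :=
    fiber_subsingleton g _ hη Set.univ isOpen_univ PreirreducibleSpace.isPreirreducible_univ
      trivial trivial h1 h2
  have hζΔ : ζ ∈ Set.range (pullback.diagonal g) := by
    apply EtSupp.mem_range_diagonal g ζ h12
    intro x hx
    haveI := isSepClosed_residueField_generic X (g x) (by rw [hx]; exact h1)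
    letI : Algebra (X.residueField (g x)) (U.residueField x) :=
      (g.residueFieldMap x).hom.toAlgebra
    haveI : Algebra.IsSeparable (X.residueField (g x)) (U.residueField x) := inferInstance
    exact IsSepClosed.algebraMap_surjective (X.residueField (g x)) (U.residueField x)
  have hclopen : IsClopen (Set.range (pullback.diagonal g)) :=
    ⟨(pullback.diagonal g).isClosedEmbedding.isClosed_range,
      (pullback.diagonal g).isOpenEmbedding.isOpen_range⟩
  exact hirr.isPreconnected.subset_isClopen hclopen ⟨ζ, hζN, hζΔ⟩ hzN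

end Groth.Agent.Lib.Helper23.NormalSplit
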