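import Groth.Agent.Lib.Helper23.NormalSplit
import Groth.Agent.Lib.Helper23.EtaleLiftQuot

/-!
# Components of a separated etale scheme over a normal integral scheme with separably closed
function field, and etale schemes over closed subschemes of affine such schemes
-/

set_option autoImplicit false
universe u

namespace Groth.Agent.Lib.Helper23.NormalSplit

open CategoryTheory CategoryTheory.Limits AlgebraicGeometry Opposite

set_option backward.isDefEq.respectTransparency.types false in
set_option backward.isDefEq.respectTransparency false in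
theorem exists_components {U X : Scheme.{u}} [IsIntegral X]
    (hN : ∀ x : X, IsIntegrallyClosed (X.presheaf.stalk x)) [IsSepClosed X.functionField]
    (g : U ⟶ X) [Etale g] [IsSeparated g] :
    ∃ (ι : Type u) (Uo : ι → U.Opens), (∀ i, IsOpenImmersion ((Uo i).ι ≫ g)) ∧
      (⨆ i, Uo i = ⊤) ∧ Pairwise (Function.onFun Disjoint Uo) ∧
      ∀ i, (Uo i : Set U).Nonempty := by
  have hη := genericPoint_spec X
  have hW : LCTop.LocIrr U := NormalLocIrr.locIrr_of_etale hN g
  let ι := {ξ : U // g ξ = genericPoint X}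
  let Uo : ι → U.Opens := fun i => ⟨comp i.1, comp_open g _ hη hW i.1 i.2⟩
  refine ⟨ι, Uo, fun i => ?_, ?_, ?_, fun i => ⟨i.1, specializes_rfl⟩⟩
  · haveI : PreirreducibleSpace ↥(Uo i : Scheme.{u}) :=
      Subtype.preirreducibleSpace (comp_preirr i.1)
    haveI := mono_of_irreducible hN ((Uo i).ι ≫ g)
    exact IsOpenImmersion.of_flat_of_mono ((Uo i).ι ≫ g)
  · rw [eq_top_iff]
    intro u _
    obtain ⟨ξ, hξ, hu⟩ := comp_cover g _ hη hW u
    rw [TopologicalSpace.Opens.mem_iSup]
    exact ⟨⟨ξ, hξ⟩, hu⟩
  · intro i j hij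
    change Disjoint (Uo i) (Uo j)
    rw [disjoint_iff, eq_bot_iff]
    rintro u ⟨hu, hu'⟩
    exact hij (Subtype.ext (comp_disjoint g _ hη hW i.1 j.1 i.2 j.2 u hu hu'))

lemma finite_of_disjoint_cover {T : Type*} [TopologicalSpace T] [CompactSpace T] {ι : Type*}
    (O : ι → TopologicalSpace.Opens T) (hcov : ⨆ i, O i = ⊤)
    (hdisj : Pairwise (Function.onFun Disjoint O)) (hne : ∀ i, (O i : Set T).Nonempty) :
    Finite ι := by
  have hc : (Set.univ : Set T) ⊆ ⋃ i, (O i : Set T) := by
    intro x _
    have hx : x ∈ (⨆ i, O i) := by rw [hcov]; trivial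
    rw [TopologicalSpace.Opens.mem_iSup] at hx
    exact Set.mem_iUnion.2 hx
  obtain ⟨t, ht⟩ := isCompact_univ.elim_finite_subcover (fun i => (O i : Set T))
    (fun i => (O i).isOpen) hc
  have hall : ∀ i, i ∈ t := by
    intro i
    obtain ⟨x, hx⟩ := hne i
    have := ht (Set.mem_univ x)
    simp only [Set.mem_iUnion, exists_prop] at this
    obtain ⟨j, hjt, hxj⟩ := this
    by_contra hi
    have hij : i ≠ j := fun h => hi (h ▸ hjt)
    have hd : Disjoint (O i) (O j) := hdisj hij
    rw [disjoint_iff, eq_bot_iff] at hd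
    exact hd ⟨hx, hxj⟩
  exact Finite.of_injective (fun i => (⟨i, hall i⟩ : t)) (fun i j h => congrArg Subtype.val h)

end Groth.Agent.Lib.Helper23.NormalSplit
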