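import Groth.Agent.Lib.Helper23.NormalIdem2
import Groth.Agent.Lib.Helper23.LCExtend
import Mathlib.AlgebraicGeometry.Morphisms.Etale

/-!
# Stalks of schemes etale over a normal scheme are domains
-/

set_option autoImplicit false
universe u

namespace Groth.Agent.Lib.Helper23.NormalStalk

open CategoryTheory CategoryTheory.Limits AlgebraicGeometry Opposite

set_option backward.isDefEq.respectTransparency.types false in
set_option backward.isDefEq.respectTransparency false in
theorem isDomain_stalk_of_etale {X W : Scheme.{u}}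
    (hX : ∀ x : X, IsDomain (X.presheaf.stalk x) ∧ IsIntegrallyClosed (X.presheaf.stalk x))
    (p : W ⟶ X) [Etale p] (w : W) : IsDomain (W.presheaf.stalk w) := by
  obtain ⟨U, hU, hxU, -⟩ := exists_isAffineOpen_mem_and_subset (x := p w) (U := ⊤) trivial
  obtain ⟨V, hV, hwV, hVU⟩ := exists_isAffineOpen_mem_and_subset (x := w) (U := p ⁻¹ᵁ U) hxU
  have e : V ≤ p ⁻¹ᵁ U := hVU
  have hφ := p.etale_appLE hU hV e
  algebraize [(p.appLE U V e).hom]
  let q : Ideal Γ(W, V) := (hV.primeIdealOf ⟨w, hwV⟩).asIdeal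
  haveI : q.IsPrime := (hV.primeIdealOf ⟨w, hwV⟩).isPrime
  have hcomap : q.comap (algebraMap Γ(X, U) Γ(W, V)) = (hU.primeIdealOf ⟨p w, hxU⟩).asIdeal :=
    congrArg PrimeSpectrum.asIdeal (IsAffineOpen.comap_primeIdealOf_appLE U hU V hV e hwV)
  letI : Algebra Γ(X, U) (X.presheaf.stalk (p w)) :=
    TopCat.Presheaf.algebra_section_stalk X.presheaf ⟨p w, hxU⟩
  letI : Algebra Γ(W, V) (W.presheaf.stalk w) :=
    TopCat.Presheaf.algebra_section_stalk W.presheaf ⟨w, hwV⟩
  have i1 : IsLocalization.AtPrime (X.presheaf.stalk (p w)) (hU.primeIdealOf ⟨p w, hxU⟩).asIdeal :=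
    hU.isLocalization_stalk ⟨p w, hxU⟩
  haveI i2 : IsLocalization.AtPrime (X.presheaf.stalk (p w))
      (q.comap (algebraMap Γ(X, U) Γ(W, V))) := by
    convert i1
  haveI i3 : IsLocalization.AtPrime (W.presheaf.stalk w) q := hV.isLocalization_stalk ⟨w, hwV⟩
  haveI := (hX (p w)).1
  haveI := (hX (p w)).2
  exact NormalIdem2.isDomain_of_etale Γ(X, U) Γ(W, V) q (X.presheaf.stalk (p w))
    (W.presheaf.stalk w)

end Groth.Agent.Lib.Helper23.NormalStalk
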