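import Mathlib.RingTheory.Ideal.AssociatedPrime.Finiteness
import Mathlib.RingTheory.Localization.Ideal
import Mathlib.RingTheory.Ideal.Operations
import Mathlib.RingTheory.Ideal.Maps
import Mathlib.RingTheory.Ideal.Colon

/-!
# Localizing at the non-zero-divisors of a module over a Noetherian quotient
-/

set_option autoImplicit false

namespace Groth.Agent.Lib.Helper23.NzdLoc

open Submodule

universe u

variable {S F M : Type u} [CommRing S] [CommRing F] [Algebra S F]
  [AddCommGroup M] [Module S M] [Module F M] [IsScalarTower S F M]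

lemma comap_colon (x : M) :
    ((⊥ : Submodule F M).colon {x}).comap (algebraMap S F) = (⊥ : Submodule S M).colon {x} := by
  ext s
  rw [Ideal.mem_comap, mem_colon_singleton, mem_colon_singleton, mem_bot, mem_bot,
    algebraMap_smul]

lemma comap_mem_ass {P : Ideal F} (hP : P ∈ associatedPrimes F M) :
    P.comap (algebraMap S F) ∈ associatedPrimes S M := by
  obtain ⟨hprime, x, hx⟩ := hP
  refine ⟨Ideal.comap_isPrime _ P, x, ?_⟩
  rw [hx, Ideal.comap_radical, comap_colon]

lemma exists_of_mem_ass (hφ : Function.Surjective (algebraMap S F)) {q : Ideal S}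
    (hq : q ∈ associatedPrimes S M) :
    ∃ P ∈ associatedPrimes F M, P.comap (algebraMap S F) = q := by
  obtain ⟨hprime, x, hx⟩ := hq
  have hq' : q = (((⊥ : Submodule F M).colon {x}).radical).comap (algebraMap S F) := by
    rw [Ideal.comap_radical, comap_colon, hx]
  refine ⟨((⊥ : Submodule F M).colon {x}).radical, ⟨?_, x, rfl⟩, hq'.symm⟩
  have hker : RingHom.ker (algebraMap S F) ≤ q := by
    rw [hq', RingHom.ker_eq_comap_bot]
    exact Ideal.comap_mono bot_le
  have := Ideal.map_isPrime_of_surjective hφ hker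
  rwa [hq', Ideal.map_comap_of_surjective _ hφ] at this

variable [IsNoetherianRing F] [Module.Finite F M]

lemma finite_ass (hφ : Function.Surjective (algebraMap S F)) :
    (associatedPrimes S M).Finite := by
  have hfin : (associatedPrimes F M).Finite := associatedPrimes.finite F M
  refine (hfin.image (Ideal.comap (algebraMap S F))).subset ?_
  intro q hq
  obtain ⟨P, hP, rfl⟩ := exists_of_mem_ass hφ hq
  exact ⟨P, hP, rfl⟩

omit [Module.Finite F M] in
lemma not_mem_nzd_iff (hφ : Function.Surjective (algebraMap S F)) (s : S) :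
    s ∉ nonZeroSMulDivisors S M ↔ ∃ q ∈ associatedPrimes S M, s ∈ q := by
  rw [mem_nonZeroSMulDivisors_iff]
  push_neg
  constructor
  · rintro ⟨z, hz, hz0⟩
    have hmem : algebraMap S F s ∈ {r : F | ∃ x : M, x ≠ 0 ∧ r • x = 0} :=
      ⟨z, hz0, by rw [algebraMap_smul]; exact hz⟩
    rw [← biUnion_associatedPrimes_eq_zero_divisors] at hmem
    obtain ⟨P, hP, hsP⟩ := Set.mem_iUnion₂.mp hmem
    exact ⟨P.comap (algebraMap S F), comap_mem_ass hP, hsP⟩
  · rintro ⟨q, hq, hsq⟩
    obtain ⟨P, hP, rfl⟩ := exists_of_mem_ass hφ hq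
    have hmem : algebraMap S F s ∈ ⋃ p ∈ associatedPrimes F M, (p : Set F) :=
      Set.mem_iUnion₂.mpr ⟨P, hP, hsq⟩
    rw [biUnion_associatedPrimes_eq_zero_divisors] at hmem
    obtain ⟨z, hz0, hz⟩ := hmem
    exact ⟨z, by rw [← algebraMap_smul F s z]; exact hz, hz0⟩

theorem disjoint_iff (hφ : Function.Surjective (algebraMap S F)) (q : Ideal S) [q.IsPrime] :
    Disjoint (q : Set S) (nonZeroSMulDivisors S M) ↔ ∃ q' ∈ associatedPrimes S M, q ≤ q' := by
  classical
  have hfin := finite_ass (M := M) hφ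
  rw [Set.disjoint_left]
  constructor
  · intro h
    have hsub : (q : Set S) ⊆ ⋃ i ∈ (hfin.toFinset : Set (Ideal S)), ((id i : Ideal S) : Set S) := by
      intro s hs
      obtain ⟨q', hq', hsq'⟩ := (not_mem_nzd_iff hφ s).mp (h hs)
      exact Set.mem_iUnion₂.mpr ⟨q', by simpa using hq', hsq'⟩
    obtain ⟨q', hq', hle⟩ := (Ideal.subset_union_prime (f := id) ⊤ ⊤
      (fun i hi _ _ => (hfin.mem_toFinset.mp hi).isPrime)).mp hsub
    exact ⟨q', hfin.mem_toFinset.mp hq', hle⟩
  · rintro ⟨q', hq', hle⟩ s hs hsN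
    exact (not_mem_nzd_iff hφ s).mpr ⟨q', hq', hle hs⟩ hsN

section loc

variable (L : Type u) [CommRing L] [Algebra S L] [IsLocalization (nonZeroSMulDivisors S M) L]

lemma disjoint_of_mem_ass (hφ : Function.Surjective (algebraMap S F)) {q' : Ideal S}
    (hq' : q' ∈ associatedPrimes S M) :
    Disjoint ((nonZeroSMulDivisors S M : Submonoid S) : Set S) (q' : Set S) := by
  have := hq'.isPrime
  exact ((disjoint_iff hφ q').mpr ⟨q', hq', le_rfl⟩).symm

theorem comap_maximal (hφ : Function.Surjective (algebraMap S F)) (Q : Ideal L)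
    (hQ : Q.IsMaximal) :
    Maximal (fun r => r ∈ associatedPrimes S M) (Q.comap (algebraMap S L)) := by
  have hQp : Q.IsPrime := hQ.isPrime
  obtain ⟨hqp, hqd⟩ := (IsLocalization.isPrime_iff_isPrime_disjoint
    (nonZeroSMulDivisors S M) L Q).mp hQp
  have key : ∀ y ∈ associatedPrimes S M, Q.comap (algebraMap S L) ≤ y →
      y = Q.comap (algebraMap S L) := by
    intro y hy hle
    have hyp := hy.isPrime
    have hyd := disjoint_of_mem_ass (M := M) hφ hy
    have hY := IsLocalization.isPrime_of_isPrime_disjoint (nonZeroSMulDivisors S M) L y hyp hyd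
    have h1 : Q ≤ y.map (algebraMap S L) := by
      rw [← IsLocalization.map_under (nonZeroSMulDivisors S M) L Q]
      exact Ideal.map_mono hle
    have h2 : Q = y.map (algebraMap S L) := hQ.eq_of_le hY.ne_top h1
    rw [h2]
    exact (IsLocalization.under_map_of_isPrime_disjoint (nonZeroSMulDivisors S M) L hyp hyd).symm
  obtain ⟨q', hq', hle⟩ := (disjoint_iff (M := M) hφ (Q.comap (algebraMap S L))).mp hqd.symm
  have hq := key q' hq' hle
  refine ⟨hq ▸ hq', ?_⟩
  intro y hy hle'
  exact (key y hy hle').le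

theorem isMaximal_iff (hφ : Function.Surjective (algebraMap S F)) (Q : Ideal L) :
    Q.IsMaximal ↔ (Q.IsPrime ∧
      Maximal (fun r => r ∈ associatedPrimes S M) (Q.comap (algebraMap S L))) := by
  constructor
  · intro hQ
    exact ⟨hQ.isPrime, comap_maximal L hφ Q hQ⟩
  · rintro ⟨hQp, hmax⟩
    obtain ⟨Q₁, hQ₁, hle⟩ := Ideal.exists_le_maximal Q hQp.ne_top
    have h1 := comap_maximal (M := M) L hφ Q₁ hQ₁
    have h2 : Q₁.comap (algebraMap S L) ≤ Q.comap (algebraMap S L) :=
      hmax.2 h1.1 (Ideal.comap_mono hle)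
    have h3 : Q₁ ≤ Q := by
      rw [← IsLocalization.map_under (nonZeroSMulDivisors S M) L Q₁,
        ← IsLocalization.map_under (nonZeroSMulDivisors S M) L Q]
      exact Ideal.map_mono h2
    rwa [le_antisymm hle h3]

include M in
theorem finite_maximal (hφ : Function.Surjective (algebraMap S F)) :
    {Q : Ideal L | Q.IsMaximal}.Finite := by
  have hfin := finite_ass (M := M) hφ
  refine (hfin.image (Ideal.map (algebraMap S L))).subset ?_
  intro Q hQ
  exact ⟨Q.comap (algebraMap S L), (comap_maximal (M := M) L hφ Q hQ).1,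
    IsLocalization.map_under (nonZeroSMulDivisors S M) L Q⟩

end loc

end Groth.Agent.Lib.Helper23.NzdLoc
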