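import Mathlib

/-!
# Tensor powers commute with filtered colimits (elementwise form)

`M i` a directed system of `A`-modules with "colimit" `N` (expressed elementwise);
then for a finite index type `K`, `⨂[A] _ : K, M i` has "colimit" `⨂[A] _ : K, N`.
-/

namespace Groth.Agent.Lib.Helper23.PiTensorColim

open PiTensorProduct
open scoped TensorProduct

section Basic
variable {A : Type*} [CommRing A] {K : Type*}

/-- free additive monoid presenting the tensor power -/
abbrev FM (A : Type*) (K : Type*) (X : Type*) := FreeAddMonoid (A × (K → X))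

/-- the quotient map onto the tensor power -/
noncomputable def toT (X : Type*) [AddCommGroup X] [Module A X] :
    FM A K X →+ ⨂[A] _ : K, X :=
  FreeAddMonoid.lift (fun p => PiTensorProduct.tprodCoeff A p.1 p.2)

/-- functoriality of the presentation -/
def mapF {X Y : Type*} (g : X → Y) : FM A K X →+ FM A K Y :=
  FreeAddMonoid.map (Prod.map id (g ∘ ·))

variable {X Y Z : Type*} [AddCommGroup X] [Module A X] [AddCommGroup Y] [Module A Y]
  [AddCommGroup Z] [Module A Z]

@[simp] theorem toT_of (r : A) (f : K → X) :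
    toT (A := A) X (FreeAddMonoid.of (r, f)) = PiTensorProduct.tprodCoeff A r f := rfl

@[simp] theorem mapF_of (g : X → Y) (r : A) (f : K → X) :
    mapF (A := A) g (FreeAddMonoid.of (r, f)) = FreeAddMonoid.of (r, g ∘ f) := rfl

theorem toT_eq_mk (x : FM A K X) :
    toT X x = ((addConGen (PiTensorProduct.Eqv A fun _ : K => X)).mk' x :
      (addConGen (PiTensorProduct.Eqv A fun _ : K => X)).Quotient) := by
  induction x using FreeAddMonoid.recOn with
  | zero => rfl
  | of_add x xs ih =>
    rw [map_add, ih]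
    rfl

theorem toT_eq_iff (x y : FM A K X) :
    toT X x = toT X y ↔ AddConGen.Rel (PiTensorProduct.Eqv A fun _ : K => X) x y := by
  rw [toT_eq_mk, toT_eq_mk]
  exact (AddCon.eq _)

theorem toT_surjective : Function.Surjective (toT (A := A) (K := K) X) := by
  intro z
  obtain ⟨x, rfl⟩ := AddCon.mk'_surjective (c := addConGen (PiTensorProduct.Eqv A fun _ : K => X)) z
  exact ⟨x, toT_eq_mk x⟩

theorem map_toT (g : X →ₗ[A] Y) (x : FM A K X) :
    PiTensorProduct.map (fun _ : K => g) (toT X x) = toT Y (mapF g x) := by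
  induction x using FreeAddMonoid.recOn with
  | zero => simp
  | of_add x xs ih =>
    rw [map_add, map_add, map_add, map_add, ih]
    congr 1
    obtain ⟨r, f⟩ := x
    rw [toT_of, mapF_of, toT_of, PiTensorProduct.tprodCoeff_eq_smul_tprod, map_smul,
      PiTensorProduct.map_tprod, PiTensorProduct.tprodCoeff_eq_smul_tprod]
    rfl

theorem mapF_comp (g : X → Y) (h : Y → Z) (x : FM A K X) :
    mapF (A := A) h (mapF g x) = mapF (h ∘ g) x := by
  induction x using FreeAddMonoid.recOn with
  | zero => simp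
  | of_add x xs ih =>
    rw [map_add, map_add, map_add, ih]
    rfl

end Basic


section Directed
variable {A : Type*} [CommRing A] {ι : Type*} [Preorder ι] [IsDirected ι (· ≤ ·)] [Nonempty ι]
  {M : ι → Type*} [∀ i, AddCommGroup (M i)] [∀ i, Module A (M i)]
  {N : Type*} [AddCommGroup N] [Module A N]
  (t : ∀ i j : ι, i ≤ j → M i →ₗ[A] M j) (φ : ∀ i, M i →ₗ[A] N)

/-- elementwise "N is the colimit of the M i" -/
structure IsColim : Prop where
  comp : ∀ i j h, (φ j).comp (t i j h) = φ i
  surj : ∀ b : N, ∃ i x, φ i x = b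
  zero : ∀ i x, φ i x = 0 → ∃ j h, t i j h x = 0
  trans : ∀ i j k hij hjk, (t j k hjk).comp (t i j hij) = t i k (le_trans hij hjk)

variable {t φ} (H : IsColim t φ)
include H

theorem IsColim.comp_apply {i j : ι} (h : i ≤ j) (x : M i) : φ j (t i j h x) = φ i x :=
  LinearMap.congr_fun (H.comp i j h) x

theorem IsColim.trans_apply {i j k : ι} (hij : i ≤ j) (hjk : j ≤ k) (x : M i) :
    t j k hjk (t i j hij x) = t i k (le_trans hij hjk) x :=
  LinearMap.congr_fun (H.trans i j k hij hjk) x

theorem exists_stage_zero {β : Type*} [Finite β] (i : ι) (z : β → M i)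
    (hz : ∀ b, φ i (z b) = 0) : ∃ (j : ι) (h : i ≤ j), ∀ b, t i j h (z b) = 0 := by
  choose j hj hz' using fun b => H.zero i (z b) (hz b)
  obtain ⟨m, hm⟩ := Finite.exists_le j
  obtain ⟨m', him', hmm'⟩ := exists_ge_ge i m
  refine ⟨m', him', fun b => ?_⟩
  rw [← H.trans_apply (hj b) ((hm b).trans hmm'), hz', map_zero]

theorem exists_stage_eq {β : Type*} [Finite β] (i : ι) (z w : β → M i)
    (hz : ∀ b, φ i (z b) = φ i (w b)) :
    ∃ (j : ι) (h : i ≤ j), ∀ b, t i j h (z b) = t i j h (w b) := by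
  obtain ⟨j, h, hj⟩ := exists_stage_zero H i (fun b => z b - w b)
    (fun b => by rw [map_sub, hz, sub_self])
  exact ⟨j, h, fun b => sub_eq_zero.mp (by rw [← map_sub]; exact hj b)⟩

theorem exists_lift_family {β : Type*} [Finite β] (b : β → N) :
    ∃ (i : ι) (z : β → M i), ∀ k, φ i (z k) = b k := by
  choose j x hx using fun k => H.surj (b k)
  obtain ⟨m, hm⟩ := Finite.exists_le j
  exact ⟨m, fun k => t (j k) m (hm k) (x k), fun k => by rw [H.comp_apply, hx]⟩

variable {K : Type*}

theorem mapF_t_t {i j k : ι} (hij : i ≤ j) (hjk : j ≤ k) (x : FM A K (M i)) :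
    mapF (t j k hjk) (mapF (t i j hij) x) = mapF (t i k (le_trans hij hjk)) x := by
  rw [mapF_comp]
  congr 2
  funext y
  exact H.trans_apply hij hjk y

theorem mapF_φ_t {i j : ι} (hij : i ≤ j) (x : FM A K (M i)) :
    mapF (φ j) (mapF (t i j hij) x) = mapF (φ i) x := by
  rw [mapF_comp]
  congr 2
  funext y
  exact H.comp_apply hij y

variable [Finite K]

theorem exists_lift_FM (z' : FM A K N) :
    ∃ (i : ι) (z : FM A K (M i)), mapF (φ i) z = z' := by
  induction z' using FreeAddMonoid.recOn with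
  | zero => exact ⟨Classical.arbitrary ι, 0, map_zero _⟩
  | of_add p xs ih =>
    obtain ⟨i1, z1, hz1⟩ := ih
    obtain ⟨r, f⟩ := p
    obtain ⟨i2, g, hg⟩ := exists_lift_family H f
    obtain ⟨j, h1, h2⟩ := exists_ge_ge i1 i2
    refine ⟨j, FreeAddMonoid.of (r, t i2 j h2 ∘ g) + mapF (t i1 j h1) z1, ?_⟩
    rw [map_add, mapF_φ_t H, hz1, mapF_of]
    congr 3
    funext k
    simp only [Function.comp_apply, H.comp_apply, hg]

theorem exists_lift_FM₂ (x' y' : FM A K N) :
    ∃ (i : ι) (x y : FM A K (M i)), mapF (φ i) x = x' ∧ mapF (φ i) y = y' := by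
  obtain ⟨i1, x, hx⟩ := exists_lift_FM H x'
  obtain ⟨i2, y, hy⟩ := exists_lift_FM H y'
  obtain ⟨j, h1, h2⟩ := exists_ge_ge i1 i2
  exact ⟨j, mapF (t i1 j h1) x, mapF (t i2 j h2) y, by rw [mapF_φ_t H, hx], by rw [mapF_φ_t H, hy]⟩

theorem exists_stage_list_eq (i : ι) (l1 l2 : List (A × (K → M i)))
    (h : l1.map (Prod.map id (φ i ∘ ·)) = l2.map (Prod.map id (φ i ∘ ·))) :
    ∃ (j : ι) (hij : i ≤ j), l1.map (Prod.map id (t i j hij ∘ ·)) =
      l2.map (Prod.map id (t i j hij ∘ ·)) := by
  induction l1 generalizing l2 with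
  | nil =>
    cases l2 with
    | nil => exact ⟨i, le_rfl, rfl⟩
    | cons b l2 => simp at h
  | cons a l1 ih =>
    cases l2 with
    | nil => simp at h
    | cons b l2 =>
      simp only [List.map_cons, List.cons.injEq] at h
      obtain ⟨hab, hl⟩ := h
      obtain ⟨j1, h1, e1⟩ := ih l2 hl
      obtain ⟨r1, g1⟩ := a
      obtain ⟨r2, g2⟩ := b
      simp only [Prod.map_apply, id_eq, Prod.mk.injEq] at hab
      obtain ⟨hr, hg⟩ := hab
      obtain ⟨j2, h2, e2⟩ := exists_stage_eq H i g1 g2 (fun k => congrFun hg k)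
      obtain ⟨j, hj1, hj2⟩ := exists_ge_ge j1 j2
      refine ⟨j, h1.trans hj1, ?_⟩
      simp only [List.map_cons, List.cons.injEq, Prod.map_apply, id_eq, Prod.mk.injEq]
      refine ⟨⟨hr, ?_⟩, ?_⟩
      · funext k
        simp only [Function.comp_apply]
        rw [← H.trans_apply h2 hj2, ← H.trans_apply h2 hj2, e2]
      · have := congrArg (List.map (Prod.map id (t j1 j hj1 ∘ ·))) e1
        simp only [List.map_map] at this
        convert this using 2 <;>
        · funext p
          obtain ⟨r, g⟩ := p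
          simp only [Function.comp_apply, Prod.map_apply, id_eq, Prod.mk.injEq, true_and]
          funext k
          simp only [Function.comp_apply, H.trans_apply]

theorem exists_stage_FM_eq (i : ι) (x y : FM A K (M i))
    (h : mapF (φ i) x = mapF (φ i) y) :
    ∃ (j : ι) (hij : i ≤ j), mapF (t i j hij) x = mapF (t i j hij) y :=
  exists_stage_list_eq H i (FreeAddMonoid.toList x) (FreeAddMonoid.toList y) h


theorem toT_mapF_eq {i j : ι} (hij : i ≤ j) {x y : FM A K (M i)} (h : toT (M i) x = toT (M i) y) :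
    toT (M j) (mapF (t i j hij) x) = toT (M j) (mapF (t i j hij) y) := by
  rw [← map_toT, ← map_toT, h]

theorem rel_lift {x' y' : FM A K N}
    (h : AddConGen.Rel (PiTensorProduct.Eqv A fun _ : K => N) x' y') :
    ∃ (i : ι) (x y : FM A K (M i)), mapF (φ i) x = x' ∧ mapF (φ i) y = y' ∧
      toT (M i) x = toT (M i) y := by
  induction h with
  | of x' y' hxy =>
    cases hxy with
    | of_zero r f k hf =>
      obtain ⟨i, g, hg⟩ := exists_lift_family H f
      classical
      refine ⟨i, FreeAddMonoid.of (r, Function.update g k 0), 0, ?_, map_zero _, ?_⟩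
      · rw [mapF_of]
        congr 2
        funext l
        by_cases hl : l = k
        · subst hl; simp [hf]
        · simp [Function.update_of_ne hl, hg]
      · rw [toT_of, map_zero]
        exact PiTensorProduct.zero_tprodCoeff' r _ k (by simp)
    | of_zero_scalar f =>
      obtain ⟨i, g, hg⟩ := exists_lift_family H f
      refine ⟨i, FreeAddMonoid.of (0, g), 0, ?_, map_zero _, ?_⟩
      · rw [mapF_of]
        congr 2
        funext l
        simp [hg]
      · rw [toT_of, map_zero]
        exact PiTensorProduct.zero_tprodCoeff _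
    | of_add inst r f k m₁ m₂ =>
      obtain ⟨i, g, hg⟩ := exists_lift_family H (β := K ⊕ Bool)
        (fun s => Sum.elim f (fun b => if b then m₁ else m₂) s)
      refine ⟨i, FreeAddMonoid.of (r, Function.update (g ∘ Sum.inl) k (g (Sum.inr true))) +
        FreeAddMonoid.of (r, Function.update (g ∘ Sum.inl) k (g (Sum.inr false))),
        FreeAddMonoid.of (r, Function.update (g ∘ Sum.inl) k
          (g (Sum.inr true) + g (Sum.inr false))), ?_, ?_, ?_⟩
      · rw [map_add, mapF_of, mapF_of, Function.comp_update, Function.comp_update]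
        have h1 : (φ i) ∘ g ∘ Sum.inl = f := by
          funext l; simpa using hg (Sum.inl l)
        have h2 : φ i (g (Sum.inr true)) = m₁ := by simpa using hg (Sum.inr true)
        have h3 : φ i (g (Sum.inr false)) = m₂ := by simpa using hg (Sum.inr false)
        rw [h1, h2, h3]
      · rw [mapF_of, Function.comp_update]
        have h1 : (φ i) ∘ g ∘ Sum.inl = f := by
          funext l; simpa using hg (Sum.inl l)
        have h2 : φ i (g (Sum.inr true)) = m₁ := by simpa using hg (Sum.inr true)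
        have h3 : φ i (g (Sum.inr false)) = m₂ := by simpa using hg (Sum.inr false)
        rw [h1, map_add, h2, h3]
      · rw [map_add, toT_of, toT_of, toT_of]
        exact PiTensorProduct.add_tprodCoeff _ _ _ _ _
    | of_add_scalar r r' f =>
      obtain ⟨i, g, hg⟩ := exists_lift_family H f
      have h1 : (φ i) ∘ g = f := funext hg
      refine ⟨i, FreeAddMonoid.of (r, g) + FreeAddMonoid.of (r', g), FreeAddMonoid.of (r + r', g),
        ?_, ?_, ?_⟩
      · rw [map_add, mapF_of, mapF_of, h1]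
      · rw [mapF_of, h1]
      · rw [map_add, toT_of, toT_of, toT_of]
        exact PiTensorProduct.add_tprodCoeff' _ _ _
    | of_smul inst r f k r' =>
      obtain ⟨i, g, hg⟩ := exists_lift_family H f
      have h1 : (φ i) ∘ g = f := funext hg
      refine ⟨i, FreeAddMonoid.of (r, Function.update g k (r' • g k)),
        FreeAddMonoid.of (r' * r, g), ?_, ?_, ?_⟩
      · rw [mapF_of, Function.comp_update, h1, map_smul, hg]
      · rw [mapF_of, h1]
      · rw [toT_of, toT_of]
        exact PiTensorProduct.smul_tprodCoeff_aux _ _ _ _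
    | add_comm x' y' =>
      obtain ⟨i, x, y, hx, hy⟩ := exists_lift_FM₂ H x' y'
      refine ⟨i, x + y, y + x, by rw [map_add, hx, hy], by rw [map_add, hx, hy], ?_⟩
      rw [map_add, map_add, add_comm]
  | refl x' =>
    obtain ⟨i, x, hx⟩ := exists_lift_FM H x'
    exact ⟨i, x, x, hx, hx, rfl⟩
  | symm _ ih =>
    obtain ⟨i, x, y, hx, hy, e⟩ := ih
    exact ⟨i, y, x, hy, hx, e.symm⟩
  | trans _ _ ih1 ih2 =>
    obtain ⟨i1, x, z1, hx, hz1, e1⟩ := ih1
    obtain ⟨i2, z2, y, hz2, hy, e2⟩ := ih2
    obtain ⟨j, h1, h2⟩ := exists_ge_ge i1 i2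
    obtain ⟨j', hj', e⟩ := exists_stage_FM_eq H j (mapF (t i1 j h1) z1) (mapF (t i2 j h2) z2)
      (by rw [mapF_φ_t H, mapF_φ_t H, hz1, hz2])
    rw [mapF_t_t H, mapF_t_t H] at e
    refine ⟨j', mapF (t i1 j' (h1.trans hj')) x, mapF (t i2 j' (h2.trans hj')) y,
      by rw [mapF_φ_t H, hx], by rw [mapF_φ_t H, hy], ?_⟩
    rw [toT_mapF_eq H _ e1, e, toT_mapF_eq H _ e2]
  | add _ _ ih1 ih2 =>
    obtain ⟨i1, w, x, hw, hx, e1⟩ := ih1
    obtain ⟨i2, y, z, hy, hz, e2⟩ := ih2
    obtain ⟨j, h1, h2⟩ := exists_ge_ge i1 i2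
    refine ⟨j, mapF (t i1 j h1) w + mapF (t i2 j h2) y, mapF (t i1 j h1) x + mapF (t i2 j h2) z,
      by rw [map_add, mapF_φ_t H, mapF_φ_t H, hw, hy],
      by rw [map_add, mapF_φ_t H, mapF_φ_t H, hx, hz], ?_⟩
    rw [map_add, map_add, toT_mapF_eq H _ e1, toT_mapF_eq H _ e2]

/-- injectivity: an element of the tensor power of `M i` dying in the tensor power of `N`
dies at a finite stage -/
theorem map_eq_zero (i : ι) (y : ⨂[A] _ : K, M i)
    (h : PiTensorProduct.map (fun _ : K => φ i) y = 0) :
    ∃ (j : ι) (hij : i ≤ j), PiTensorProduct.map (fun _ : K => t i j hij) y = 0 := by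
  obtain ⟨y0, rfl⟩ := toT_surjective y
  rw [map_toT] at h
  have h' : toT N (mapF (φ i) y0) = toT N 0 := by rw [h, map_zero]
  rw [toT_eq_iff] at h'
  obtain ⟨i1, x, z, hx, hz, e⟩ := rel_lift H h'
  have hz0 : z = 0 := by
    have : (FreeAddMonoid.toList z).map (Prod.map id (φ i1 ∘ ·)) = [] := hz
    rw [List.map_eq_nil_iff] at this
    exact this
  subst hz0
  rw [map_zero] at e
  obtain ⟨j, h1, h2⟩ := exists_ge_ge i i1
  obtain ⟨j', hj', e'⟩ := exists_stage_FM_eq H j (mapF (t i j h1) y0) (mapF (t i1 j h2) x)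
    (by rw [mapF_φ_t H, mapF_φ_t H, hx])
  rw [mapF_t_t H, mapF_t_t H] at e'
  refine ⟨j', h1.trans hj', ?_⟩
  rw [map_toT, e', ← map_toT, e, map_zero]

/-- surjectivity: every element of the tensor power of `N` comes from a finite stage -/
theorem exists_map_eq (z : ⨂[A] _ : K, N) :
    ∃ (i : ι) (y : ⨂[A] _ : K, M i), PiTensorProduct.map (fun _ : K => φ i) y = z := by
  obtain ⟨z0, rfl⟩ := toT_surjective z
  obtain ⟨i, y0, hy0⟩ := exists_lift_FM H z0
  exact ⟨i, toT (M i) y0, by rw [map_toT, hy0]⟩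

end Directed

end Groth.Agent.Lib.Helper23.PiTensorColim
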