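import Groth.Agent.Lib.Helper23.DimZeroGamma
import Mathlib.Algebra.Homology.ShortComplex.ExactFunctor
import Mathlib.CategoryTheory.Abelian.RightDerived

/-!
# Direct images from the spectrum of a separably closed field are exact
-/

set_option autoImplicit false
universe u

namespace Groth.Agent.Lib.Helper23.PointExact

open CategoryTheory CategoryTheory.Limits AlgebraicGeometry Opposite GrothendieckTopology
open EtGlue EtSupp

section General

universe v₁ v₂ u₁ u₂

variable {A : Type u₁} [Category.{v₁} A] [Abelian A] {B : Type u₂} [Category.{v₂} B] [Abelian B]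

lemma preservesFiniteColimits_of_epi (E : A ⥤ B) [E.Additive] [PreservesFiniteLimits E]
    (h : ∀ {X Y : A} (f : X ⟶ Y), Epi f → Epi (E.map f)) : PreservesFiniteColimits E := by
  rw [Functor.preservesFiniteColimits_iff_forall_exact_map_and_epi]
  intro S hS
  exact ⟨((Functor.preservesFiniteLimits_iff_forall_exact_map_and_mono E).1 inferInstance S hS).1,
    h S.g hS.epi_g⟩

lemma isZero_rightDerived_of_exact [HasInjectiveResolutions A] (E : A ⥤ B) [E.Additive]
    [PreservesFiniteLimits E] [PreservesFiniteColimits E] (X : A) (n : ℕ) :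
    IsZero ((E.rightDerived (n + 1)).obj X) := by
  refine IsZero.of_iso ?_ ((injectiveResolution X).isoRightDerivedObj E (n + 1))
  have h := (injectiveResolution X).cocomplex_exactAt_succ n
  have h' : ((E.mapHomologicalComplex _).obj (injectiveResolution X).cocomplex).ExactAt (n + 1) :=
    ShortComplex.Exact.map (F := E) h
  exact (HomologicalComplex.exactAt_iff_isZero_homology _ _).1 h'

end General

variable {S : Scheme.{u}} [IsAffine S]

lemma isClosed_singleton_of_subsingleton (hS : Subsingleton S) (s : S) :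
    IsClosed ({s} : Set S) := by
  have : ({s} : Set S) = Set.univ := Set.eq_univ_of_forall (fun t => Subsingleton.elim s t ▸ rfl)
  rw [this]
  exact isClosed_univ

/-- every point of a scheme étale over a one-point scheme with separably closed residue field is
open, and the corresponding open subscheme maps isomorphically to the base -/
lemma exists_point_open (hS : Subsingleton S) (h2 : ∀ s : S, IsSepClosed (S.residueField s))
    {U : Scheme.{u}} (f : U ⟶ S) [Etale f] (u : U) :
    ∃ O : U.Opens, (O : Set U) = {u} ∧ IsIso (O.ι ≫ f) := by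
  have h1 := isClosed_singleton_of_subsingleton hS
  obtain ⟨A, hA, huA, -⟩ := exists_isAffineOpen_mem_and_subset (x := u) (U := ⊤) trivial
  haveI : IsAffine (A : Scheme.{u}) := hA
  obtain ⟨O', huO', hO'⟩ := DimZeroSplit.exists_open_isOpenImmersion (A.ι ≫ f) h1 h2 ⟨u, huA⟩
  haveI : IsOpenImmersion (O'.ι ≫ A.ι ≫ f) := hO'
  have huO : u ∈ A.ι ''ᵁ O' := ⟨⟨u, huA⟩, huO', rfl⟩
  have e : (A.ι ''ᵁ O').ι ≫ f = (A.ι.isoImage O').inv ≫ O'.ι ≫ A.ι ≫ f := by
    rw [← Scheme.Hom.isoImage_inv_ι_assoc]
  have hiso : IsIso ((A.ι ''ᵁ O').ι ≫ f) := by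
    rw [isIso_iff_isOpenImmersion_and_surjective]
    refine ⟨by rw [e]; infer_instance, ⟨fun s => ⟨⟨u, huO⟩, Subsingleton.elim _ _⟩⟩⟩
  refine ⟨A.ι ''ᵁ O', ?_, hiso⟩
  ext x
  simp only [Set.mem_singleton_iff, SetLike.mem_coe]
  constructor
  · intro hx
    have hinj : Function.Injective ((A.ι ''ᵁ O').ι ≫ f) :=
      ((A.ι ''ᵁ O').ι ≫ f).isOpenEmbedding.injective
    have := @hinj ⟨x, hx⟩ ⟨u, huO⟩ (Subsingleton.elim _ _)
    exact congrArg Subtype.val this
  · rintro rfl
    exact huO

set_option backward.isDefEq.respectTransparency.types false in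
set_option backward.isDefEq.respectTransparency false in
/-- over a one-point scheme with separably closed residue field, an epimorphism of abelian étale
sheaves is surjective on sections over every étale scheme -/
theorem sections_surjective (hS : Subsingleton S) (h2 : ∀ s : S, IsSepClosed (S.residueField s))
    {F G : EtCoh.Ab S} (e : F ⟶ G) [Epi e] (W : S.Etale) (t : G.obj.obj (op W)) :
    ∃ r : F.obj.obj (op W), e.hom.app (op W) r = t := by
  classical
  have h1 := isClosed_singleton_of_subsingleton hS
  haveI : Etale W.hom := W.prop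
  choose O hO hiso using fun w : W.left => exists_point_open (U := W.left) hS h2 W.hom w
  have hloc : ∀ w : W.left, ∃ r : F.obj.obj (op (opn W (O w))),
      e.hom.app (op (opn W (O w))) r = G.obj.map (opnι W (O w)).op t := by
    intro w
    haveI := hiso w
    let a : opn W (O w) ⟶ EtCoh.top S :=
      MorphismProperty.Over.homMk ((O w).ι ≫ W.hom) (Category.comp_id _) trivial
    let b : EtCoh.top S ⟶ opn W (O w) :=
      MorphismProperty.Over.homMk (inv ((O w).ι ≫ W.hom)) (IsIso.inv_hom_id _) trivial
    have hab : a ≫ b = 𝟙 _ := hom_ext_of_left _ _ (IsIso.hom_inv_id ((O w).ι ≫ W.hom))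
    obtain ⟨r, hr⟩ := DimZeroGamma.gsec_surjective h1 h2 e
      (G.obj.map b.op (G.obj.map (opnι W (O w)).op t))
    refine ⟨F.obj.map a.op r, ?_⟩
    have nat := NatTrans.naturality_apply e.hom a.op r
    rw [nat, hr, ← ConcreteCategory.comp_apply, ← G.obj.map_comp, ← op_comp, hab, op_id,
      G.obj.map_id]
    rfl
  choose r hr using hloc
  have hmem : ∀ w : W.left, w ∈ O w := fun w => by
    have : w ∈ (O w : Set W.left) := by rw [hO w]; rfl
    exact this
  have hdisj : ∀ a b, a ≠ b → Disjoint (O a) (O b) := by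
    intro a b hab
    rw [disjoint_iff, _root_.eq_bot_iff]
    rintro z ⟨hz, hz'⟩
    have h1 : z ∈ (O a : Set W.left) := hz
    have h2 : z ∈ (O b : Set W.left) := hz'
    rw [hO a] at h1
    rw [hO b] at h2
    exact hab (h1.symm.trans h2)
  have hcov : (⨆ a, O a) = ⊤ := by
    rw [_root_.eq_top_iff]
    intro z _
    rw [TopologicalSpace.Opens.mem_iSup]
    exact ⟨z, hmem z⟩
  obtain ⟨r₀, hr₀, -⟩ := existsUnique_glue_family (shOf F) W O hdisj hcov r
  refine ⟨r₀, ?_⟩
  apply eq_of_cover G W
  intro z
  refine ⟨opn W (O z), opnι W (O z), ⟨⟨z, hmem z⟩, rfl⟩, ?_⟩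
  have e1 : F.obj.map (opnι W (O z)).op r₀ = r z := hr₀ z
  have n1 := NatTrans.naturality_apply e.hom (opnι W (O z)).op r₀
  rw [← n1, e1, hr z]

end Groth.Agent.Lib.Helper23.PointExact
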