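import Groth.Agent.Lib.Helper23.PointExact
import Groth.Agent.Lib.Helper6.RDComp
import Groth.Agent.S0101

/-!
# Higher direct images of a sheaf pushed forward from the spectrum of a separably closed field vanish
-/

set_option autoImplicit false
universe u

namespace Groth.Agent.Lib.Helper23.PointExact

open CategoryTheory CategoryTheory.Limits AlgebraicGeometry Opposite GrothendieckTopology

lemma epi_of_sections_surjective {Y : Scheme.{u}} {F G : EtCoh.Ab Y} (φ : F ⟶ G)
    (h : ∀ V : Y.Etale, Function.Surjective (φ.hom.app (op V))) : Epi φ := by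
  haveI : Sheaf.IsLocallySurjective φ :=
    Presheaf.isLocallySurjective_of_surjective _ _ (fun U => h U.unop)
  exact (Sheaf.isLocallySurjective_iff_epi' AddCommGrpCat.{u+1} φ).1 inferInstance

variable {S : Scheme.{u}} [IsAffine S]

lemma push_map_epi (hS : Subsingleton S) (h2 : ∀ s : S, IsSepClosed (S.residueField s))
    {Y : Scheme.{u}} (g : S ⟶ Y) {F G : EtCoh.Ab S} (e : F ⟶ G) [Epi e] :
    Epi ((EtCoh.push g).map e) :=
  epi_of_sections_surjective _
    (fun V t => sections_surjective hS h2 e ((EtCoh.bc g).obj V) t)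

lemma push_push_map_epi (hS : Subsingleton S) (h2 : ∀ s : S, IsSepClosed (S.residueField s))
    {Y Z : Scheme.{u}} (g : S ⟶ Y) (f : Y ⟶ Z) {F G : EtCoh.Ab S} (e : F ⟶ G) [Epi e] :
    Epi ((EtCoh.push g ⋙ EtCoh.push f).map e) :=
  epi_of_sections_surjective _
    (fun V t => sections_surjective hS h2 e ((EtCoh.bc g).obj ((EtCoh.bc f).obj V)) t)

instance {X Y : Scheme.{u}} (f : X ⟶ Y) : PreservesFiniteLimits (EtCoh.push f) :=
  haveI := (EtCoh.pullPushAdj f).rightAdjoint_preservesLimits
  inferInstance

theorem isZero_Rpush_push (hS : Subsingleton S) (h2 : ∀ s : S, IsSepClosed (S.residueField s))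
    {Y Z : Scheme.{u}} (g : S ⟶ Y) (f : Y ⟶ Z) (N : EtCoh.Ab S) (n : ℕ) :
    IsZero ((EtCoh.Rpush f (n + 1)).obj ((EtCoh.push g).obj N)) := by
  haveI : PreservesFiniteColimits (EtCoh.push g) :=
    preservesFiniteColimits_of_epi _ (fun e he => by haveI := he; exact push_map_epi hS h2 g e)
  haveI : PreservesFiniteLimits (EtCoh.push g ⋙ EtCoh.push f) := inferInstance
  haveI : PreservesFiniteColimits (EtCoh.push g ⋙ EtCoh.push f) :=
    preservesFiniteColimits_of_epi _
      (fun e he => by haveI := he; exact push_push_map_epi hS h2 g f e)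
  haveI : PreservesFiniteLimits (EtCoh.pull g) := Groth.Agent.S0101.result g
  have hinj : ∀ I : EtCoh.Ab S, Injective I → Injective ((EtCoh.push g).obj I) :=
    fun I hI => (EtCoh.pullPushAdj g).map_injective I hI
  have e := Groth.Agent.Lib.Helper6.RDComp.compIso (EtCoh.push g) hinj (EtCoh.push f) (n + 1)
  refine IsZero.of_iso ?_ (e.app N).symm
  exact isZero_rightDerived_of_exact (EtCoh.push g ⋙ EtCoh.push f) N n

end Groth.Agent.Lib.Helper23.PointExact
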