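import Groth.Agent.Lib.Helper23.PointExact2
import Groth.Agent.Lib.Helper6.ExtAdj
import Groth.Agent.S0088

/-!
# Cohomology of a sheaf pushed forward from the spectrum of a separably closed field vanishes
-/

set_option autoImplicit false
universe u

namespace Groth.Agent.Lib.Helper23.PointExact

open CategoryTheory CategoryTheory.Limits AlgebraicGeometry Opposite GrothendieckTopology

variable {S : Scheme.{u}} [IsAffine S]

theorem H_push_subsingleton (hS : Subsingleton S) (h2 : ∀ s : S, IsSepClosed (S.residueField s))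
    {Y : Scheme.{u}} (g : S ⟶ Y) (N : EtCoh.Ab S) (n : ℕ) :
    Subsingleton (EtCoh.H Y ((EtCoh.push g).obj N) (n + 1)) := by
  have h1 := isClosed_singleton_of_subsingleton hS
  haveI : PreservesFiniteColimits (EtCoh.push g) :=
    preservesFiniteColimits_of_epi _ (fun e he => by haveI := he; exact push_map_epi hS h2 g e)
  haveI : PreservesFiniteLimits (EtCoh.pull g) := Groth.Agent.S0101.result g
  obtain ⟨e⟩ := Groth.Agent.Lib.Helper6.ExtAdj.nonempty_ext_addEquiv (EtCoh.pullPushAdj g)
    ((constantSheaf Y.smallEtaleTopology AddCommGrpCat.{u + 1}).obj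
      (AddCommGrpCat.of (ULift.{u + 1} ℤ))) N (n + 1)
  haveI : Projective ((EtCoh.pull g).obj
      ((constantSheaf Y.smallEtaleTopology AddCommGrpCat.{u + 1}).obj
        (AddCommGrpCat.of (ULift.{u + 1} ℤ)))) :=
    Projective.of_iso ((EtCore.pullConstIso g).app (AddCommGrpCat.of (ULift.{u + 1} ℤ))).symm
      (Groth.Agent.S0088.projective_constZ S h1 h2)
  refine ⟨fun a b => ?_⟩
  apply e.symm.injective
  rw [Abelian.Ext.eq_zero_of_projective (e.symm a), Abelian.Ext.eq_zero_of_projective (e.symm b)]

end Groth.Agent.Lib.Helper23.PointExact
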