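import Mathlib

set_option autoImplicit false
universe u
open Polynomial

namespace Helper23.PolyR1

variable {A : Type u} [CommRing A] [IsDomain A]

/-- The property "`h` is a multiple of `f` up to a denominator outside `P`". -/
def Good (P : Ideal A[X]) (f h : A[X]) : Prop := ∃ c q : A[X], c ∉ P ∧ c * h = f * q

theorem good_add (P : Ideal A[X]) [P.IsPrime] (f : A[X]) {h₁ h₂ : A[X]} (H₁ : Good P f h₁)
    (H₂ : Good P f h₂) : Good P f (h₁ + h₂) := by
  obtain ⟨c₁, q₁, hc₁, e₁⟩ := H₁
  obtain ⟨c₂, q₂, hc₂, e₂⟩ := H₂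
  refine ⟨c₁ * c₂, c₂ * q₁ + c₁ * q₂, fun hmem => ?_, ?_⟩
  · rcases Ideal.IsPrime.mem_or_mem inferInstance hmem with h | h
    · exact hc₁ h
    · exact hc₂ h
  · linear_combination c₂ * e₁ + c₁ * e₂

theorem good_mul (P : Ideal A[X]) (f : A[X]) {h : A[X]} (g : A[X]) (H : Good P f h) :
    Good P f (g * h) := by
  obtain ⟨c, q, hc, e⟩ := H
  exact ⟨c, g * q, hc, by linear_combination g * e⟩

theorem good_zero (P : Ideal A[X]) [P.IsPrime] (f : A[X]) : Good P f 0 :=
  ⟨1, 0, (Ideal.ne_top_iff_one P).mp (Ideal.IsPrime.ne_top inferInstance), by simp⟩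

/-- If every element of `P` is good w.r.t. `f ∈ P`, the localization at `P` has principal maximal
ideal generated by `f`. -/
theorem isPrincipal_of_good (P : Ideal A[X]) [P.IsPrime] (f : A[X]) (hf : f ∈ P)
    (H : ∀ h ∈ P, Good P f h) :
    (IsLocalRing.maximalIdeal (Localization.AtPrime P)).IsPrincipal := by
  refine ⟨⟨algebraMap A[X] (Localization.AtPrime P) f, ?_⟩⟩
  rw [← Localization.AtPrime.map_eq_maximalIdeal, Ideal.submodule_span_eq]
  apply le_antisymm
  · rw [Ideal.map_le_iff_le_comap]
    intro h hh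
    obtain ⟨c, q, hc, e⟩ := H h hh
    rw [Ideal.mem_comap]
    have hu : IsUnit (algebraMap A[X] (Localization.AtPrime P) c) :=
      IsLocalization.map_units (Localization.AtPrime P) (⟨c, hc⟩ : P.primeCompl)
    have e' := congrArg (algebraMap A[X] (Localization.AtPrime P)) e
    rw [map_mul, map_mul] at e'
    rw [Ideal.mem_span_singleton']
    refine ⟨algebraMap A[X] (Localization.AtPrime P) q * ↑hu.unit⁻¹, ?_⟩
    calc algebraMap A[X] (Localization.AtPrime P) q * ↑hu.unit⁻¹ *
          algebraMap A[X] (Localization.AtPrime P) f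
        = ↑hu.unit⁻¹ * (algebraMap A[X] (Localization.AtPrime P) f *
          algebraMap A[X] (Localization.AtPrime P) q) := by ring
      _ = ↑hu.unit⁻¹ * (algebraMap A[X] (Localization.AtPrime P) c *
          algebraMap A[X] (Localization.AtPrime P) h) := by rw [e']
      _ = algebraMap A[X] (Localization.AtPrime P) h := by
          rw [← mul_assoc, IsUnit.val_inv_mul, one_mul]
  · rw [Ideal.span_le, Set.singleton_subset_iff]
    exact Ideal.mem_map_of_mem _ hf

/-- Case `P ∩ A = 0`: a nonzero element of minimal degree generates after localization. -/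
theorem exists_good_of_comap_bot (P : Ideal A[X]) [P.IsPrime] (hP : P ≠ ⊥)
    (hc : P.comap (C : A →+* A[X]) = ⊥) : ∃ f ∈ P, ∀ h ∈ P, Good P f h := by
  classical
  have hex : ∃ n : ℕ, ∃ g ∈ P, g ≠ 0 ∧ g.natDegree = n := by
    obtain ⟨g, hg, hg0⟩ := Submodule.exists_mem_ne_zero_of_ne_bot hP
    exact ⟨_, g, hg, hg0, rfl⟩
  obtain ⟨f, hfP, hf0, hfn⟩ := Nat.find_spec hex
  have hmin : ∀ g ∈ P, g ≠ 0 → Nat.find hex ≤ g.natDegree := fun g hg hg0 =>
    Nat.find_min' hex ⟨g, hg, hg0, rfl⟩
  set n := Nat.find hex with hn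
  have ha0 : f.leadingCoeff ≠ 0 := leadingCoeff_ne_zero.mpr hf0
  have haP : C f.leadingCoeff ∉ P := fun hmem => by
    have : f.leadingCoeff ∈ P.comap (C : A →+* A[X]) := hmem
    rw [hc] at this
    exact ha0 this
  refine ⟨f, hfP, ?_⟩
  intro h
  induction h using Polynomial.degree_lt_wf.induction with
  | _ h ih =>
  intro hhP
  by_cases hh0 : h = 0
  · subst hh0; exact good_zero P f
  have hdeg : n ≤ h.natDegree := hmin h hhP hh0
  set h' : A[X] := C f.leadingCoeff * h - C h.leadingCoeff * X ^ (h.natDegree - n) * f with hh'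
  have hh'P : h' ∈ P := Ideal.sub_mem _ (Ideal.mul_mem_left _ _ hhP) (Ideal.mul_mem_left _ _ hfP)
  have hlt : h'.degree < h.degree := by
    have hb0 : h.leadingCoeff ≠ 0 := leadingCoeff_ne_zero.mpr hh0
    have h1 : (C f.leadingCoeff * h).degree = h.degree := degree_C_mul ha0
    have h2 : (C h.leadingCoeff * X ^ (h.natDegree - n) * f).degree = h.degree := by
      rw [degree_mul, degree_mul, degree_C hb0, degree_X_pow, degree_eq_natDegree hf0,
        degree_eq_natDegree hh0, hfn, zero_add, ← Nat.cast_add, Nat.sub_add_cancel hdeg]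
    rw [← h1]
    refine degree_sub_lt (h1.trans h2.symm) ?_ ?_
    · exact mul_ne_zero (C_ne_zero.mpr ha0) hh0
    · rw [leadingCoeff_mul, leadingCoeff_mul, leadingCoeff_mul, leadingCoeff_C, leadingCoeff_C,
        leadingCoeff_X_pow, mul_one, mul_comm]
  obtain ⟨c, q, hcP, e⟩ := ih h' hlt hh'P
  refine ⟨c * C f.leadingCoeff, q + c * C h.leadingCoeff * X ^ (h.natDegree - n), fun hmem => ?_, ?_⟩
  · rcases Ideal.IsPrime.mem_or_mem inferInstance hmem with h | h
    · exact hcP h
    · exact haP h
  · rw [hh'] at e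
    linear_combination e

/-- A DVR localization `A_p` gives a "uniformizer" `a ∈ p` with denominators outside `p`. -/
theorem exists_uniformizer (p : Ideal A) [p.IsPrime]
    (hdvr : IsDiscreteValuationRing (Localization.AtPrime p)) :
    ∃ a ∈ p, ∀ b ∈ p, ∃ t c : A, t ∉ p ∧ t * b = a * c := by
  classical
  have hprin : (IsLocalRing.maximalIdeal (Localization.AtPrime p)).IsPrincipal :=
    IsPrincipalIdealRing.principal _
  obtain ⟨π, hπ⟩ := hprin.principal
  obtain ⟨a, s, rfl⟩ := IsLocalization.exists_mk'_eq p.primeCompl π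
  have hinj : Function.Injective (algebraMap A (Localization.AtPrime p)) :=
    IsLocalization.injective _ p.primeCompl_le_nonZeroDivisors
  have hsu : IsUnit (algebraMap A (Localization.AtPrime p) s) :=
    IsLocalization.map_units (Localization.AtPrime p) s
  have hmem : IsLocalization.mk' (Localization.AtPrime p) a s ∈
      IsLocalRing.maximalIdeal (Localization.AtPrime p) := by
    rw [hπ]; exact Submodule.mem_span_singleton_self _
  have haa : algebraMap A (Localization.AtPrime p) a ∈
      IsLocalRing.maximalIdeal (Localization.AtPrime p) := by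
    have : algebraMap A (Localization.AtPrime p) a =
        algebraMap A (Localization.AtPrime p) s * IsLocalization.mk' (Localization.AtPrime p) a s := by
      rw [IsLocalization.mul_mk'_eq_mk'_of_mul, IsLocalization.mk'_mul_cancel_left]
    rw [this]; exact Ideal.mul_mem_left _ _ hmem
  have hap : a ∈ p := (IsLocalization.AtPrime.to_map_mem_maximal_iff _ p a).mp haa
  refine ⟨a, hap, fun b hb => ?_⟩
  have hbb : algebraMap A (Localization.AtPrime p) b ∈
      IsLocalRing.maximalIdeal (Localization.AtPrime p) :=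
    (IsLocalization.AtPrime.to_map_mem_maximal_iff _ p b).mpr hb
  rw [hπ, Ideal.submodule_span_eq, Ideal.mem_span_singleton'] at hbb
  obtain ⟨y, hy⟩ := hbb
  obtain ⟨c, t, rfl⟩ := IsLocalization.exists_mk'_eq p.primeCompl y
  refine ⟨t * s, c, fun hmem => ?_, ?_⟩
  · rcases Ideal.IsPrime.mem_or_mem inferInstance hmem with h | h
    · exact t.2 h
    · exact s.2 h
  · apply hinj
    have e1 : algebraMap A (Localization.AtPrime p) t *
        IsLocalization.mk' (Localization.AtPrime p) c t = algebraMap A (Localization.AtPrime p) c := by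
      rw [IsLocalization.mul_mk'_eq_mk'_of_mul, IsLocalization.mk'_mul_cancel_left]
    have e2 : algebraMap A (Localization.AtPrime p) s *
        IsLocalization.mk' (Localization.AtPrime p) a s = algebraMap A (Localization.AtPrime p) a := by
      rw [IsLocalization.mul_mk'_eq_mk'_of_mul, IsLocalization.mk'_mul_cancel_left]
    rw [map_mul, map_mul, map_mul, ← hy, ← e1, ← e2]
    ring

theorem map_C_ne_bot {p : Ideal A} (hp : p ≠ ⊥) : p.map (C : A →+* A[X]) ≠ ⊥ := by
  obtain ⟨a, ha, ha0⟩ := Submodule.exists_mem_ne_zero_of_ne_bot hp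
  intro h
  have : C a ∈ p.map (C : A →+* A[X]) := Ideal.mem_map_of_mem _ ha
  rw [h] at this
  exact ha0 (C_eq_zero.mp this)

/-- Case `P ∩ A ≠ 0`. -/
theorem exists_good_of_comap_ne_bot [IsNoetherianRing A]
    (hR1 : ∀ (p : Ideal A) [p.IsPrime], p.height = 1 →
      IsDiscreteValuationRing (Localization.AtPrime p))
    (P : Ideal A[X]) [P.IsPrime] (hP : P.height = 1)
    (hc : P.comap (C : A →+* A[X]) ≠ ⊥) : ∃ f ∈ P, ∀ h ∈ P, Good P f h := by
  classical
  set p := P.comap (C : A →+* A[X]) with hp
  haveI : p.IsPrime := Ideal.comap_isPrime _ _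
  haveI hpm : (p.map (C : A →+* A[X])).IsPrime := (Ideal.isPrime_map_C_iff_isPrime p).mpr inferInstance
  have hle : p.map (C : A →+* A[X]) ≤ P := Ideal.map_comap_le
  -- a nonzero prime strictly below P is impossible
  have hbelow : ∀ Q : Ideal A[X], Q.IsPrime → Q < P → Q = ⊥ := by
    intro Q hQ hlt
    have := Ideal.height_strict_mono_of_isPrime_of_isPrime hlt
    rw [hP, ENat.lt_one_iff_eq_zero] at this
    exact Ideal.height_eq_zero_iff_eq_bot.mp this
  have hPeq : p.map (C : A →+* A[X]) = P := by
    by_contra hne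
    exact map_C_ne_bot hc (hbelow _ hpm (lt_of_le_of_ne hle hne))
  have hht : p.height = 1 := by
    apply le_antisymm
    · have : p.height ≤ ((1 : ℕ) : ℕ∞) := by
        rw [Ideal.height_le_iff]
        intro q hq hlt
        haveI := hq
        have hqm : (q.map (C : A →+* A[X])).IsPrime :=
          (Ideal.isPrime_map_C_iff_isPrime q).mpr inferInstance
        have hlt' : q.map (C : A →+* A[X]) < P := by
          rw [← hPeq]
          refine lt_of_le_of_ne (Ideal.map_mono hlt.le) fun heq => ?_
          obtain ⟨a, hap, haq⟩ := Set.exists_of_ssubset hlt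
          have : C a ∈ q.map (C : A →+* A[X]) := by
            rw [heq]; exact Ideal.mem_map_of_mem _ hap
          rw [Ideal.mem_map_C_iff] at this
          have := this 0
          rw [coeff_C_zero] at this
          exact haq this
        have hq0 : q = ⊥ := by
          by_contra hq0
          exact map_C_ne_bot hq0 (hbelow _ hqm hlt')
        rw [hq0, Ideal.height_bot]
        exact zero_lt_one
      simpa using this
    · rw [ENat.one_le_iff_ne_zero]
      intro h0
      exact hc (Ideal.height_eq_zero_iff_eq_bot.mp h0)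
  obtain ⟨a, hap, hab⟩ := exists_uniformizer p (hR1 p hht)
  refine ⟨C a, hap, ?_⟩
  intro h hh
  rw [← hPeq, Ideal.map, ] at hh
  induction hh using Submodule.span_induction with
  | mem x hx =>
    obtain ⟨b, hb, rfl⟩ := hx
    obtain ⟨t, c, ht, e⟩ := hab b hb
    refine ⟨C t, C c, fun hmem => ht hmem, ?_⟩
    rw [← C_mul, ← C_mul, e]
  | zero => exact good_zero P _
  | add x y _ _ hx hy => exact good_add P _ hx hy
  | smul g x _ hx => exact good_mul P _ g hx

end Helper23.PolyR1
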