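import Mathlib
import Groth.Agent.Lib.Helper17.LocalFlat

/-!
# Flatness of `M / Iⁿ M` over `R / Iⁿ` (Stacks 051C)
-/

namespace Groth.Agent.Lib.Helper23.PowFlat

open TensorProduct Function
open Groth.Agent.Lib.Helper17.LocalFlat

universe u

variable {R : Type*} [CommRing R] {I : Ideal R} (M : Type*) [AddCommGroup M] [Module R M]

/-- submodule version -/
theorem good_of_pow_smul (hIM : Injective (I.subtype.rTensor M))
    [Module.Flat (R ⧸ I) ((R ⧸ I) ⊗[R] M)] (n : ℕ)
    (N : Type*) [AddCommGroup N] [Module R N] (hN : ∀ a ∈ I ^ n, ∀ x : N, a • x = 0)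
    (N' : Submodule R N) : Injective (N'.subtype.rTensor M) := by
  have key : ∀ k, Injective ((N' ⊔ I ^ k • (⊤ : Submodule R N)).subtype.rTensor M) := by
    intro k
    induction k with
    | zero =>
      have h0 : N' ⊔ I ^ 0 • (⊤ : Submodule R N) = ⊤ := by
        rw [pow_zero, Ideal.one_eq_top, Submodule.top_smul, sup_top_eq]
      have : ∀ J : Submodule R N, J = ⊤ → Injective (J.subtype.rTensor M) := by
        rintro _ rfl
        have : (⊤ : Submodule R N).subtype = (Submodule.topEquiv (R := R) (M := N)).toLinearMap := by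
          ext x; rfl
        rw [this]
        exact (LinearEquiv.rTensor M (Submodule.topEquiv (R := R) (M := N))).injective
      exact this _ h0
    | succ k ih =>
      refine good_trans_sub M _ _ (sup_le_sup_left
        (Submodule.smul_mono_left (Ideal.pow_le_pow_right (Nat.le_succ k))) _) ih ?_
      apply good_of_smul_le M hIM
      rw [Submodule.smul_le]
      intro a ha x _
      show ((a • x : ↥(N' ⊔ I ^ k • (⊤ : Submodule R N))) : N) ∈ N' ⊔ I ^ (k + 1) • (⊤ : Submodule R N)
      obtain ⟨y, hy, z, hz, hyz⟩ := Submodule.mem_sup.1 x.2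
      rw [Submodule.coe_smul, ← hyz, smul_add]
      refine Submodule.add_mem_sup (N'.smul_mem a hy) ?_
      rw [pow_succ', Submodule.mul_smul]
      exact Submodule.smul_mem_smul ha hz
  have := key n
  have hbot : I ^ n • (⊤ : Submodule R N) = ⊥ := by
    rw [eq_bot_iff, Submodule.smul_le]
    intro a ha x _
    rw [hN a ha x]; exact Submodule.zero_mem _
  rw [hbot, sup_bot_eq] at this
  exact this

/-- linear map version -/
theorem good_of_pow_smul' (hIM : Injective (I.subtype.rTensor M))
    [Module.Flat (R ⧸ I) ((R ⧸ I) ⊗[R] M)] (n : ℕ)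
    (N : Type*) [AddCommGroup N] [Module R N] (hN : ∀ a ∈ I ^ n, ∀ x : N, a • x = 0)
    {N' : Type*} [AddCommGroup N'] [Module R N'] (f : N' →ₗ[R] N) (hf : Injective f) :
    Injective (f.rTensor M) := by
  have h1 := good_of_pow_smul M hIM n N hN (LinearMap.range f)
  have : f = (LinearMap.range f).subtype ∘ₗ (LinearEquiv.ofInjective f hf).toLinearMap := by
    ext x; rfl
  rw [this, LinearMap.rTensor_comp]
  exact h1.comp (LinearEquiv.rTensor M (LinearEquiv.ofInjective f hf)).injective

/-- compatibility square -/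
theorem rTensor_cancelBaseChange {A B : Type*} [CommRing A] [CommRing B] [Algebra A B]
    (K' : Ideal B) (N : Type*) [AddCommGroup N] [Module A N] (z : K' ⊗[B] (B ⊗[A] N)) :
    (K'.subtype.restrictScalars A).rTensor N (AlgebraTensorModule.cancelBaseChange A B B K' N z) =
      AlgebraTensorModule.cancelBaseChange A B B B N (K'.subtype.rTensor (B ⊗[A] N) z) := by
  induction z using TensorProduct.induction_on with
  | zero => rw [map_zero, map_zero, map_zero, map_zero]
  | add x y hx hy => rw [map_add, map_add, map_add, map_add, hx, hy]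
  | tmul y w =>
    induction w using TensorProduct.induction_on with
    | zero => rw [tmul_zero, map_zero, map_zero, map_zero, map_zero]
    | add w₁ w₂ h₁ h₂ => rw [tmul_add, map_add, map_add, map_add, map_add, h₁, h₂]
    | tmul b n =>
      rw [LinearMap.rTensor_tmul]
      show (K'.subtype.restrictScalars A).rTensor N ((b • y) ⊗ₜ[A] n) = (b • (K'.subtype y)) ⊗ₜ[A] n
      rw [LinearMap.rTensor_tmul]
      rfl

theorem flat_quot_pow (hIM : Injective (I.subtype.rTensor M))
    [Module.Flat (R ⧸ I) ((R ⧸ I) ⊗[R] M)] (n : ℕ) :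
    Module.Flat (R ⧸ I ^ n) ((R ⧸ I ^ n) ⊗[R] M) := by
  rw [Module.Flat.iff_rTensor_injective']
  intro 𝔞
  have hA : ∀ a ∈ I ^ n, ∀ x : R ⧸ I ^ n, a • x = 0 := by
    intro a ha x
    obtain ⟨x, rfl⟩ := Ideal.Quotient.mk_surjective x
    rw [Algebra.smul_def, Ideal.Quotient.algebraMap_eq, ← map_mul, Ideal.Quotient.eq_zero_iff_mem]
    exact Ideal.mul_mem_right _ _ ha
  have h1 : Injective ((𝔞.subtype.restrictScalars R).rTensor M) :=
    good_of_pow_smul' M hIM n (R ⧸ I ^ n) hA _ (Submodule.injective_subtype _)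
  intro z₁ z₂ h
  apply (AlgebraTensorModule.cancelBaseChange R (R ⧸ I ^ n) (R ⧸ I ^ n) 𝔞 M).injective
  apply h1
  rw [rTensor_cancelBaseChange, rTensor_cancelBaseChange, h]

end Groth.Agent.Lib.Helper23.PowFlat
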