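import Groth.Agent.Lib.Helper23.FinPushGeom
import Groth.Agent.Lib.Helper23.FlcConn
import Groth.Prelude.Def_BigSite

/-!
# Condition (A) for finite morphisms

From the splitting theorem `FinPushGeom.exists_split`.
-/

set_option autoImplicit false
universe u

namespace Groth.Agent.Lib.Helper23.PropAFin

open CategoryTheory CategoryTheory.Limits AlgebraicGeometry Opposite
open FinPushGeom FinPushFiber EtGlue FlcConn

variable {X Y : Scheme.{u}} (f : X ⟶ Y)

set_option backward.isDefEq.respectTransparency.types false in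
set_option backward.isDefEq.respectTransparency false in
theorem propA_of_finite [IsFinite f] : BigSite.PropA f := by
  intro U g _ u
  let Ω := AlgebraicClosure (U.residueField u)
  let ξU : Spec (CommRingCat.of Ω) ⟶ U := geomPt u
  have hξU : ξU default = u := geomPt_default u
  let ξ₀ : Spec (CommRingCat.of Ω) ⟶ X := ξU ≫ g
  let η : Spec (CommRingCat.of Ω) ⟶ Y := ξ₀ ≫ f
  let V₁ : Y.Etale := Scheme.Etale.mk (𝟙 Y)
  let v₁ : (Scheme.pointSmallEtale η).fiber.obj V₁ := Over.homMk η (by simp [V₁])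
  let UX : X.Etale := Scheme.Etale.mk g
  let wU : (Scheme.pointSmallEtale ξ₀).fiber.obj UX := Over.homMk ξU rfl
  let kU : UX ⟶ (EtCoh.bc f).obj V₁ :=
    MorphismProperty.Over.homMk (pullback.lift (g ≫ f) g
      (show (g ≫ f) ≫ 𝟙 Y = g ≫ f from Category.comp_id _)) (pullback.lift_snd _ _ _) trivial
  have hkU : (Scheme.pointSmallEtale ξ₀).fiber.map kU wU = liftpt ξ₀ rfl V₁ v₁ := by
    apply Over.OverMorphism.ext
    change ξU ≫ pullback.lift (g ≫ f) g _ = pullback.lift _ _ _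
    apply pullback.hom_ext
    · rw [Category.assoc, pullback.lift_fst, pullback.lift_fst]; rfl
    · rw [Category.assoc, pullback.lift_snd, pullback.lift_snd]
  have key : ∀ ξ : Lifts f η, ∃ (W : X.Etale) (w : (Scheme.pointSmallEtale ξ.1).fiber.obj W)
      (k : W ⟶ (EtCoh.bc f).obj V₁),
      (Scheme.pointSmallEtale ξ.1).fiber.map k w = liftpt ξ.1 ξ.2 V₁ v₁ ∧
      (ξ.1 = ξ₀ → ∃ m' : W ⟶ UX,
        (((Scheme.pointSmallEtale ξ.1).fiber.map m' w).left :
          Spec (CommRingCat.of Ω) ⟶ U) (default : ↥(Spec (CommRingCat.of Ω))) = u) := by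
    intro ξ
    by_cases hξ : ξ.1 = ξ₀
    · obtain ⟨ξ1, ξ2⟩ := ξ
      dsimp only at hξ
      subst hξ
      exact ⟨UX, wU, kU, hkU, fun _ => ⟨𝟙 _, by
        simp only [Functor.map_id]
        exact hξU⟩⟩
    · exact ⟨(EtCoh.bc f).obj V₁, liftpt ξ.1 ξ.2 V₁ v₁, 𝟙 _, by simp only [Functor.map_id]; rfl,
        fun h => (hξ h).elim⟩
  choose W w k hk hm' using key
  obtain ⟨-, V, v, g', hg', Uo, hdisj, hcov, H⟩ := exists_split f η V₁ v₁ W w k hk
  let ξ₀' : Lifts f η := ⟨ξ₀, rfl⟩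
  obtain ⟨m, u', hu1, hu2, hm⟩ := H ξ₀'
  obtain ⟨m', hm'u⟩ := hm' ξ₀' rfl
  let sym := pullbackSymmetry f V.hom
  let Wo : (pullback f V.hom).Opens := sym.hom ⁻¹ᵁ (Uo ξ₀')
  have hclosed : IsClosed ((Uo ξ₀' : ((EtCoh.bc f).obj V).left.Opens) :
      Set ↥((EtCoh.bc f).obj V).left) := by
    rw [← isOpen_compl_iff]
    have : ((Uo ξ₀' : Set ↥((EtCoh.bc f).obj V).left))ᶜ =
        ⋃ ξ : {ξ // ξ ≠ ξ₀'}, (Uo ξ.1 : Set ↥((EtCoh.bc f).obj V).left) := by
      ext x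
      simp only [Set.mem_compl_iff, Set.mem_iUnion, SetLike.mem_coe]
      constructor
      · intro hx
        have : x ∈ (⨆ a, Uo a) := by rw [hcov]; trivial
        obtain ⟨ξ, hξ⟩ := TopologicalSpace.Opens.mem_iSup.mp this
        exact ⟨⟨ξ, fun h => hx (h ▸ hξ)⟩, hξ⟩
      · rintro ⟨⟨ξ, hne⟩, hξ⟩ hx
        exact ((hdisj ξ ξ₀' hne).le_bot ⟨hξ, hx⟩).elim
    rw [this]
    exact isOpen_iUnion fun ξ => (Uo ξ.1).2
  refine ⟨V.left, V.hom, inferInstance, Wo, hclosed.preimage sym.hom.continuous,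
    (sym.hom ∣_ (Uo ξ₀')) ≫ (m ≫ m').left, ?_, ?_⟩
  · have h1 : (m ≫ m').left ≫ g = (Uo ξ₀').ι ≫ pullback.snd V.hom f := Over.w (m ≫ m').hom
    rw [Category.assoc, h1, morphismRestrict_ι_assoc]
    congr 1
    exact pullbackSymmetry_hom_comp_snd _ _
  · let e := asIso (sym.hom ∣_ (Uo ξ₀'))
    let p : ↥((Uo ξ₀' : ((EtCoh.bc f).obj V).left.Opens) : Scheme.{u}) :=
      (u'.left : Spec (CommRingCat.of Ω) ⟶ _) (default : ↥(Spec (CommRingCat.of Ω)))
    refine ⟨e.inv p, ?_⟩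
    change ((sym.hom ∣_ (Uo ξ₀')) ≫ (m ≫ m').left) (e.inv p) = u
    rw [Scheme.Hom.comp_apply]
    have : (sym.hom ∣_ (Uo ξ₀')) (e.inv p) = p := Scheme.inv_hom_apply e p
    rw [this]
    rw [← hm'u, ← hu2]
    rfl

end Groth.Agent.Lib.Helper23.PropAFin
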