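import Groth.Agent.Lib.Helper23.PropAFin
import Groth.Agent.Lib.Helper23.IntDescent

/-!
# Condition (A) for integral morphisms
-/

set_option autoImplicit false
universe u

namespace Groth.Agent.Lib.Helper23.PropAInt

open CategoryTheory CategoryTheory.Limits AlgebraicGeometry Opposite

set_option backward.isDefEq.respectTransparency.types false in
set_option backward.isDefEq.respectTransparency false in
/-- Transfer of an instance of condition (A) along a "base change" situation. -/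
theorem assemble {X Y U : Scheme.{u}} (f : X ⟶ Y) (g : U ⟶ X) (u : U)
    {Y₀ X₀ X₁ U₁ D : Scheme.{u}} (jY : Y₀ ⟶ Y) [IsOpenImmersion jY]
    (jX : X₀ ⟶ X) [IsOpenImmersion jX]
    (f₀ : X₀ ⟶ Y₀) (hf₀ : f₀ ≫ jY = jX ≫ f)
    (hX₀ : ∀ x : X, f x ∈ Set.range jY → x ∈ Set.range jX)
    (p : X₀ ⟶ X₁) (f₁ : X₁ ⟶ Y₀) (hp : p ≫ f₁ = f₀)
    (g₁ : U₁ ⟶ X₁) [Etale g₁] (dX : D ⟶ X₀) (dU : D ⟶ U₁) (hD : IsPullback dX dU p g₁)
    (m : D ⟶ U) (hm : m ≫ g = dX ≫ jX) (d : D) (hd : m d = u)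
    (hA : BigSite.PropA f₁) :
    ∃ (V : Scheme.{u}) (v : V ⟶ Y) (_ : Etale v) (W : (pullback f v).Opens)
      (_ : IsClosed (W : Set ↥(pullback f v))) (h : (W : Scheme.{u}) ⟶ U),
      h ≫ g = W.ι ≫ pullback.fst f v ∧ u ∈ Set.range h.base := by
  obtain ⟨V, v, hv, W₁, hW₁, h₁, hh₁, ⟨w₁, hw₁⟩⟩ := hA U₁ g₁ (dU d)
  haveI := hv
  let v' : V ⟶ Y := v ≫ jY
  have hrange : Set.range (pullback.fst f v') ⊆ Set.range jX := by
    rintro _ ⟨t, rfl⟩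
    apply hX₀
    rw [← Scheme.Hom.comp_apply, pullback.condition, Scheme.Hom.comp_apply, Scheme.Hom.comp_apply]
    exact ⟨_, rfl⟩
  let fst' : pullback f v' ⟶ X₀ := IsOpenImmersion.lift jX (pullback.fst f v') hrange
  have hfst' : fst' ≫ jX = pullback.fst f v' := IsOpenImmersion.lift_fac _ _ _
  have hc : (fst' ≫ p) ≫ f₁ = pullback.snd f v' ≫ v := by
    rw [← cancel_mono jY, Category.assoc, Category.assoc, reassoc_of% hp, hf₀, reassoc_of% hfst',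
      pullback.condition, Category.assoc]
  let c : pullback f v' ⟶ pullback f₁ v := pullback.lift (fst' ≫ p) (pullback.snd f v') hc
  let W : (pullback f v').Opens := c ⁻¹ᵁ W₁
  have hl : (W.ι ≫ fst') ≫ p = ((c ∣_ W₁) ≫ h₁) ≫ g₁ := by
    rw [Category.assoc, Category.assoc, hh₁, morphismRestrict_ι_assoc, pullback.lift_fst]
  let l₀ : (W : Scheme.{u}) ⟶ D := hD.lift (W.ι ≫ fst') ((c ∣_ W₁) ≫ h₁) hl
  refine ⟨V, v', inferInstance, W, hW₁.preimage c.continuous, l₀ ≫ m, ?_, ?_⟩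
  · rw [Category.assoc, hm, IsPullback.lift_fst_assoc, Category.assoc, hfst']
  · obtain ⟨z, hz1, hz2⟩ :=
      Scheme.Pullback.exists_preimage_pullback (f := h₁) (g := dU) w₁ d hw₁
    have hζ : (pullback.snd h₁ dU ≫ dX ≫ jX) ≫ f =
        (pullback.fst h₁ dU ≫ W₁.ι ≫ pullback.snd f₁ v) ≫ v' := by
      simp only [Category.assoc]
      rw [← hf₀, ← hp, Category.assoc, hD.w_assoc, ← pullback.condition_assoc,
        reassoc_of% hh₁, pullback.condition_assoc]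
    let ζ : pullback h₁ dU ⟶ pullback f v' := pullback.lift _ _ hζ
    have hζ1 : ζ ≫ fst' = pullback.snd h₁ dU ≫ dX := by
      rw [← cancel_mono jX, Category.assoc, hfst', pullback.lift_fst, Category.assoc]
    have hζc : ζ ≫ c = pullback.fst h₁ dU ≫ W₁.ι := by
      apply pullback.hom_ext
      · rw [Category.assoc, pullback.lift_fst, reassoc_of% hζ1, hD.w, ← pullback.condition_assoc,
          hh₁, Category.assoc]
      · rw [Category.assoc, pullback.lift_snd, pullback.lift_snd, Category.assoc]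
    have hζr : Set.range ζ ⊆ Set.range W.ι := by
      rintro _ ⟨t, rfl⟩
      rw [Scheme.Opens.range_ι]
      change c (ζ t) ∈ (W₁ : Set ↥(pullback f₁ v))
      rw [← Scheme.Hom.comp_apply, hζc, Scheme.Hom.comp_apply, ← Scheme.Opens.range_ι]
      exact ⟨_, rfl⟩
    let ζ' : pullback h₁ dU ⟶ (W : Scheme.{u}) := IsOpenImmersion.lift W.ι ζ hζr
    have hζ' : ζ' ≫ W.ι = ζ := IsOpenImmersion.lift_fac _ _ _
    have hζ'c : ζ' ≫ (c ∣_ W₁) = pullback.fst h₁ dU := by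
      rw [← cancel_mono W₁.ι, Category.assoc, morphismRestrict_ι, reassoc_of% hζ', hζc]
    have hζ'l : ζ' ≫ l₀ = pullback.snd h₁ dU := by
      apply hD.hom_ext
      · rw [Category.assoc, IsPullback.lift_fst, reassoc_of% hζ', hζ1]
      · rw [Category.assoc, IsPullback.lift_snd, reassoc_of% hζ'c, pullback.condition]
    refine ⟨ζ' z, ?_⟩
    change (l₀ ≫ m) (ζ' z) = u
    rw [← Scheme.Hom.comp_apply, reassoc_of% hζ'l, Scheme.Hom.comp_apply, hz2, hd]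

open TensorProduct in
set_option backward.isDefEq.respectTransparency.types false in
set_option backward.isDefEq.respectTransparency false in
set_option maxHeartbeats 1600000 in
theorem propA_of_integral {X Y : Scheme.{u}} (f : X ⟶ Y) [IsIntegralHom f] : BigSite.PropA f := by
  intro U g _ u
  obtain ⟨_, ⟨Y₀, hY₀, rfl⟩, hyY₀, -⟩ := Y.isBasis_affineOpens.exists_subset_of_mem_open
    (Set.mem_univ (f (g u))) isOpen_univ
  have hX₀ : IsAffineOpen (f ⁻¹ᵁ Y₀) := hY₀.preimage f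
  obtain ⟨_, ⟨U₀, hU₀, rfl⟩, huU₀, hU₀X₀ : U₀ ≤ g ⁻¹ᵁ (f ⁻¹ᵁ Y₀)⟩ :=
    U.isBasis_affineOpens.exists_subset_of_mem_open (show u ∈ g ⁻¹ᵁ (f ⁻¹ᵁ Y₀) from hyY₀)
      (g ⁻¹ᵁ (f ⁻¹ᵁ Y₀)).2
  have hφ : (f.appLE Y₀ (f ⁻¹ᵁ Y₀) le_rfl).hom.IsIntegral := by
    rw [← Scheme.Hom.app_eq_appLE]
    exact f.isIntegral_app Y₀ hY₀
  have hψ : (g.appLE (f ⁻¹ᵁ Y₀) U₀ hU₀X₀).hom.Etale := g.etale_appLE hX₀ hU₀ hU₀X₀
  algebraize [(f.appLE Y₀ (f ⁻¹ᵁ Y₀) le_rfl).hom, (g.appLE (f ⁻¹ᵁ Y₀) U₀ hU₀X₀).hom]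
  obtain ⟨c, hcQ, hstd⟩ := Algebra.IsEtaleAt.exists_isStandardEtale (R := Γ(X, f ⁻¹ᵁ Y₀))
    (hU₀.primeIdealOf ⟨u, huU₀⟩).asIdeal
  obtain ⟨B₁, hfin, P₁, ⟨e⟩⟩ := IntDescent.exists_descent_algebra (A := Γ(Y, Y₀))
    (B := Γ(X, f ⁻¹ᵁ Y₀)) (Localization.Away c)
  -- the schemes
  let jY : Spec Γ(Y, Y₀) ⟶ Y := hY₀.fromSpec
  let jX : Spec Γ(X, f ⁻¹ᵁ Y₀) ⟶ X := hX₀.fromSpec
  let f₀ : Spec Γ(X, f ⁻¹ᵁ Y₀) ⟶ Spec Γ(Y, Y₀) := Spec.map (f.appLE Y₀ (f ⁻¹ᵁ Y₀) le_rfl)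
  have hf₀ : f₀ ≫ jY = jX ≫ f := IsAffineOpen.SpecMap_appLE_fromSpec f hY₀ hX₀ le_rfl
  have hXr : ∀ x : X, f x ∈ Set.range jY → x ∈ Set.range jX := by
    intro x hx
    rw [IsAffineOpen.range_fromSpec] at hx ⊢
    exact hx
  let p : Spec Γ(X, f ⁻¹ᵁ Y₀) ⟶ Spec (CommRingCat.of B₁) :=
    Spec.map (CommRingCat.ofHom (algebraMap B₁ Γ(X, f ⁻¹ᵁ Y₀)))
  let f₁ : Spec (CommRingCat.of B₁) ⟶ Spec Γ(Y, Y₀) :=
    Spec.map (CommRingCat.ofHom (algebraMap Γ(Y, Y₀) B₁))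
  have hp : p ≫ f₁ = f₀ := by
    rw [← Spec.map_comp]
    congr 1
  let g₁ : Spec (CommRingCat.of P₁.Ring) ⟶ Spec (CommRingCat.of B₁) :=
    Spec.map (CommRingCat.ofHom (algebraMap B₁ P₁.Ring))
  haveI : Etale g₁ := HasRingHomProperty.Spec_iff.mpr
    (RingHom.etale_algebraMap.mpr (inferInstance : Algebra.Etale B₁ P₁.Ring))
  let dX : Spec (CommRingCat.of (Γ(X, f ⁻¹ᵁ Y₀) ⊗[B₁] P₁.Ring)) ⟶ Spec Γ(X, f ⁻¹ᵁ Y₀) :=
    Spec.map (CommRingCat.ofHom Algebra.TensorProduct.includeLeftRingHom)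
  let dU : Spec (CommRingCat.of (Γ(X, f ⁻¹ᵁ Y₀) ⊗[B₁] P₁.Ring)) ⟶ Spec (CommRingCat.of P₁.Ring) :=
    Spec.map (CommRingCat.ofHom Algebra.TensorProduct.includeRight.toRingHom)
  have hD : IsPullback dX dU p g₁ :=
    isPullback_SpecMap_of_isPushout _ _ _ _
      (CommRingCat.isPushout_tensorProduct B₁ Γ(X, f ⁻¹ᵁ Y₀) P₁.Ring)
  haveI : IsFinite f₁ := (IsFinite.SpecMap_iff _).mpr (RingHom.finite_algebraMap.mpr hfin)
  have hA : BigSite.PropA f₁ := PropAFin.propA_of_finite f₁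
  let mC : Spec (CommRingCat.of (Localization.Away c)) ⟶ U :=
    Spec.map (CommRingCat.ofHom (algebraMap Γ(U, U₀) (Localization.Away c))) ≫ hU₀.fromSpec
  let m : Spec (CommRingCat.of (Γ(X, f ⁻¹ᵁ Y₀) ⊗[B₁] P₁.Ring)) ⟶ U :=
    Spec.map (CommRingCat.ofHom (e : Localization.Away c →+* _)) ≫ mC
  have hm : m ≫ g = dX ≫ jX := by
    dsimp only [m, mC, dX, jX]
    rw [Category.assoc, Category.assoc, ← IsAffineOpen.SpecMap_appLE_fromSpec g hX₀ hU₀ hU₀X₀,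
      ← Spec.map_comp_assoc, ← Spec.map_comp_assoc]
    congr 2
    ext b
    change e (algebraMap Γ(U, U₀) (Localization.Away c) (algebraMap Γ(X, f ⁻¹ᵁ Y₀) Γ(U, U₀) b)) = _
    rw [← IsScalarTower.algebraMap_apply, e.commutes]
    rfl
  have hmem : hU₀.primeIdealOf ⟨u, huU₀⟩ ∈
      Set.range (PrimeSpectrum.comap (algebraMap Γ(U, U₀) (Localization.Away c))) := by
    rw [PrimeSpectrum.localization_away_comap_range (Localization.Away c) c]
    exact hcQ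
  obtain ⟨q', hq'⟩ := hmem
  let q'' : ↥(Spec (CommRingCat.of (Localization.Away c))) := q'
  let eS : Spec (CommRingCat.of (Localization.Away c)) ⟶
      Spec (CommRingCat.of (Γ(X, f ⁻¹ᵁ Y₀) ⊗[B₁] P₁.Ring)) :=
    Spec.map (CommRingCat.ofHom (e.symm : _ →+* Localization.Away c))
  have hid : eS ≫ Spec.map (CommRingCat.ofHom (e : Localization.Away c →+* _)) = 𝟙 _ := by
    dsimp only [eS]
    rw [← Spec.map_comp, ← Spec.map_id]
    congr 1
    ext x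
    exact e.symm_apply_apply x
  have hd : m (eS q'') = u := by
    have h1 : m (eS q'') = (eS ≫ m) q'' := (Scheme.Hom.comp_apply _ _ _).symm
    rw [h1]
    dsimp only [m]
    rw [reassoc_of% hid]
    dsimp only [mC]
    rw [Scheme.Hom.comp_apply]
    have hq'' : Spec.map (CommRingCat.ofHom (algebraMap Γ(U, U₀) (Localization.Away c))) q'' =
        hU₀.primeIdealOf ⟨u, huU₀⟩ := hq'
    rw [hq'']
    exact hU₀.fromSpec_primeIdealOf ⟨u, huU₀⟩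
  exact assemble f g u jY jX f₀ hf₀ hXr p f₁ hp g₁ dX dU hD m hm (eS q'') hd hA

end Groth.Agent.Lib.Helper23.PropAInt
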