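import Mathlib.Topology.Sheaves.LocallySurjective
import Mathlib.Topology.Sheaves.Functors
import Mathlib.Topology.Sheaves.SheafCondition.UniqueGluing
import Mathlib.Topology.Sheaves.Flasque

/-!
# Direct image of sheaves of sets along a map with finite separated fibres preserves epis
(helper23; for S15582)
-/

universe u
open CategoryTheory TopologicalSpace Opposite

namespace Groth.Agent.Lib.Helper23.PushEpiTop

variable {X : TopCat.{u}}

/-- sections over an empty open set agree -/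
lemma eq_of_le_bot (F : TopCat.Sheaf (Type u) X) (V : Opens X) (hV : V ≤ ⊥)
    (a b : F.obj.obj (op V)) : a = b := by
  refine TopCat.Sheaf.eq_of_locally_eq' F (fun i : Empty => i.elim) V (fun i => i.elim) ?_ a b
    (fun i => i.elim)
  refine hV.trans ?_
  exact bot_le

variable {Y : TopCat.{u}} (π : X ⟶ Y)

theorem core
    (h1 : ∀ (y : Y) (U : Set X), IsOpen U → π ⁻¹' {y} ⊆ U →
      ∃ V : Set Y, IsOpen V ∧ y ∈ V ∧ π ⁻¹' V ⊆ U)
    (h2 : ∀ y : Y, (π ⁻¹' {y}).Finite ∧ ∃ U : X → Set X,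
      (∀ x ∈ π ⁻¹' {y}, IsOpen (U x) ∧ x ∈ U x) ∧ (π ⁻¹' {y}).PairwiseDisjoint U)
    (F G : TopCat.Sheaf (Type u) X) (φ : F ⟶ G)
    (hφ : ∀ (U : Opens X) (t : G.obj.obj (op U)), ∀ x ∈ U, ∃ (V : Opens X) (hV : V ≤ U),
      (∃ s : F.obj.obj (op V), φ.hom.app (op V) s = G.obj.map (homOfLE hV).op t) ∧ x ∈ V)
    (V : Opens Y) (s : G.obj.obj (op ((Opens.map π).obj V))) (y : Y) (hy : y ∈ V) :
    ∃ (W : Opens Y) (hW : W ≤ V), (∃ t : F.obj.obj (op ((Opens.map π).obj W)),
      φ.hom.app (op ((Opens.map π).obj W)) t =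
        G.obj.map (homOfLE (show (Opens.map π).obj W ≤ (Opens.map π).obj V from
          (Opens.map π).monotone hW)).op s) ∧ y ∈ W := by
  obtain ⟨-, U, hU, hdisj⟩ := h2 y
  -- the fibre
  let Z := π ⁻¹' {y}
  have hxV : ∀ x : Z, x.1 ∈ (Opens.map π).obj V := by
    intro x
    have : π x.1 = y := x.2
    show π x.1 ∈ V
    rw [this]; exact hy
  choose W hWle hWs hxW using fun x : Z => hφ _ s x.1 (hxV x)
  choose t ht using hWs
  let Uo : Z → Opens X := fun x => ⟨U x.1, (hU x.1 x.2).1⟩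
  let W' : Z → Opens X := fun x => W x ⊓ Uo x
  have hxW' : ∀ x : Z, x.1 ∈ W' x := fun x => ⟨hxW x, (hU x.1 x.2).2⟩
  let sf : ∀ x : Z, F.obj.obj (op (W' x)) := fun x =>
    F.obj.map (homOfLE (inf_le_left : W' x ≤ W x)).op (t x)
  have hcompat : TopCat.Presheaf.IsCompatible F.obj W' sf := by
    intro i j
    rcases eq_or_ne i j with rfl | hne
    · rfl
    · apply eq_of_le_bot
      have hd : Disjoint (U i.1) (U j.1) := hdisj i.2 j.2 (fun h => hne (Subtype.ext h))
      intro z hz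
      exact (Set.disjoint_iff.mp hd ⟨hz.1.2, hz.2.2⟩).elim
  obtain ⟨T, hT, -⟩ := TopCat.Sheaf.existsUnique_gluing F W' sf hcompat
  -- φ T = s restricted
  have hsup : iSup W' ≤ (Opens.map π).obj V := iSup_le fun x => inf_le_left.trans (hWle x)
  have hφT : φ.hom.app (op (iSup W')) T = G.obj.map (homOfLE hsup).op s := by
    apply TopCat.Sheaf.eq_of_locally_eq G W'
    intro x
    have n1 := NatTrans.naturality_apply φ.hom (Opens.leSupr W' x).op T
    have hTx : F.obj.map (Opens.leSupr W' x).op T = sf x := hT x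
    rw [← n1, hTx]
    have n2 := NatTrans.naturality_apply φ.hom (homOfLE (inf_le_left : W' x ≤ W x)).op (t x)
    show φ.hom.app (op (W' x)) (F.obj.map (homOfLE (inf_le_left : W' x ≤ W x)).op (t x)) = _
    rw [n2, ht x]
    simp only [← Functor.map_comp_apply]
    rfl
  -- the neighbourhood
  obtain ⟨V', hV'o, hyV', hV'⟩ := h1 y (iSup W' : Opens X) (iSup W').2 (by
    intro x hx
    exact Opens.mem_iSup.mpr ⟨⟨x, hx⟩, hxW' ⟨x, hx⟩⟩)
  let Wy : Opens Y := V ⊓ ⟨V', hV'o⟩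
  have hWy : (Opens.map π).obj Wy ≤ iSup W' := fun z hz => hV' hz.2
  refine ⟨Wy, inf_le_left, ⟨F.obj.map (homOfLE hWy).op T, ?_⟩, ⟨hy, hyV'⟩⟩
  have n3 := NatTrans.naturality_apply φ.hom (homOfLE hWy).op T
  rw [n3, hφT]
  simp only [← Functor.map_comp_apply]
  rfl

end Groth.Agent.Lib.Helper23.PushEpiTop
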