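import Mathlib.CategoryTheory.Comma.Basic
import Mathlib.CategoryTheory.Adjunction.FullyFaithful
import Mathlib.CategoryTheory.Limits.Shapes.Pullback.IsPullback.Basic
import Mathlib.CategoryTheory.Limits.Shapes.ZeroObjects
import Mathlib.CategoryTheory.Limits.Preserves.Shapes.Pullbacks

/-!
# Abstract recollement (gluing along a closed/open decomposition)

Given adjunctions `I ⊣ Is`, `J ⊣ Js` (out of the same category `A`) with invertible counits, such
that `I`, `J` preserve pullbacks and jointly reflect isomorphisms and `J ⋙`-image of `Is` vanishes,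
the functor `F ↦ (I F, J F, I F ⟶ I Js J F)` into the comma category is an equivalence.
-/

set_option autoImplicit false

namespace Groth.Agent.Lib.Helper23.Recollement

open CategoryTheory Limits

universe v₁ v₂ v₃ u₁ u₂ u₃

variable {A : Type u₁} {B : Type u₂} {C : Type u₃} [Category.{v₁} A] [Category.{v₂} B]
  [Category.{v₃} C]
  {I : A ⥤ B} {Is : B ⥤ A} (adjI : I ⊣ Is) {J : A ⥤ C} {Js : C ⥤ A} (adjJ : J ⊣ Js)

/-- the recollement functor -/
def triple : A ⥤ Comma (𝟭 B) (Js ⋙ I) where
  obj F :=
    { left := I.obj F
      right := J.obj F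
      hom := I.map (adjJ.unit.app F) }
  map {F G} φ :=
    { left := I.map φ
      right := J.map φ
      w := by
        dsimp
        rw [← Functor.map_comp, ← Functor.map_comp]
        congr 1
        exact (adjJ.unit.naturality φ) }
  map_id F := by ext <;> simp
  map_comp φ ψ := by ext <;> simp

variable [IsIso adjI.counit] [IsIso adjJ.counit] [HasPullbacks A]
  [PreservesLimitsOfShape WalkingCospan I] [PreservesLimitsOfShape WalkingCospan J]
  (hz : ∀ G : B, IsZero (J.obj (Is.obj G)))
  (hc : ∀ {F G : A} (f : F ⟶ G), IsIso (I.map f) → IsIso (J.map f) → IsIso f)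

include adjI in
omit [IsIso adjJ.counit] [HasPullbacks A] [PreservesLimitsOfShape WalkingCospan I]
  [PreservesLimitsOfShape WalkingCospan J] in
lemma isIso_I_unit (F : A) : IsIso (I.map (adjI.unit.app F)) := by
  have h := adjI.left_triangle_components F
  haveI : IsIso (adjI.counit.app (I.obj F)) := inferInstance
  haveI : IsIso (I.map (adjI.unit.app F) ≫ adjI.counit.app (I.obj F)) := by
    rw [h]; exact IsIso.id _
  exact IsIso.of_isIso_comp_right _ (adjI.counit.app (I.obj F))

include hz hc in
lemma isPullback_units (G : A) :
    IsPullback (adjJ.unit.app G) (adjI.unit.app G) (adjI.unit.app (Js.obj (J.obj G)))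
      (Is.map (I.map (adjJ.unit.app G))) := by
  have comm : adjJ.unit.app G ≫ adjI.unit.app (Js.obj (J.obj G)) =
      adjI.unit.app G ≫ Is.map (I.map (adjJ.unit.app G)) :=
    (adjI.unit.naturality (adjJ.unit.app G))
  set f := adjI.unit.app (Js.obj (J.obj G)) with hf
  set g := Is.map (I.map (adjJ.unit.app G)) with hg
  let c : G ⟶ pullback f g := pullback.lift (adjJ.unit.app G) (adjI.unit.app G) comm
  have hP := IsPullback.of_hasPullback f g
  haveI : IsIso c := by
    apply hc
    · have hPI := hP.map I
      haveI : IsIso (I.map f) := isIso_I_unit adjI _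
      haveI : IsIso (I.map (pullback.snd f g)) := hPI.isIso_snd_of_isIso
      haveI : IsIso (I.map (adjI.unit.app G)) := isIso_I_unit adjI _
      haveI : IsIso (I.map c ≫ I.map (pullback.snd f g)) := by
        rw [← I.map_comp, pullback.lift_snd]; infer_instance
      exact IsIso.of_isIso_comp_right _ (I.map (pullback.snd f g))
    · have hPJ := hP.map J
      haveI : IsIso (J.map g) :=
        ⟨⟨(hz _).to_ _, (hz _).eq_of_src _ _, (hz _).eq_of_src _ _⟩⟩
      haveI : IsIso (J.map (pullback.fst f g)) := hPJ.isIso_fst_of_isIso
      haveI : IsIso (J.map (adjJ.unit.app G)) := isIso_I_unit adjJ _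
      haveI : IsIso (J.map c ≫ J.map (pullback.fst f g)) := by
        rw [← J.map_comp, pullback.lift_fst]; infer_instance
      exact IsIso.of_isIso_comp_right _ (J.map (pullback.fst f g))
  exact IsPullback.of_iso_pullback ⟨comm⟩ (asIso c) (pullback.lift_fst _ _ _)
    (pullback.lift_snd _ _ _)

include adjI hz hc in
lemma faithful_triple : (triple (I := I) adjJ).Faithful where
  map_injective {F G} φ ψ h := by
    have h1 : I.map φ = I.map ψ := congrArg CommaMorphism.left h
    have h2 : J.map φ = J.map ψ := congrArg CommaMorphism.right h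
    apply (isPullback_units adjI adjJ hz hc G).hom_ext
    · have e1 := adjJ.unit.naturality φ
      have e2 := adjJ.unit.naturality ψ
      simp only [Functor.id_obj, Functor.id_map, Functor.comp_obj, Functor.comp_map] at e1 e2
      rw [e1, e2, h2]
    · have e1 := adjI.unit.naturality φ
      have e2 := adjI.unit.naturality ψ
      simp only [Functor.id_obj, Functor.id_map, Functor.comp_obj, Functor.comp_map] at e1 e2
      rw [e1, e2, h1]

include adjI hz hc in
lemma full_triple : (triple (I := I) adjJ).Full where
  map_surjective {F G} := by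
    intro t
    let a : I.obj F ⟶ I.obj G := t.left
    let b : J.obj F ⟶ J.obj G := t.right
    have hw : a ≫ I.map (adjJ.unit.app G) = I.map (adjJ.unit.app F) ≫ I.map (Js.map b) :=
      t.w
    have hcomm : (adjJ.unit.app F ≫ Js.map b) ≫ adjI.unit.app (Js.obj (J.obj G)) =
        (adjI.unit.app F ≫ Is.map a) ≫ Is.map (I.map (adjJ.unit.app G)) := by
      have e1 := adjI.unit.naturality (adjJ.unit.app F ≫ Js.map b)
      simp only [Functor.id_obj, Functor.id_map, Functor.comp_obj, Functor.comp_map] at e1
      rw [e1, Category.assoc, ← Is.map_comp, hw, I.map_comp]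
    let φ : F ⟶ G := (isPullback_units adjI adjJ hz hc G).lift _ _ hcomm
    have hφ1 : φ ≫ adjJ.unit.app G = adjJ.unit.app F ≫ Js.map b :=
      (isPullback_units adjI adjJ hz hc G).lift_fst _ _ hcomm
    have hφ2 : φ ≫ adjI.unit.app G = adjI.unit.app F ≫ Is.map a :=
      (isPullback_units adjI adjJ hz hc G).lift_snd _ _ hcomm
    refine ⟨φ, ?_⟩
    apply CommaMorphism.ext
    · change I.map φ = a
      apply (adjI.homEquiv _ _).injective
      rw [Adjunction.homEquiv_unit, Adjunction.homEquiv_unit, ← hφ2]
      exact (adjI.unit.naturality φ).symm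
    · change J.map φ = b
      apply (adjJ.homEquiv _ _).injective
      rw [Adjunction.homEquiv_unit, Adjunction.homEquiv_unit, ← hφ1]
      exact (adjJ.unit.naturality φ).symm

include adjI hz in
omit [HasPullbacks A] in
lemma essSurj_triple [HasPullbacks A] : (triple (I := I) adjJ).EssSurj where
  mem_essImage T := by
    let f := adjI.unit.app (Js.obj T.right)
    let g : Is.obj T.left ⟶ Is.obj (I.obj (Js.obj T.right)) := Is.map T.hom
    let F : A := pullback f g
    have hP := IsPullback.of_hasPullback f g
    have hPI := hP.map I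
    have hPJ := hP.map J
    haveI : IsIso (I.map f) := isIso_I_unit adjI _
    haveI : IsIso (I.map (pullback.snd f g)) := hPI.isIso_snd_of_isIso
    haveI : IsIso (J.map g) :=
      ⟨⟨(hz _).to_ _, (hz _).eq_of_src _ _, (hz _).eq_of_src _ _⟩⟩
    haveI : IsIso (J.map (pullback.fst f g)) := hPJ.isIso_fst_of_isIso
    haveI : IsIso (adjI.counit.app T.left) := inferInstance
    haveI : IsIso (adjJ.counit.app T.right) := inferInstance
    let α : I.obj F ≅ T.left := asIso (I.map (pullback.snd f g)) ≪≫ asIso (adjI.counit.app T.left)
    let β : J.obj F ≅ T.right := asIso (J.map (pullback.fst f g)) ≪≫ asIso (adjJ.counit.app T.right)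
    refine ⟨F, ⟨Comma.isoMk α β ?_⟩⟩
    change (I.map (pullback.snd f g) ≫ adjI.counit.app T.left) ≫ T.hom =
      I.map (adjJ.unit.app F) ≫ I.map (Js.map (J.map (pullback.fst f g) ≫ adjJ.counit.app T.right))
    have e1 : (I.map (pullback.snd f g) ≫ adjI.counit.app T.left) ≫ T.hom =
        I.map (pullback.fst f g) := by
      have n1 := adjI.counit.naturality T.hom
      simp only [Functor.id_obj, Functor.id_map, Functor.comp_obj, Functor.comp_map] at n1
      rw [Category.assoc, ← n1, ← Category.assoc, ← I.map_comp]
      change I.map (pullback.snd f g ≫ g) ≫ _ = _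
      rw [← pullback.condition, I.map_comp, Category.assoc]
      have t1 := adjI.left_triangle_components (Js.obj T.right)
      change I.map f ≫ _ = _ at t1
      rw [t1]
      exact Category.comp_id _
    have e2 : I.map (adjJ.unit.app F) ≫
        I.map (Js.map (J.map (pullback.fst f g) ≫ adjJ.counit.app T.right)) =
        I.map (pullback.fst f g) := by
      rw [← I.map_comp]
      congr 1
      have n1 := adjJ.unit.naturality (pullback.fst f g)
      simp only [Functor.id_obj, Functor.id_map, Functor.comp_obj, Functor.comp_map] at n1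
      rw [Js.map_comp, ← Category.assoc, ← n1, Category.assoc]
      have t1 := adjJ.right_triangle_components T.right
      rw [t1]
      exact Category.comp_id _
    rw [e1, e2]

include adjI hz hc in
theorem isEquivalence_triple : (triple (I := I) adjJ).IsEquivalence := by
  haveI := faithful_triple adjI adjJ hz hc
  haveI := full_triple adjI adjJ hz hc
  haveI := essSurj_triple adjI adjJ hz
  exact { }

end Groth.Agent.Lib.Helper23.Recollement
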