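import Groth.Agent.Lib.Helper23.RpushTors
import Groth.Prelude.Def_EtAcyc

/-!
# Higher direct images of `L`-torsion sheaves along qcqs morphisms are `L`-torsion (helper23)
-/

set_option autoImplicit false
set_option backward.isDefEq.respectTransparency false
set_option backward.isDefEq.respectTransparency.types false

universe u

open CategoryTheory CategoryTheory.Limits Opposite AlgebraicGeometry Abelian

namespace Groth.Agent.Lib.Helper23.RpushTorsL

open Groth.Agent.Lib.Helper23.EtQc Groth.Agent.Lib.Helper23.EtGlue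
open Groth.Agent.Lib.Helper23.RpushTors

variable {X Y : Scheme.{u}}

/-- a sheaf whose sections are locally killed by integers satisfying `P` -/
def IsPTorsion (P : ℕ → Prop) (F : EtCoh.Ab X) : Prop :=
  ∀ (U : X.Etale) (s : EtCoh.sect F U) (x : U.left), ∃ (V : X.Etale) (g : V ⟶ U) (m : ℕ),
    (∃ v : V.left, g.left.base v = x) ∧ P m ∧ m • F.obj.map g.op s = 0

lemma isPTorsion_of_iso (P : ℕ → Prop) {F G : EtCoh.Ab X} (e : F ≅ G) (hF : IsPTorsion P F) :
    IsPTorsion P G := by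
  intro V s x
  obtain ⟨W, g, m, hw, hm, hfin⟩ := hF V (e.inv.hom.app (op V) s) x
  refine ⟨W, g, m, hw, hm, ?_⟩
  have h1 : G.obj.map g.op s = e.hom.hom.app (op W) (F.obj.map g.op (e.inv.hom.app (op V) s)) := by
    have nat := ConcreteCategory.congr_hom (e.hom.hom.naturality g.op) (e.inv.hom.app (op V) s)
    simp only [ConcreteCategory.comp_apply] at nat
    rw [nat]
    congr 1
    have h2' : e.inv.hom ≫ e.hom.hom = 𝟙 _ := congrArg (fun f => f.hom) e.inv_hom_id
    have h2 : e.inv.hom.app (op V) ≫ e.hom.hom.app (op V) = 𝟙 _ :=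
      congrArg (fun t => t.app (op V)) h2'
    have h3 := ConcreteCategory.congr_hom h2 s
    simp only [ConcreteCategory.comp_apply] at h3
    exact h3.symm
  rw [h1, ← map_nsmul, hfin, map_zero]

section

variable (f : X ⟶ Y) [QuasiCompact f] [QuasiSeparated f] [EtCoh.BCCont f] (P : ℕ → Prop)

theorem isPTorsion_push (F : EtCoh.Ab X)
    (hF : ∀ (W : X.Etale) [CompactSpace W.left] [QuasiSeparatedSpace W.left] (n : ℕ)
      (x : Ext.{u + 1} (ZW W) F n), ∃ N : ℕ, P N ∧ N • x = 0) :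
    IsPTorsion P ((EtCoh.push f).obj F) := by
  intro V s v
  obtain ⟨V', g, hV', hv'⟩ := exists_affine_nbhd V v
  haveI := hV'
  obtain ⟨hc, hq⟩ := qcqs_bc f V'
  haveI := hc
  haveI := hq
  let WX : X.Etale := (EtCoh.bc f).obj V'
  let s' : F.obj.obj (op WX) := ((EtCoh.push f).obj F).obj.map g.op s
  let ψ : ZW WX ⟶ F := (rep WX F).symm s'
  obtain ⟨N, hN, hx⟩ := hF WX 0 (Ext.mk₀ ψ)
  refine ⟨V', g, N, hv', hN, ?_⟩
  have h1 : Ext.addEquiv₀ (N • Ext.mk₀ ψ) = N • ψ := by
    rw [map_nsmul]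
    congr 1
    exact Ext.addEquiv₀.apply_symm_apply ψ
  rw [hx, map_zero] at h1
  have h2 : N • s' = 0 := by
    have := rep_nsmul WX F ψ N
    rw [← h1, rep_zero] at this
    rw [this]
    congr 1
    exact ((rep WX F).apply_symm_apply s').symm
  exact h2

theorem isPTorsion_homology (F : EtCoh.Ab X)
    (hF : ∀ (W : X.Etale) [CompactSpace W.left] [QuasiSeparatedSpace W.left] (n : ℕ)
      (x : Ext.{u + 1} (ZW W) F n), ∃ N : ℕ, P N ∧ N • x = 0)
    (R : InjectiveResolution F) (p : ℕ) :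
    IsPTorsion P ((((EtCoh.push f).mapHomologicalComplex (ComplexShape.up ℕ)).obj
      R.cocomplex).homology (p + 1)) := by
  intro V s v
  let K := ((EtCoh.push f).mapHomologicalComplex (ComplexShape.up ℕ)).obj R.cocomplex
  have hπ : Presheaf.IsLocallySurjective Y.smallEtaleTopology (K.homologyπ (p + 1)).hom :=
    (Sheaf.isLocallySurjective_iff_epi' AddCommGrpCat.{u + 1} (K.homologyπ (p + 1))).2
      inferInstance
  obtain ⟨V₁, g₁, ⟨z₁, hz₁⟩, v₁, hv₁⟩ :=
    exists_arrow_of_mem _ (hπ.imageSieve_mem s) v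
  obtain ⟨V₂, g₂, hV₂, v₂, hv₂⟩ := exists_affine_nbhd V₁ v₁
  haveI := hV₂
  obtain ⟨hc, hq⟩ := qcqs_bc f V₂
  haveI := hc
  haveI := hq
  let WX : X.Etale := (EtCoh.bc f).obj V₂
  let z₂ : (K.cycles (p + 1)).obj.obj (op V₂) :=
    (ConcreteCategory.hom ((K.cycles (p + 1)).obj.map g₂.op)) z₁
  have hz₂ : (ConcreteCategory.hom ((K.homologyπ (p + 1)).hom.app (op V₂))) z₂ =
      (ConcreteCategory.hom ((K.homology (p + 1)).obj.map (g₂ ≫ g₁).op)) s := by
    rw [naturality_apply]
    have : (ConcreteCategory.hom ((K.homologyπ (p + 1)).hom.app (op V₁))) z₁ =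
        (ConcreteCategory.hom ((K.homology (p + 1)).obj.map g₁.op)) s := hz₁
    rw [this, op_comp, Functor.map_comp]
    rfl
  let c : (R.cocomplex.X (p + 1)).obj.obj (op WX) :=
    (ConcreteCategory.hom ((K.iCycles (p + 1)).hom.app (op V₂))) z₂
  have hdc : (ConcreteCategory.hom ((R.cocomplex.d (p + 1) (p + 1 + 1)).hom.app (op WX))) c = 0 := by
    have h0 : K.iCycles (p + 1) ≫ K.d (p + 1) (p + 1 + 1) = 0 := K.iCycles_d _ _
    have h1 := comp_app_apply (K.iCycles (p + 1)) (K.d (p + 1) (p + 1 + 1)) (op V₂) z₂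
    rw [h0] at h1
    exact h1.symm
  let φ : ZW WX ⟶ R.cocomplex.X (p + 1) := (rep WX _).symm c
  have hφ : φ ≫ R.cocomplex.d (p + 1) (p + 1 + 1) = 0 := by
    apply (rep WX _).injective
    rw [rep_naturality, rep_zero, Equiv.apply_symm_apply]
    exact hdc
  obtain ⟨N, hN, hx⟩ := hF WX (p + 1) (R.extMk φ (p + 1 + 1) rfl hφ)
  refine ⟨V₂, g₂ ≫ g₁, N, ⟨v₂, ?_⟩, hN, ?_⟩
  · change g₁.left.base (g₂.left.base v₂) = v
    rw [hv₂]
    exact hv₁
  rw [nsmul_extMk] at hx
  obtain ⟨g, hg⟩ := (R.extMk_eq_zero_iff _ _ rfl _ p rfl).1 hx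
  let w : (R.cocomplex.X p).obj.obj (op WX) := rep WX _ g
  have hdw : (ConcreteCategory.hom ((R.cocomplex.d p (p + 1)).hom.app (op WX))) w = N • c := by
    have h1 := rep_naturality WX g (R.cocomplex.d p (p + 1))
    rw [hg, rep_nsmul, Equiv.apply_symm_apply] at h1
    exact h1.symm
  let t : (K.cycles (p + 1)).obj.obj (op V₂) :=
    (ConcreteCategory.hom ((K.toCycles p (p + 1)).hom.app (op V₂))) w
  have ht : t = N • z₂ := by
    apply app_injective_of_mono (K.iCycles (p + 1)) (op V₂)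
    rw [map_nsmul]
    have h1 := comp_app_apply (K.toCycles p (p + 1)) (K.iCycles (p + 1)) (op V₂) w
    rw [K.toCycles_i] at h1
    exact h1.symm.trans hdw
  have hπt : (ConcreteCategory.hom ((K.homologyπ (p + 1)).hom.app (op V₂))) t = 0 := by
    have h1 := comp_app_apply (K.toCycles p (p + 1)) (K.homologyπ (p + 1)) (op V₂) w
    rw [K.toCycles_comp_homologyπ] at h1
    exact h1.symm
  change N • (ConcreteCategory.hom ((K.homology (p + 1)).obj.map (g₂ ≫ g₁).op)) s = 0
  rw [← hz₂, ← map_nsmul, ← ht]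
  exact hπt

theorem isPTorsion_Rpush (F : EtCoh.Ab X)
    (hF : ∀ (W : X.Etale) [CompactSpace W.left] [QuasiSeparatedSpace W.left] (n : ℕ)
      (x : Ext.{u + 1} (ZW W) F n), ∃ N : ℕ, P N ∧ N • x = 0) (n : ℕ) :
    IsPTorsion P ((EtCoh.Rpush f n).obj F) := by
  cases n with
  | zero =>
    have e : (EtCoh.Rpush f 0).obj F ≅ (EtCoh.push f).obj F :=
      (Functor.rightDerivedZeroIsoSelf (EtCoh.push f)).app F
    exact isPTorsion_of_iso P e.symm (isPTorsion_push f P F hF)
  | succ p =>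
    let R := injectiveResolution F
    have e := R.isoRightDerivedObj (EtCoh.push f) (p + 1)
    exact isPTorsion_of_iso P e.symm (isPTorsion_homology f P F hF R p)

end

end Groth.Agent.Lib.Helper23.RpushTorsL
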