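import Groth.Agent.Lib.Helper23.RpushTorsL

/-!
# `L`-torsion sheaves: Ext groups over qcqs objects are `L`-torsion (helper23)
-/

set_option autoImplicit false
set_option backward.isDefEq.respectTransparency false
set_option backward.isDefEq.respectTransparency.types false

universe u

open CategoryTheory CategoryTheory.Limits Opposite AlgebraicGeometry Abelian

namespace Groth.Agent.Lib.Helper23.RpushTorsL

open Groth.Agent.Lib.Helper23.EtQc Groth.Agent.Lib.Helper23.EtGlue
open Groth.Agent.Lib.Helper23.RpushTors Groth.Agent.Lib.Helper27.EtTransport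

variable {X Y : Scheme.{u}}

lemma isTorsion_of_isLTorsion (L : Set ℕ) (F : EtCoh.Ab X) (hF : EtAcyc.IsLTorsion L F) :
    EtCoh.IsTorsion F := by
  intro U s x
  obtain ⟨V, g, m, hv, hm, h0⟩ := hF U s x
  refine ⟨V, g, hv, ?_⟩
  rw [isOfFinAddOrder_iff_nsmul_eq_zero]
  exact ⟨m, hm.1, h0⟩

/-- Bezout, for a prime outside `L` and an `L`-number -/
lemma exists_bezout (L : Set ℕ) (q : ℕ) (hq : q.Prime) (hqL : q ∉ L) (m : ℕ)
    (hm : EtAcyc.PrimesIn L m) : ∃ a b : ℤ, a * (q : ℤ) + b * (m : ℤ) = 1 := by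
  have hcop : Nat.Coprime q m :=
    (Nat.Prime.coprime_iff_not_dvd hq).2 (fun h => hqL (hm.2 q hq h))
  have h1 := Nat.gcd_eq_gcd_ab q m
  rw [hcop.gcd_eq_one] at h1
  refine ⟨Nat.gcdA q m, Nat.gcdB q m, ?_⟩
  rw [mul_comm (Nat.gcdA q m), mul_comm (Nat.gcdB q m)]
  exact_mod_cast h1.symm

lemma isIso_nsmul (L : Set ℕ) (F : EtCoh.Ab X) (hF : EtAcyc.IsLTorsion L F) (q : ℕ)
    (hq : q.Prime) (hqL : q ∉ L) : IsIso (q • 𝟙 F : F ⟶ F) := by
  have hinj : ∀ U : X.Etaleᵒᵖ, Function.Injective ((q • 𝟙 F : F ⟶ F).hom.app U) := by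
    intro U
    induction U with
    | op U =>
    rw [← AddMonoidHom.coe_coe, injective_iff_map_eq_zero]
    intro s hs
    have hs' : q • s = 0 := (nsmul_id_app F q U s).symm.trans hs
    apply eq_zero_of_locally
    intro x
    obtain ⟨V, g, m, ⟨v, hv⟩, hm, h0⟩ := hF U s x
    refine ⟨V, g, ⟨v, hv⟩, ?_⟩
    obtain ⟨a, b, hab⟩ := exists_bezout L q hq hqL m hm
    have h1 : q • F.obj.map g.op s = 0 := by rw [← map_nsmul, hs', map_zero]
    calc F.obj.map g.op s = (1 : ℤ) • F.obj.map g.op s := (one_zsmul _).symm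
      _ = (a * (q : ℤ) + b * (m : ℤ)) • F.obj.map g.op s := by rw [hab]
      _ = a • ((q : ℤ) • F.obj.map g.op s) + b • ((m : ℤ) • F.obj.map g.op s) := by
          rw [add_smul, mul_smul, mul_smul]
      _ = 0 := by rw [natCast_zsmul, natCast_zsmul, h1, h0, smul_zero, smul_zero, add_zero]
  haveI : Mono (q • 𝟙 F : F ⟶ F) := by
    have := Presheaf.isLocallyInjective_of_injective X.smallEtaleTopology
      (q • 𝟙 F : F ⟶ F).hom hinj
    exact Sheaf.mono_of_isLocallyInjective _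
  haveI : Epi (q • 𝟙 F : F ⟶ F) := by
    have : Presheaf.IsLocallySurjective X.smallEtaleTopology (q • 𝟙 F : F ⟶ F).hom := by
      refine ⟨fun {U} s => ?_⟩
      apply sieve_mem_of_forall_point
      intro x
      obtain ⟨V, g, m, ⟨v, hv⟩, hm, h0⟩ := hF U s x
      obtain ⟨a, b, hab⟩ := exists_bezout L q hq hqL m hm
      refine ⟨V, g, ⟨a • F.obj.map g.op s, ?_⟩, ⟨v, hv⟩⟩
      have h2 : ((q • 𝟙 F : F ⟶ F).hom.app (op V)) (a • F.obj.map g.op s) =
          q • (a • F.obj.map g.op s) := nsmul_id_app F q V _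
      refine h2.trans ?_
      calc q • (a • F.obj.map g.op s) = (a * (q : ℤ)) • F.obj.map g.op s := by
            rw [← natCast_zsmul, ← mul_smul, mul_comm]
        _ = (a * (q : ℤ)) • F.obj.map g.op s + b • ((m : ℤ) • F.obj.map g.op s) := by
            rw [natCast_zsmul, h0, smul_zero, add_zero]
        _ = (a * (q : ℤ) + b * (m : ℤ)) • F.obj.map g.op s := by
            rw [add_smul, mul_smul b]
        _ = F.obj.map g.op s := by rw [hab, one_zsmul]
    exact (Sheaf.isLocallySurjective_iff_epi' AddCommGrpCat.{u + 1} _).1 this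
  exact isIso_of_mono_of_epi _

/-- Ext groups of an `L`-torsion sheaf over a qcqs object are `L`-torsion -/
theorem exists_primesIn_nsmul_ext_eq_zero (L : Set ℕ) (W : X.Etale) [CompactSpace W.left]
    [QuasiSeparatedSpace W.left] (F : EtCoh.Ab X) (hF : EtAcyc.IsLTorsion L F) (n : ℕ)
    (x : Ext.{u + 1} (ZW W) F n) : ∃ N : ℕ, EtAcyc.PrimesIn L N ∧ N • x = 0 := by
  obtain ⟨N, hN, hx⟩ := exists_nsmul_ext_eq_zero W F (isTorsion_of_isLTorsion L F hF) n x
  -- multiplication by a prime outside `L` is injective on the Ext group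
  have hinj : ∀ q : ℕ, q.Prime → q ∉ L → ∀ y : Ext.{u + 1} (ZW W) F n, q • y = 0 → y = 0 := by
    intro q hq hqL y hy
    let T : EtCoh.Ab X ⥤ AddCommGrpCat.{u + 1} := extFunctorObj.{u + 1} (ZW W) n
    haveI := isIso_nsmul L F hF q hq hqL
    have h2 : T.map (q • 𝟙 F : F ⟶ F) = q • 𝟙 (T.obj F) := by
      rw [Functor.map_nsmul, CategoryTheory.Functor.map_id]
    haveI : IsIso (q • 𝟙 (T.obj F) : T.obj F ⟶ T.obj F) := by
      rw [← h2]
      infer_instance
    have hb := ConcreteCategory.bijective_of_isIso (q • 𝟙 (T.obj F) : T.obj F ⟶ T.obj F)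
    apply hb.1
    change (q • 𝟙 (T.obj F) : T.obj F ⟶ T.obj F) y = (q • 𝟙 (T.obj F) : T.obj F ⟶ T.obj F) 0
    rw [nsmul_id_apply', nsmul_id_apply', smul_zero]
    exact hy
  revert x
  induction N using Nat.strong_induction_on with
  | _ N ih =>
    intro x hx
    by_cases h : ∀ p : ℕ, p.Prime → p ∣ N → p ∈ L
    · exact ⟨N, ⟨hN, h⟩, hx⟩
    · push Not at h
      obtain ⟨q, hq, ⟨N₁, rfl⟩, hqL⟩ := h
      have hN₁ : 0 < N₁ := Nat.pos_of_mul_pos_left hN |> fun _ => by
        rcases Nat.eq_zero_or_pos N₁ with h0 | h0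
        · rw [h0, mul_zero] at hN
          exact absurd hN (lt_irrefl 0)
        · exact h0
      have hlt : N₁ < q * N₁ := by
        have := hq.one_lt
        nlinarith
      have hx' : N₁ • x = 0 := by
        apply hinj q hq hqL
        rw [← mul_nsmul', hx]
      exact ih N₁ hlt hN₁ x hx'

end Groth.Agent.Lib.Helper23.RpushTorsL
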