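import Groth.Agent.S3047
import Groth.Prelude.Def_EtBCD
import Mathlib.CategoryTheory.Topos.Sheaf

/-!
# Pullback of global sections of sheaves of sets on small etale sites (helper23)
-/

set_option autoImplicit false
set_option backward.isDefEq.respectTransparency false
set_option backward.isDefEq.respectTransparency.types false

universe u

open CategoryTheory CategoryTheory.Limits Opposite AlgebraicGeometry GrothendieckTopology

namespace Groth.Agent.Lib.Helper23.SecPull

open Groth.Agent.S3047

variable {X Y : Scheme.{u}}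

instance i2 : AB5OfSize.{u, u} (Type (u + 1)) :=
  AB5OfSize_shrink.{u, u, u + 1, u + 1} (Type (u + 1))

/-- a monomorphism of sheaves of sets is injective on sections -/
lemma app_injective_of_mono {F G : EtDesc.Sh X} (φ : F ⟶ G) [Mono φ] (U : X.Etaleᵒᵖ) :
    Function.Injective (φ.hom.app U) := by
  haveI : (sheafToPresheaf X.smallEtaleTopology (Type (u + 1))).IsRightAdjoint :=
    (sheafificationAdjunction X.smallEtaleTopology (Type (u + 1))).isRightAdjoint
  haveI : Mono ((sheafToPresheaf X.smallEtaleTopology (Type (u + 1))).map φ) := inferInstance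
  haveI : Mono φ.hom := this
  haveI : Mono (φ.hom.app U) := inferInstance
  exact (mono_iff_injective (φ.hom.app U)).1 inferInstance

/-- naturality of `secPull` in the sheaf -/
lemma secPull_naturality (f : X ⟶ Y) {F G : EtDesc.Sh Y} (φ : F ⟶ G)
    (s : EtDesc.sect F (EtCoh.top Y)) :
    EtDesc.secPull f G (φ.hom.app _ s) =
      ((EtDesc.pullSh f).map φ).hom.app _ (EtDesc.secPull f F s) := by
  unfold EtDesc.secPull
  have h1 := (EtDesc.adjSh f).unit.naturality φ
  have h2 := congrArg (fun t => t.hom.app (op (EtCoh.top Y)) s) h1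
  simp only [Functor.id_obj, Functor.id_map, Functor.comp_obj, Functor.comp_map] at h2
  have h3 := ConcreteCategory.congr_hom
    (((EtDesc.pullSh f).map φ).hom.naturality (EtCore.bcTopIso f).inv.op)
    (((EtDesc.adjSh f).unit.app F).hom.app (op (EtCoh.top Y)) s)
  simp only [ConcreteCategory.comp_apply] at h3
  refine Eq.trans ?_ h3.symm
  congr 1

/-- inverse image of sheaves of sets preserves monomorphisms -/
lemma mono_pullSh_map (f : X ⟶ Y) {F G : EtDesc.Sh Y} (φ : F ⟶ G) [Mono φ] :
    Mono ((EtDesc.pullSh f).map φ) := by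
  have hP : (ObjectProperty.ofObj
      (fun x : X ↦ Scheme.pointSmallEtale (gp X x))).IsConservativeFamilyOfPoints := by
    apply Scheme.isConservative_pointSmallEtale
    ext x
    simp only [Set.mem_iUnion, Set.mem_range, Set.mem_univ, iff_true]
    exact ⟨x, default, gp_apply X x _⟩
  have : Sheaf.IsLocallyInjective ((EtDesc.pullSh f).map φ) := by
    apply Groth.Agent.Lib.Helper23.PointStalk.isLocallyInjective_of_fibers hP
    rintro ⟨Ψ, ⟨x⟩⟩
    have h1 : Mono (((Scheme.pointSmallEtale (gp X x ≫ f)).sheafFiber
        (A := Type (u + 1))).map φ) := inferInstance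
    have h2 : Mono ((EtDesc.pullSh f ⋙
        (Scheme.pointSmallEtale (gp X x)).sheafFiber (A := Type (u + 1))).map φ) := by
      have nat := (θ f x).hom.naturality φ
      have e : (EtDesc.pullSh f ⋙
          (Scheme.pointSmallEtale (gp X x)).sheafFiber (A := Type (u + 1))).map φ =
          (θ f x).inv.app F ≫ ((Scheme.pointSmallEtale (gp X x ≫ f)).sheafFiber
            (A := Type (u + 1))).map φ ≫ (θ f x).hom.app G := by
        rw [nat, Iso.inv_hom_id_app_assoc]
      rw [e]
      infer_instance
    exact (mono_iff_injective _).1 h2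
  exact Sheaf.mono_of_isLocallyInjective _

/-- if pullback of global sections along `h` is injective for all sheaves of sets, then a section of
`h^* F` whose image in `h^* G` (for `F ⊆ G`) comes from `X` already comes from `X` -/
theorem mem_range_secPull_of_mono {X Y : Scheme.{u}} (h : Y ⟶ X)
    (hinj : ∀ F : EtDesc.Sh X, Function.Injective (EtDesc.secPull h F))
    {F G : EtDesc.Sh X} (u : F ⟶ G) [Mono u]
    (ξ : EtDesc.sect ((EtDesc.pullSh h).obj F) (EtCoh.top Y))
    (hξ : ((EtDesc.pullSh h).map u).hom.app (op (EtCoh.top Y)) ξ ∈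
      Set.range (EtDesc.secPull h G)) :
    ξ ∈ Set.range (EtDesc.secPull h F) := by
  obtain ⟨g, hg⟩ := hξ
  let Ω : EtDesc.Sh X := Sheaf.Ω X.smallEtaleTopology
  let χ : G ⟶ Ω := Sheaf.χ u
  let t : G ⟶ Ω := (Sheaf.isTerminalTerminal X.smallEtaleTopology _).from G ≫
    Sheaf.truth X.smallEtaleTopology
  have hχt : u ≫ χ = u ≫ t := by
    have := (Sheaf.isPullback_χ_truth u).w
    rw [this, ← Category.assoc]
    congr 1
  have h1 : EtDesc.secPull h Ω (χ.hom.app _ g) = EtDesc.secPull h Ω (t.hom.app _ g) := by
    rw [secPull_naturality, secPull_naturality, hg]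
    have := congrArg (fun m => ((EtDesc.pullSh h).map m).hom.app (op (EtCoh.top Y)) ξ) hχt
    simp only [Functor.map_comp] at this
    exact this
  have h2 := hinj Ω h1
  have h3 : ((χ.hom.app (op (EtCoh.top X)) g).1).arrows (𝟙 _) := by
    rw [h2]
    trivial
  obtain ⟨a, ha⟩ := h3
  refine ⟨a, ?_⟩
  haveI := mono_pullSh_map h u
  apply app_injective_of_mono ((EtDesc.pullSh h).map u)
  rw [← secPull_naturality, ← hg]
  congr 1
  rw [← ha]
  simp

end Groth.Agent.Lib.Helper23.SecPull
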