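import Groth.Agent.Lib.Helper23.SecPull
import Groth.Agent.S5592

/-!
# `secPull` and composition / base change (sheaves of sets, helper23)
-/

set_option autoImplicit false
set_option backward.isDefEq.respectTransparency false
set_option backward.isDefEq.respectTransparency.types false

universe u

open CategoryTheory CategoryTheory.Limits Opposite AlgebraicGeometry EtCore

namespace Groth.Agent.Lib.Helper23.SecPull

open Groth.Agent.S5592

variable {X Y Z : Scheme.{u}}

/-- global sections of sheaves of sets -/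
noncomputable abbrev gsecSh (X : Scheme.{u}) : EtDesc.Sh X ⥤ Type (u + 1) :=
  (sheafSections X.smallEtaleTopology (Type (u + 1))).obj (op (EtCoh.top X))

/-- the map `Γ(Y, G) ⟶ Γ(X, f^* G)` as a morphism of types -/
noncomputable def sharpSh (f : X ⟶ Y) (G : EtDesc.Sh Y) :
    (gsecSh Y).obj G ⟶ (gsecSh X).obj ((EtDesc.pullSh f).obj G) :=
  (gsecSh Y).map ((EtDesc.adjSh f).unit.app G) ≫ (pushShSecIso f).hom.app ((EtDesc.pullSh f).obj G)

lemma sharpSh_apply (f : X ⟶ Y) (G : EtDesc.Sh Y) (s : EtDesc.sect G (EtCoh.top Y)) :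
    sharpSh f G s = EtDesc.secPull f G s := rfl

/-- compatibility of `pushShSecIso` with composition of direct images -/
lemma pushCompSh_pushShSecIso (f : X ⟶ Y) (g : Y ⟶ Z) (H : EtDesc.Sh X) :
    (gsecSh Z).map ((EtDesc.pushCompSh g f).hom.app H) ≫ (pushShSecIso (f ≫ g)).hom.app H =
      (pushShSecIso g).hom.app ((EtDesc.pushSh f).obj H) ≫ (pushShSecIso f).hom.app H := by
  have hT : IsTerminal ((EtCoh.bc f).obj ((EtCoh.bc g).obj (EtCoh.top Z))) :=
    IsTerminal.isTerminalObj (EtCoh.bc f) _ (bcTopIsTerminal g)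
  dsimp [pushShSecIso, EtDesc.pushCompSh]
  rw [Functor.sheafPushforwardContinuousComp'_hom_app_hom_app]
  change _ = H.obj.map ((EtCoh.bc f).map (bcTopIso g).inv).op ≫ H.obj.map (bcTopIso f).op.inv
  rw [← Functor.map_comp, ← Functor.map_comp]
  congr 1
  apply Quiver.Hom.unop_inj
  exact hT.hom_ext _ _

/-- compatibility of `pushShSecIso` with transport along an equality of morphisms -/
lemma pushCongrSh_pushShSecIso {f f' : X ⟶ Y} (w : f = f') (H : EtDesc.Sh X) :
    (gsecSh Y).map ((EtBC.pushCongrSh w).hom.app H) ≫ (pushShSecIso f').hom.app H =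
      (pushShSecIso f).hom.app H := by
  change H.obj.map ((MorphismProperty.Over.pullbackCongr (P := EtCoh.etaleMP) (Q := ⊤) w).inv.app
    (EtCoh.top Y)).op ≫ H.obj.map (bcTopIso f').op.inv = H.obj.map (bcTopIso f).op.inv
  rw [← Functor.map_comp]
  congr 1
  apply Quiver.Hom.unop_inj
  exact (bcTopIsTerminal f).hom_ext _ _

/-- compatibility of the maps on global sections with composition -/
lemma sharpSh_comp (f : X ⟶ Y) (g : Y ⟶ Z) (G : EtDesc.Sh Z) :
    sharpSh (f ≫ g) G ≫ (gsecSh X).map ((EtDesc.pullCompSh f g).hom.app G) =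
      sharpSh g G ≫ sharpSh f ((EtDesc.pullSh g).obj G) := by
  have h := Adjunction.unit_leftAdjointUniq_hom_app (EtDesc.adjSh (f ≫ g))
    (((EtDesc.adjSh g).comp (EtDesc.adjSh f)).ofNatIsoRight (EtDesc.pushCompSh g f)) G
  rw [Adjunction.ofNatIsoRight_unit, NatTrans.comp_app, Functor.whiskerLeft_app,
    Adjunction.comp_unit_app] at h
  simp only [Functor.comp_obj] at h
  have h2 := (pushShSecIso (f ≫ g)).hom.naturality ((EtDesc.pullCompSh f g).hom.app G)
  have h3 := (pushShSecIso g).hom.naturality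
    ((EtDesc.adjSh f).unit.app ((EtDesc.pullSh g).obj G))
  simp only [Functor.comp_obj, Functor.comp_map, Functor.id_obj] at h2 h3
  have h4 := pushCompSh_pushShSecIso f g ((EtDesc.pullSh f).obj ((EtDesc.pullSh g).obj G))
  calc sharpSh (f ≫ g) G ≫ (gsecSh X).map ((EtDesc.pullCompSh f g).hom.app G)
      = (gsecSh Z).map ((EtDesc.adjSh (f ≫ g)).unit.app G ≫
          (EtDesc.pushSh (f ≫ g)).map ((EtDesc.pullCompSh f g).hom.app G)) ≫
          (pushShSecIso (f ≫ g)).hom.app ((EtDesc.pullSh f).obj ((EtDesc.pullSh g).obj G)) := by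
        rw [sharpSh, Category.assoc, ← h2, Functor.map_comp, Category.assoc]
    _ = (gsecSh Z).map ((EtDesc.adjSh g).unit.app G) ≫
          (gsecSh Z).map ((EtDesc.pushSh g).map
            ((EtDesc.adjSh f).unit.app ((EtDesc.pullSh g).obj G))) ≫
          ((gsecSh Z).map ((EtDesc.pushCompSh g f).hom.app
            ((EtDesc.pullSh f).obj ((EtDesc.pullSh g).obj G))) ≫
          (pushShSecIso (f ≫ g)).hom.app ((EtDesc.pullSh f).obj ((EtDesc.pullSh g).obj G))) := by
        have h' : (EtDesc.adjSh (f ≫ g)).unit.app G ≫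
            (EtDesc.pushSh (f ≫ g)).map ((EtDesc.pullCompSh f g).hom.app G) = _ := h
        rw [h', Functor.map_comp, Functor.map_comp, Category.assoc, Category.assoc]
    _ = sharpSh g G ≫ sharpSh f ((EtDesc.pullSh g).obj G) := by
        rw [h4, sharpSh, sharpSh, Category.assoc, reassoc_of% h3]

/-- `secPull` along a composite -/
lemma secPull_comp (f : X ⟶ Y) (g : Y ⟶ Z) (G : EtDesc.Sh Z)
    (s : EtDesc.sect G (EtCoh.top Z)) :
    ((EtDesc.pullCompSh f g).hom.app G).hom.app (op (EtCoh.top X))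
        (EtDesc.secPull (f ≫ g) G s) =
      EtDesc.secPull f ((EtDesc.pullSh g).obj G) (EtDesc.secPull g G s) :=
  ConcreteCategory.congr_hom (sharpSh_comp f g G) s

end Groth.Agent.Lib.Helper23.SecPull
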