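import Groth.Agent.Lib.Helper23.SecPull2

/-!
# `secPull` and the base change map for sheaves of sets (helper23)
-/

set_option autoImplicit false
set_option backward.isDefEq.respectTransparency false
set_option backward.isDefEq.respectTransparency.types false

universe u

open CategoryTheory CategoryTheory.Limits Opposite AlgebraicGeometry EtCore

namespace Groth.Agent.Lib.Helper23.SecPull

open Groth.Agent.S5592

variable {X S X' S' : Scheme.{u}} (f : X ⟶ S) (g : S' ⟶ S) (f' : X' ⟶ S') (g' : X' ⟶ X)
  (w : g' ≫ f = f' ≫ g) (F : EtDesc.Sh X)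

/-- the morphism whose adjunct is the base change map -/
noncomputable def bcφ : (EtDesc.pushSh f).obj F ⟶
    (EtDesc.pushSh g).obj ((EtDesc.pushSh f').obj ((EtDesc.pullSh g').obj F)) :=
  (EtDesc.pushSh f).map ((EtDesc.adjSh g').unit.app F) ≫ (EtDesc.pushCompSh f g').hom.app _ ≫
    (EtBC.pushCongrSh w).hom.app _ ≫ (EtDesc.pushCompSh g f').inv.app _

lemma unit_baseChange0Sh :
    (EtDesc.adjSh g).unit.app ((EtDesc.pushSh f).obj F) ≫
      (EtDesc.pushSh g).map (EtBC.baseChange0Sh f g f' g' w F) = bcφ f g f' g' w F := by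
  have h := ((EtDesc.adjSh g).homEquiv _ _).apply_symm_apply (bcφ f g f' g' w F)
  rw [Adjunction.homEquiv_unit] at h
  exact h

lemma bcφ_pushShSecIso :
    (gsecSh S).map (bcφ f g f' g' w F) ≫
        (pushShSecIso g).hom.app ((EtDesc.pushSh f').obj ((EtDesc.pullSh g').obj F)) ≫
          (pushShSecIso f').hom.app ((EtDesc.pullSh g').obj F) =
      (pushShSecIso f).hom.app F ≫ sharpSh g' F := by
  have e1 := pushCompSh_pushShSecIso f' g ((EtDesc.pullSh g').obj F)
  have e2 := pushCongrSh_pushShSecIso w ((EtDesc.pullSh g').obj F)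
  have e3 := pushCompSh_pushShSecIso g' f ((EtDesc.pullSh g').obj F)
  have e4 := (pushShSecIso f).hom.naturality ((EtDesc.adjSh g').unit.app F)
  simp only [Functor.comp_obj, Functor.comp_map, Functor.id_obj] at e4
  have e1' : (gsecSh S).map ((EtDesc.pushCompSh g f').inv.app ((EtDesc.pullSh g').obj F)) ≫
      (pushShSecIso g).hom.app ((EtDesc.pushSh f').obj ((EtDesc.pullSh g').obj F)) ≫
        (pushShSecIso f').hom.app ((EtDesc.pullSh g').obj F) =
      (pushShSecIso (f' ≫ g)).hom.app ((EtDesc.pullSh g').obj F) := by
    rw [← e1, ← Category.assoc, ← Functor.map_comp, Iso.inv_hom_id_app, CategoryTheory.Functor.map_id,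
      Category.id_comp]
  unfold bcφ
  simp only [Functor.map_comp, Category.assoc]
  rw [e1', e2, e3, sharpSh, reassoc_of% e4]

/-- compatibility of `secPull` with the base change map -/
lemma sharpSh_baseChange0Sh :
    sharpSh g ((EtDesc.pushSh f).obj F) ≫ (gsecSh S').map (EtBC.baseChange0Sh f g f' g' w F) ≫
        (pushShSecIso f').hom.app ((EtDesc.pullSh g').obj F) =
      (pushShSecIso f).hom.app F ≫ sharpSh g' F := by
  have nat := (pushShSecIso g).hom.naturality (EtBC.baseChange0Sh f g f' g' w F)
  simp only [Functor.comp_obj, Functor.comp_map] at nat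
  rw [sharpSh, Category.assoc, ← reassoc_of% nat, ← Functor.map_comp_assoc,
    unit_baseChange0Sh]
  exact bcφ_pushShSecIso f g f' g' w F

lemma pushShSecIso_bijective {X Y : Scheme.{u}} (f : X ⟶ Y) (F : EtDesc.Sh X) :
    Function.Bijective ((pushShSecIso f).hom.app F) :=
  (isIso_iff_bijective _).1 inferInstance

lemma secPull_baseChange0Sh (t : EtDesc.sect ((EtDesc.pushSh f).obj F) (EtCoh.top S)) :
    (pushShSecIso f').hom.app ((EtDesc.pullSh g').obj F)
        ((EtBC.baseChange0Sh f g f' g' w F).hom.app (op (EtCoh.top S'))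
          (EtDesc.secPull g ((EtDesc.pushSh f).obj F) t)) =
      EtDesc.secPull g' F ((pushShSecIso f).hom.app F t) :=
  ConcreteCategory.congr_hom (sharpSh_baseChange0Sh f g f' g' w F) t

theorem secPull_injective_of_bc
    (hinj : Function.Injective (EtDesc.secPull g ((EtDesc.pushSh f).obj F)))
    [Mono (EtBC.baseChange0Sh f g f' g' w F)] : Function.Injective (EtDesc.secPull g' F) := by
  have hC : Function.Injective (fun t => EtDesc.secPull g' F ((pushShSecIso f).hom.app F t)) := by
    intro t t' htt
    simp only [← secPull_baseChange0Sh f g f' g' w F] at htt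
    exact hinj (app_injective_of_mono (EtBC.baseChange0Sh f g f' g' w F) _
      ((pushShSecIso_bijective f' _).1 htt))
  exact Function.Injective.of_comp_right hC (pushShSecIso_bijective f F).2

theorem secPull_bijective_of_bc
    (hbij : Function.Bijective (EtDesc.secPull g ((EtDesc.pushSh f).obj F)))
    [IsIso (EtBC.baseChange0Sh f g f' g' w F)] : Function.Bijective (EtDesc.secPull g' F) := by
  have hβ : Function.Bijective
      ((EtBC.baseChange0Sh f g f' g' w F).hom.app (op (EtCoh.top S'))) := by
    have : IsIso ((gsecSh S').map (EtBC.baseChange0Sh f g f' g' w F)) := inferInstance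
    exact (isIso_iff_bijective _).1 this
  have hC : Function.Bijective
      (fun t => EtDesc.secPull g' F ((pushShSecIso f).hom.app F t)) := by
    have : (fun t => EtDesc.secPull g' F ((pushShSecIso f).hom.app F t)) =
        (fun t => (pushShSecIso f').hom.app ((EtDesc.pullSh g').obj F)
          ((EtBC.baseChange0Sh f g f' g' w F).hom.app (op (EtCoh.top S'))
            (EtDesc.secPull g ((EtDesc.pushSh f).obj F) t))) := by
      funext t
      exact (secPull_baseChange0Sh f g f' g' w F t).symm
    rw [this]
    exact ((pushShSecIso_bijective f' _).comp hβ).comp hbij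
  exact (Function.Bijective.of_comp_iff _ (pushShSecIso_bijective f F)).1 hC

end Groth.Agent.Lib.Helper23.SecPull
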