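import Groth.Agent.Lib.Helper23.SecPull3

/-!
# Descent of sections of sheaves of sets along a surjective morphism (helper23)
-/

set_option autoImplicit false
set_option backward.isDefEq.respectTransparency false
set_option backward.isDefEq.respectTransparency.types false

universe u

open CategoryTheory CategoryTheory.Limits Opposite AlgebraicGeometry EtCore

namespace Groth.Agent.Lib.Helper23.SecPull

open Groth.Agent.S5592

variable {X Y Xb Yb : Scheme.{u}}

/-- pullback of global sections along a surjective morphism is injective -/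
lemma secPull_injective_of_surjective (p : Xb ⟶ X) (hp : Function.Surjective p.base)
    (F : EtDesc.Sh X) : Function.Injective (EtDesc.secPull p F) := by
  haveI : Surjective p := ⟨hp⟩
  haveI := (Groth.Agent.S3047.result p).1
  haveI : Mono ((EtDesc.adjSh p).unit.app F) := inferInstance
  intro s s' h
  apply app_injective_of_mono ((EtDesc.adjSh p).unit.app F) (op (EtCoh.top X))
  exact (pushShSecIso_bijective p _).1 h

lemma secPull_eq_iff_of_eq {a a' : Y ⟶ X} (w : a = a') (F : EtDesc.Sh X)
    (s s' : EtDesc.sect F (EtCoh.top X)) :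
    EtDesc.secPull a F s = EtDesc.secPull a F s' ↔
      EtDesc.secPull a' F s = EtDesc.secPull a' F s' := by
  subst w
  rfl

lemma secPull_comp_eq_iff (a : Y ⟶ X) (b : Yb ⟶ Y) (F : EtDesc.Sh X)
    (s s' : EtDesc.sect F (EtCoh.top X)) :
    EtDesc.secPull (b ≫ a) F s = EtDesc.secPull (b ≫ a) F s' ↔
      EtDesc.secPull b ((EtDesc.pullSh a).obj F) (EtDesc.secPull a F s) =
        EtDesc.secPull b ((EtDesc.pullSh a).obj F) (EtDesc.secPull a F s') := by
  rw [← secPull_comp, ← secPull_comp]
  have hb : Function.Bijective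
      (((EtDesc.pullCompSh b a).hom.app F).hom.app (op (EtCoh.top Yb))) := by
    have : IsIso ((gsecSh Yb).map ((EtDesc.pullCompSh b a).hom.app F)) := inferInstance
    exact (isIso_iff_bijective _).1 this
  exact ⟨fun h => by rw [h], fun h => hb.1 h⟩

variable (h : Y ⟶ X) (p : Xb ⟶ X) (hb : Yb ⟶ Xb) (pY : Yb ⟶ Y) (w : hb ≫ p = pY ≫ h)

include w in
theorem secPull_injective_of_cover (hp : Function.Surjective p.base)
    (hinj : ∀ Fb : EtDesc.Sh Xb, Function.Injective (EtDesc.secPull hb Fb)) (F : EtDesc.Sh X) :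
    Function.Injective (EtDesc.secPull h F) := by
  intro s s' hs
  apply secPull_injective_of_surjective p hp F
  apply hinj
  rw [← secPull_comp_eq_iff, secPull_eq_iff_of_eq w, secPull_comp_eq_iff, hs]

theorem secPull_surjective_of_cover (hp : Function.Surjective p.base)
    (hbij : ∀ Fb : EtDesc.Sh Xb, Function.Bijective (EtDesc.secPull hb Fb))
    (hmono : ∀ Fb : EtDesc.Sh Xb, Mono (EtBC.baseChange0Sh p h pY hb w Fb)) (F : EtDesc.Sh X) :
    Function.Surjective (EtDesc.secPull h F) := by
  intro ξ
  have hinj := secPull_injective_of_cover h p hb pY w hp (fun Fb => (hbij Fb).1)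
  haveI : Surjective p := ⟨hp⟩
  haveI := (Groth.Agent.S3047.result p).1
  haveI : Mono ((EtDesc.adjSh p).unit.app F) := inferInstance
  refine mem_range_secPull_of_mono h hinj ((EtDesc.adjSh p).unit.app F) ξ ?_
  let Fb : EtDesc.Sh Xb := (EtDesc.pullSh p).obj F
  haveI := hmono Fb
  obtain ⟨t₀, ht₀⟩ := (hbij Fb).2 ((pushShSecIso pY).hom.app ((EtDesc.pullSh hb).obj Fb)
    ((EtBC.baseChange0Sh p h pY hb w Fb).hom.app (op (EtCoh.top Y))
      (((EtDesc.pullSh h).map ((EtDesc.adjSh p).unit.app F)).hom.app (op (EtCoh.top Y)) ξ)))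
  obtain ⟨t, rfl⟩ := (pushShSecIso_bijective p Fb).2 t₀
  refine ⟨t, ?_⟩
  rw [← secPull_baseChange0Sh p h pY hb w Fb t] at ht₀
  exact app_injective_of_mono (EtBC.baseChange0Sh p h pY hb w Fb) _
    ((pushShSecIso_bijective pY _).1 ht₀)

end Groth.Agent.Lib.Helper23.SecPull
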