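import Mathlib

set_option autoImplicit false
open Polynomial

namespace Helper23.Seidenberg

variable {R A : Type*} [CommRing R] [CommRing A] [Algebra R A]

/-- The finitely generated module spanned by `u^k`, `-m ≤ k ≤ n`. -/
def N (u : Aˣ) (m n : ℕ) : Submodule R A :=
  Submodule.span R ((fun k : ℤ => ((u ^ k : Aˣ) : A)) '' (Set.Icc (-(m : ℤ)) (n : ℤ)))

theorem zpow_mem_N (u : Aˣ) (m n : ℕ) (k : ℤ) (h1 : -(m : ℤ) ≤ k) (h2 : k ≤ n) :
    ((u ^ k : Aˣ) : A) ∈ N (R := R) u m n :=
  Submodule.subset_span ⟨k, ⟨h1, h2⟩, rfl⟩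

theorem N_fg (u : Aˣ) (m n : ℕ) : (N (R := R) u m n).FG :=
  Submodule.fg_span ((Set.finite_Icc _ _).image _)

theorem aeval_unit (u : Aˣ) (f : R[X]) :
    aeval (u : A) f = ∑ i ∈ Finset.range (f.natDegree + 1), f.coeff i • ((u ^ (i : ℤ) : Aˣ) : A) := by
  rw [aeval_eq_sum_range]
  refine Finset.sum_congr rfl fun i _ => ?_
  simp

theorem aeval_unit_inv (u : Aˣ) (g : R[X]) :
    aeval ((u⁻¹ : Aˣ) : A) g =
      ∑ j ∈ Finset.range (g.natDegree + 1), g.coeff j • ((u ^ (-(j : ℤ)) : Aˣ) : A) := by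
  rw [aeval_eq_sum_range]
  refine Finset.sum_congr rfl fun j _ => ?_
  simp

theorem mul_mem_N (u : Aˣ) (f g : R[X]) (h : aeval (u : A) f = aeval ((u⁻¹ : Aˣ) : A) g)
    (w : A) (hw : w ∈ N (R := R) u g.natDegree f.natDegree) :
    aeval (u : A) f * w ∈ N (R := R) u g.natDegree f.natDegree := by
  induction hw using Submodule.span_induction with
  | mem w hw =>
    obtain ⟨k, ⟨hk1, hk2⟩, rfl⟩ := hw
    by_cases hk : 0 ≤ k
    · rw [h, aeval_unit_inv, Finset.sum_mul]
      refine Submodule.sum_mem _ fun j hj => ?_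
      rw [smul_mul_assoc, ← Units.val_mul, ← zpow_add]
      refine Submodule.smul_mem _ _ (zpow_mem_N u _ _ _ ?_ ?_)
      · have := Finset.mem_range.mp hj; omega
      · omega
    · rw [aeval_unit, Finset.sum_mul]
      refine Submodule.sum_mem _ fun i hi => ?_
      rw [smul_mul_assoc, ← Units.val_mul, ← zpow_add]
      refine Submodule.smul_mem _ _ (zpow_mem_N u _ _ _ ?_ ?_)
      · omega
      · have := Finset.mem_range.mp hi; omega
  | zero => simp
  | add a b _ _ ha hb => rw [mul_add]; exact Submodule.add_mem _ ha hb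
  | smul r a _ ha => rw [mul_smul_comm]; exact Submodule.smul_mem _ _ ha

/-- Seidenberg: `R[u] ∩ R[u⁻¹]` is integral over `R`. -/
theorem isIntegral_of_mem_inf (u : Aˣ) (z : A) (h1 : z ∈ Algebra.adjoin R {(u : A)})
    (h2 : z ∈ Algebra.adjoin R {((u⁻¹ : Aˣ) : A)}) : IsIntegral R z := by
  rw [Algebra.adjoin_singleton_eq_range_aeval] at h1 h2
  obtain ⟨f, rfl⟩ := h1
  obtain ⟨g, hg⟩ := h2
  have hfg : aeval (u : A) f = aeval ((u⁻¹ : Aˣ) : A) g := hg.symm
  set NN := N (R := R) u g.natDegree f.natDegree with hNN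
  haveI : Module.Finite R NN := Module.Finite.iff_fg.mpr (N_fg u _ _)
  let φ : NN →ₗ[R] NN :=
    (LinearMap.mulLeft R (aeval (u : A) f)).restrict (fun w hw => mul_mem_N u f g hfg w hw)
  obtain ⟨p, hp, hp0⟩ := LinearMap.exists_monic_and_aeval_eq_zero R φ
  refine ⟨p, hp, ?_⟩
  have key : ∀ (q : R[X]) (w : NN), ((aeval φ q) w : A) = aeval (aeval (u : A) f) q * w := by
    intro q
    induction q using Polynomial.induction_on' with
    | add q₁ q₂ h₁ h₂ =>
      intro w
      rw [map_add, map_add, LinearMap.add_apply, Submodule.coe_add, h₁, h₂, add_mul]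
    | monomial n r =>
      intro w
      rw [aeval_monomial, aeval_monomial]
      induction n generalizing w with
      | zero => simp [Algebra.smul_def]
      | succ n ih =>
        rw [pow_succ, ← mul_assoc, Module.End.mul_apply, ih, pow_succ]
        simp only [φ, LinearMap.restrict_coe_apply, LinearMap.mulLeft_apply]
        ring
  have h1N : (1 : A) ∈ NN := by
    have := zpow_mem_N (R := R) u g.natDegree f.natDegree 0 (by omega) (by omega)
    simpa using this
  have := key p ⟨1, h1N⟩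
  rw [hp0] at this
  have h3 : aeval (aeval (u : A) f) p = 0 := by simpa using this.symm
  rw [← h3]
  rfl

theorem mem_bot_of_isIntegral {B : Type*} [CommRing B] [Algebra R B] (ψ : B →ₐ[R] A)
    (hψ : Function.Injective ψ) [IsIntegrallyClosedIn R B] (a' : B) (z : A)
    (hz : z ∈ Algebra.adjoin R {ψ a'}) (hint : IsIntegral R z) :
    z ∈ (⊥ : Subalgebra R A) := by
  rw [Algebra.adjoin_singleton_eq_range_aeval] at hz
  obtain ⟨f, hf⟩ := hz
  have hf' : aeval (ψ a') f = z := hf
  subst hf'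
  have h0 : aeval (ψ a') f = ψ (aeval a' f) := Polynomial.aeval_algHom_apply ψ a' f
  rw [h0] at hint ⊢
  have h' : IsIntegral R (aeval a' f) := (isIntegral_algHom_iff ψ hψ).mp hint
  obtain ⟨r, hr⟩ := (IsIntegralClosure.isIntegral_iff (A := R)).mp h'
  rw [← hr, AlgHom.commutes]
  exact Subalgebra.algebraMap_mem _ r

theorem unit_mul_mem (u : Aˣ) (w : A)
    (hw : w ∈ (Algebra.adjoin R {(u : A)}).toSubmodule ⊔
      (Algebra.adjoin R {((u⁻¹ : Aˣ) : A)}).toSubmodule) :
    (u : A) * w ∈ (Algebra.adjoin R {(u : A)}).toSubmodule ⊔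
      (Algebra.adjoin R {((u⁻¹ : Aˣ) : A)}).toSubmodule := by
  obtain ⟨p, hp, q, hq, rfl⟩ := Submodule.mem_sup.mp hw
  rw [mul_add]
  refine Submodule.add_mem _ (Submodule.mem_sup_left ?_) ?_
  · exact Subalgebra.mul_mem _ (Algebra.self_mem_adjoin_singleton R _) hp
  · have hq' : q ∈ Algebra.adjoin R {((u⁻¹ : Aˣ) : A)} := hq
    rw [Algebra.adjoin_singleton_eq_range_aeval] at hq'
    obtain ⟨g, hgq⟩ := hq'
    have hgq' : aeval ((u⁻¹ : Aˣ) : A) g = q := hgq
    subst hgq'
    have hg : g = divX g * X + C (g.coeff 0) := (divX_mul_X_add g).symm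
    rw [hg, map_add, map_mul, aeval_X, aeval_C, mul_add, mul_comm _ ((u⁻¹ : Aˣ) : A),
      ← mul_assoc, Units.mul_inv, one_mul]
    refine Submodule.add_mem _ (Submodule.mem_sup_right ?_) (Submodule.mem_sup_left ?_)
    · change _ ∈ Algebra.adjoin R {((u⁻¹ : Aˣ) : A)}
      rw [Algebra.adjoin_singleton_eq_range_aeval]
      exact ⟨_, rfl⟩
    · change _ ∈ Algebra.adjoin R {(u : A)}
      rw [mul_comm, ← Algebra.smul_def]
      exact Subalgebra.smul_mem _ (Algebra.self_mem_adjoin_singleton R _) _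

theorem sup_eq (u : Aˣ) :
    (Algebra.adjoin R {(u : A)}).toSubmodule ⊔ (Algebra.adjoin R {((u⁻¹ : Aˣ) : A)}).toSubmodule =
      (Algebra.adjoin R {(u : A), ((u⁻¹ : Aˣ) : A)}).toSubmodule := by
  apply le_antisymm
  · refine sup_le ?_ ?_
    · exact fun w hw => Algebra.adjoin_mono (by simp) hw
    · exact fun w hw => Algebra.adjoin_mono (by simp) hw
  · have key : ∀ z ∈ Algebra.adjoin R {(u : A), ((u⁻¹ : Aˣ) : A)},
        ∀ w ∈ (Algebra.adjoin R {(u : A)}).toSubmodule ⊔
          (Algebra.adjoin R {((u⁻¹ : Aˣ) : A)}).toSubmodule,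
        z * w ∈ (Algebra.adjoin R {(u : A)}).toSubmodule ⊔
          (Algebra.adjoin R {((u⁻¹ : Aˣ) : A)}).toSubmodule := by
      intro z hz
      induction hz using Algebra.adjoin_induction with
      | mem z hz =>
        intro w hw
        rcases hz with rfl | rfl
        · exact unit_mul_mem u w hw
        · have := unit_mul_mem (R := R) u⁻¹ w (by rw [inv_inv, sup_comm]; exact hw)
          rw [inv_inv, sup_comm] at this
          exact this
      | algebraMap r =>
        intro w hw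
        rw [← Algebra.smul_def]
        exact Submodule.smul_mem _ _ hw
      | add a b _ _ ha hb =>
        intro w hw
        rw [add_mul]
        exact Submodule.add_mem _ (ha w hw) (hb w hw)
      | mul a b _ _ ha hb =>
        intro w hw
        rw [mul_assoc]
        exact ha _ (hb w hw)
    intro z hz
    have h1 : (1 : A) ∈ (Algebra.adjoin R {(u : A)}).toSubmodule ⊔
        (Algebra.adjoin R {((u⁻¹ : Aˣ) : A)}).toSubmodule :=
      Submodule.mem_sup_left (Subalgebra.one_mem _)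
    have := key z hz 1 h1
    rwa [mul_one] at this

theorem inf_eq_bot (u : Aˣ) {B : Type*} [CommRing B] [Algebra R B] (ψ : B →ₐ[R] A)
    (hψ : Function.Injective ψ) [IsIntegrallyClosedIn R B] (a' : B)
    (ha' : ψ a' = (u : A) ∨ ψ a' = ((u⁻¹ : Aˣ) : A)) :
    (Algebra.adjoin R {(u : A)}).toSubmodule ⊓ (Algebra.adjoin R {((u⁻¹ : Aˣ) : A)}).toSubmodule =
      (⊥ : Subalgebra R A).toSubmodule := by
  apply le_antisymm
  · rintro z ⟨h1, h2⟩
    have hz := isIntegral_of_mem_inf u z h1 h2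
    rcases ha' with h | h
    · exact mem_bot_of_isIntegral ψ hψ a' z (by rw [h]; exact h1) hz
    · exact mem_bot_of_isIntegral ψ hψ a' z (by rw [h]; exact h2) hz
  · intro z hz
    have hz' : z ∈ (⊥ : Subalgebra R A) := hz
    obtain ⟨r, rfl⟩ := Algebra.mem_bot.mp hz'
    exact ⟨Subalgebra.algebraMap_mem _ r, Subalgebra.algebraMap_mem _ r⟩

end Helper23.Seidenberg
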