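import Groth.Agent.Lib.Helper23.CardConstr

/-!
# Existence of specialization arrows between geometric points
-/

set_option autoImplicit false
universe u

namespace Groth.Agent.Lib.Helper23.SpecArrow

open CategoryTheory CategoryTheory.Limits AlgebraicGeometry Opposite TensorProduct

/-- finitely many algebra maps from an etale algebra to a field -/
lemma finite_algHom_of_etale (R B K : Type u) [CommRing R] [CommRing B] [Field K] [Algebra R B]
    [Algebra.Etale R B] [Algebra R K] : Finite (B →ₐ[R] K) := by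
  haveI : Algebra.Etale K (K ⊗[R] B) := inferInstance
  haveI : Module.Finite K (K ⊗[R] B) := Algebra.FormallyUnramified.finite_of_free K (K ⊗[R] B)
  haveI : Finite (K ⊗[R] B →ₐ[K] K) := Finite.algHom K (K ⊗[R] B) K
  exact Finite.of_equiv _ (AlgHom.liftEquiv R K B K).symm

/-- finitely many lifts of a ring map to a field along an etale ring map -/
lemma finite_lifts {R₀ R : CommRingCat.{u}} (α : R₀ ⟶ R) (hα : α.hom.Etale) {K : Type u} [Field K]
    (β : R₀ ⟶ CommRingCat.of K) : Finite {ψ : R ⟶ CommRingCat.of K // α ≫ ψ = β} := by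
  algebraize [α.hom, β.hom]
  haveI := finite_algHom_of_etale R₀ R K
  refine Finite.of_injective (fun ψ : {ψ : R ⟶ CommRingCat.of K // α ≫ ψ = β} =>
    ({ ψ.1.hom with
        commutes' := fun r => by
          have := congrArg (fun k => k.hom r) ψ.2
          exact this } : R →ₐ[R₀] K)) ?_
  intro ψ₁ ψ₂ h
  apply Subtype.ext
  ext r
  exact congrArg (fun k : R →ₐ[R₀] K => k r) h

variable {X : Scheme.{u}}

set_option backward.isDefEq.respectTransparency.types false in
set_option backward.isDefEq.respectTransparency false in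
/-- finitely many lifts of a field valued point along an etale map of affine schemes into an
affine open -/
lemma finite_lifts_spec {R₀ R : CommRingCat.{u}} (i₀ : Spec R₀ ⟶ X) [IsOpenImmersion i₀]
    (k : Spec R ⟶ Spec R₀) [Etale k] {K : Type u} [Field K]
    (ξ' : Spec (CommRingCat.of K) ⟶ X) :
    Finite {v : Spec (CommRingCat.of K) ⟶ Spec R // v ≫ k ≫ i₀ = ξ'} := by
  by_cases hne : Nonempty {v : Spec (CommRingCat.of K) ⟶ Spec R // v ≫ k ≫ i₀ = ξ'}
  · obtain ⟨⟨v₀, hv₀⟩⟩ := hne
    let α : R₀ ⟶ R := Spec.preimage k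
    have hα : Spec.map α = k := Spec.map_preimage k
    have hαe : α.hom.Etale := by
      rw [← HasRingHomProperty.Spec_iff (P := @Etale), hα]
      infer_instance
    let β : R₀ ⟶ CommRingCat.of K := Spec.preimage (v₀ ≫ k)
    have hβ : Spec.map β = v₀ ≫ k := Spec.map_preimage _
    haveI := finite_lifts α hαe β
    refine Finite.of_injective (fun v : {v : Spec (CommRingCat.of K) ⟶ Spec R // v ≫ k ≫ i₀ = ξ'} =>
      (⟨Spec.preimage v.1, by
        apply Spec.map_injective
        rw [Spec.map_comp, Spec.map_preimage, hα, hβ]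
        rw [← cancel_mono i₀, Category.assoc, Category.assoc, v.2, hv₀]⟩ :
        {ψ : R ⟶ CommRingCat.of K // α ≫ ψ = β})) ?_
    intro v₁ v₂ h
    apply Subtype.ext
    have h1 : Spec.preimage v₁.1 = Spec.preimage v₂.1 := congrArg Subtype.val h
    have h2 := congrArg Spec.map h1
    rwa [Spec.map_preimage, Spec.map_preimage] at h2
  · rw [not_nonempty_iff] at hne
    infer_instance

variable {Ω : Type u} [Field Ω] [IsSepClosed Ω] (ξ : Spec (CommRingCat.of Ω) ⟶ X)

set_option backward.isDefEq.respectTransparency.types false in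
set_option backward.isDefEq.respectTransparency false in
/-- every etale neighbourhood of a geometric point is refined by an affine one with finitely many
lifts of any field valued point -/
lemma exists_affine_refinement (U : X.Etale) (u : (Scheme.pointSmallEtale ξ).fiber.obj U) :
    ∃ (A : X.Etale) (g : A ⟶ U) (a : (Scheme.pointSmallEtale ξ).fiber.obj A),
      (Scheme.pointSmallEtale ξ).fiber.map g a = u ∧
      ∀ (K : Type u) [Field K] [IsSepClosed K] (ξ' : Spec (CommRingCat.of K) ⟶ X),
        Finite ((Scheme.pointSmallEtale ξ').fiber.obj A) := by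
  let Ul : Scheme.{u} := U.left
  let f : Ul ⟶ X := U.hom
  haveI : Etale f := U.prop
  let ul : Spec (CommRingCat.of Ω) ⟶ Ul := u.left
  have hul : ul ≫ f = ξ := Over.w u
  let u₀ : Ul := ul default
  obtain ⟨R₀, i₀, hi₀, hx, -⟩ :=
    Scheme.exists_affine_mem_range_and_range_subset (x := f u₀) (U := ⊤) trivial
  haveI := hi₀
  let O : Ul.Opens := f ⁻¹ᵁ i₀.opensRange
  have hu₀O : u₀ ∈ O := hx
  obtain ⟨R, j, hj, hu₀j, hjO⟩ := Scheme.exists_affine_mem_range_and_range_subset hu₀O
  haveI := hj
  have hr : Set.range (j ≫ f) ⊆ Set.range i₀ := by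
    rintro _ ⟨z, rfl⟩
    exact hjO ⟨z, rfl⟩
  let k : Spec R ⟶ Spec R₀ := IsOpenImmersion.lift i₀ (j ≫ f) hr
  have hk : k ≫ i₀ = j ≫ f := IsOpenImmersion.lift_fac _ _ _
  have hke : EtCoh.etaleMP k := by
    have h1 : EtCoh.etaleMP (k ≫ i₀) := by rw [hk]; exact (inferInstance : Etale (j ≫ f))
    have h2 : EtCoh.etaleMP i₀ := (inferInstance : Etale i₀)
    exact EtCoh.etaleMP.of_postcomp (W' := EtCoh.etaleMP) k i₀ h2 h1
  haveI : Etale k := hke
  have hAe : EtCoh.etaleMP (j ≫ f) := (inferInstance : Etale (j ≫ f))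
  let A : X.Etale := MorphismProperty.Over.mk ⊤ (j ≫ f) hAe
  let g : A ⟶ U := MorphismProperty.Over.homMk j rfl trivial
  have hrange : Set.range ul ⊆ Set.range j := by
    rintro _ ⟨p, rfl⟩
    rw [Subsingleton.elim p default]
    exact hu₀j
  let al : Spec (CommRingCat.of Ω) ⟶ Spec R := IsOpenImmersion.lift j ul hrange
  have hal : al ≫ j = ul := IsOpenImmersion.lift_fac _ _ _
  have halξ : al ≫ (j ≫ f) = ξ := by rw [← Category.assoc, hal, hul]
  let a : (Scheme.pointSmallEtale ξ).fiber.obj A := Over.homMk al halξ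
  refine ⟨A, g, a, ?_, ?_⟩
  · apply Over.OverMorphism.ext
    exact hal
  · intro K _ _ ξ'
    haveI := finite_lifts_spec i₀ k ξ'
    refine Finite.of_injective (fun v : (Scheme.pointSmallEtale ξ').fiber.obj A =>
      (⟨v.left, by rw [hk]; exact Over.w v⟩ :
        {v : Spec (CommRingCat.of K) ⟶ Spec R // v ≫ k ≫ i₀ = ξ'})) ?_
    intro v₁ v₂ h
    apply Over.OverMorphism.ext
    exact congrArg Subtype.val h

variable {Ω' : Type u} [Field Ω'] [IsSepClosed Ω'] (ξ' : Spec (CommRingCat.of Ω') ⟶ X)

set_option backward.isDefEq.respectTransparency.types false in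
set_option backward.isDefEq.respectTransparency false in
/-- a generization of a geometric point lifts to every etale neighbourhood -/
lemma nonempty_fiber_of_specializes (h : ξ' default ⤳ ξ default) (U : X.Etale)
    (u : (Scheme.pointSmallEtale ξ).fiber.obj U) :
    Nonempty ((Scheme.pointSmallEtale ξ').fiber.obj U) := by
  let Ul : Scheme.{u} := U.left
  let f : Ul ⟶ X := U.hom
  haveI : Etale f := U.prop
  let ul : Spec (CommRingCat.of Ω) ⟶ Ul := u.left
  have hul : ul ≫ f = ξ := Over.w u
  have h1 : ξ default ∈ Set.range f := ⟨ul default, by rw [← hul]; rfl⟩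
  have h2 : ξ' default ∈ Set.range f := h.mem_open f.isOpenMap.isOpen_range h1
  obtain ⟨z, hz⟩ := h2
  obtain ⟨l, hl, -⟩ := Scheme.exists_fac_of_etale_of_isSepClosed f ξ' z hz
  exact ⟨Over.homMk l hl⟩

set_option backward.isDefEq.respectTransparency.types false in
set_option backward.isDefEq.respectTransparency false in
/-- specialization arrows exist: if `ξ'` lies over a generization of the point of `ξ`, there is a
morphism of points of the etale site from `ξ'` to `ξ` -/
theorem exists_arrow (h : ξ' default ⤳ ξ default) :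
    Nonempty (Scheme.pointSmallEtale ξ' ⟶ Scheme.pointSmallEtale ξ) := by
  let Φ := Scheme.pointSmallEtale ξ
  let Φ' := Scheme.pointSmallEtale ξ'
  let G : Φ.fiber.Elements ⥤ Type u := CategoryOfElements.π Φ.fiber ⋙ Φ'.fiber
  haveI hne : ∀ j, Nonempty (G.obj j) := fun j =>
    nonempty_fiber_of_specializes ξ ξ' h j.1 j.2
  have hfr : ∀ j : Φ.fiber.Elements, ∃ (i : Φ.fiber.Elements) (f : i ⟶ j),
      (Set.range (G.map f)).Finite := by
    rintro ⟨U, u⟩
    obtain ⟨A, g, a, hga, hfin⟩ := exists_affine_refinement ξ U u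
    haveI : Finite (G.obj ⟨A, a⟩) := hfin Ω' ξ'
    exact ⟨⟨A, a⟩, ⟨g, hga⟩, Set.finite_range _⟩
  have hML : G.IsMittagLeffler := Functor.isMittagLeffler_of_exists_finite_range G hfr
  have hne2 : ∀ j, Nonempty (G.toEventualRanges.obj j) := fun j =>
    @Functor.toEventualRanges_nonempty _ _ G _ hML hne j
  have hfin2 : ∀ j, Finite (G.toEventualRanges.obj j) := fun j => by
    obtain ⟨i, f, hf⟩ := hfr j
    have hsub : G.eventualRange j ⊆ Set.range (G.map f) := by
      intro x hx
      exact (Functor.mem_eventualRange_iff G).1 hx f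
    have h3 : (G.eventualRange j).Finite := hf.subset hsub
    have h4 : Finite ↥(G.eventualRange j) := h3.to_subtype
    exact h4
  obtain ⟨σ, hσ⟩ := @nonempty_sections_of_finite_cofiltered_system _ _ _ G.toEventualRanges hfin2 hne2
  let τ := G.toEventualRangesSectionsEquiv ⟨σ, hσ⟩
  have hτ : ∀ {j j' : Φ.fiber.Elements} (f : j ⟶ j'), G.map f (τ.1 j) = τ.1 j' :=
    fun f => τ.2 f
  refine ⟨⟨{ app := fun U => ↾(fun u => τ.1 ⟨U, u⟩), naturality := ?_ }⟩⟩
  intro U U' g
  ext u
  have := hτ (j := ⟨U, u⟩) (j' := ⟨U', Φ.fiber.map g u⟩) ⟨g, rfl⟩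
  exact this.symm
end Groth.Agent.Lib.Helper23.SpecArrow
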