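import Groth.Agent.Lib.Helper23.ShriekSplit
import Groth.Agent.Lib.Helper23.SpecArrow
import Groth.Agent.Lib.Helper23.FlcConn
import Mathlib.AlgebraicGeometry.Morphisms.FlatMono
import Mathlib.AlgebraicGeometry.Morphisms.FormallyUnramified
import Mathlib.AlgebraicGeometry.Morphisms.QuasiFinite
import Mathlib.RingTheory.Unramified.LocalStructure

/-!
# Etale local splitting of a quasi-compact etale morphism over a constructible neighbourhood
-/

set_option autoImplicit false
universe u

namespace Groth.Agent.Lib.Helper23.ShriekGeom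

open CategoryTheory CategoryTheory.Limits AlgebraicGeometry Opposite

variable {U X : Scheme.{u}} (j : U ⟶ X) [Etale j]

section Eq

variable {V : Scheme.{u}} (a b : V ⟶ U) (hab : a ≫ j = b ≫ j)

/-- the map to the fibre square -/
noncomputable def pairMap : V ⟶ pullback j j := pullback.lift a b hab

/-- the locus where two maps agree -/
noncomputable def eqLocus : V.Opens :=
  (pullback.fst (pairMap j a b hab) (pullback.diagonal j)).opensRange

lemma fst_comp_eq :
    pullback.fst (pairMap j a b hab) (pullback.diagonal j) ≫ a =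
      pullback.fst (pairMap j a b hab) (pullback.diagonal j) ≫ b := by
  have h := pullback.condition (f := pairMap j a b hab) (g := pullback.diagonal j)
  have h1 := congrArg (fun k => k ≫ pullback.fst j j) h
  have h2 := congrArg (fun k => k ≫ pullback.snd j j) h
  simp only [pairMap, Category.assoc, pullback.lift_fst, pullback.lift_snd,
    pullback.diagonal_fst, pullback.diagonal_snd, Category.comp_id] at h1 h2
  exact h1.trans h2.symm

lemma eq_of_range_subset {W : Scheme.{u}} (k : W ⟶ V)
    (hk : Set.range k ⊆ (eqLocus j a b hab : Set V)) : k ≫ a = k ≫ b := by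
  let e := pullback.fst (pairMap j a b hab) (pullback.diagonal j)
  have hk' : Set.range k ⊆ Set.range e := hk
  rw [← IsOpenImmersion.lift_fac e k hk', Category.assoc, Category.assoc, fst_comp_eq]

lemma range_subset_of_eq {W : Scheme.{u}} (k : W ⟶ V) (hk : k ≫ a = k ≫ b) :
    Set.range k ⊆ (eqLocus j a b hab : Set V) := by
  let l : W ⟶ pullback (pairMap j a b hab) (pullback.diagonal j) :=
    pullback.lift k (k ≫ a) (by
      apply pullback.hom_ext
      · rw [Category.assoc, Category.assoc, pullback.diagonal_fst, Category.comp_id]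
        unfold pairMap
        rw [pullback.lift_fst]
      · rw [Category.assoc, Category.assoc, pullback.diagonal_snd, Category.comp_id]
        unfold pairMap
        rw [pullback.lift_snd, hk])
  have hl : l ≫ pullback.fst (pairMap j a b hab) (pullback.diagonal j) = k := pullback.lift_fst _ _ _
  rintro _ ⟨w, rfl⟩
  refine ⟨l w, ?_⟩
  rw [← Scheme.Hom.comp_apply, hl]

lemma isCompact_eqLocus [CompactSpace V] [QuasiSeparated j] :
    IsCompact (eqLocus j a b hab : Set V) := by
  let e := pullback.fst (pairMap j a b hab) (pullback.diagonal j)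
  have : QuasiCompact e := inferInstance
  have h1 : IsCompact (e ⁻¹' (Set.univ : Set V)) :=
    QuasiCompact.isCompact_preimage (f := e) _ isOpen_univ isCompact_univ
  have h2 := h1.image e.continuous
  rw [Set.preimage_univ, Set.image_univ] at h2
  exact h2

end Eq

section Lifts

variable {Ω : Type u} [Field Ω]

set_option backward.isDefEq.respectTransparency.types false in
set_option backward.isDefEq.respectTransparency false in
lemma finite_sections_of_isAffine {A : Scheme.{u}} [IsAffine A]
    (k : A ⟶ Spec (CommRingCat.of Ω)) [Etale k] :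
    Finite {t : Spec (CommRingCat.of Ω) ⟶ A // t ≫ k = 𝟙 _} := by
  haveI := SpecArrow.finite_lifts_spec (X := Spec (CommRingCat.of Ω)) (𝟙 _) (A.isoSpec.inv ≫ k)
    (𝟙 (Spec (CommRingCat.of Ω)))
  refine Finite.of_injective (fun t : {t : Spec (CommRingCat.of Ω) ⟶ A // t ≫ k = 𝟙 _} =>
    (⟨t.1 ≫ A.isoSpec.hom, by
      rw [Category.comp_id, Category.assoc, Iso.hom_inv_id_assoc, t.2]⟩ :
      {v : Spec (CommRingCat.of Ω) ⟶ Spec Γ(A, ⊤) // v ≫ (A.isoSpec.inv ≫ k) ≫ 𝟙 _ = 𝟙 _})) ?_
  intro t t' h
  apply Subtype.ext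
  have h1 : t.1 ≫ A.isoSpec.hom = t'.1 ≫ A.isoSpec.hom := congrArg Subtype.val h
  exact (cancel_mono A.isoSpec.hom).1 h1

variable (ξ : Spec (CommRingCat.of Ω) ⟶ X)

/-- the lifts of a field valued point -/
abbrev Lifts := {u : Spec (CommRingCat.of Ω) ⟶ U // u ≫ j = ξ}

set_option backward.isDefEq.respectTransparency.types false in
set_option backward.isDefEq.respectTransparency false in
lemma finite_lifts [QuasiCompact j] : Finite (Lifts j ξ) := by
  classical
  let P := pullback j ξ
  let p2 : P ⟶ Spec (CommRingCat.of Ω) := pullback.snd j ξ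
  haveI : CompactSpace P := QuasiCompact.compactSpace_of_compactSpace p2
  let 𝒰 := P.affineCover.finiteSubcover
  haveI : ∀ a, IsAffine (𝒰.X a) := fun a => by
    dsimp [𝒰]
    infer_instance
  let tt : Lifts j ξ → (Spec (CommRingCat.of Ω) ⟶ P) := fun u =>
    pullback.lift u.1 (𝟙 _) (by rw [u.2, Category.id_comp])
  have hcov : ∀ u : Lifts j ξ, ∃ a, Set.range (tt u) ⊆ Set.range (𝒰.f a) := fun u => by
    obtain ⟨a, y, hy⟩ := 𝒰.exists_eq ((tt u) default)
    refine ⟨a, ?_⟩
    rintro _ ⟨z, rfl⟩
    rw [Subsingleton.elim z default]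
    exact ⟨y, hy⟩
  choose a ha using hcov
  haveI : ∀ b, Finite {t : Spec (CommRingCat.of Ω) ⟶ 𝒰.X b // t ≫ (𝒰.f b ≫ p2) = 𝟙 _} :=
    fun b => finite_sections_of_isAffine (𝒰.f b ≫ p2)
  refine Finite.of_injective (fun u : Lifts j ξ =>
    (⟨a u, ⟨IsOpenImmersion.lift (𝒰.f (a u)) (tt u) (ha u), by
      rw [← Category.assoc, IsOpenImmersion.lift_fac]
      exact pullback.lift_snd _ _ _⟩⟩ :
      Σ b, {t : Spec (CommRingCat.of Ω) ⟶ 𝒰.X b // t ≫ (𝒰.f b ≫ p2) = 𝟙 _})) ?_
  intro u u' h
  let Ψ : (Σ b, {t : Spec (CommRingCat.of Ω) ⟶ 𝒰.X b // t ≫ (𝒰.f b ≫ p2) = 𝟙 _}) →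
      (Spec (CommRingCat.of Ω) ⟶ P) := fun q => q.2.1 ≫ 𝒰.f q.1
  have h2 : tt u = tt u' := by
    have h3 := congrArg Ψ h
    simp only [Ψ, IsOpenImmersion.lift_fac] at h3
    exact h3
  apply Subtype.ext
  have h5 := congrArg (fun k => k ≫ pullback.fst j ξ) h2
  simpa [tt] using h5

end Lifts

section Nbhd

variable {Ω : Type u} [Field Ω] [IsSepClosed Ω] (ξ : Spec (CommRingCat.of Ω) ⟶ X)

set_option backward.isDefEq.respectTransparency.types false in
set_option backward.isDefEq.respectTransparency false in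
/-- a common etale neighbourhood mapping to finitely many given lifts -/
lemma exists_common_nbhd {ι : Type} [Finite ι] (u : ι → Lifts j ξ) :
    ∃ (V : Scheme.{u}) (q : V ⟶ X) (_ : Etale q) (v : Spec (CommRingCat.of Ω) ⟶ V)
      (σ : ι → (V ⟶ U)), v ≫ q = ξ ∧ ∀ i, σ i ≫ j = q ∧ v ≫ σ i = (u i).1 := by
  classical
  haveI := Fintype.ofFinite ι
  let F := (Scheme.pointSmallEtale ξ).fiber
  have hje : EtCoh.etaleMP j := (inferInstance : Etale j)
  let Uo : X.Etale := MorphismProperty.Over.mk ⊤ j hje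
  let e : ι → F.Elements := fun i => ⟨Uo, Over.homMk (u i).1 (u i).2⟩
  obtain ⟨S, hS⟩ := IsCofiltered.inf_objs_exists (Finset.univ.image e)
  have hf : ∀ i, Nonempty (S ⟶ e i) := fun i =>
    hS (Finset.mem_image_of_mem e (Finset.mem_univ i))
  let f : ∀ i, S ⟶ e i := fun i => (hf i).some
  let Vl : Scheme.{u} := S.1.left
  let q : Vl ⟶ X := S.1.hom
  haveI : Etale q := S.1.prop
  let v : Spec (CommRingCat.of Ω) ⟶ Vl := S.2.left
  have hv : v ≫ q = ξ := Over.w S.2
  refine ⟨Vl, q, inferInstance, v, fun i => (f i).1.left, hv, fun i => ⟨?_, ?_⟩⟩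
  · exact MorphismProperty.Over.w (f i).1
  · have h1 := (f i).2
    have h2 := congrArg (fun k : F.obj (e i).1 => k.left) h1
    exact h2

end Nbhd

section Shrink

variable {V : Scheme.{u}} (q : V ⟶ X) [Etale q]

lemma locallyQuasiFinite_of_etale : LocallyQuasiFinite q := by
  rw [locallyQuasiFinite_iff]
  intro A hA W hW e
  have h : (q.appLE A W e).hom.Etale :=
    HasRingHomProperty.appLE (P := @Etale) q inferInstance ⟨A, hA⟩ ⟨W, hW⟩ e
  algebraize [(q.appLE A W e).hom]
  change Algebra.QuasiFinite _ _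
  infer_instance

/-- an affine open neighbourhood meeting the fibre in a single point -/
lemma exists_affine_nhd_fiber (v₀ : V) :
    ∃ W : V.Opens, IsAffineOpen W ∧ v₀ ∈ W ∧ ∀ v' ∈ W, q v' = q v₀ → v' = v₀ := by
  haveI := locallyQuasiFinite_of_etale q
  have hd : _root_.IsDiscrete (q ⁻¹' {q v₀}) := q.isDiscrete_preimage_singleton (q v₀)
  haveI := hd.to_subtype
  have ho : IsOpen ({⟨v₀, rfl⟩} : Set (q ⁻¹' {q v₀})) := isOpen_discrete _
  obtain ⟨O, hO, hOe⟩ := isOpen_induced_iff.1 ho
  have hv₀ : v₀ ∈ O := by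
    have : (⟨v₀, rfl⟩ : q ⁻¹' {q v₀}) ∈ (Subtype.val ⁻¹' O : Set (q ⁻¹' {q v₀})) := by
      rw [hOe]; rfl
    exact this
  obtain ⟨W, hW, hvW, hWO⟩ := V.isBasis_affineOpens.exists_subset_of_mem_open hv₀ hO
  obtain ⟨W', hW', rfl⟩ := hW
  refine ⟨W', hW', hvW, fun v' hv' hq => ?_⟩
  have h1 : (⟨v', hq⟩ : q ⁻¹' {q v₀}) ∈ (Subtype.val ⁻¹' O : Set (q ⁻¹' {q v₀})) := hWO hv'
  rw [hOe] at h1
  exact congrArg Subtype.val h1

end Shrink

section Piece

open Topology

/-- a point of a constructible set lies in a locally closed constructible piece of it -/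
lemma exists_piece {Z : Type*} [TopologicalSpace Z] [CompactSpace Z] [QuasiSeparatedSpace Z]
    [PrespectralSpace Z] (S : Set Z) (hS : IsConstructible S) :
    ∀ z ∈ S, ∃ A B : Set Z, IsOpen A ∧ IsCompact A ∧ IsOpen B ∧ IsCompact B ∧ z ∈ A ∧ z ∉ B ∧
      A \ B ⊆ S := by
  haveI : Nonempty {W : Set Z // IsOpen W ∧ IsCompact W} := ⟨⟨∅, isOpen_empty, isCompact_empty⟩⟩
  have hb : TopologicalSpace.IsTopologicalBasis
      (Set.range (fun W : {W : Set Z // IsOpen W ∧ IsCompact W} => (W : Set Z))) := by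
    convert PrespectralSpace.isTopologicalBasis (X := Z)
    ext W
    simp
  induction S, hS using IsConstructible.induction_of_isTopologicalBasis
    (fun W : {W : Set Z // IsOpen W ∧ IsCompact W} => (W : Set Z)) hb (fun W => W.2.2) with
  | sdiff i s hs =>
    intro z hz
    refine ⟨i, ⋃ k ∈ s, (k : Set Z), i.2.1, i.2.2, isOpen_biUnion (fun k _ => k.2.1),
      hs.isCompact_biUnion (fun k _ => k.2.2), hz.1, hz.2, subset_rfl⟩
  | union s hs t ht h1 h2 =>
    rintro z (hz | hz)
    · obtain ⟨A, B, a1, a2, a3, a4, a5, a6, a7⟩ := h1 z hz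
      exact ⟨A, B, a1, a2, a3, a4, a5, a6, a7.trans Set.subset_union_left⟩
    · obtain ⟨A, B, a1, a2, a3, a4, a5, a6, a7⟩ := h2 z hz
      exact ⟨A, B, a1, a2, a3, a4, a5, a6, a7.trans Set.subset_union_right⟩

end Piece

section Core

lemma isOpenImmersion_of_section {P V : Scheme.{u}} (p : P ⟶ V) [Etale p] (s : V ⟶ P)
    (hs : s ≫ p = 𝟙 V) : IsOpenImmersion s := by
  have h1 : EtCoh.etaleMP (s ≫ p) := by rw [hs]; exact (inferInstance : Etale (𝟙 V))
  have h2 : EtCoh.etaleMP p := (inferInstance : Etale p)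
  haveI : Etale s := EtCoh.etaleMP.of_postcomp (W' := EtCoh.etaleMP) s p h2 h1
  haveI : Mono (s ≫ p) := by rw [hs]; infer_instance
  haveI : Mono s := mono_of_mono s p
  exact IsOpenImmersion.of_flat_of_mono s

variable {V : Scheme.{u}} (q : V ⟶ X) {n : ℕ} (σ : Fin n → (V ⟶ U)) (hσ : ∀ i, σ i ≫ j = q)

/-- the sections of the base change given by the maps `σ i` -/
noncomputable def sec (i : Fin n) : V ⟶ pullback j q :=
  pullback.lift (σ i) (𝟙 V) (by rw [hσ i, Category.id_comp])

lemma sec_snd (i : Fin n) : sec j q σ hσ i ≫ pullback.snd j q = 𝟙 V := pullback.lift_snd _ _ _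

lemma sec_fst (i : Fin n) : sec j q σ hσ i ≫ pullback.fst j q = σ i := pullback.lift_fst _ _ _

instance (i : Fin n) : IsOpenImmersion (sec j q σ hσ i) :=
  isOpenImmersion_of_section (pullback.snd j q) _ (sec_snd j q σ hσ i)

/-- the locus over which the sections do not split the base change -/
def Bad : Set V :=
  (pullback.snd j q) '' (⋃ i, Set.range (sec j q σ hσ i))ᶜ ∪
    ⋃ p : {p : Fin n × Fin n // p.1 ≠ p.2},
      (eqLocus j (σ p.1.1) (σ p.1.2) ((hσ _).trans (hσ _).symm) : Set V)

lemma isConstructible_bad [CompactSpace V] [QuasiSeparatedSpace V] [QuasiCompact j]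
    [QuasiSeparated j] : Topology.IsConstructible (Bad j q σ hσ) := by
  haveI : QuasiSeparatedSpace ↥(pullback j q) :=
    quasiSeparatedSpace_of_quasiSeparated (pullback.snd j q)
  refine Topology.IsConstructible.union ?_ ?_
  · apply Scheme.Hom.isConstructible_image
    rw [Topology.isConstructible_compl]
    refine Topology.IsConstructible.iUnion (fun i => ?_)
    refine IsCompact.isConstructible ?_ (sec j q σ hσ i).isOpenEmbedding.isOpen_range
    rw [← Set.image_univ]
    exact isCompact_univ.image (sec j q σ hσ i).continuous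
  · refine Topology.IsConstructible.iUnion (fun p => ?_)
    exact IsCompact.isConstructible (isCompact_eqLocus j _ _ _) (eqLocus j _ _ _).isOpen

section Pt

variable {Ω : Type u} [Field Ω] [IsSepClosed Ω] (v : Spec (CommRingCat.of Ω) ⟶ V)

set_option backward.isDefEq.respectTransparency.types false in
set_option backward.isDefEq.respectTransparency false in
lemma notMem_bad
    (hall : ∀ u : Spec (CommRingCat.of Ω) ⟶ U, u ≫ j = v ≫ q → ∃ i, u = v ≫ σ i)
    (hinj : ∀ i k, v ≫ σ i = v ≫ σ k → i = k) : v default ∉ Bad j q σ hσ := by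
  rintro (⟨w, hwC, hw⟩ | h)
  · obtain ⟨l, hl1, hl2⟩ := Scheme.exists_fac_of_etale_of_isSepClosed (pullback.snd j q) v w hw
    obtain ⟨i, hi⟩ := hall (l ≫ pullback.fst j q) (by
      rw [Category.assoc, pullback.condition, ← Category.assoc, hl1])
    apply hwC
    refine Set.mem_iUnion.2 ⟨i, v default, ?_⟩
    have hl : l = v ≫ sec j q σ hσ i := by
      apply pullback.hom_ext
      · rw [hi, Category.assoc, sec_fst]
      · rw [hl1, Category.assoc, sec_snd, Category.comp_id]
    rw [← hl2, hl]
    rfl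
  · obtain ⟨p, hp⟩ := Set.mem_iUnion.1 h
    have hr : Set.range v ⊆ (eqLocus j (σ p.1.1) (σ p.1.2) ((hσ _).trans (hσ _).symm) : Set V) := by
      rintro _ ⟨z, rfl⟩
      rw [Subsingleton.elim z default]
      exact hp
    exact p.2 (hinj _ _ (eq_of_range_subset j _ _ _ v hr))

end Pt

section Avoid

variable {T : Scheme.{u}} (tV : T ⟶ V) (hT : ∀ t, tV t ∉ Bad j q σ hσ) (g : T ⟶ X)
  (hg : tV ≫ q = g)

/-- the sections over `T` -/
noncomputable def secT (i : Fin n) : T ⟶ pullback g j :=
  pullback.lift (𝟙 T) (tV ≫ σ i) (by rw [Category.id_comp, Category.assoc, hσ i, hg])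

lemma secT_fst (i : Fin n) : secT j q σ hσ tV g hg i ≫ pullback.fst g j = 𝟙 T :=
  pullback.lift_fst _ _ _

lemma secT_snd (i : Fin n) : secT j q σ hσ tV g hg i ≫ pullback.snd g j = tV ≫ σ i :=
  pullback.lift_snd _ _ _

include hT in
set_option backward.isDefEq.respectTransparency.types false in
set_option backward.isDefEq.respectTransparency false in
lemma cov_secT (p : ↥(pullback g j)) : ∃ i, p ∈ Set.range (secT j q σ hσ tV g hg i) := by
  let K := AlgebraicClosure ((pullback g j).residueField p)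
  let pb : Spec (CommRingCat.of K) ⟶ pullback g j := FlcConn.geomPt p
  have hpb : pb default = p := FlcConn.geomPt_default p
  let tb : Spec (CommRingCat.of K) ⟶ T := pb ≫ pullback.fst g j
  let ub : Spec (CommRingCat.of K) ⟶ U := pb ≫ pullback.snd g j
  have hub : ub ≫ j = (tb ≫ tV) ≫ q := by
    simp only [ub, tb, Category.assoc]
    rw [← pullback.condition, hg]
  let pb' : Spec (CommRingCat.of K) ⟶ pullback j q := pullback.lift ub (tb ≫ tV) hub
  have h1 : (pullback.snd j q) (pb' default) = tV (tb default) := by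
    have := congrArg (fun k : Spec (CommRingCat.of K) ⟶ V => k default)
      (pullback.lift_snd ub (tb ≫ tV) hub)
    exact this
  have h2 : pb' default ∈ ⋃ i, Set.range (sec j q σ hσ i) := by
    by_contra hc
    exact hT (tb default) (Or.inl ⟨pb' default, hc, h1⟩)
  obtain ⟨i, hi⟩ := Set.mem_iUnion.1 h2
  refine ⟨i, tb default, ?_⟩
  have hr : Set.range pb' ⊆ Set.range (sec j q σ hσ i) := by
    rintro _ ⟨z, rfl⟩
    rw [Subsingleton.elim z default]
    exact hi
  have h3 : pb' = (tb ≫ tV) ≫ sec j q σ hσ i := by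
    have hl := IsOpenImmersion.lift_fac (sec j q σ hσ i) pb' hr
    have hl2 : IsOpenImmersion.lift (sec j q σ hσ i) pb' hr = tb ≫ tV := by
      have := congrArg (fun k => k ≫ pullback.snd j q) hl
      simp only [Category.assoc, sec_snd, Category.comp_id] at this
      rw [this]
      exact pullback.lift_snd ub (tb ≫ tV) hub
    rw [← hl, hl2]
  have h4 : ub = tb ≫ tV ≫ σ i := by
    have := congrArg (fun k => k ≫ pullback.fst j q) h3
    simp only [Category.assoc, sec_fst] at this
    rw [← this]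
    exact (pullback.lift_fst ub (tb ≫ tV) hub).symm
  have h5 : pb = tb ≫ secT j q σ hσ tV g hg i := by
    apply pullback.hom_ext
    · rw [Category.assoc, secT_fst, Category.comp_id]
    · rw [Category.assoc, secT_snd]
      exact h4
  exact ((congrArg (fun k : Spec (CommRingCat.of K) ⟶ pullback g j => k default) h5).symm).trans hpb

include hT in
set_option backward.isDefEq.respectTransparency.types false in
set_option backward.isDefEq.respectTransparency false in
lemma disj_secT (i k : Fin n) (hik : i ≠ k) {W : Scheme.{u}} (a : W ⟶ T)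
    (h : a ≫ secT j q σ hσ tV g hg i = a ≫ secT j q σ hσ tV g hg k) : IsEmpty W := by
  have h1 : (a ≫ tV) ≫ σ i = (a ≫ tV) ≫ σ k := by
    have := congrArg (fun m => m ≫ pullback.snd g j) h
    simpa only [Category.assoc, secT_snd] using this
  have h2 := range_subset_of_eq j (σ i) (σ k) ((hσ _).trans (hσ _).symm) (a ≫ tV) h1
  refine ⟨fun w => hT (a w) (Or.inr ?_)⟩
  exact Set.mem_iUnion.2 ⟨⟨(i, k), hik⟩, h2 ⟨w, rfl⟩⟩

set_option backward.isDefEq.respectTransparency.types false in
set_option backward.isDefEq.respectTransparency false in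
/-- the splitting over `T` -/
noncomputable def splitT :
    ShriekSplit.Split (Scheme.Etale.mk (pullback.fst g j)) (Fin n) where
  s i := MorphismProperty.Over.homMk (secT j q σ hσ tV g hg i) (secT_fst j q σ hσ tV g hg i) trivial
  cov t := cov_secT j q σ hσ tV hT g hg t
  disj i k hik W a b h := by
    have hab : a = b := (EtCore.topIsTerminal T).hom_ext a b
    subst hab
    have h' : a.left ≫ secT j q σ hσ tV g hg i = a.left ≫ secT j q σ hσ tV g hg k :=
      congrArg (fun m : W ⟶ Scheme.Etale.mk (pullback.fst g j) => m.left) h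
    exact disj_secT j q σ hσ tV hT g hg i k hik a.left h'

end Avoid

end Core

section Main

open Topology

variable [QuasiCompact j] [QuasiSeparated j] [CompactSpace X] [QuasiSeparatedSpace X]

set_option backward.isDefEq.respectTransparency.types false in
set_option backward.isDefEq.respectTransparency false in
set_option maxHeartbeats 1600000 in
/-- around every point there is a constructible locally closed subscheme, and an etale covering of
it, over which the given etale morphism splits -/
theorem exists_split (x : X) :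
    ∃ (Y : Scheme.{u}) (gY : Y ⟶ X), IsImmersion gY ∧ IsConstructible (Set.range gY) ∧
      x ∈ Set.range gY ∧
      ∃ (T : Scheme.{u}) (r : T ⟶ Y), Etale r ∧ Surjective r ∧
        ∃ n : ℕ, Nonempty (ShriekSplit.Split (Scheme.Etale.mk (pullback.fst (r ≫ gY) j)) (Fin n)) := by
  classical
  let Ω := AlgebraicClosure (X.residueField x)
  let ξ : Spec (CommRingCat.of Ω) ⟶ X := FlcConn.geomPt x
  have hξ : ξ default = x := FlcConn.geomPt_default x
  haveI := finite_lifts j ξ
  obtain ⟨n, ⟨e⟩⟩ := Finite.exists_equiv_fin (Lifts j ξ)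
  let u : Fin n → Lifts j ξ := e.symm
  obtain ⟨V₁, q₁, hq₁, v₁, σ₁, hv₁, hσ₁⟩ := exists_common_nbhd j ξ u
  haveI := hq₁
  obtain ⟨W, hW, hvW, hfib⟩ := exists_affine_nhd_fiber q₁ (v₁ default)
  let V : Scheme.{u} := W
  haveI : IsAffine V := hW
  let q : V ⟶ X := W.ι ≫ q₁
  have hrv : Set.range v₁ ⊆ Set.range W.ι := by
    rintro _ ⟨z, rfl⟩
    rw [Subsingleton.elim z default, Scheme.Opens.range_ι]
    exact hvW
  let v : Spec (CommRingCat.of Ω) ⟶ V := IsOpenImmersion.lift W.ι v₁ hrv
  have hvι : v ≫ W.ι = v₁ := IsOpenImmersion.lift_fac _ _ _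
  let σ : Fin n → (V ⟶ U) := fun i => W.ι ≫ σ₁ i
  have hσ : ∀ i, σ i ≫ j = q := fun i => by
    simp only [σ, q, Category.assoc, (hσ₁ i).1]
  have hvq : v ≫ q = ξ := by
    simp only [q]
    rw [← Category.assoc, hvι, hv₁]
  have hvσ : ∀ i, v ≫ σ i = (u i).1 := fun i => by
    simp only [σ]
    rw [← Category.assoc, hvι]
    exact (hσ₁ i).2
  have hbad : v default ∉ Bad j q σ hσ := by
    apply notMem_bad
    · intro u' hu'
      have hu'' : u' ≫ j = ξ := by rw [hu', hvq]
      refine ⟨e ⟨u', hu''⟩, ?_⟩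
      rw [hvσ]
      simp [u]
    · intro i k hik
      rw [hvσ, hvσ] at hik
      have : u i = u k := Subtype.ext hik
      exact e.symm.injective this
  have hBc := isConstructible_bad j q σ hσ
  let S : Set X := Set.range q \ (q '' Bad j q σ hσ)
  have hS : IsConstructible S := by
    refine IsConstructible.sdiff ?_ (q.isConstructible_image hBc)
    rw [← Set.image_univ]
    exact q.isConstructible_image IsConstructible.univ
  have hqv : q (v default) = x :=
    (congrArg (fun k : Spec (CommRingCat.of Ω) ⟶ X => k default) hvq).trans hξ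
  have hq₁v : q₁ (v₁ default) = x :=
    (congrArg (fun k : Spec (CommRingCat.of Ω) ⟶ X => k default) hv₁).trans hξ
  have hxS : x ∈ S := by
    refine ⟨⟨v default, hqv⟩, ?_⟩
    rintro ⟨b, hb, hbx⟩
    have hb' : b = v default := by
      have h1 : q₁ (W.ι b) = q₁ (v₁ default) := by
        have e1 : q₁ (W.ι b) = x := hbx
        rw [e1, hq₁v]
      have h2 := hfib (W.ι b) b.2 h1
      have h3 : W.ι (v default) = v₁ default :=
        congrArg (fun k : Spec (CommRingCat.of Ω) ⟶ V₁ => k default) hvι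
      exact W.ι.isOpenEmbedding.injective (h2.trans h3.symm)
    rw [hb'] at hb
    exact hbad hb
  obtain ⟨A, B, hAo, hAc, hBo, hBc', hxA, hxB, hAB⟩ := exists_piece S hS x hxS
  let Ao : X.Opens := ⟨A, hAo⟩
  let Cl : TopologicalSpace.Closeds Ao :=
    ⟨Ao.ι ⁻¹' Bᶜ, (hBo.isClosed_compl).preimage Ao.ι.continuous⟩
  let I := Scheme.IdealSheafData.vanishingIdeal Cl
  let Y : Scheme.{u} := I.subscheme
  let gY : Y ⟶ X := I.subschemeι ≫ Ao.ι
  have hrange : Set.range gY = A \ B := by
    rw [Strata.range_comp', Scheme.IdealSheafData.range_subschemeι,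
      Scheme.IdealSheafData.coe_support_vanishingIdeal]
    change Ao.ι '' (Ao.ι ⁻¹' Bᶜ) = _
    rw [Set.image_preimage_eq_range_inter, Scheme.Opens.range_ι]
    rfl
  refine ⟨Y, gY, inferInstance, ?_, ?_, ?_⟩
  · rw [hrange]
    exact (hAc.isConstructible hAo).sdiff (hBc'.isConstructible hBo)
  · rw [hrange]
    exact ⟨hxA, hxB⟩
  let T : Scheme.{u} := pullback q gY
  let tV : T ⟶ V := pullback.fst q gY
  let r : T ⟶ Y := pullback.snd q gY
  have hg : tV ≫ q = r ≫ gY := pullback.condition
  have hYS : ∀ y : Y, gY y ∈ S := fun y => hAB (by rw [← hrange]; exact ⟨y, rfl⟩)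
  have hT : ∀ t, tV t ∉ Bad j q σ hσ := fun t hb => by
    have h1 : q (tV t) = gY (r t) :=
      congrArg (fun k : T ⟶ X => k t) hg
    exact (hYS (r t)).2 ⟨tV t, hb, h1⟩
  refine ⟨T, r, inferInstance, ⟨fun y => ?_⟩, n, ⟨splitT j q σ hσ tV hT (r ≫ gY) hg⟩⟩
  obtain ⟨v', hv'⟩ := (hYS y).1
  obtain ⟨t, -, ht⟩ := Scheme.Pullback.exists_preimage_pullback (f := q) (g := gY) v' y hv'
  exact ⟨t, ht⟩

end Main

end Groth.Agent.Lib.Helper23.ShriekGeom
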