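import Groth.Agent.Lib.Helper23.ShriekPres
import Groth.Agent.S3508

/-!
# Extension by zero along an etale morphism of qcqs schemes preserves constructibility
-/

set_option autoImplicit false
universe u

namespace Groth.Agent.Lib.Helper23.ShriekComp

open CategoryTheory CategoryTheory.Limits AlgebraicGeometry Opposite
open Groth.Agent.Lib.Helper23.FlcLoc Groth.Agent.Lib.Helper23.ShriekRep
open Groth.Agent.Lib.Helper23.ShriekPres

variable {U X : Scheme.{u}} (f : U ⟶ X) [Etale f] [EtShriek.JCont f] (W : U.Etale)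

/-- `W → U → X` -/
noncomputable abbrev Wf : X.Etale := (EtShriek.compEtale f).obj W

/-- `f_! (w_! B)` corepresents sections over `W → U → X` -/
noncomputable def repc (B : AddCommGrpCat.{u + 1}) (G : EtCoh.Ab X) :
    ((EtShriek.extZero f).obj (sh1 W B) ⟶ G) ≃ (B ⟶ G.obj.obj (op (Wf f W))) :=
  ((EtShriek.extZeroAdj f).homEquiv _ _).trans (rep1' W B ((EtShriek.restrAlong f).obj G))

lemma repc_naturality (B : AddCommGrpCat.{u + 1}) {G G' : EtCoh.Ab X}
    (a : (EtShriek.extZero f).obj (sh1 W B) ⟶ G) (φ : G ⟶ G') :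
    repc f W B G' (a ≫ φ) = repc f W B G a ≫ φ.hom.app (op (Wf f W)) := by
  unfold repc
  simp only [Equiv.trans_apply]
  rw [Adjunction.homEquiv_naturality_right]
  exact rep1'_naturality W B ((EtShriek.extZeroAdj f).homEquiv _ _ a)
    ((EtShriek.restrAlong f).map φ)

/-- `f_! ∘ w_! = (f ∘ w)_!` on constant sheaves -/
noncomputable def compIso (B : AddCommGrpCat.{u + 1}) :
    (EtShriek.extZero f).obj (sh1 W B) ≅ sh1 (Wf f W) B :=
  (Coyoneda.ext (sh1 (Wf f W) B) ((EtShriek.extZero f).obj (sh1 W B))
    (fun {Z} a => (repc f W B Z).symm (rep1' (Wf f W) B Z a))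
    (fun {Z} a => (rep1' (Wf f W) B Z).symm (repc f W B Z a))
    (fun a => by simp) (fun a => by simp)
    (fun {Z Z'} a g => by
      apply (rep1' (Wf f W) B Z').injective
      rw [Equiv.apply_symm_apply, repc_naturality, rep1'_naturality,
        Equiv.apply_symm_apply])).symm

variable [CompactSpace X] [QuasiSeparatedSpace X]

lemma constructible_extZero_sh2 (hW : IsAffine W.left) (n : ℕ) (hn : 0 < n) :
    EtPBC.IsConstructible ((EtShriek.extZero f).obj (sh2 W (Zn n))) := by
  have hW' : IsAffine (Wf f W).left := hW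
  have h := constructible_sh2_Zn (Wf f W) hW' n hn
  exact Strata.constructible_of_iso
    (shIso (Wf f W) (Zn n) ≪≫ (compIso f W (Zn n)).symm ≪≫
      ((EtShriek.extZero f).mapIso (shIso W (Zn n))).symm) h

variable [CompactSpace U] [QuasiSeparatedSpace U]

attribute [local instance] preservesBinaryBiproducts_of_preservesBinaryCoproducts in
/-- extension by zero along an etale morphism of qcqs schemes preserves constructibility -/
theorem constructible_extZero (F : EtCoh.Ab U) (hF : EtPBC.IsConstructible F) :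
    EtPBC.IsConstructible ((EtShriek.extZero f).obj F) := by
  obtain ⟨a, b, V₁, V₂, n, m, hV₁, hV₂, φ, ⟨e⟩⟩ := (Groth.Agent.S3508.result U F).1 hF
  haveI := (EtShriek.extZeroAdj f).isLeftAdjoint
  haveI : (EtShriek.extZero f).Additive := Functor.additive_of_preservesBinaryBiproducts _
  let Φ := EtShriek.extZero f
  have e1 : Φ.obj F ≅ cokernel (Φ.map φ) := Φ.mapIso e ≪≫ PreservesCokernel.iso Φ φ
  have hsum : ∀ (k : ℕ) (V : Fin k → U.Etale) (n : Fin k → ℕ),
      (∀ i, 0 < n i ∧ IsAffine (V i).left) →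
      EtPBC.IsConstructible (Φ.obj (⨁ fun i => sh2 (V i) (Zn (n i)))) := by
    intro k V n h
    haveI : PreservesBiproductsOfShape (Fin k) Φ :=
      preservesBiproductsOfShape_of_preservesCoproductsOfShape Φ
    have e2 : Φ.obj (⨁ fun i => sh2 (V i) (Zn (n i))) ≅
        ⨁ (Φ.obj ∘ fun i => sh2 (V i) (Zn (n i))) := Φ.mapBiproduct _
    exact Strata.constructible_of_iso e2.symm
      (ConstrSum.constructible_biproduct _ _
        (fun i => constructible_extZero_sh2 f (V i) (h i).2 (n i) (h i).1))
  exact Strata.constructible_of_iso e1.symm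
    (Strata.constructible_kernel_cokernel (Φ.map φ) (hsum _ _ _ hV₂) (hsum _ _ _ hV₁)).2

end Groth.Agent.Lib.Helper23.ShriekComp
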