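import Mathlib.CategoryTheory.Limits.Shapes.Products
import Mathlib.CategoryTheory.Limits.Types.Products
import Mathlib.CategoryTheory.Limits.Preserves.Shapes.BinaryProducts
import Mathlib.CategoryTheory.Limits.Preserves.Shapes.Terminal
import Mathlib.CategoryTheory.Limits.Preserves.Finite
import Mathlib.CategoryTheory.Limits.Constructions.FiniteProductsOfBinaryProducts

/-!
# The discrete-object functor preserves finite products under distributivity (helper23; S14447)
-/

set_option autoImplicit false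
universe w v u
open CategoryTheory CategoryTheory.Limits

namespace Groth.Agent.Lib.Helper23.SigmaConstProd

variable {C : Type u} [Category.{v} C] [HasFiniteProducts C] [HasCoproducts.{w} C]

noncomputable abbrev G : Type w ⥤ C := sigmaConst.{w}.obj (⊤_ C)

lemma ι_map {I J : Type w} (f : I ⟶ J) (i : I) :
    Sigma.ι (fun _ : I => ⊤_ C) i ≫ (G (C := C)).map f = Sigma.ι (fun _ : J => ⊤_ C) (f i) := by
  simp [G, sigmaConst]

variable (h : ∀ (I : Type w) (U : C), IsIso (Sigma.desc fun i : I =>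
      prod.lift (terminal.from U ≫ Sigma.ι (fun _ : I => ⊤_ C) i) (𝟙 U)))

lemma ι_prodComparison (I J : Type w) (k : (I ⨯ J : Type w)) :
    Sigma.ι (fun _ : (I ⨯ J : Type w) => ⊤_ C) k ≫ prodComparison (G (C := C)) I J =
      prod.lift (Sigma.ι (fun _ : I => ⊤_ C) ((prod.fst : I ⨯ J ⟶ I) k))
        (Sigma.ι (fun _ : J => ⊤_ C) ((prod.snd : I ⨯ J ⟶ J) k)) := by
  show _ ≫ prod.lift ((G (C := C)).map prod.fst) ((G (C := C)).map prod.snd) = _
  rw [prod.comp_lift, ι_map, ι_map]
  rfl

lemma lift_eq {I J : Type w} (i : I) (j : J) :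
    prod.lift (Sigma.ι (fun _ : I => ⊤_ C) i) (Sigma.ι (fun _ : J => ⊤_ C) j) =
      Sigma.ι (fun _ : J => ⊤_ C) j ≫
        prod.lift (terminal.from ((G (C := C)).obj J) ≫ Sigma.ι (fun _ : I => ⊤_ C) i)
          (𝟙 ((G (C := C)).obj J)) := by
  have e : Sigma.ι (fun _ : J => ⊤_ C) j ≫ terminal.from ((G (C := C)).obj J) = 𝟙 _ :=
    Subsingleton.elim _ _
  rw [prod.comp_lift, reassoc_of% e]
  erw [Category.comp_id]
  rfl

include h in
theorem isIso_prodComparison (I J : Type w) : IsIso (prodComparison (G (C := C)) I J) := by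
  let θ : (∐ fun _ : I => (G (C := C)).obj J) ⟶ (G (C := C)).obj I ⨯ (G (C := C)).obj J :=
    Sigma.desc fun i : I =>
      prod.lift (terminal.from _ ≫ Sigma.ι (fun _ : I => ⊤_ C) i) (𝟙 ((G (C := C)).obj J))
  have : IsIso θ := h I ((G (C := C)).obj J)
  let pr : I → J → (I ⨯ J : Type w) := fun i j => (Types.binaryProductIso I J).inv (i, j)
  let δ : (∐ fun _ : I => (G (C := C)).obj J) ⟶ (G (C := C)).obj (I ⨯ J) :=
    Sigma.desc fun i : I => Sigma.desc fun j : J => Sigma.ι (fun _ : (I ⨯ J : Type w) => ⊤_ C) (pr i j)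
  have hfst : ∀ i j, (prod.fst : I ⨯ J ⟶ I) (pr i j) = i := fun i j => by
    simp [pr]
  have hsnd : ∀ i j, (prod.snd : I ⨯ J ⟶ J) (pr i j) = j := fun i j => by
    simp [pr]
  have hk : ∀ k : (I ⨯ J : Type w), pr ((prod.fst : I ⨯ J ⟶ I) k) ((prod.snd : I ⨯ J ⟶ J) k) = k := by
    intro k
    apply (Types.binaryProductIso I J).toEquiv.injective
    apply Prod.ext
    · simp [pr]
    · simp [pr]
  have key : δ ≫ prodComparison (G (C := C)) I J = θ := by
    apply Sigma.hom_ext; intro i
    apply Sigma.hom_ext; intro j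
    simp only [δ, θ, Sigma.ι_desc_assoc, Sigma.ι_desc]
    rw [ι_prodComparison, hfst, hsnd, lift_eq]
    rfl
  refine ⟨inv θ ≫ δ, ?_, ?_⟩
  · apply Sigma.hom_ext; intro k
    rw [← Category.assoc, ι_prodComparison, lift_eq]
    have : Sigma.ι (fun _ : J => ⊤_ C) ((prod.snd : I ⨯ J ⟶ J) k) ≫
        prod.lift (terminal.from ((G (C := C)).obj J) ≫
          Sigma.ι (fun _ : I => ⊤_ C) ((prod.fst : I ⨯ J ⟶ I) k)) (𝟙 ((G (C := C)).obj J)) =
        Sigma.ι (fun _ : J => ⊤_ C) ((prod.snd : I ⨯ J ⟶ J) k) ≫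
          Sigma.ι (fun _ : I => (G (C := C)).obj J) ((prod.fst : I ⨯ J ⟶ I) k) ≫ θ := by
      simp only [θ, Sigma.ι_desc]
      rfl
    rw [this]
    simp only [Category.assoc, IsIso.hom_inv_id_assoc]
    simp only [δ, Sigma.ι_desc]
    rw [hk]
    simp
  · rw [Category.assoc, key, IsIso.inv_hom_id]

theorem isIso_terminal : IsIso (terminal.from ((G (C := C)).obj (⊤_ (Type w)))) := by
  let e : (⊤_ (Type w)) := (Types.terminalIso.{w}).inv PUnit.unit
  have he : ∀ k : (⊤_ (Type w)), k = e := by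
    intro k
    apply (Types.terminalIso.{w}).toEquiv.injective
    exact Subsingleton.elim _ _
  refine ⟨Sigma.ι (fun _ : (⊤_ (Type w)) => ⊤_ C) e, ?_, Subsingleton.elim _ _⟩
  apply Sigma.hom_ext; intro k
  have e1 : Sigma.ι (fun _ : (⊤_ (Type w)) => ⊤_ C) k ≫
      terminal.from ((G (C := C)).obj (⊤_ (Type w))) = 𝟙 _ := Subsingleton.elim _ _
  rw [reassoc_of% e1, he k]
  erw [Category.comp_id]


include h in
theorem preservesFiniteProducts : PreservesFiniteProducts (G (C := C)) := by
  haveI : PreservesLimitsOfShape (Discrete WalkingPair) (G (C := C)) :=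
    ⟨fun {K} => by
      haveI : IsIso (prodComparison (G (C := C)) (K.obj ⟨WalkingPair.left⟩) (K.obj ⟨WalkingPair.right⟩)) :=
        isIso_prodComparison h _ _
      haveI : PreservesLimit (pair (K.obj ⟨WalkingPair.left⟩) (K.obj ⟨WalkingPair.right⟩)) (G (C := C)) :=
        PreservesLimitPair.of_iso_prod_comparison _ _ _
      exact preservesLimit_of_iso_diagram (G (C := C)) (diagramIsoPair K).symm⟩
  haveI : IsIso (terminal.from ((G (C := C)).obj (⊤_ (Type w)))) := isIso_terminal
  haveI : PreservesLimit (Functor.empty.{0} (Type w)) (G (C := C)) :=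
    preservesTerminal_of_isIso _ (terminal.from ((G (C := C)).obj (⊤_ (Type w))))
  haveI : PreservesLimitsOfShape (Discrete PEmpty.{1}) (G (C := C)) :=
    preservesLimitsOfShape_pempty_of_preservesTerminal _
  exact PreservesFiniteProducts.of_preserves_binary_and_terminal _

end Groth.Agent.Lib.Helper23.SigmaConstProd
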