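import Groth.Agent.Lib.Helper23.SpecArrow

/-!
# Sheaves with finite stalks and injective specialization maps are constructible
-/

set_option autoImplicit false
universe u

namespace Groth.Agent.Lib.Helper23.SpecMono

open CategoryTheory CategoryTheory.Limits AlgebraicGeometry Opposite Topology EtCore
open Groth.Agent.Lib.Helper23.FlcLoc Groth.Agent.Lib.Helper23.ConstrNoeth
open Groth.Agent.Lib.Helper23.GenConst

variable {X : Scheme.{u}}

set_option backward.isDefEq.respectTransparency.types false in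
set_option backward.isDefEq.respectTransparency false in
/-- the specialization map on germs -/
lemma sp_germ {Φ₁ Φ₂ : GrothendieckTopology.Point.{u} X.smallEtaleTopology} (φ : Φ₁ ⟶ Φ₂) (F : EtCoh.Ab X) (U : X.Etale)
    (u : Φ₂.fiber.obj U) (σ : F.obj.obj (op U)) :
    (GrothendieckTopology.Point.Hom.sheafFiber (A := AddCommGrpCat.{u + 1}) φ).app F
      (Φ₂.toPresheafFiber U u F.obj σ) = Φ₁.toPresheafFiber U (φ.hom.app U u) F.obj σ := by
  have h : Φ₂.toPresheafFiber U u F.obj ≫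
      (GrothendieckTopology.Point.Hom.sheafFiber (A := AddCommGrpCat.{u + 1}) φ).app F =
      Φ₁.toPresheafFiber U (φ.hom.app U u) F.obj := by
    simp
  exact congrArg (fun k => k σ) h

set_option backward.isDefEq.respectTransparency.types false in
set_option backward.isDefEq.respectTransparency false in
set_option maxHeartbeats 1600000 in
/-- if all specialization maps are injective and the stalks are finite, the cardinality of the
stalks is constant near `x` on the closure of `x` -/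
theorem exists_nhd_card_const (F : EtCoh.Ab X)
    (hfin : ∀ (Ω : Type u) [Field Ω] [IsSepClosed Ω] (ξ : Spec (CommRingCat.of Ω) ⟶ X),
      Finite ((EtCoh.stalk ξ).obj F))
    (hmono : ∀ (Ω Ω' : Type u) [Field Ω] [IsSepClosed Ω] [Field Ω'] [IsSepClosed Ω']
        (ξ : Spec (CommRingCat.of Ω) ⟶ X) (ξ' : Spec (CommRingCat.of Ω') ⟶ X)
        (φ : Scheme.pointSmallEtale ξ' ⟶ Scheme.pointSmallEtale ξ),
        Mono ((GrothendieckTopology.Point.Hom.sheafFiber (A := AddCommGrpCat.{u + 1}) φ).app F))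
    (x : X) :
    ∃ (n : ℕ) (V : X.Opens), x ∈ V ∧
      (V : Set X) ∩ closure {x} ⊆ {t : X | CardLocus.CardAt F n t} := by
  obtain ⟨ξ₀, hξ₀⟩ : ∃ ξ₀ : Spec (CommRingCat.of (AlgebraicClosure (X.residueField x))) ⟶ X,
      ξ₀ default = x := ⟨FlcConn.geomPt x, FlcConn.geomPt_default x⟩
  let Φ₀ := Scheme.pointSmallEtale ξ₀
  haveI hfinM : Finite (ToType (Φ₀.presheafFiber.obj F.obj)) := hfin _ ξ₀
  obtain ⟨W, w, s, hs⟩ := GermLift.exists_additive_lift ξ₀ F
  let Wl : Scheme.{u} := W.left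
  let f : Wl ⟶ X := W.hom
  haveI : Etale f := W.prop
  let wl : Spec (CommRingCat.of (AlgebraicClosure (X.residueField x))) ⟶ Wl := w.left
  let w₀ : Wl := wl default
  have hwl : wl ≫ f = ξ₀ := Over.w w
  have hw₀ : f w₀ = x := by
    rw [← hξ₀, ← hwl]; rfl
  have hd : _root_.IsDiscrete (f ⁻¹' {x}) := f.isDiscrete_preimage_singleton x
  rw [isDiscrete_iff_forall_mem_exists_isOpen] at hd
  obtain ⟨O, hO, hOS⟩ := hd w₀ hw₀
  have hw₀O : w₀ ∈ O := by
    have : w₀ ∈ O ∩ f ⁻¹' {x} := by rw [hOS]; rfl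
    exact this.1
  let Y₀ : Wl.Opens := ⟨O, hO⟩
  have hYe : EtCoh.etaleMP (Y₀.ι ≫ f) := (inferInstance : Etale (Y₀.ι ≫ f))
  let Y : X.Etale := MorphismProperty.Over.mk ⊤ (Y₀.ι ≫ f) hYe
  let k : Y ⟶ W := MorphismProperty.Over.homMk Y₀.ι rfl trivial
  have hrange : Set.range wl ⊆ Set.range Y₀.ι := by
    rintro _ ⟨a, rfl⟩
    rw [Subsingleton.elim a default, Scheme.Opens.range_ι]
    exact hw₀O
  let yl : Spec (CommRingCat.of (AlgebraicClosure (X.residueField x))) ⟶ (Y₀ : Scheme.{u}) :=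
    IsOpenImmersion.lift Y₀.ι wl hrange
  have hyl : yl ≫ Y₀.ι = wl := IsOpenImmersion.lift_fac _ _ _
  have hylξ : yl ≫ (Y₀.ι ≫ f) = ξ₀ := by rw [← Category.assoc, hyl, hwl]
  let y : Φ₀.fiber.obj Y := Over.homMk yl hylξ
  have hky : Φ₀.fiber.map k y = w := by
    apply Over.OverMorphism.ext
    exact hyl
  let s' : Φ₀.presheafFiber.obj F.obj ⟶ F.obj.obj (op Y) := s ≫ F.obj.map k.op
  have hs' : s' ≫ Φ₀.toPresheafFiber Y y F.obj = 𝟙 _ := by
    rw [Category.assoc, Φ₀.toPresheafFiber_w, hky, hs]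
  let y₀ : (Y₀ : Scheme.{u}) := yl default
  have hy₀ : Y₀.ι y₀ = w₀ := by
    change (yl ≫ Y₀.ι) default = wl default
    rw [hyl]
  have hfib : ∀ z : (Y₀ : Scheme.{u}), (Y₀.ι ≫ f) z = x → z = y₀ := by
    intro z hz
    apply Y₀.ι.isOpenEmbedding.injective
    rw [hy₀]
    have h1 : Y₀.ι z ∈ Set.range Y₀.ι := ⟨_, rfl⟩
    rw [Scheme.Opens.range_ι] at h1
    have h2 : Y₀.ι z ∈ O ∩ f ⁻¹' {x} := ⟨h1, hz⟩
    rw [hOS] at h2
    exact h2
  -- injectivity of the germs of the lifted sections at any lift of `ξ₀` to `Y`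
  have hinj1 : ∀ y' : Φ₀.fiber.obj Y, Function.Injective
      (fun m : ToType (Φ₀.presheafFiber.obj F.obj) => Φ₀.toPresheafFiber Y y' F.obj (s' m)) := by
    intro y' m m' hmm
    have hmm' : Φ₀.toPresheafFiber Y y' F.obj (s' m) = Φ₀.toPresheafFiber Y y' F.obj (s' m') := hmm
    rw [Φ₀.toPresheafFiber_eq_iff'] at hmm'
    obtain ⟨Y', g, y'', hgy, hg⟩ := hmm'
    let Y'l : Scheme.{u} := Y'.left
    let gl : Y'l ⟶ (Y₀ : Scheme.{u}) := g.left
    have hgw : gl ≫ (Y₀.ι ≫ f) = Y'.hom := MorphismProperty.Over.w g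
    have hge : EtCoh.etaleMP gl := by
      have h1 : EtCoh.etaleMP (gl ≫ (Y₀.ι ≫ f)) := by rw [hgw]; exact Y'.prop
      exact EtCoh.etaleMP.of_postcomp (W' := EtCoh.etaleMP) gl (Y₀.ι ≫ f) hYe h1
    haveI : Etale gl := hge
    let y''l : Spec (CommRingCat.of (AlgebraicClosure (X.residueField x))) ⟶ Y'l := y''.left
    let y'l : Spec (CommRingCat.of (AlgebraicClosure (X.residueField x))) ⟶ (Y₀ : Scheme.{u}) :=
      y'.left
    have h1 : y''l ≫ gl = y'l := congrArg (fun q => q.left) hgy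
    have h2 : y'l ≫ (Y₀.ι ≫ f) = ξ₀ := Over.w y'
    have h3 : gl (y''l default) = yl default := by
      change (y''l ≫ gl) default = y₀
      rw [h1]
      apply hfib
      change (y'l ≫ (Y₀.ι ≫ f)) default = x
      rw [h2, hξ₀]
    obtain ⟨l, hl1, -⟩ := Scheme.exists_fac_of_etale_of_isSepClosed gl yl (y''l default) h3
    have hlξ : l ≫ Y'.hom = ξ₀ := by
      rw [← hgw, ← Category.assoc, hl1, hylξ]
    let yt : Φ₀.fiber.obj Y' := Over.homMk l hlξ
    have hyt : Φ₀.fiber.map g yt = y := by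
      apply Over.OverMorphism.ext
      exact hl1
    have e1 : ∀ a : ToType (Φ₀.presheafFiber.obj F.obj),
        Φ₀.toPresheafFiber Y' yt F.obj (F.obj.map g.op (s' a)) = a := by
      intro a
      rw [Φ₀.toPresheafFiber_w_apply, hyt]
      exact congrArg (fun q => q a) hs'
    rw [← e1 m, ← e1 m', hg]
  let V : X.Opens := ⟨Set.range (Y₀.ι ≫ f), (Y₀.ι ≫ f).isOpenMap.isOpen_range⟩
  refine ⟨Nat.card (ToType (Φ₀.presheafFiber.obj F.obj)), V, ⟨y₀, ?_⟩, ?_⟩
  · change (yl ≫ (Y₀.ι ≫ f)) default = x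
    rw [hylξ, hξ₀]
  rintro t ⟨⟨z, hz⟩, htc⟩
  obtain ⟨ξt, hξt⟩ : ∃ ξt : Spec (CommRingCat.of (AlgebraicClosure (X.residueField t))) ⟶ X,
      ξt default = t := ⟨FlcConn.geomPt t, FlcConn.geomPt_default t⟩
  let Φt := Scheme.pointSmallEtale ξt
  obtain ⟨lt, hlt1, -⟩ := Scheme.exists_fac_of_etale_of_isSepClosed (Y₀.ι ≫ f) ξt z
    (hz.trans hξt.symm)
  let yt : Φt.fiber.obj Y := Over.homMk lt hlt1
  have hspec : ξ₀ default ⤳ ξt default := by
    rw [hξ₀, hξt]
    exact specializes_iff_mem_closure.2 htc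
  obtain ⟨φ⟩ := SpecArrow.exists_arrow ξt ξ₀ hspec
  have hsp : Function.Injective
      ((GrothendieckTopology.Point.Hom.sheafFiber (A := AddCommGrpCat.{u + 1}) φ).app F) :=
    (AddCommGrpCat.mono_iff_injective _).1 (hmono _ _ ξt ξ₀ φ)
  have hinj2 : Function.Injective
      (fun m : ToType (Φ₀.presheafFiber.obj F.obj) => Φt.toPresheafFiber Y yt F.obj (s' m)) := by
    intro m m' hmm
    apply hinj1 (φ.hom.app Y yt)
    change Φ₀.toPresheafFiber Y (φ.hom.app Y yt) F.obj (s' m) =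
      Φ₀.toPresheafFiber Y (φ.hom.app Y yt) F.obj (s' m')
    rw [← sp_germ φ F Y yt, ← sp_germ φ F Y yt]
    exact congrArg _ hmm
  haveI hfint : Finite (ToType (Φt.presheafFiber.obj F.obj)) := hfin _ ξt
  refine ⟨_, inferInstance, inferInstance, ξt, SurjLocus.range_of_default ξt hξt, ?_⟩
  apply le_antisymm
  · exact Nat.card_le_card_of_injective _ hsp
  · exact Nat.card_le_card_of_injective _ hinj2

set_option backward.isDefEq.respectTransparency.types false in
set_option backward.isDefEq.respectTransparency false in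
set_option maxHeartbeats 1600000 in
/-- on a locally noetherian scheme, a sheaf with finite stalks whose stalk cardinality is constant
near each point `x` on the closure of `x` is constructible -/
theorem constructible_of_local_card [IsLocallyNoetherian X] (F : EtCoh.Ab X)
    (hfin : ∀ (Ω : Type u) [Field Ω] [IsSepClosed Ω] (ξ : Spec (CommRingCat.of Ω) ⟶ X),
      Finite ((EtCoh.stalk ξ).obj F))
    (H : ∀ x : X, ∃ (n : ℕ) (V : X.Opens), x ∈ V ∧
      (V : Set X) ∩ closure {x} ⊆ {t : X | CardLocus.CardAt F n t}) :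
    EtPBC.IsConstructible F := by
  apply constructible_of_flc_on_closures
  intro x
  obtain ⟨n, V₁, hxV₁, hV₁E⟩ := H x
  obtain ⟨Ω₀, i1, i2, ξ₀, hξ₀r, hn⟩ := hV₁E ⟨hxV₁, subset_closure rfl⟩
  have hξ₀ : ξ₀ default = x := SurjLocus.default_of_range ξ₀ hξ₀r
  have hlc : IsLocallyClosed ((V₁ : Set X) ∩ closure {x}) :=
    V₁.isOpen.isLocallyClosed.inter isClosed_closure.isLocallyClosed
  obtain ⟨T, g, hg, hTred, hr⟩ := (Groth.Agent.S2285.result X _ hlc).1
  haveI := hg
  have hxr : x ∈ Set.range g := by rw [hr]; exact ⟨hxV₁, subset_closure rfl⟩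
  obtain ⟨tx, htx⟩ := hxr
  have hcl : closure {tx} = Set.univ := by
    rw [g.isEmbedding.isInducing.closure_eq_preimage_closure_image, Set.image_singleton, htx]
    ext a
    simp only [Set.mem_preimage, Set.mem_univ, iff_true]
    have : g a ∈ Set.range g := ⟨a, rfl⟩
    rw [hr] at this
    exact this.2
  haveI : IsLocallyNoetherian T := LocallyOfFiniteType.isLocallyNoetherian g
  let F' : EtCoh.Ab T := (EtCoh.pull g).obj F
  have hfin' : ∀ (Ω : Type u) [Field Ω] [IsSepClosed Ω] (ξ : Spec (CommRingCat.of Ω) ⟶ T),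
      Finite ((EtCoh.stalk ξ).obj F') := by
    intro Ω _ _ ξ'
    haveI := FinBC0.isIso_stk_unit g ξ' F
    have h0 := hfin Ω (ξ' ≫ g)
    exact @Finite.of_equiv _ _ h0
      (asIso (FinBC0.stk g ξ' (FinBC0.unitG g F))).addCommGroupIsoToAddEquiv.toEquiv
  obtain ⟨ξ₁, rfl⟩ := SurjLocus.exists_lift_of_immersion g ξ₀ tx (by rw [hξ₀, htx])
  have hξ₁ : ξ₁ default = tx := by
    apply g.isEmbedding.injective
    change (ξ₁ ≫ g) default = g tx
    rw [hξ₀, htx]
  have hn' : Nat.card (CardTriv.Mst F' ξ₁) = n := by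
    haveI := FinBC0.isIso_stk_unit g ξ₁ F
    have := CardLocus.card_eq_of_iso (asIso (FinBC0.stk g ξ₁ (FinBC0.unitG g F)))
    exact this.symm.trans hn
  have hcard : ∀ t : T, CardLocus.CardAt F' (Nat.card (CardTriv.Mst F' ξ₁)) t := by
    intro t
    rw [hn']
    exact (CardLocus.cardAt_pull_iff g F n t).2 (hV₁E (by rw [← hr]; exact ⟨t, rfl⟩))
  obtain ⟨Y, ⟨y⟩, hTriv⟩ := CardTriv.exists_triv_of_card F' tx hcl ξ₁ hξ₁ hfin' hcard
  obtain ⟨T', ⟨t', ht'⟩, hflc'⟩ := CardConstr.exists_open_flc_of_triv F' Y y hTriv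
  obtain ⟨V'', hV''o, hV''⟩ := (g.isEmbedding.isInducing.isOpen_iff).1 T'.isOpen
  have hgt' : g t' ∈ V'' := by
    have : t' ∈ g ⁻¹' V'' := by rw [hV'']; exact ht'
    exact this
  have hgc : g t' ∈ closure {x} := by
    have : g t' ∈ Set.range g := ⟨t', rfl⟩
    rw [hr] at this
    exact this.2
  have hxV'' : x ∈ V'' := by
    obtain ⟨z, hzV', hz⟩ := mem_closure_iff.1 hgc V'' hV''o hgt'
    rw [Set.mem_singleton_iff] at hz
    rwa [hz] at hzV'
  refine ⟨V₁ ⊓ ⟨V'', hV''o⟩, T', T'.ι ≫ g, inferInstance, ⟨hxV₁, hxV''⟩, ?_, ?_⟩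
  · rw [Strata.range_ι_comp, ← hV'', Set.image_preimage_eq_inter_range, hr]
    ext y
    simp only [TopologicalSpace.Opens.coe_inf, TopologicalSpace.Opens.coe_mk, Set.mem_inter_iff]
    tauto
  · exact Flc.flc_of_iso ((pullComp T'.ι g).app F).symm hflc'

end Groth.Agent.Lib.Helper23.SpecMono
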