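import Groth.Agent.Lib.Helper23.SpecMono

/-!
# Pushing specialization arrows forward along an etale morphism
-/

set_option autoImplicit false
universe u

namespace Groth.Agent.Lib.Helper23.SpecPush

open CategoryTheory CategoryTheory.Limits AlgebraicGeometry Opposite GrothendieckTopology
open FinPushFiber

variable {Y' Y : Scheme.{u}} (g : Y' ⟶ Y)
  {Ω Ω' : Type u} [Field Ω] [IsSepClosed Ω] [Field Ω'] [IsSepClosed Ω']
  (η : Spec (CommRingCat.of Ω) ⟶ Y') (η' : Spec (CommRingCat.of Ω') ⟶ Y')

/-- the image of a morphism of points under a morphism of schemes -/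
noncomputable def pushArrow (ψ : Scheme.pointSmallEtale η' ⟶ Scheme.pointSmallEtale η) :
    Scheme.pointSmallEtale (η' ≫ g) ⟶ Scheme.pointSmallEtale (η ≫ g) :=
  ⟨(Groth.Agent.S0100.fiberIso g η).inv ≫ Functor.whiskerLeft (EtCoh.bc g) ψ.hom ≫
    (Groth.Agent.S0100.fiberIso g η').hom⟩

set_option backward.isDefEq.respectTransparency.types false in
set_option backward.isDefEq.respectTransparency false in
lemma pushArrow_app (ψ : Scheme.pointSmallEtale η' ⟶ Scheme.pointSmallEtale η) (V : Y.Etale)
    (v : (Scheme.pointSmallEtale (η ≫ g)).fiber.obj V)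
    (v' : (Scheme.pointSmallEtale (η' ≫ g)).fiber.obj V)
    (h : ψ.hom.app ((EtCoh.bc g).obj V) (liftpt η rfl V v) = liftpt η' rfl V v') :
    (pushArrow g η η' ψ).hom.app V v = v' := by
  change (Groth.Agent.S0100.fiberIso g η').hom.app V
    (ψ.hom.app ((EtCoh.bc g).obj V) ((Groth.Agent.S0100.fiberIso g η).inv.app V v)) = v'
  rw [FinBC0.fiberIso_inv_app, h, ← FinBC0.fiberIso_inv_app]
  exact congrArg (fun k => (ConcreteCategory.hom k) v')
    ((Groth.Agent.S0100.fiberIso g η').inv_hom_id_app V)

section Taut

variable {X : Scheme.{u}} (W : X.Etale) (ζ : Spec (CommRingCat.of Ω) ⟶ W.left)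
  (ζ' : Spec (CommRingCat.of Ω') ⟶ W.left)

/-- the tautological lift of `ζ ≫ W.hom` to `W` -/
noncomputable def taut : (Scheme.pointSmallEtale (ζ ≫ W.hom)).fiber.obj W := Over.homMk ζ rfl

/-- the diagonal of `W`, as a morphism of etale `W`-schemes -/
noncomputable def diag : EtCoh.top W.left ⟶ (EtCoh.bc W.hom).obj W :=
  MorphismProperty.Over.homMk (pullback.lift (𝟙 W.left) (𝟙 W.left) rfl)
    (by
      change pullback.lift (𝟙 W.left) (𝟙 W.left) rfl ≫ pullback.snd W.hom W.hom = 𝟙 W.left
      exact pullback.lift_snd _ _ _) trivial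

/-- the unique lift of `ζ` to the terminal etale `W`-scheme -/
noncomputable def star : (Scheme.pointSmallEtale ζ).fiber.obj (EtCoh.top W.left) :=
  Over.homMk ζ (Category.comp_id ζ)

set_option backward.isDefEq.respectTransparency.types false in
set_option backward.isDefEq.respectTransparency false in
lemma star_unique (q : (Scheme.pointSmallEtale ζ).fiber.obj (EtCoh.top W.left)) : q = star W ζ := by
  apply Over.OverMorphism.ext
  let ql : Spec (CommRingCat.of Ω) ⟶ W.left := q.left
  have h : ql ≫ 𝟙 W.left = ζ := Over.w q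
  exact (Category.comp_id ql).symm.trans h

set_option backward.isDefEq.respectTransparency.types false in
set_option backward.isDefEq.respectTransparency false in
lemma map_diag_star :
    (Scheme.pointSmallEtale ζ).fiber.map (diag W) (star W ζ) = liftpt ζ rfl W (taut W ζ) := by
  apply Over.OverMorphism.ext
  change ζ ≫ pullback.lift (𝟙 W.left) (𝟙 W.left) rfl = (liftpt ζ rfl W (taut W ζ)).left
  apply pullback.hom_ext
  · rw [Category.assoc, pullback.lift_fst, liftpt_left_fst]
    exact Category.comp_id _
  · rw [Category.assoc, pullback.lift_snd, liftpt_left_snd]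
    exact Category.comp_id _

set_option backward.isDefEq.respectTransparency.types false in
set_option backward.isDefEq.respectTransparency false in
/-- the pushed arrow sends the tautological lift to the tautological lift -/
lemma pushArrow_taut (ψ : Scheme.pointSmallEtale ζ' ⟶ Scheme.pointSmallEtale ζ) :
    (pushArrow W.hom ζ ζ' ψ).hom.app W (taut W ζ) = taut W ζ' := by
  apply pushArrow_app
  rw [← map_diag_star, ← map_diag_star, ← star_unique W ζ' (ψ.hom.app _ (star W ζ))]
  exact congrArg (fun k => (ConcreteCategory.hom k) (star W ζ)) (ψ.hom.naturality (diag W))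

end Taut

end Groth.Agent.Lib.Helper23.SpecPush
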