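import Mathlib.AlgebraicGeometry.OpenImmersion
import Mathlib.AlgebraicGeometry.Restrict
import Mathlib.RingTheory.Spectrum.Prime.RingHom

/-! Square-zero thickenings of affine schemes are surjective on points; lifting through opens. -/

set_option autoImplicit false
universe u
open CategoryTheory AlgebraicGeometry

namespace Groth.Agent.Lib.Helper23.SqZero

theorem specMap_mk_surjective (A : Type u) [CommRing A] (I : Ideal A) (hI : I ^ 2 = ⊥) :
    Function.Surjective (Spec.map (CommRingCat.ofHom (Ideal.Quotient.mk I))).base := by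
  intro p
  have hrange := range_comap_of_surjective (A ⧸ I) (Ideal.Quotient.mk I)
    Ideal.Quotient.mk_surjective
  have hp : (p : PrimeSpectrum A) ∈ PrimeSpectrum.zeroLocus (RingHom.ker (Ideal.Quotient.mk I) : Set A) := by
    rw [Ideal.mk_ker]
    intro x hx
    have hx2 : x ^ 2 ∈ I ^ 2 := Ideal.pow_mem_pow hx 2
    rw [hI] at hx2
    have : x ^ 2 ∈ p.asIdeal := by
      rw [(Submodule.mem_bot A).mp hx2]; exact p.asIdeal.zero_mem
    exact p.isPrime.mem_of_pow_mem 2 this
  rw [← hrange] at hp
  obtain ⟨q, hq⟩ := hp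
  exact ⟨q, hq⟩

/-- A morphism out of `Spec A` whose restriction to `Spec (A/I)` (with `I² = 0`) lands in an open
`U` factors through `U`. -/
theorem range_subset_of_comp {X : Scheme.{u}} (A : Type u) [CommRing A] (I : Ideal A)
    (hI : I ^ 2 = ⊥) (U : X.Opens) (l : Spec (CommRingCat.of A) ⟶ X)
    (a : Spec (CommRingCat.of (A ⧸ I)) ⟶ (U : Scheme.{u}))
    (h : Spec.map (CommRingCat.ofHom (Ideal.Quotient.mk I)) ≫ l = a ≫ U.ι) :
    Set.range l.base ⊆ Set.range U.ι.base := by
  rintro _ ⟨p, rfl⟩
  obtain ⟨q, rfl⟩ := specMap_mk_surjective A I hI p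
  refine ⟨a.base q, ?_⟩
  have := congrArg (fun φ => φ.base q) h
  simpa using this.symm

end Groth.Agent.Lib.Helper23.SqZero
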