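import Mathlib

set_option autoImplicit false
universe u v w
open CommRing Pic TensorProduct

namespace Helper23.Steinitz

section General

variable {R : Type u} [CommRing R]

theorem nonempty_equiv_prod_ker {M : Type v} {P : Type w} [AddCommGroup M] [Module R M]
    [AddCommGroup P] [Module R P] [Module.Projective R P] (f : M →ₗ[R] P)
    (hf : Function.Surjective f) : Nonempty (M ≃ₗ[R] P × LinearMap.ker f) := by
  obtain ⟨g, hg⟩ := Module.projective_lifting_property f LinearMap.id hf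
  have hg' : ∀ p, f (g p) = p := fun p => by
    have := congrArg (fun h => h p) hg
    simpa using this
  let r : M →ₗ[R] LinearMap.ker f :=
    (LinearMap.id - g ∘ₗ f).codRestrict _ (fun m => by
      rw [LinearMap.mem_ker, LinearMap.sub_apply, map_sub, LinearMap.id_apply,
        LinearMap.comp_apply, hg', sub_self])
  refine ⟨LinearEquiv.ofLinear (f.prod r) (g.coprod (LinearMap.ker f).subtype) ?_ ?_⟩
  · apply LinearMap.ext
    rintro ⟨p, k⟩
    have hk : f k.1 = 0 := k.2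
    apply Prod.ext
    · simp [hg', hk]
    · apply Subtype.ext
      simp [r, hg', hk]
  · apply LinearMap.ext
    intro m
    simp [r]

end General

section Dedekind

variable {R : Type u} [CommRing R] [IsDedekindDomain R]

theorem equiv_of_span_mul_eq {I I' : Ideal R} {a c : R} (ha : a ≠ 0) (hc : c ≠ 0)
    (h : Ideal.span {c} * I' = Ideal.span {a} * I) : Nonempty (I ≃ₗ[R] I') := by
  let f : I →ₗ[R] R := a • I.subtype
  let g : I' →ₗ[R] R := c • I'.subtype
  have hf : Function.Injective f := by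
    intro x y hxy
    simp only [f, LinearMap.smul_apply, Submodule.subtype_apply, smul_eq_mul] at hxy
    exact Subtype.ext (mul_left_cancel₀ ha hxy)
  have hg : Function.Injective g := by
    intro x y hxy
    simp only [g, LinearMap.smul_apply, Submodule.subtype_apply, smul_eq_mul] at hxy
    exact Subtype.ext (mul_left_cancel₀ hc hxy)
  have hrf : LinearMap.range f = (Ideal.span {a} * I : Ideal R) := by
    ext x
    rw [LinearMap.mem_range, Ideal.mem_span_singleton_mul]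
    constructor
    · rintro ⟨y, rfl⟩
      exact ⟨y.1, y.2, rfl⟩
    · rintro ⟨z, hz, rfl⟩
      exact ⟨⟨z, hz⟩, rfl⟩
  have hrg : LinearMap.range g = (Ideal.span {c} * I' : Ideal R) := by
    ext x
    rw [LinearMap.mem_range, Ideal.mem_span_singleton_mul]
    constructor
    · rintro ⟨y, rfl⟩
      exact ⟨y.1, y.2, rfl⟩
    · rintro ⟨z, hz, rfl⟩
      exact ⟨⟨z, hz⟩, rfl⟩
  exact ⟨(LinearEquiv.ofInjective f hf).trans
    ((LinearEquiv.ofEq _ _ (by rw [hrf, hrg, h])).trans (LinearEquiv.ofInjective g hg).symm)⟩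

theorem exists_coprime_ideal (I J : Ideal R) (hI : I ≠ ⊥) (hJ : J ≠ ⊥) :
    ∃ I' : Ideal R, Nonempty (I ≃ₗ[R] I') ∧ I' ⊔ J = ⊤ := by
  obtain ⟨c, hcI, hc⟩ := Submodule.exists_mem_ne_zero_of_ne_bot hI
  obtain ⟨L, hL⟩ : I ∣ Ideal.span {c} :=
    Ideal.dvd_iff_le.mpr ((Ideal.span_singleton_le_iff_mem I).mpr hcI)
  have hL0 : L ≠ ⊥ := by
    rintro rfl
    rw [Ideal.mul_bot, Ideal.span_singleton_eq_bot] at hL
    exact hc hL
  have hLJ : L * J ≠ 0 := mul_ne_zero hL0 hJ
  obtain ⟨a, ha⟩ := IsDedekindDomain.exists_sup_span_eq (Ideal.mul_le_left : L * J ≤ L) hLJ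
  by_cases ha0 : a = 0
  · subst ha0
    have h1 : L * J = L * ⊤ := by
      rw [Ideal.mul_top]
      simpa using ha
    have h2 : J = ⊤ := mul_left_cancel₀ hL0 h1
    exact ⟨I, ⟨LinearEquiv.refl R I⟩, by rw [h2, sup_top_eq]⟩
  · obtain ⟨I', hI'⟩ : L ∣ Ideal.span {a} :=
      Ideal.dvd_iff_le.mpr (by rw [← ha]; exact le_sup_right)
    refine ⟨I', ?_, ?_⟩
    · apply equiv_of_span_mul_eq ha0 hc
      rw [hL, hI']
      ring
    · have h1 : L * (I' ⊔ J) = L * ⊤ := by
        rw [Ideal.mul_sup, ← hI', Ideal.mul_top, sup_comm]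
        exact ha
      exact mul_left_cancel₀ hL0 h1


theorem ideal_ne_bot_of_equiv {M : Type v} [AddCommGroup M] [Module R M] [Module.Invertible R M]
    (I : Ideal R) (e : M ≃ₗ[R] I) : I ≠ ⊥ := by
  rintro rfl
  have hsub : ∀ m : M, m = 0 := fun m => by
    apply e.injective
    apply Subtype.ext
    have := (e m).2
    rw [Submodule.mem_bot] at this
    rw [this, map_zero]; rfl
  have h01 : (1 : R) = 0 := by
    apply FaithfulSMul.eq_of_smul_eq_smul (α := M)
    intro m
    rw [hsub m, smul_zero, smul_zero]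
  exact one_ne_zero h01

/-- kernel of `(y, z) ↦ y + z` on `I × J` is `I ⊓ J`. -/
noncomputable def kerCoprodEquiv (I J : Ideal R) :
    LinearMap.ker (I.subtype.coprod J.subtype) ≃ₗ[R] (I ⊓ J : Ideal R) where
  toFun x := ⟨x.1.1.1, by
    have h : (x.1.1 : R) + x.1.2 = 0 := by
      have := LinearMap.mem_ker.mp x.2
      rw [LinearMap.coprod_apply] at this
      exact this
    refine ⟨x.1.1.2, ?_⟩
    have : (x.1.1 : R) = -x.1.2 := eq_neg_of_add_eq_zero_left h
    rw [this]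
    exact J.neg_mem x.1.2.2⟩
  map_add' x y := rfl
  map_smul' r x := rfl
  invFun w := ⟨(⟨w.1, w.2.1⟩, ⟨-w.1, J.neg_mem w.2.2⟩), by simp⟩
  left_inv x := by
    have h : (x.1.1 : R) + x.1.2 = 0 := by
      have := LinearMap.mem_ker.mp x.2
      rw [LinearMap.coprod_apply] at this
      exact this
    apply Subtype.ext
    apply Prod.ext
    · rfl
    · apply Subtype.ext
      simp only
      exact (eq_neg_of_add_eq_zero_right h).symm
  right_inv w := rfl

theorem steinitz_pair {M : Type w} {N : Type v} [AddCommGroup M] [Module R M]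
    [Module.Invertible R M] [AddCommGroup N] [Module R N] [Module.Invertible R N] :
    Nonempty ((M × N) ≃ₗ[R] (R × (Pic.mk R M * Pic.mk R N : Pic R))) := by
  obtain ⟨I, ⟨eI⟩⟩ := Module.Invertible.exists_linearEquiv_ideal R M
  obtain ⟨J, ⟨eJ⟩⟩ := Module.Invertible.exists_linearEquiv_ideal R N
  have hI : I ≠ ⊥ := ideal_ne_bot_of_equiv I eI
  have hJ : J ≠ ⊥ := ideal_ne_bot_of_equiv J eJ
  obtain ⟨I', ⟨eI'⟩, hcop⟩ := exists_coprime_ideal I J hI hJ
  haveI : Module.Invertible R I' := Module.Invertible.congr (eI.trans eI')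
  haveI : Module.Invertible R J := Module.Invertible.congr eJ
  have hsurj : Function.Surjective (I'.subtype.coprod J.subtype) := by
    rw [← LinearMap.range_eq_top, LinearMap.range_coprod, Submodule.range_subtype,
      Submodule.range_subtype]
    exact hcop
  obtain ⟨e1⟩ := nonempty_equiv_prod_ker (I'.subtype.coprod J.subtype) hsurj
  have hmul : (I' ⊓ J : Ideal R) = I' * J := (Ideal.mul_eq_inf_of_coprime hcop).symm
  have hdisj : Submodule.LinearDisjoint (I' : Submodule R R) (J : Submodule R R) :=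
    Submodule.LinearDisjoint.of_left_le_one_of_flat (I' : Submodule R R) (J : Submodule R R)
      (le_top.trans Ideal.one_eq_top.ge)
  obtain ⟨e2⟩ : Nonempty ((M ⊗[R] N) ≃ₗ[R] (Pic.mk R M * Pic.mk R N : Pic R)) := by
    rw [← Pic.mk_eq_iff, Pic.mk_tensor]
  have e3 : (I' ⊓ J : Ideal R) ≃ₗ[R] (Pic.mk R M * Pic.mk R N : Pic R) :=
    (LinearEquiv.ofEq _ _ hmul).trans (hdisj.mulMap.symm.trans
      ((TensorProduct.congr (eI.trans eI').symm eJ.symm).trans e2))
  exact ⟨((LinearEquiv.prodCongr (eI.trans eI') eJ).trans e1).trans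
    (LinearEquiv.prodCongr (LinearEquiv.refl R R) ((kerCoprodEquiv I' J).trans e3))⟩

theorem steinitz_pow {N : Type v} [AddCommGroup N] [Module R N] [Module.Invertible R N] :
    ∀ k : ℕ, Nonempty ((Fin (k + 1) → N) ≃ₗ[R] (Fin k → R) × (Pic.mk R N ^ (k + 1) : Pic R)) := by
  intro k
  induction k with
  | zero =>
    have e0 : N ≃ₗ[R] (Pic.mk R N ^ (0 + 1) : Pic R) := by
      have : Nonempty (N ≃ₗ[R] (Pic.mk R N ^ (0 + 1) : Pic R)) := by
        rw [← Pic.mk_eq_iff, zero_add, pow_one]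
      exact this.some
    have e7 : (Pic.mk R N ^ (0 + 1) : Pic R) ≃ₗ[R]
        (Fin 0 → R) × (Pic.mk R N ^ (0 + 1) : Pic R) :=
      (LinearEquiv.uniqueProd (R := R) (M := (Pic.mk R N ^ (0 + 1) : Pic R))
        (M₂ := (Fin 0 → R))).symm
    exact ⟨(LinearEquiv.funUnique (Fin 1) R N).trans (e0.trans e7)⟩
  | succ k ih =>
    obtain ⟨e⟩ := ih
    obtain ⟨ep⟩ := steinitz_pair (R := R) (M := (Pic.mk R N ^ (k + 1) : Pic R)) (N := N)
    have e4 : (Pic.mk R (Pic.mk R N ^ (k + 1) : Pic R) * Pic.mk R N : Pic R) ≃ₗ[R]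
        (Pic.mk R N ^ (k + 1 + 1) : Pic R) := by
      rw [Pic.mk_eq_self, ← pow_succ]
    -- Fin (k+2) → N ≃ N × (Fin (k+1) → N)
    have e5 : (Fin (k + 1 + 1) → N) ≃ₗ[R] N × (Fin (k + 1) → N) :=
      (Fin.consLinearEquiv R (fun _ : Fin (k + 1 + 1) => N)).symm
    have e6 : (R × (Fin k → R)) ≃ₗ[R] (Fin (k + 1) → R) :=
      Fin.consLinearEquiv R (fun _ : Fin (k + 1) => R)
    have a2 : (N × (Fin (k + 1) → N)) ≃ₗ[R]
        N × ((Fin k → R) × (Pic.mk R N ^ (k + 1) : Pic R)) :=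
      LinearEquiv.prodCongr (LinearEquiv.refl R N) e
    have a3 : (N × ((Fin k → R) × (Pic.mk R N ^ (k + 1) : Pic R))) ≃ₗ[R]
        ((Fin k → R) × (Pic.mk R N ^ (k + 1) : Pic R)) × N :=
      LinearEquiv.prodComm R _ _
    have a4 : (((Fin k → R) × (Pic.mk R N ^ (k + 1) : Pic R)) × N) ≃ₗ[R]
        (Fin k → R) × ((Pic.mk R N ^ (k + 1) : Pic R) × N) :=
      LinearEquiv.prodAssoc R _ _ _
    have a5 : ((Fin k → R) × ((Pic.mk R N ^ (k + 1) : Pic R) × N)) ≃ₗ[R]
        (Fin k → R) × (R × (Pic.mk R N ^ (k + 1 + 1) : Pic R)) :=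
      LinearEquiv.prodCongr (LinearEquiv.refl R _) (ep.trans
        (LinearEquiv.prodCongr (LinearEquiv.refl R R) e4))
    have a6 : ((Fin k → R) × (R × (Pic.mk R N ^ (k + 1 + 1) : Pic R))) ≃ₗ[R]
        ((Fin k → R) × R) × (Pic.mk R N ^ (k + 1 + 1) : Pic R) :=
      (LinearEquiv.prodAssoc R _ _ _).symm
    have a7 : (((Fin k → R) × R) × (Pic.mk R N ^ (k + 1 + 1) : Pic R)) ≃ₗ[R]
        (Fin (k + 1) → R) × (Pic.mk R N ^ (k + 1 + 1) : Pic R) :=
      LinearEquiv.prodCongr ((LinearEquiv.prodComm R _ _).trans e6) (LinearEquiv.refl R _)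
    exact ⟨e5.trans (a2.trans (a3.trans (a4.trans (a5.trans (a6.trans a7)))))⟩

end Dedekind

end Helper23.Steinitz
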