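import Mathlib.CategoryTheory.Preadditive.Injective.Basic
import Mathlib.CategoryTheory.Adjunction.FullyFaithful
import Mathlib.CategoryTheory.Abelian.Basic

/-!
# Sections supported on a closed part of an injective object are injective (abstract form)
-/

set_option autoImplicit false

namespace Groth.Agent.Lib.Helper23.SuppInjective

open CategoryTheory Limits

universe v₁ v₂ v₃ u₁ u₂ u₃

variable {A : Type u₁} {B : Type u₂} {C : Type u₃} [Category.{v₁} A] [Category.{v₂} B]
  [Category.{v₃} C] [Abelian A] [Abelian B]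
  {I : A ⥤ B} {Is : B ⥤ A} (adjI : I ⊣ Is) {J : A ⥤ C} {Js : C ⥤ A} (adjJ : J ⊣ Js)
  [Is.Full] [Is.Faithful]
  (hz : ∀ G : B, IsZero (J.obj (Is.obj G)))

include adjI hz in
lemma injective_pull_kernel (F : A) [Injective F]
    (hK : IsIso (adjI.unit.app (kernel (adjJ.unit.app F)))) :
    Injective (I.obj (kernel (adjJ.unit.app F))) := by
  haveI := hK
  haveI : Is.PreservesMonomorphisms := Functor.preservesMonomorphisms_of_adjunction adjI
  refine ⟨fun {M N} f m hm => ?_⟩
  haveI : Mono (Is.map m) := inferInstance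
  let K := kernel (adjJ.unit.app F)
  let f' : Is.obj M ⟶ F := Is.map f ≫ inv (adjI.unit.app K) ≫ kernel.ι (adjJ.unit.app F)
  let g : Is.obj N ⟶ F := Injective.factorThru f' (Is.map m)
  have hg : Is.map m ≫ g = f' := Injective.comp_factorThru f' (Is.map m)
  have hg0 : g ≫ adjJ.unit.app F = 0 := by
    apply (adjJ.homEquiv _ _).symm.injective
    exact (hz N).eq_of_src _ _
  let g' : Is.obj N ⟶ K := kernel.lift _ g hg0
  have hg' : g' ≫ kernel.ι (adjJ.unit.app F) = g := kernel.lift_ι _ g hg0
  refine ⟨Is.preimage (g' ≫ adjI.unit.app K), ?_⟩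
  apply Is.map_injective
  rw [Is.map_comp, Is.map_preimage, ← Category.assoc]
  have e : Is.map m ≫ g' = Is.map f ≫ inv (adjI.unit.app K) := by
    rw [← cancel_mono (kernel.ι (adjJ.unit.app F)), Category.assoc, hg', hg, Category.assoc]
  rw [e, Category.assoc, IsIso.inv_hom_id, Category.comp_id]

end Groth.Agent.Lib.Helper23.SuppInjective
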