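import Mathlib.Topology.Category.TopCat.Limits.Basic
import Mathlib.CategoryTheory.Limits.Types.Pushouts
import Mathlib.CategoryTheory.Limits.Preserves.Shapes.Pullbacks
import Mathlib.CategoryTheory.Limits.Shapes.Pullback.IsPullback.Basic

/-!
# A criterion for pushouts in `TopCat`
-/

universe u
open CategoryTheory CategoryTheory.Limits

namespace Helper23.TopPushout

theorem isPushout_of {X1 X2 X3 X4 : TopCat.{u}} (t : X1 ⟶ X2) (l : X1 ⟶ X3) (r : X2 ⟶ X4)
    (b : X3 ⟶ X4) (w : t ≫ r = l ≫ b)
    (hT : IsPushout ((forget TopCat).map t) ((forget TopCat).map l) ((forget TopCat).map r)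
      ((forget TopCat).map b))
    (hclosed : ∀ Z : Set X4, IsClosed (r ⁻¹' Z) → IsClosed (b ⁻¹' Z) → IsClosed Z) :
    IsPushout t l r b := by
  refine ⟨⟨w⟩, ?_⟩
  have hc : IsColimit ((forget TopCat).mapCocone (PushoutCocone.mk r b w)) :=
    (isColimitMapCoconePushoutCoconeEquiv (forget TopCat) w).symm hT.isColimit
  rw [TopCat.nonempty_isColimit_iff_eq_coinduced _ hc]
  apply le_antisymm
  · rw [TopologicalSpace.le_def]
    intro (U : Set X4) hU
    rw [isOpen_iSup_iff] at hU
    have hl : IsOpen (r ⁻¹' U) := by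
      have := hU WalkingSpan.left
      rw [isOpen_coinduced] at this
      exact this
    have hr : IsOpen (b ⁻¹' U) := by
      have := hU WalkingSpan.right
      rw [isOpen_coinduced] at this
      exact this
    have hcl : IsClosed (Uᶜ : Set X4) := hclosed Uᶜ hl.isClosed_compl hr.isClosed_compl
    exact isClosed_compl_iff.mp hcl
  · apply iSup_le
    intro j
    rw [← continuous_iff_coinduced_le]
    exact ((PushoutCocone.mk r b w).ι.app j).hom.continuous

end Helper23.TopPushout
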