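import Mathlib.CategoryTheory.Preadditive.Injective.Basic
import Mathlib.CategoryTheory.Adjunction.FullyFaithful

/-!
# For `L ⊣ R ⊣ R'` (open immersion pattern `j_! ⊣ j⁻¹ ⊣ j_*`) the unit `I ⟶ R' R I` is a split
epimorphism on injective objects
-/

set_option autoImplicit false

namespace Groth.Agent.Lib.Helper23.UnitSplitEpi

open CategoryTheory Limits

universe v₁ v₂ u₁ u₂

variable {A : Type u₁} {B : Type u₂} [Category.{v₁} A] [Category.{v₂} B]
  {L : B ⥤ A} {R : A ⥤ B} {R' : B ⥤ A} (adj₁ : L ⊣ R) (adj₂ : R ⊣ R')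
  [IsIso adj₂.counit]
  (hmono : ∀ M : A, Mono (adj₁.counit.app M))
  (hiso : ∀ F : A, IsIso (R.map (adj₁.counit.app F)))

include hmono hiso in
theorem exists_section_unit (I : A) [Injective I] :
    ∃ r : R'.obj (R.obj I) ⟶ I, r ≫ adj₂.unit.app I = 𝟙 _ := by
  haveI : IsIso (adj₂.counit.app (R.obj I)) := inferInstance
  have tri : R.map (adj₂.unit.app I) ≫ adj₂.counit.app (R.obj I) = 𝟙 _ :=
    adj₂.left_triangle_components I
  haveI hRη : IsIso (R.map (adj₂.unit.app I)) := by
    haveI : IsIso (R.map (adj₂.unit.app I) ≫ adj₂.counit.app (R.obj I)) := by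
      rw [tri]; exact IsIso.id _
    exact IsIso.of_isIso_comp_right _ (adj₂.counit.app (R.obj I))
  let M := R'.obj (R.obj I)
  let m : L.obj (R.obj I) ⟶ M := adj₁.counit.app I ≫ adj₂.unit.app I
  have hm : m = L.map (R.map (adj₂.unit.app I)) ≫ adj₁.counit.app M :=
    (adj₁.counit.naturality (adj₂.unit.app I)).symm
  haveI : Mono (adj₁.counit.app M) := hmono M
  haveI : Mono m := by
    rw [hm]
    exact mono_comp _ _
  let r : M ⟶ I := Injective.factorThru (adj₁.counit.app I) m
  have hr : m ≫ r = adj₁.counit.app I := Injective.comp_factorThru _ _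
  refine ⟨r, ?_⟩
  haveI := hiso I
  have h1 : R.map (adj₂.unit.app I) ≫ R.map r = 𝟙 _ := by
    rw [← cancel_epi (R.map (adj₁.counit.app I)), ← R.map_comp, ← R.map_comp, ← Category.assoc, hr,
      Category.comp_id]
  have h2 : R.map r = adj₂.counit.app (R.obj I) := by
    rw [← cancel_epi (R.map (adj₂.unit.app I)), h1, tri]
  apply (adj₂.homEquiv _ _).symm.injective
  rw [Adjunction.homEquiv_counit, Adjunction.homEquiv_counit, R.map_comp, Category.assoc, tri,
    R.map_id, Category.id_comp, ← h2]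
  exact Category.comp_id _

include hmono hiso in
theorem epi_unit (I : A) [Injective I] : Epi (adj₂.unit.app I) := by
  obtain ⟨r, hr⟩ := exists_section_unit adj₁ adj₂ hmono hiso I
  haveI : IsSplitEpi (adj₂.unit.app I) := IsSplitEpi.mk' ⟨r, hr⟩
  infer_instance

end Groth.Agent.Lib.Helper23.UnitSplitEpi
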