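import Groth.Prelude.Def_Pi1
import Mathlib.LinearAlgebra.TensorProduct.RightExactness
import Mathlib.RingTheory.TensorProduct.Finite

/-! Descent along universally injective ring maps (`Pi1.UnivInjective`). -/

set_option autoImplicit false
universe u
open scoped TensorProduct

namespace Groth.Agent.Lib.Helper23.UnivInj

variable {R S : Type u} [CommRing R] [CommRing S] [Algebra R S]

/-- If `R → S` is universally injective and `S ⊗ P = 0` then `P = 0`. -/
theorem subsingleton_of_tensor (h : Pi1.UnivInjective R S) (P : Type u) [AddCommGroup P]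
    [Module R P] (hP : Subsingleton (S ⊗[R] P)) : Subsingleton P := by
  have hinj := h P
  have : Subsingleton (P ⊗[R] S) := (TensorProduct.comm R P S).toEquiv.subsingleton
  have : Subsingleton (P ⊗[R] R) := hinj.subsingleton
  exact (TensorProduct.rid R P).symm.toEquiv.subsingleton

/-- The map `p ↦ 1 ⊗ p` is injective when `R → S` is universally injective. -/
theorem one_tmul_injective (h : Pi1.UnivInjective R S) (P : Type u) [AddCommGroup P]
    [Module R P] : Function.Injective (fun p : P => (1 : S) ⊗ₜ[R] p) := by
  intro p q hpq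
  have hinj := h P
  have h1 : (TensorProduct.comm R P S).symm ((1 : S) ⊗ₜ[R] p) =
      (TensorProduct.comm R P S).symm ((1 : S) ⊗ₜ[R] q) := congrArg _ hpq
  simp only [TensorProduct.comm_symm_tmul] at h1
  have h2 : LinearMap.lTensor P (Algebra.linearMap R S) (p ⊗ₜ[R] (1 : R)) =
      LinearMap.lTensor P (Algebra.linearMap R S) (q ⊗ₜ[R] (1 : R)) := by
    simpa using h1
  have h3 := hinj h2
  have h4 := congrArg (TensorProduct.rid R P) h3
  simpa using h4

/-- If the base change of a submodule `M'` is everything, then `M' = ⊤`. -/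
theorem eq_top_of_baseChange_eq_top (h : Pi1.UnivInjective R S) {M : Type u} [AddCommGroup M]
    [Module R M] (M' : Submodule R M) (hM' : M'.baseChange S = ⊤) : M' = ⊤ := by
  have hsub : Subsingleton (S ⊗[R] (M ⧸ M')) := by
    refine subsingleton_of_forall_eq 0 fun x => ?_
    induction x using TensorProduct.induction_on with
    | zero => rfl
    | tmul s q =>
      obtain ⟨m, rfl⟩ := Submodule.Quotient.mk_surjective M' q
      have hmem : s ⊗ₜ[R] m ∈ M'.baseChange S := by rw [hM']; trivial
      obtain ⟨y, hy⟩ := hmem
      have : s ⊗ₜ[R] (Submodule.Quotient.mk m : M ⧸ M') =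
          (LinearMap.baseChange S M'.mkQ) (s ⊗ₜ[R] m) := by simp
      rw [this, ← hy, ← LinearMap.comp_apply, ← LinearMap.baseChange_comp]
      have h0 : M'.mkQ ∘ₗ M'.subtype = 0 := by
        ext x; simp
      rw [h0]
      simp
    | add x y hx hy => rw [hx, hy, add_zero]
  have := subsingleton_of_tensor h (M ⧸ M') hsub
  exact Submodule.Quotient.subsingleton_iff.mp this

end Groth.Agent.Lib.Helper23.UnivInj

namespace Groth.Agent.Lib.Helper23.UnivInj

variable {R S : Type u} [CommRing R] [CommRing S] [Algebra R S]

/-- Surjectivity descends along universally injective ring maps. -/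
theorem surjective_of_baseChange_surjective (h : Pi1.UnivInjective R S) {N M : Type u}
    [AddCommGroup N] [Module R N] [AddCommGroup M] [Module R M] (f : N →ₗ[R] M)
    (hf : Function.Surjective (f.baseChange S)) : Function.Surjective f := by
  rw [← LinearMap.range_eq_top]
  apply eq_top_of_baseChange_eq_top h
  rw [eq_top_iff]
  intro x _
  obtain ⟨y, rfl⟩ := hf x
  have hcomp : f = (LinearMap.range f).subtype ∘ₗ f.rangeRestrict := by
    ext; simp
  refine ⟨(f.rangeRestrict.baseChange S) y, ?_⟩
  rw [← LinearMap.comp_apply, ← LinearMap.baseChange_comp, ← hcomp]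

/-- If `S ⊗ A` is generated as an `S`-algebra by the image of `S ⊗ A'` for a subalgebra `A'`,
then `A' = ⊤`. -/
theorem subalgebra_eq_top_of_map_surjective (h : Pi1.UnivInjective R S) {A : Type u}
    [CommRing A] [Algebra R A] (A' : Subalgebra R A)
    (hA' : Function.Surjective (Algebra.TensorProduct.map (AlgHom.id S S) A'.val)) :
    A' = ⊤ := by
  have hsurj : Function.Surjective (A'.val.toLinearMap.baseChange S) := by
    intro x
    obtain ⟨y, rfl⟩ := hA' x
    refine ⟨y, ?_⟩
    induction y using TensorProduct.induction_on with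
    | zero => simp
    | tmul s a => simp
    | add x y hx hy => simp only [map_add, hx, hy]
  have := surjective_of_baseChange_surjective h _ hsurj
  rw [eq_top_iff]
  intro a _
  obtain ⟨b, rfl⟩ := this a
  exact b.2

end Groth.Agent.Lib.Helper23.UnivInj

namespace Groth.Agent.Lib.Helper23.UnivInj

variable {R S : Type u} [CommRing R] [CommRing S] [Algebra R S]

/-- Membership in a submodule can be tested after a universally injective base change. -/
theorem mem_of_one_tmul_mem_baseChange (h : Pi1.UnivInjective R S) {P : Type u} [AddCommGroup P]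
    [Module R P] (K' : Submodule R P) (l : P) (hl : (1 : S) ⊗ₜ[R] l ∈ K'.baseChange S) :
    l ∈ K' := by
  obtain ⟨y, hy⟩ := hl
  have h1 : (1 : S) ⊗ₜ[R] (Submodule.Quotient.mk l : P ⧸ K') = 0 := by
    have : (1 : S) ⊗ₜ[R] (Submodule.Quotient.mk l : P ⧸ K') =
        (LinearMap.baseChange S K'.mkQ) ((1 : S) ⊗ₜ[R] l) := by simp
    rw [this, ← hy, ← LinearMap.comp_apply, ← LinearMap.baseChange_comp]
    have h0 : K'.mkQ ∘ₗ K'.subtype = 0 := by
      ext x; simp
    rw [h0]
    simp
  have h2 : (fun p : P ⧸ K' => (1 : S) ⊗ₜ[R] p) (Submodule.Quotient.mk l) =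
      (fun p : P ⧸ K' => (1 : S) ⊗ₜ[R] p) 0 := by
    simp only [h1, TensorProduct.tmul_zero]
  have h3 := one_tmul_injective h (P ⧸ K') h2
  exact (Submodule.Quotient.mk_eq_zero K').mp h3

/-- If the base change of a submodule is finitely generated, it is the base change of a
finitely generated submodule. -/
theorem exists_finset_baseChange_eq {P : Type u} [AddCommGroup P]
    [Module R P] (K : Submodule R P) (hK : (K.baseChange S).FG) :
    ∃ G : Finset P, (G : Set P) ⊆ K ∧ (Submodule.span R (G : Set P)).baseChange S =
      K.baseChange S := by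
  classical
  obtain ⟨t, ht⟩ := hK
  have hspan : K.baseChange S = Submodule.span S (⇑((TensorProduct.mk R S P) 1) '' (K : Set P)) := by
    conv_lhs => rw [← Submodule.span_eq K]
    rw [Submodule.baseChange_span]
  have hx : ∀ x ∈ t, ∃ F : Finset P, (F : Set P) ⊆ K ∧ x ∈ Submodule.span S
      (⇑((TensorProduct.mk R S P) 1) '' (F : Set P)) := by
    intro x hxt
    have hxmem : x ∈ Submodule.span S (⇑((TensorProduct.mk R S P) 1) '' (K : Set P)) := by
      rw [← hspan, ← ht]; exact Submodule.subset_span hxt
    obtain ⟨T, hT, hxT⟩ := Submodule.mem_span_finite_of_mem_span hxmem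
    choose g hg using fun y : T => hT y.2
    refine ⟨Finset.univ.image g, ?_, ?_⟩
    · intro m hm
      simp only [Finset.coe_image, Finset.coe_univ, Set.image_univ, Set.mem_range] at hm
      obtain ⟨y, rfl⟩ := hm
      exact (hg y).1
    · refine Submodule.span_mono ?_ hxT
      intro y hy
      refine ⟨g ⟨y, hy⟩, ?_, (hg ⟨y, hy⟩).2⟩
      simp
  choose F hFK hF using hx
  refine ⟨t.attach.biUnion fun x => F x.1 x.2, ?_, ?_⟩
  · intro m hm
    simp only [Finset.coe_biUnion, Set.mem_iUnion] at hm
    obtain ⟨x, _, hm⟩ := hm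
    exact hFK x.1 x.2 hm
  · apply le_antisymm
    · rw [Submodule.baseChange_span, hspan]
      refine Submodule.span_mono (Set.image_mono ?_)
      intro m hm
      simp only [Finset.coe_biUnion, Set.mem_iUnion] at hm
      obtain ⟨x, _, hm⟩ := hm
      exact hFK x.1 x.2 hm
    · rw [Submodule.baseChange_span, ← ht, Submodule.span_le]
      intro x hx
      refine Submodule.span_mono (Set.image_mono ?_) (hF x hx)
      intro m hm
      simp only [Finset.coe_biUnion, Set.mem_iUnion]
      exact ⟨⟨x, hx⟩, by simp, hm⟩

/-- Finite generation of submodules descends along universally injective ring maps. -/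
theorem fg_of_baseChange_fg (h : Pi1.UnivInjective R S) {P : Type u} [AddCommGroup P]
    [Module R P] (K : Submodule R P) (hK : (K.baseChange S).FG) : K.FG := by
  obtain ⟨G, hGK, hG⟩ := exists_finset_baseChange_eq K hK
  refine ⟨G, le_antisymm (Submodule.span_le.mpr hGK) fun l hl => ?_⟩
  apply mem_of_one_tmul_mem_baseChange h
  rw [hG]
  exact ⟨(1 : S) ⊗ₜ[R] ⟨l, hl⟩, by simp⟩

end Groth.Agent.Lib.Helper23.UnivInj
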