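import Groth.Agent.Lib.Helper23.LocConst.SheafExact
import Groth.Prelude.Def_ARSys
import Mathlib.CategoryTheory.Linear.FunctorCategory
import Mathlib.CategoryTheory.Linear.LinearFunctor
import Mathlib.RingTheory.Ideal.Operations

/-!
# Sections of `F/IF` over a weakly contractible object
-/

namespace Groth.Agent.Lib.Helper23.WCQuot

universe w v u
open CategoryTheory CategoryTheory.Limits Opposite
open Groth.Agent.Lib.Helper23.LocConst

variable {C : Type u} [Category.{v} C] {J : GrothendieckTopology C}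
variable {Λ : Type w} [CommRing Λ]
variable [HasSheafify J (ModuleCat.{w} Λ)]
variable [J.HasSheafCompose (forget (ModuleCat.{w} Λ))] [J.WEqualsLocallyBijective (ModuleCat.{w} Λ)]
  [HasSheafify J (Type w)]

/-- `U` is weakly contractible. -/
def IsWC (J : GrothendieckTopology C) (U : C) : Prop :=
  ∀ (A B : Sheaf J (Type w)) (φ : A ⟶ B), Epi φ → Function.Surjective (φ.hom.app (op U))

lemma surjective_of_epi_of_isWC {U : C} (hU : IsWC.{w} J U) {G Q : Sheaf J (ModuleCat.{w} Λ)}
    (π : G ⟶ Q) [Epi π] : Function.Surjective (app π U) := by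
  have h1 : Sheaf.IsLocallySurjective π := (Sheaf.isLocallySurjective_iff_epi' (φ := π)).2 inferInstance
  let ψ := (sheafCompose J (forget (ModuleCat.{w} Λ))).map π
  have h2 : Sheaf.IsLocallySurjective ψ :=
    (Presheaf.isLocallySurjective_iff_whisker_forget J π.hom).1 h1
  have h3 : Epi ψ := (Sheaf.isLocallySurjective_iff_epi ψ).1 h2
  exact hU _ _ ψ h3

section Main

omit [HasSheafify J (ModuleCat.{w} Λ)] [J.HasSheafCompose (forget (ModuleCat.{w} Λ))]
  [J.WEqualsLocallyBijective (ModuleCat.{w} Λ)] [HasSheafify J (Type w)] in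
lemma app_add {F G : Sheaf J (ModuleCat.{w} Λ)} (φ ψ : F ⟶ G) (V : C) :
    app (φ + ψ) V = app φ V + app ψ V := rfl

omit [HasSheafify J (ModuleCat.{w} Λ)] [J.HasSheafCompose (forget (ModuleCat.{w} Λ))]
  [J.WEqualsLocallyBijective (ModuleCat.{w} Λ)] [HasSheafify J (Type w)] in
lemma app_smul {F G : Sheaf J (ModuleCat.{w} Λ)} (a : Λ) (φ : F ⟶ G) (V : C) :
    app (a • φ) V = a • app φ V := rfl

omit [HasSheafify J (ModuleCat.{w} Λ)] [J.HasSheafCompose (forget (ModuleCat.{w} Λ))]
  [J.WEqualsLocallyBijective (ModuleCat.{w} Λ)] [HasSheafify J (Type w)] in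
lemma app_sum {F G : Sheaf J (ModuleCat.{w} Λ)} {ι : Type*} (s : Finset ι) (φ : ι → (F ⟶ G))
    (V : C) : app (∑ i ∈ s, φ i) V = ∑ i ∈ s, app (φ i) V := by
  classical
  induction s using Finset.induction_on with
  | empty => simp only [Finset.sum_empty]; rfl
  | insert a s ha ih => rw [Finset.sum_insert ha, Finset.sum_insert ha, app_add, ih]

variable [PreservesFiniteLimits (sheafToPresheaf J (ModuleCat.{w} Λ))]

theorem sections_quot {U : C} (hU : IsWC.{w} J U) (I : Ideal Λ) (hI : I.FG)
    {F Q : Sheaf J (ModuleCat.{w} Λ)} (p : F ⟶ Q) (hp : ARSys.IsQuot I p) :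
    Function.Surjective (app p U) ∧
      LinearMap.ker (app p U) = I • (⊤ : Submodule Λ (Sec F U)) := by
  classical
  -- `p` is an epimorphism
  have hkillQ : ∀ a ∈ I, ∀ {Y : Sheaf J (ModuleCat.{w} Λ)} (ψ : Q ⟶ Y), a • ψ = 0 := by
    intro a ha Y ψ
    have h1 : (a • 𝟙 Q) ≫ ψ = a • ψ := by rw [Linear.smul_comp, Category.id_comp]
    rw [← h1, hp.1 a ha, zero_comp]
  have hkillP : ∀ a ∈ I, a • p = 0 := by
    intro a ha
    have h1 : p ≫ (a • 𝟙 Q) = a • p := by rw [Linear.comp_smul, Category.comp_id]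
    rw [← h1, hp.1 a ha, comp_zero]
  have hepi : Epi p := ⟨fun {Y} ψ₁ ψ₂ h => by
    have hk : ARSys.HomKilledBy I (p ≫ ψ₁) := fun a ha => by
      rw [← Linear.comp_smul, hkillQ a ha, comp_zero]
    obtain ⟨ψ, _, huniq⟩ := hp.2 Y (p ≫ ψ₁) hk
    exact (huniq ψ₁ rfl).trans (huniq ψ₂ h.symm).symm⟩
  refine ⟨surjective_of_epi_of_isWC hU p, ?_⟩
  -- generators of `I`
  obtain ⟨n, a, ha⟩ := (Submodule.fg_iff_exists_fin_generating_family).1 hI
  have haI : ∀ i, a i ∈ I := fun i => ha ▸ Submodule.subset_span ⟨i, rfl⟩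
  let P : Sheaf J (ModuleCat.{w} Λ) := ∏ᶜ (fun _ : Fin n => F)
  let σ : P ⟶ F := ∑ i, a i • Pi.π (fun _ : Fin n => F) i
  have hσp : σ ≫ p = 0 := by
    simp only [σ, Preadditive.sum_comp, Linear.smul_comp]
    refine Finset.sum_eq_zero (fun i _ => ?_)
    rw [← Linear.comp_smul, hkillP (a i) (haI i), comp_zero]
  -- `p` is a cokernel of `σ`
  have hcolim : IsColimit (CokernelCofork.ofπ p hσp) := by
    refine CokernelCofork.IsColimit.ofπ _ _
      (fun {Y} φ hφ => (hp.2 Y φ ?_).exists.choose)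
      (fun {Y} φ hφ => (hp.2 Y φ ?_).exists.choose_spec)
      (fun {Y} φ hφ m hm => (hp.2 Y φ ?_).unique hm (hp.2 Y φ ?_).exists.choose_spec)
    all_goals
      intro b hb
      -- `b • φ = 0` for `b ∈ I`
      have hgen : ∀ i, a i • φ = 0 := by
        intro i
        let ι : F ⟶ P := Pi.lift (fun j => if j = i then 𝟙 F else 0)
        have h1 : ι ≫ σ = a i • 𝟙 F := by
          simp only [σ, ι, Preadditive.comp_sum, Linear.comp_smul, Pi.lift_π]
          rw [Finset.sum_eq_single i]
          · simp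
          · intro j _ hj; simp [hj]
          · intro h; exact absurd (Finset.mem_univ i) h
        have h2 : (a i • 𝟙 F) ≫ φ = a i • φ := by rw [Linear.smul_comp, Category.id_comp]
        rw [← h2, ← h1, Category.assoc, hφ, comp_zero]
      rw [← ha] at hb
      refine Submodule.span_induction (p := fun b _ => b • φ = 0) ?_ ?_ ?_ ?_ hb
      · rintro _ ⟨i, rfl⟩; exact hgen i
      · exact zero_smul _ _
      · intro x y _ _ hx hy; rw [add_smul, hx, hy, add_zero]
      · intro c x _ hx; rw [smul_eq_mul, mul_smul, hx, smul_zero]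
  have hex : (ShortComplex.mk σ p hσp).Exact := ShortComplex.exact_of_g_is_cokernel _ hcolim
  apply le_antisymm
  · intro x hx
    obtain ⟨k, hk⟩ := sections_exact (ShortComplex.kernelSequence p)
      (ShortComplex.kernelSequence_exact p) U x hx
    haveI : Epi (kernel.lift p σ hσp) := hex.epi_kernelLift
    obtain ⟨y, hy⟩ := surjective_of_epi_of_isWC hU (kernel.lift p σ hσp) k
    have hx' : x = app σ U y := by
      have h1 : app σ U y = app (kernel.ι p) U (app (kernel.lift p σ hσp) U y) := by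
        rw [← app_comp, kernel.lift_ι]
      rw [h1, hy]
      exact hk.symm
    rw [hx']
    simp only [σ, app_sum, LinearMap.sum_apply, app_smul, LinearMap.smul_apply]
    refine Submodule.sum_mem _ (fun i _ => ?_)
    exact Submodule.smul_mem_smul (haI i) Submodule.mem_top
  · rw [Submodule.smul_le]
    intro b hb x _
    rw [LinearMap.mem_ker, map_smul]
    have h0 : app (b • 𝟙 Q) U (app p U x) = 0 := by rw [hp.1 b hb, app_zero]
    rw [app_smul] at h0
    simpa [app] using h0

end Main

end Groth.Agent.Lib.Helper23.WCQuot
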